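import Mathlib

/-!
# `ModuleCat.extendScalars (algebraMap A B)` versus `B ⊗[A] M`
-/

set_option autoImplicit false

universe u

open CategoryTheory TensorProduct

namespace Groth.Agent.H8.ExtBridge

variable {A B : Type u} [CommRing A] [CommRing B] [Algebra A B]

/-- `B` as an `A`-module through restriction of scalars in `ModuleCat`. -/
noncomputable abbrev B' (A B : Type u) [CommRing A] [CommRing B] [Algebra A B] : ModuleCat.{u} A :=
  (ModuleCat.restrictScalars (algebraMap A B)).obj (ModuleCat.of B B)

lemma smul_B' (r : A) (s : B' A B) : r • s = (show B' A B from (algebraMap A B r * (show B from s))) :=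
  rfl

/-- The additive map `S ⊗ M → B ⊗[A] M` (left: extension of scalars in `ModuleCat`). -/
noncomputable def toTensor (M : ModuleCat.{u} A) :
    ((ModuleCat.extendScalars (algebraMap A B)).obj M) →+ B ⊗[A] M :=
  @TensorProduct.liftAddHom A _ (B' A B) M (B ⊗[A] M) _ _ _ _ _
    { toFun := fun s =>
        { toFun := fun m : M => (show B from s) ⊗ₜ[A] m
          map_zero' := tmul_zero _ _
          map_add' := fun m m' => tmul_add _ m m' }
      map_zero' := by ext m; exact zero_tmul _ m
      map_add' := fun s s' => by ext m; exact add_tmul (show B from s) (show B from s') m }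
    (fun r s m => by
      change ((algebraMap A B r) * (show B from s)) ⊗ₜ[A] m = (show B from s) ⊗ₜ[A] (r • m)
      rw [← Algebra.smul_def, TensorProduct.smul_tmul])

open ChangeOfRings in
lemma toTensor_tmul (M : ModuleCat.{u} A) (s : B) (m : M) :
    toTensor (B := B) M (s ⊗ₜ[A,algebraMap A B] m) = s ⊗ₜ[A] m := rfl

open ChangeOfRings in
/-- The additive map `B ⊗[A] M → S ⊗ M`. -/
noncomputable def fromTensor (M : ModuleCat.{u} A) :
    B ⊗[A] M →+ ((ModuleCat.extendScalars (algebraMap A B)).obj M) :=
  TensorProduct.liftAddHom
    { toFun := fun s : B =>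
        { toFun := fun m : M => (s ⊗ₜ[A,algebraMap A B] m :
            (ModuleCat.extendScalars (algebraMap A B)).obj M)
          map_zero' := @tmul_zero A _ (B' A B) M _ _ _ _ s
          map_add' := fun m m' => @tmul_add A _ (B' A B) M _ _ _ _ s m m' }
      map_zero' := by ext m; exact @zero_tmul A _ (B' A B) M _ _ _ _ m
      map_add' := fun s s' => by ext m; exact @add_tmul A _ (B' A B) M _ _ _ _ s s' m }
    (fun r s m => by
      change ((r • s) ⊗ₜ[A,algebraMap A B] m : (ModuleCat.extendScalars (algebraMap A B)).obj M) =
        s ⊗ₜ[A,algebraMap A B] (r • m)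
      rw [Algebra.smul_def]
      exact TensorProduct.smul_tmul (R := A) r (show B' A B from s) m)

open ChangeOfRings in
lemma fromTensor_tmul (M : ModuleCat.{u} A) (s : B) (m : M) :
    fromTensor (B := B) M (s ⊗ₜ[A] m) = (s ⊗ₜ[A,algebraMap A B] m) := rfl

open ChangeOfRings in
/-- Induction principle for elements of an extension of scalars. -/
lemma ext_induction {M : ModuleCat.{u} A}
    {motive : ((ModuleCat.extendScalars (algebraMap A B)).obj M) → Prop}
    (zero : motive 0) (tmul : ∀ (s : B) (m : M), motive (s ⊗ₜ[A,algebraMap A B] m))
    (add : ∀ x y, motive x → motive y → motive (x + y))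
    (z : (ModuleCat.extendScalars (algebraMap A B)).obj M) : motive z :=
  TensorProduct.induction_on z zero tmul add

lemma fromTensor_toTensor (M : ModuleCat.{u} A)
    (z : (ModuleCat.extendScalars (algebraMap A B)).obj M) :
    fromTensor M (toTensor (B := B) M z) = z := by
  induction z using ext_induction with
  | zero => rw [map_zero, map_zero]
  | tmul s m => rfl
  | add x y hx hy => rw [map_add, map_add, hx, hy]

lemma toTensor_fromTensor (M : ModuleCat.{u} A) (z : B ⊗[A] M) :
    toTensor M (fromTensor (B := B) M z) = z := by
  induction z using TensorProduct.induction_on with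
  | zero => rw [map_zero, map_zero]
  | tmul s m => rfl
  | add x y hx hy => rw [map_add, map_add, hx, hy]

lemma toTensor_smul (M : ModuleCat.{u} A) (b : B)
    (z : (ModuleCat.extendScalars (algebraMap A B)).obj M) :
    toTensor (B := B) M (b • z) = b • toTensor M z := by
  induction z using ext_induction with
  | zero => rw [smul_zero, map_zero, smul_zero]
  | tmul s m => rfl
  | add x y hx hy => rw [smul_add, map_add, map_add, hx, hy, smul_add]

/-- The `B`-linear identification of extension of scalars with the tensor product. -/
noncomputable def extEquiv (M : ModuleCat.{u} A) :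
    ((ModuleCat.extendScalars (algebraMap A B)).obj M) ≃ₗ[B] B ⊗[A] M where
  toFun := toTensor M
  map_add' := map_add _
  map_smul' := toTensor_smul M
  invFun := fromTensor M
  left_inv := fromTensor_toTensor M
  right_inv := toTensor_fromTensor M

/-- Naturality: extension of scalars of a morphism is base change of the linear map. -/
lemma extEquiv_map {M N : ModuleCat.{u} A} (φ : M ⟶ N)
    (z : (ModuleCat.extendScalars (algebraMap A B)).obj M) :
    extEquiv (B := B) N ((ModuleCat.extendScalars (algebraMap A B)).map φ z) =
      φ.hom.baseChange B (extEquiv M z) := by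
  induction z using ext_induction with
  | zero => rw [map_zero, map_zero, map_zero, map_zero]
  | tmul s m => rfl
  | add x y hx hy => rw [map_add, map_add, hx, hy, map_add, map_add]

end Groth.Agent.H8.ExtBridge
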