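import Mathlib

/-!
# Constructible sets in Noetherian spaces (EGA 0_III §9.2)
-/

set_option autoImplicit false

universe u v

open Topology TopologicalSpace Set

namespace Groth.Agent.H8.CNoeth

variable {X : Type u} [TopologicalSpace X]

/-- Dichotomy: on an irreducible set `Y`, a constructible set or its complement contains a
nonempty relatively open subset of `Y`. -/
theorem dichotomy {Y : Set X} (hY : IsIrreducible Y) {E : Set X} (hE : IsConstructible E) :
    (∃ U : Set X, IsOpen U ∧ (U ∩ Y).Nonempty ∧ U ∩ Y ⊆ E) ∨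
      (∃ U : Set X, IsOpen U ∧ (U ∩ Y).Nonempty ∧ U ∩ Y ⊆ Eᶜ) := by
  induction hE using IsConstructible.empty_union_induction with
  | open_retrocompact U hU _ =>
    by_cases h : (U ∩ Y).Nonempty
    · exact Or.inl ⟨U, hU, h, inter_subset_left⟩
    · refine Or.inr ⟨univ, isOpen_univ, by simpa using hY.nonempty, ?_⟩
      intro y hy hyU
      exact h ⟨y, hyU, hy.2⟩
  | union s hs t ht ihs iht =>
    rcases ihs with ⟨U, hU, hne, hsub⟩ | ⟨U₁, hU₁, hne₁, hsub₁⟩
    · exact Or.inl ⟨U, hU, hne, hsub.trans subset_union_left⟩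
    rcases iht with ⟨U, hU, hne, hsub⟩ | ⟨U₂, hU₂, hne₂, hsub₂⟩
    · exact Or.inl ⟨U, hU, hne, hsub.trans subset_union_right⟩
    refine Or.inr ⟨U₁ ∩ U₂, hU₁.inter hU₂, ?_, ?_⟩
    · have := hY.isPreirreducible U₁ U₂ hU₁ hU₂ (by rwa [inter_comm]) (by rwa [inter_comm])
      rwa [inter_comm]
    · rintro y ⟨⟨hy₁, hy₂⟩, hyY⟩
      rw [compl_union]
      exact ⟨hsub₁ ⟨hy₁, hyY⟩, hsub₂ ⟨hy₂, hyY⟩⟩
  | compl s hs ih =>
    rcases ih with h | h
    · right
      rwa [compl_compl]
    · left
      exact h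

/-- A nonempty relatively open subset of an irreducible set is dense in it. -/
lemma subset_closure_inter_of_isOpen {Y : Set X} (hY : IsIrreducible Y) {U : Set X}
    (hU : IsOpen U) (hne : (U ∩ Y).Nonempty) : Y ⊆ closure (U ∩ Y) := by
  intro y hy
  rw [mem_closure_iff]
  intro V hV hyV
  have h1 : (Y ∩ V).Nonempty := ⟨y, hy, hyV⟩
  have h2 : (Y ∩ U).Nonempty := by rwa [inter_comm]
  obtain ⟨z, hzY, hzV, hzU⟩ := hY.isPreirreducible V U hV hU h1 h2
  exact ⟨z, hzV, hzU, hzY⟩

/-- If a constructible set is dense in the irreducible set `Y`, it contains a nonempty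
relatively open subset of `Y`. -/
theorem exists_open_of_dense {Y : Set X} (hY : IsIrreducible Y) {E : Set X}
    (hE : IsConstructible E) (hd : Y ⊆ closure (E ∩ Y)) :
    ∃ U : Set X, IsOpen U ∧ (U ∩ Y).Nonempty ∧ U ∩ Y ⊆ E := by
  rcases dichotomy hY hE with h | ⟨U, hU, ⟨y, hyU, hyY⟩, hsub⟩
  · exact h
  · exfalso
    have := hd hyY
    rw [mem_closure_iff] at this
    obtain ⟨z, hzU, hzE, hzY⟩ := this U hU hyU
    exact hsub ⟨hzU, hzY⟩ hzE

/-- Finite version of the dichotomy for the fibres of a map. -/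
theorem dichotomy_fibres {Y : Set X} (hY : IsIrreducible Y) {T : Type v} (h : X → T)
    (hfib : ∀ t, IsConstructible (h ⁻¹' {t})) (S : Finset T) :
    (∃ t ∈ S, ∃ U : Set X, IsOpen U ∧ (U ∩ Y).Nonempty ∧ U ∩ Y ⊆ h ⁻¹' {t}) ∨
      (∃ U : Set X, IsOpen U ∧ (U ∩ Y).Nonempty ∧ ∀ y ∈ U ∩ Y, h y ∉ S) := by
  classical
  induction S using Finset.induction_on with
  | empty =>
    exact Or.inr ⟨univ, isOpen_univ, by simpa using hY.nonempty, fun y _ => by simp⟩
  | insert t S _ ih =>
    rcases ih with ⟨t', ht', hU⟩ | ⟨U₁, hU₁, hne₁, hsub₁⟩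
    · exact Or.inl ⟨t', Finset.mem_insert_of_mem ht', hU⟩
    rcases dichotomy hY (hfib t) with hU | ⟨U₂, hU₂, hne₂, hsub₂⟩
    · exact Or.inl ⟨t, Finset.mem_insert_self t S, hU⟩
    refine Or.inr ⟨U₁ ∩ U₂, hU₁.inter hU₂, ?_, ?_⟩
    · have := hY.isPreirreducible U₁ U₂ hU₁ hU₂ (by rwa [inter_comm]) (by rwa [inter_comm])
      rwa [inter_comm]
    · rintro y ⟨⟨hy₁, hy₂⟩, hyY⟩ hyS
      rcases Finset.mem_insert.1 hyS with hyt | hyS'
      · exact hsub₂ ⟨hy₂, hyY⟩ hyt
      · exact hsub₁ y ⟨hy₁, hyY⟩ hyS'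

section Subtype

/-- Density of the trace on `Y` in terms of closures in `X`. -/
lemma dense_preimage_val_iff {Y E : Set X} :
    Dense (Subtype.val ⁻¹' E : Set Y) ↔ Y ⊆ closure (E ∩ Y) := by
  constructor
  · intro h y hy
    have := h ⟨y, hy⟩
    rw [closure_subtype, Subtype.image_preimage_coe, inter_comm] at this
    exact this
  · intro h y
    rw [closure_subtype, Subtype.image_preimage_coe, inter_comm]
    exact h y.2

/-- If the complement of `E` contains a nonempty relatively open subset of the irreducible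
set `Y`, the trace of `E` on `Y` is nowhere dense in `Y`. -/
lemma isNowhereDense_preimage_val {Y : Set X} (hY : IsIrreducible Y) {U : Set X} (hU : IsOpen U)
    (hne : (U ∩ Y).Nonempty) {E : Set X} (hsub : U ∩ Y ⊆ Eᶜ) :
    IsNowhereDense (Subtype.val ⁻¹' E : Set Y) := by
  have : PreirreducibleSpace Y := Subtype.preirreducibleSpace hY.isPreirreducible
  have hVo : IsOpen (Subtype.val ⁻¹' U : Set Y) := hU.preimage continuous_subtype_val
  have hVne : (Subtype.val ⁻¹' U : Set Y).Nonempty := by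
    obtain ⟨y, hyU, hyY⟩ := hne
    exact ⟨⟨y, hyY⟩, hyU⟩
  have hVd : Dense (Subtype.val ⁻¹' U : Set Y) := hVo.dense hVne
  have hsub' : (Subtype.val ⁻¹' E : Set Y) ⊆ (Subtype.val ⁻¹' U : Set Y)ᶜ := by
    intro y hyE hyU
    exact hsub ⟨hyU, y.2⟩ hyE
  have hcl : closure (Subtype.val ⁻¹' E : Set Y) ⊆ (Subtype.val ⁻¹' U : Set Y)ᶜ :=
    closure_minimal hsub' hVo.isClosed_compl
  unfold IsNowhereDense
  rw [eq_empty_iff_forall_notMem]
  intro y hy
  have h1 : y ∈ interior ((Subtype.val ⁻¹' U : Set Y)ᶜ) := interior_mono hcl hy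
  rw [interior_compl, hVd.closure_eq] at h1
  exact h1 (mem_univ y)

/-- A nowhere dense trace on a nonempty set is not dense. -/
lemma not_subset_closure_of_isNowhereDense {Y : Set X} (hne : Y.Nonempty) {E : Set X}
    (h : IsNowhereDense (Subtype.val ⁻¹' E : Set Y)) : ¬ Y ⊆ closure (E ∩ Y) := by
  intro hd
  have hd' := dense_preimage_val_iff.2 hd
  unfold IsNowhereDense at h
  rw [hd'.closure_eq, interior_univ] at h
  obtain ⟨y, hy⟩ := hne
  exact (h ▸ mem_univ (⟨y, hy⟩ : Y) : (⟨y, hy⟩ : Y) ∈ (∅ : Set Y))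

end Subtype

section Noeth

variable [NoetherianSpace X]

lemma isConstructible_of_isOpen {U : Set X} (hU : IsOpen U) : IsConstructible U :=
  IsRetrocompact.isConstructible hU fun _ _ _ => NoetherianSpace.isCompact _

lemma isConstructible_of_isClosed {Z : Set X} (hZ : IsClosed Z) : IsConstructible Z := by
  rw [← compl_compl Z]
  exact (isConstructible_of_isOpen hZ.isOpen_compl).compl

/-- Noetherian induction on closed subsets, split into the irreducible and the reducible case. -/
theorem closed_induction {P : Set X → Prop} (hempty : P ∅)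
    (hirr : ∀ Z, IsClosed Z → IsIrreducible Z →
      (∀ Z', IsClosed Z' → Z' ⊂ Z → P Z') → P Z)
    (hunion : ∀ Z₁ Z₂, IsClosed Z₁ → IsClosed Z₂ → P Z₁ → P Z₂ → P (Z₁ ∪ Z₂)) :
    ∀ Z, IsClosed Z → P Z := by
  intro Z hZ
  lift Z to Closeds X using hZ
  apply wellFounded_lt.induction Z
  clear Z
  intro s H
  rcases eq_or_ne s ⊥ with rfl | h₀
  · simpa using hempty
  · by_cases h₁ : IsPreirreducible (s : Set X)
    · replace h₁ : IsIrreducible (s : Set X) := ⟨Closeds.coe_nonempty.2 h₀, h₁⟩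
      refine hirr _ s.isClosed h₁ fun Z' hZ' hlt => ?_
      lift Z' to Closeds X using hZ'
      exact H Z' (by exact_mod_cast hlt)
    · simp only [isPreirreducible_iff_isClosed_union_isClosed, not_forall, not_or] at h₁
      obtain ⟨z₁, z₂, hz₁, hz₂, h, hz₁', hz₂'⟩ := h₁
      lift z₁ to Closeds X using hz₁
      lift z₂ to Closeds X using hz₂
      have h1 := H (s ⊓ z₁) (inf_lt_left.2 hz₁')
      have h2 := H (s ⊓ z₂) (inf_lt_left.2 hz₂')
      have := hunion _ _ (s ⊓ z₁).isClosed (s ⊓ z₂).isClosed h1 h2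
      have e : ((s ⊓ z₁ : Closeds X) : Set X) ∪ ((s ⊓ z₂ : Closeds X) : Set X) = (s : Set X) := by
        simp only [Closeds.coe_inf]
        rw [← inter_union_distrib_left]
        exact inter_eq_left.2 h
      rwa [e] at this

/-- EGA 0_III 9.2.3: criterion for constructibility. -/
theorem isConstructible_iff (E : Set X) :
    IsConstructible E ↔
      ∀ Y : Set X, IsClosed Y → IsIrreducible Y →
        IsNowhereDense (Subtype.val ⁻¹' E : Set Y) ∨
          ∃ U : Set X, IsOpen U ∧ (U ∩ Y).Nonempty ∧ U ∩ Y ⊆ E := by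
  constructor
  · intro hE Y _ hY
    rcases dichotomy hY hE with h | ⟨U, hU, hne, hsub⟩
    · exact Or.inr h
    · exact Or.inl (isNowhereDense_preimage_val hY hU hne hsub)
  · intro H
    have key : ∀ Z, IsClosed Z → IsConstructible (E ∩ Z) := by
      apply closed_induction
      · simp
      · intro Z hZ hZi ih
        rcases H Z hZ hZi with hnd | ⟨U, hU, hne, hsub⟩
        · have hZ' : closure (E ∩ Z) ⊆ Z := closure_minimal inter_subset_right hZ
          have hlt : closure (E ∩ Z) ⊂ Z :=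
            ⟨hZ', not_subset_closure_of_isNowhereDense hZi.nonempty hnd⟩
          have := ih _ isClosed_closure hlt
          have e : E ∩ Z = E ∩ closure (E ∩ Z) := by
            ext x
            constructor
            · rintro ⟨hxE, hxZ⟩
              exact ⟨hxE, subset_closure ⟨hxE, hxZ⟩⟩
            · rintro ⟨hxE, hx⟩
              exact ⟨hxE, hZ' hx⟩
          rwa [e]
        · have hcl : IsClosed (Z ∩ Uᶜ) := hZ.inter hU.isClosed_compl
          have hlt : Z ∩ Uᶜ ⊂ Z := by
            refine ⟨inter_subset_left, fun h => ?_⟩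
            obtain ⟨y, hyU, hyZ⟩ := hne
            exact (h hyZ).2 hyU
          have h1 := ih _ hcl hlt
          have h2 : IsConstructible (U ∩ Z) :=
            (isConstructible_of_isOpen hU).inter (isConstructible_of_isClosed hZ)
          have e : E ∩ Z = (U ∩ Z) ∪ (E ∩ (Z ∩ Uᶜ)) := by
            ext x
            constructor
            · rintro ⟨hxE, hxZ⟩
              by_cases hxU : x ∈ U
              · exact Or.inl ⟨hxU, hxZ⟩
              · exact Or.inr ⟨hxE, hxZ, hxU⟩
            · rintro (hx | ⟨hxE, hxZ, -⟩)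
              · exact ⟨hsub hx, hx.2⟩
              · exact ⟨hxE, hxZ⟩
          rw [e]
          exact h2.union h1
      · intro Z₁ Z₂ _ _ h1 h2
        rw [inter_union_distrib_left]
        exact h1.union h2
    simpa using key univ isClosed_univ

/-- EGA 0_III 9.2.6: criterion for openness. -/
theorem isOpen_iff (E : Set X) :
    IsOpen E ↔
      ∀ Y : Set X, IsClosed Y → IsIrreducible Y → (E ∩ Y).Nonempty →
        ∃ U : Set X, IsOpen U ∧ (U ∩ Y).Nonempty ∧ U ∩ Y ⊆ E := by
  constructor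
  · intro hE Y _ _ hne
    exact ⟨E, hE, hne, inter_subset_left⟩
  · intro H
    have key : ∀ Z, IsClosed Z → IsClosed (Z ∩ Eᶜ) := by
      apply closed_induction
      · simp
      · intro Z hZ hZi ih
        by_cases hne : (E ∩ Z).Nonempty
        · obtain ⟨U, hU, hUne, hsub⟩ := H Z hZ hZi hne
          have hcl : IsClosed (Z ∩ Uᶜ) := hZ.inter hU.isClosed_compl
          have hlt : Z ∩ Uᶜ ⊂ Z := by
            refine ⟨inter_subset_left, fun h => ?_⟩
            obtain ⟨y, hyU, hyZ⟩ := hUne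
            exact (h hyZ).2 hyU
          have h1 := ih _ hcl hlt
          have e : Z ∩ Eᶜ = Z ∩ Uᶜ ∩ Eᶜ := by
            ext x
            constructor
            · rintro ⟨hxZ, hxE⟩
              exact ⟨⟨hxZ, fun hxU => hxE (hsub ⟨hxU, hxZ⟩)⟩, hxE⟩
            · rintro ⟨⟨hxZ, -⟩, hxE⟩
              exact ⟨hxZ, hxE⟩
          rwa [e]
        · have e : Z ∩ Eᶜ = Z := by
            ext x
            constructor
            · exact fun h => h.1
            · exact fun hxZ => ⟨hxZ, fun hxE => hne ⟨x, hxE, hxZ⟩⟩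
          rwa [e]
      · intro Z₁ Z₂ _ _ h1 h2
        rw [union_inter_distrib_right]
        exact h1.union h2
    have := key univ isClosed_univ
    rw [univ_inter] at this
    exact isClosed_compl_iff.1 this

/-- EGA 0_III 9.2.5: criterion for a constructible set to be a neighbourhood. -/
theorem mem_nhds_iff (x : X) {E : Set X} (hE : IsConstructible E) :
    E ∈ nhds x ↔
      ∀ Y : Set X, IsClosed Y → IsIrreducible Y → x ∈ Y → Y ⊆ closure (E ∩ Y) := by
  constructor
  · intro hEx Y _ hY hxY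
    obtain ⟨U, hUE, hU, hxU⟩ := _root_.mem_nhds_iff.1 hEx
    refine (subset_closure_inter_of_isOpen hY hU ⟨x, hxU, hxY⟩).trans (closure_mono ?_)
    exact inter_subset_inter_left _ hUE
  · intro H
    have key : ∀ Z, IsClosed Z → ∃ U : Set X, IsOpen U ∧ x ∈ U ∧ U ∩ Z ⊆ E := by
      apply closed_induction
      · exact ⟨univ, isOpen_univ, mem_univ x, by simp⟩
      · intro Z hZ hZi ih
        by_cases hxZ : x ∈ Z
        · obtain ⟨U, hU, hUne, hsub⟩ := exists_open_of_dense hZi hE (H Z hZ hZi hxZ)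
          have hcl : IsClosed (Z ∩ Uᶜ) := hZ.inter hU.isClosed_compl
          have hlt : Z ∩ Uᶜ ⊂ Z := by
            refine ⟨inter_subset_left, fun h => ?_⟩
            obtain ⟨y, hyU, hyZ⟩ := hUne
            exact (h hyZ).2 hyU
          obtain ⟨V, hV, hxV, hVsub⟩ := ih _ hcl hlt
          refine ⟨V ∪ U, hV.union hU, Or.inl hxV, ?_⟩
          rintro y ⟨hyVU, hyZ⟩
          by_cases hyU : y ∈ U
          · exact hsub ⟨hyU, hyZ⟩
          · rcases hyVU with hyV | hyU'
            · exact hVsub ⟨hyV, hyZ, hyU⟩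
            · exact absurd hyU' hyU
        · exact ⟨Zᶜ, hZ.isOpen_compl, hxZ, fun y hy => absurd hy.2 hy.1⟩
      · rintro Z₁ Z₂ _ _ ⟨U₁, hU₁, hx₁, hs₁⟩ ⟨U₂, hU₂, hx₂, hs₂⟩
        refine ⟨U₁ ∩ U₂, hU₁.inter hU₂, ⟨hx₁, hx₂⟩, ?_⟩
        rintro y ⟨⟨hy₁, hy₂⟩, hy | hy⟩
        · exact hs₁ ⟨hy₁, hy⟩
        · exact hs₂ ⟨hy₂, hy⟩
    obtain ⟨U, hU, hxU, hsub⟩ := key univ isClosed_univ
    rw [inter_univ] at hsub
    exact _root_.mem_nhds_iff.2 ⟨U, hsub, hU, hxU⟩

/-- EGA 0_III 9.2.4: a directed covering family of constructible sets which is generically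
dense in every irreducible closed subset stabilises to the whole space. -/
theorem exists_eq_univ {ι : Type v} [Preorder ι] [IsDirected ι (· ≤ ·)] [Nonempty ι]
    (E : ι → Set X) (hmono : Monotone E) (hE : ∀ a, IsConstructible (E a))
    (hirr : ∀ Y : Set X, IsClosed Y → IsIrreducible Y → ∃ a, Y ⊆ closure (E a ∩ Y)) :
    ∃ a, E a = Set.univ := by
  have key : ∀ Z, IsClosed Z → ∃ a, Z ⊆ E a := by
    apply closed_induction
    · exact ⟨Classical.arbitrary ι, empty_subset _⟩
    · intro Z hZ hZi ih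
      obtain ⟨a, ha⟩ := hirr Z hZ hZi
      obtain ⟨U, hU, hUne, hsub⟩ := exists_open_of_dense hZi (hE a) ha
      have hcl : IsClosed (Z ∩ Uᶜ) := hZ.inter hU.isClosed_compl
      have hlt : Z ∩ Uᶜ ⊂ Z := by
        refine ⟨inter_subset_left, fun h => ?_⟩
        obtain ⟨y, hyU, hyZ⟩ := hUne
        exact (h hyZ).2 hyU
      obtain ⟨b, hb⟩ := ih _ hcl hlt
      obtain ⟨c, hac, hbc⟩ := exists_ge_ge a b
      refine ⟨c, fun y hyZ => ?_⟩
      by_cases hyU : y ∈ U
      · exact hmono hac (hsub ⟨hyU, hyZ⟩)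
      · exact hmono hbc (hb ⟨hyZ, hyU⟩)
    · rintro Z₁ Z₂ _ _ ⟨a, ha⟩ ⟨b, hb⟩
      obtain ⟨c, hac, hbc⟩ := exists_ge_ge a b
      exact ⟨c, union_subset (ha.trans (hmono hac)) (hb.trans (hmono hbc))⟩
  obtain ⟨a, ha⟩ := key univ isClosed_univ
  exact ⟨a, univ_subset_iff.1 ha⟩

/-- EGA 0_III 9.2.2 for maps: criterion for a map to be constructible. -/
theorem constructible_map_iff {T : Type v} (h : X → T) :
    ((∀ t, IsConstructible (h ⁻¹' {t})) ∧ (Set.range h).Finite) ↔
      ∀ Y : Set X, IsClosed Y → IsIrreducible Y →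
        ∃ U : Set X, IsOpen U ∧ (U ∩ Y).Nonempty ∧ ∀ a ∈ U ∩ Y, ∀ b ∈ U ∩ Y, h a = h b := by
  classical
  constructor
  · rintro ⟨hfib, hfin⟩ Y _ hY
    rcases dichotomy_fibres hY h hfib hfin.toFinset with ⟨t, _, U, hU, hne, hsub⟩ | ⟨U, _, hne, hsub⟩
    · refine ⟨U, hU, hne, fun a ha b hb => ?_⟩
      have h1 : h a = t := hsub ha
      have h2 : h b = t := hsub hb
      rw [h1, h2]
    · exfalso
      obtain ⟨y, hy⟩ := hne
      exact hsub y hy (hfin.mem_toFinset.2 ⟨y, rfl⟩)
  · intro H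
    have key : ∀ Z, IsClosed Z →
        (∀ t, IsConstructible (h ⁻¹' {t} ∩ Z)) ∧ (h '' Z).Finite := by
      apply closed_induction
      · simp
      · intro Z hZ hZi ih
        obtain ⟨U, hU, ⟨y₀, hy₀⟩, hconst⟩ := H Z hZ hZi
        have hcl : IsClosed (Z ∩ Uᶜ) := hZ.inter hU.isClosed_compl
        have hlt : Z ∩ Uᶜ ⊂ Z :=
          ⟨inter_subset_left, fun hh => (hh hy₀.2).2 hy₀.1⟩
        obtain ⟨h1, h2⟩ := ih _ hcl hlt
        have hUZ : IsConstructible (U ∩ Z) :=
          (isConstructible_of_isOpen hU).inter (isConstructible_of_isClosed hZ)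
        constructor
        · intro t
          by_cases ht : t = h y₀
          · have e : h ⁻¹' {t} ∩ Z = (U ∩ Z) ∪ (h ⁻¹' {t} ∩ (Z ∩ Uᶜ)) := by
              ext x
              constructor
              · rintro ⟨hxt, hxZ⟩
                by_cases hxU : x ∈ U
                · exact Or.inl ⟨hxU, hxZ⟩
                · exact Or.inr ⟨hxt, hxZ, hxU⟩
              · rintro (hx | ⟨hxt, hxZ, -⟩)
                · exact ⟨(hconst x hx y₀ hy₀).trans ht.symm, hx.2⟩
                · exact ⟨hxt, hxZ⟩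
            rw [e]
            exact hUZ.union (h1 t)
          · have e : h ⁻¹' {t} ∩ Z = h ⁻¹' {t} ∩ (Z ∩ Uᶜ) := by
              ext x
              constructor
              · rintro ⟨hxt, hxZ⟩
                refine ⟨hxt, hxZ, fun hxU => ht ?_⟩
                have hxt' : h x = t := hxt
                rw [← hxt']
                exact hconst x ⟨hxU, hxZ⟩ y₀ hy₀
              · rintro ⟨hxt, hxZ, -⟩
                exact ⟨hxt, hxZ⟩
            rw [e]
            exact h1 t
        · refine (h2.union (finite_singleton (h y₀))).subset ?_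
          rintro _ ⟨x, hxZ, rfl⟩
          by_cases hxU : x ∈ U
          · exact Or.inr (hconst x ⟨hxU, hxZ⟩ y₀ hy₀)
          · exact Or.inl ⟨x, ⟨hxZ, hxU⟩, rfl⟩
      · rintro Z₁ Z₂ _ _ ⟨h1, h1'⟩ ⟨h2, h2'⟩
        refine ⟨fun t => ?_, ?_⟩
        · rw [inter_union_distrib_left]
          exact (h1 t).union (h2 t)
        · rw [image_union]
          exact h1'.union h2'
    obtain ⟨h1, h2⟩ := key univ isClosed_univ
    refine ⟨fun t => ?_, ?_⟩
    · simpa using h1 t
    · simpa using h2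

/-- EGA 0_III 9.2.? : with generic points, constructible fibres imply finitely many values. -/
theorem finite_range_of_constructible_fibres [QuasiSober X] {T : Type v} (h : X → T)
    (hfib : ∀ t, IsConstructible (h ⁻¹' {t})) : (Set.range h).Finite := by
  refine ((constructible_map_iff h).2 fun Y hY hYi => ?_).2
  have hgen := hYi.isGenericPoint_genericPoint hY
  set η := hYi.genericPoint
  have hηY : η ∈ Y := by
    rw [← hgen.def]
    exact subset_closure (mem_singleton η)
  rcases dichotomy hYi (hfib (h η)) with ⟨U, hU, hne, hsub⟩ | ⟨U, hU, hne, hsub⟩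
  · refine ⟨U, hU, hne, fun a ha b hb => ?_⟩
    have h1 : h a = h η := hsub ha
    have h2 : h b = h η := hsub hb
    rw [h1, h2]
  · exfalso
    have hηU : η ∈ U := by
      rw [hgen.mem_open_set_iff hU]
      rwa [inter_comm]
    exact hsub ⟨hηU, hηY⟩ rfl

/-- EGA 0_III 9.3.? : semicontinuity of a constructible function is tested on
specialisations. -/
theorem upperSemicontinuous_iff [QuasiSober X] {T : Type v} [LinearOrder T] (h : X → T)
    (hc : (∀ t, IsConstructible (h ⁻¹' {t})) ∧ (Set.range h).Finite) :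
    UpperSemicontinuous h ↔ ∀ x x' : X, x' ⤳ x → h x' ≤ h x := by
  constructor
  · intro husc x x' hspec
    by_contra hlt
    rw [not_le] at hlt
    have := husc x (h x') hlt
    have hx' : x' ∈ {z | h z < h x'} := mem_of_mem_nhds (hspec this)
    exact lt_irrefl _ hx'
  · intro H x y hxy
    obtain ⟨hfib, hfin⟩ := hc
    have hE : IsConstructible {z | h z < y} := by
      have e : {z | h z < y} = ⋃ t ∈ {t | t ∈ Set.range h ∧ t < y}, h ⁻¹' {t} := by
        ext z
        simp only [Set.mem_ofPred_eq, mem_iUnion, mem_preimage, mem_singleton_iff, exists_prop]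
        constructor
        · intro hz
          exact ⟨h z, ⟨⟨z, rfl⟩, hz⟩, rfl⟩
        · rintro ⟨t, ⟨-, ht⟩, rfl⟩
          exact ht
      rw [e]
      exact IsConstructible.biUnion (hfin.subset fun t ht => ht.1) fun t _ => hfib t
    change {z | h z < y} ∈ nhds x
    rw [mem_nhds_iff x hE]
    intro Y hY hYi hxY
    have hgen := hYi.isGenericPoint_genericPoint hY
    set η := hYi.genericPoint
    have hηY : η ∈ Y := by
      rw [← hgen.def]
      exact subset_closure (mem_singleton η)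
    have hspec : η ⤳ x := hgen.specializes_iff_mem.2 hxY
    have hηE : η ∈ {z | h z < y} := lt_of_le_of_lt (H x η hspec) hxy
    intro z hz
    rw [← hgen.def] at hz
    have hsub : ({η} : Set X) ⊆ {z | h z < y} ∩ Y := singleton_subset_iff.2 ⟨hηE, hηY⟩
    exact closure_mono hsub hz

end Noeth

end Groth.Agent.H8.CNoeth
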