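import Groth.Prelude.Def_ega3
import Groth.Agent.Lib.Helper8.ExtScalarsBridge

/-!
# `CohIII.dRank` is invariant under base change
-/

set_option autoImplicit false

universe u

open CategoryTheory TensorProduct

namespace Groth.Agent.H8.DRank

open Groth.Agent.H8.ExtBridge

section

variable {K K' : Type u} [Field K] [Field K']

/-- Extension of scalars along a field extension preserves dimension (also when infinite). -/
lemma finrank_extendScalars_field (ψ : K →+* K') (V : ModuleCat.{u} K) :
    Module.finrank K' ((ModuleCat.extendScalars ψ).obj V) = Module.finrank K V := by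
  let _ : Algebra K K' := ψ.toAlgebra
  have e : (ModuleCat.extendScalars (algebraMap K K')).obj V ≃ₗ[K'] K' ⊗[K] V := extEquiv V
  change Module.finrank K' ((ModuleCat.extendScalars (algebraMap K K')).obj V) = _
  rw [e.finrank_eq, Module.finrank_baseChange]

lemma preservesHomology_extendScalars_field (ψ : K →+* K') :
    (ModuleCat.extendScalars.{u, u, u} ψ).PreservesHomology := by
  have hflat : ψ.Flat := by
    let _ : Algebra K K' := ψ.toAlgebra
    change Module.Flat K K'
    infer_instance
  have := ModuleCat.preservesFiniteLimits_extendScalars_of_flat.{u} hflat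
  infer_instance

/-- Homology commutes with extension of scalars along a field extension. -/
noncomputable def homologyBcIso (ψ : K →+* K') (Q : ChainComplex (ModuleCat.{u} K) ℤ) (p : ℤ) :
    (CohIII.bcCx ψ Q).homology p ≅ (ModuleCat.extendScalars ψ).obj (Q.homology p) := by
  have := preservesHomology_extendScalars_field ψ
  exact (Q.sc p).mapHomologyIso (ModuleCat.extendScalars ψ)

lemma finrank_homology_bc_field (ψ : K →+* K') (Q : ChainComplex (ModuleCat.{u} K) ℤ) (p : ℤ) :
    Module.finrank K' ((CohIII.bcCx ψ Q).homology p) = Module.finrank K (Q.homology p) := by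
  rw [(homologyBcIso ψ Q p).toLinearEquiv.finrank_eq, finrank_extendScalars_field]

end

section

variable {A A' K' : Type u} [CommRing A] [CommRing A'] [CommRing K']

/-- Base change of complexes in two steps. -/
noncomputable def bcCxCompIso (f : A →+* A') (g : A' →+* K')
    (P : ChainComplex (ModuleCat.{u} A) ℤ) :
    CohIII.bcCx g (CohIII.bcCx f P) ≅ CohIII.bcCx (g.comp f) P :=
  ((NatIso.mapHomologicalComplex (ModuleCat.extendScalarsComp f g)
    (ComplexShape.down ℤ)).app P).symm

end

/-- The key comparison: a commutative square of ring maps with fields on one side. -/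
theorem finrank_homology_bc_square {A A' K K' : Type u} [CommRing A] [CommRing A'] [Field K]
    [Field K'] (f : A →+* A') (g : A' →+* K') (f₀ : A →+* K) (ψ : K →+* K')
    (h : g.comp f = ψ.comp f₀) (P : ChainComplex (ModuleCat.{u} A) ℤ) (p : ℤ) :
    Module.finrank K' ((CohIII.bcCx g (CohIII.bcCx f P)).homology p) =
      Module.finrank K ((CohIII.bcCx f₀ P).homology p) := by
  have e : CohIII.bcCx g (CohIII.bcCx f P) ≅ CohIII.bcCx ψ (CohIII.bcCx f₀ P) :=
    bcCxCompIso f g P ≪≫ eqToIso (by rw [h]) ≪≫ (bcCxCompIso f₀ ψ P).symm
  have e' := (HomologicalComplex.homologyFunctor _ _ p).mapIso e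
  rw [← finrank_homology_bc_field ψ]
  exact e'.toLinearEquiv.finrank_eq

/-- `dRank` is invariant under base change. -/
theorem dRank_bc {A A' : Type u} [CommRing A] [CommRing A'] [Algebra A A']
    (P : ChainComplex (ModuleCat.{u} A) ℤ) (p : ℤ) (x' : PrimeSpectrum A') :
    CohIII.dRank (CohIII.bcCx (algebraMap A A') P) p x' =
      CohIII.dRank P p (PrimeSpectrum.comap (algebraMap A A') x') := by
  let x := PrimeSpectrum.comap (algebraMap A A') x'
  refine finrank_homology_bc_square (algebraMap A A') (algebraMap A' x'.asIdeal.ResidueField)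
    (algebraMap A x.asIdeal.ResidueField)
    (Ideal.ResidueField.map x.asIdeal x'.asIdeal (algebraMap A A') rfl) ?_ P p
  ext r
  exact (Ideal.ResidueField.map_algebraMap x.asIdeal x'.asIdeal (algebraMap A A') rfl r).symm

section FlatBC

variable {A B : Type u} [CommRing A] [CommRing B]

lemma preservesHomology_extendScalars_of_flat (ψ : A →+* B) (hflat : ψ.Flat) :
    (ModuleCat.extendScalars.{u, u, u} ψ).PreservesHomology := by
  have := ModuleCat.preservesFiniteLimits_extendScalars_of_flat.{u} hflat
  infer_instance

/-- Homology commutes with extension of scalars along a flat ring map. -/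
noncomputable def homologyBcIsoOfFlat (ψ : A →+* B) (hflat : ψ.Flat)
    (Q : ChainComplex (ModuleCat.{u} A) ℤ) (p : ℤ) :
    (CohIII.bcCx ψ Q).homology p ≅ (ModuleCat.extendScalars ψ).obj (Q.homology p) := by
  have := preservesHomology_extendScalars_of_flat ψ hflat
  exact (Q.sc p).mapHomologyIso (ModuleCat.extendScalars ψ)

/-- `H_p(P ⊗_A B) = H_p(P) ⊗_A B` for a flat `A`-algebra `B`. -/
lemma finrank_homology_bcCx_of_flat [Algebra A B] [Module.Flat A B]
    (Q : ChainComplex (ModuleCat.{u} A) ℤ) (p : ℤ) :
    Module.finrank B ((CohIII.bcCx (algebraMap A B) Q).homology p) =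
      Module.finrank B (B ⊗[A] (Q.homology p)) := by
  have hflat : (algebraMap A B).Flat := by
    rw [RingHom.flat_algebraMap_iff]
    infer_instance
  rw [(homologyBcIsoOfFlat (algebraMap A B) hflat Q p).toLinearEquiv.finrank_eq]
  exact (extEquiv (B := B) (Q.homology p)).finrank_eq

end FlatBC

end Groth.Agent.H8.DRank
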