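import Mathlib

/-!
# Fibre dimensions of finitely generated modules and fibre ranks of linear maps
-/

set_option autoImplicit false

universe u

open TensorProduct

namespace Groth.Agent.H8.DRank

variable {A : Type u} [CommRing A]

/-- The dimension of the fibre `κ(x) ⊗ C` of a module at a point of `Spec A`. -/
noncomputable def fibDim (C : Type u) [AddCommGroup C] [Module A C] (x : PrimeSpectrum A) : ℕ :=
  Module.finrank x.asIdeal.ResidueField (x.asIdeal.ResidueField ⊗[A] C)

/-- If `K ⊗ (C / im g)` vanishes for `g : A^r → C`, then `dim K ⊗ C ≤ r`. -/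
lemma finrank_le_of_subsingleton_quot {K : Type u} [Field K] [Algebra A K] {C : Type u}
    [AddCommGroup C] [Module A C] {r : ℕ} (g : (Fin r → A) →ₗ[A] C)
    (h : Subsingleton (K ⊗[A] (C ⧸ LinearMap.range g))) :
    Module.finrank K (K ⊗[A] C) ≤ r := by
  have : Nontrivial A := (algebraMap A K).domain_nontrivial
  have hex' := lTensor_exact K g.exact_map_mkQ_range (LinearMap.range g).mkQ_surjective
  have hs : Function.Surjective (g.baseChange K) := by
    intro z
    have h0 : (LinearMap.lTensor K (LinearMap.range g).mkQ) z = 0 := Subsingleton.elim _ _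
    obtain ⟨w, hw⟩ := (hex' z).1 h0
    exact ⟨w, by rw [LinearMap.baseChange_eq_ltensor]; exact hw⟩
  calc Module.finrank K (K ⊗[A] C) ≤ Module.finrank K (K ⊗[A] (Fin r → A)) :=
        LinearMap.finrank_le_finrank_of_surjective hs
    _ = r := by rw [Module.finrank_baseChange]; simp

/-- Generators of the fibre lift to a map from a free module whose cokernel has trivial fibre. -/
lemma exists_map_subsingleton_quot {K : Type u} [Field K] [Algebra A K] (C : Type u)
    [AddCommGroup C] [Module A C] [Module.Finite A C] :
    ∃ g : (Fin (Module.finrank K (K ⊗[A] C)) → A) →ₗ[A] C,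
      Subsingleton (K ⊗[A] (C ⧸ LinearMap.range g)) := by
  classical
  -- the fibre is spanned by the `1 ⊗ c`
  let s : Set (K ⊗[A] C) := Set.range (fun c : C => (1 : K) ⊗ₜ[A] c)
  have hs : Submodule.span K s = ⊤ := by
    rw [eq_top_iff]
    rintro z -
    induction z using TensorProduct.induction_on with
    | zero => exact Submodule.zero_mem _
    | tmul a c =>
      have : a ⊗ₜ[A] c = a • ((1 : K) ⊗ₜ[A] c) := by rw [smul_tmul', smul_eq_mul, mul_one]
      rw [this]
      exact Submodule.smul_mem _ _ (Submodule.subset_span ⟨c, rfl⟩)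
    | add x y hx hy => exact Submodule.add_mem _ hx hy
  obtain ⟨f, hfs, hfspan, -⟩ := Submodule.exists_fun_fin_finrank_span_eq K s
  replace hfspan := hfspan.trans hs
  have hr : Module.finrank K (Submodule.span K s) = Module.finrank K (K ⊗[A] C) := by
    rw [hs, finrank_top]
  choose c hc using hfs
  -- `g e_i = c_i`
  let g : (Fin (Module.finrank K (Submodule.span K s)) → A) →ₗ[A] C :=
    Fintype.linearCombination A c
  have hg : ∀ i, (1 : K) ⊗ₜ[A] (c i) ∈ LinearMap.range (g.baseChange K) := by
    intro i
    refine ⟨(1 : K) ⊗ₜ[A] Pi.single i 1, ?_⟩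
    rw [LinearMap.baseChange_tmul]
    congr 1
    simp [g, Fintype.linearCombination_apply_single]
  have hsurj : LinearMap.range (g.baseChange K) = ⊤ := by
    rw [eq_top_iff, ← hfspan, Submodule.span_le]
    rintro _ ⟨i, rfl⟩
    rw [← hc i]
    exact hg i
  have hq : Subsingleton (K ⊗[A] (C ⧸ LinearMap.range g)) := by
    have hex' := lTensor_exact K g.exact_map_mkQ_range (LinearMap.range g).mkQ_surjective
    have hs2 : Function.Surjective (LinearMap.lTensor K (LinearMap.range g).mkQ) :=
      LinearMap.lTensor_surjective K (LinearMap.range g).mkQ_surjective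
    refine ⟨fun a b => ?_⟩
    obtain ⟨a', rfl⟩ := hs2 a
    obtain ⟨b', rfl⟩ := hs2 b
    have ha : a' ∈ LinearMap.range (g.baseChange K) := hsurj ▸ Submodule.mem_top
    have hb : b' ∈ LinearMap.range (g.baseChange K) := hsurj ▸ Submodule.mem_top
    obtain ⟨a'', rfl⟩ := ha
    obtain ⟨b'', rfl⟩ := hb
    rw [LinearMap.baseChange_eq_ltensor]
    rw [(hex' _).2 ⟨a'', rfl⟩, (hex' _).2 ⟨b'', rfl⟩]
  exact hr ▸ ⟨g, hq⟩

/-- The fibre dimension of a finitely generated module does not go up in a neighbourhood. -/
theorem fibDim_le_eventually (C : Type u) [AddCommGroup C] [Module A C] [Module.Finite A C]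
    (x : PrimeSpectrum A) : ∀ᶠ y in nhds x, fibDim C y ≤ fibDim C x := by
  obtain ⟨g, hg⟩ := exists_map_subsingleton_quot (A := A) (K := x.asIdeal.ResidueField) C
  have hx : x ∈ (Module.support A (C ⧸ LinearMap.range g))ᶜ := by
    rw [Set.mem_compl_iff, Module.mem_support_iff_nontrivial_residueField_tensorProduct]
    exact not_nontrivial_iff_subsingleton.2 hg
  have hopen : IsOpen (Module.support A (C ⧸ LinearMap.range g))ᶜ :=
    (Module.isClosed_support (R := A) (M := C ⧸ LinearMap.range g)).isOpen_compl
  refine Filter.eventually_of_mem (hopen.mem_nhds hx) fun y hy => ?_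
  rw [Set.mem_compl_iff, Module.mem_support_iff_nontrivial_residueField_tensorProduct,
    not_nontrivial_iff_subsingleton] at hy
  exact finrank_le_of_subsingleton_quot g hy

theorem fibDim_upperSemicontinuous (C : Type u) [AddCommGroup C] [Module A C]
    [Module.Finite A C] : UpperSemicontinuous (fibDim (A := A) C) := by
  intro x n hn
  exact (fibDim_le_eventually C x).mono fun y hy => lt_of_le_of_lt hy hn

section fibRank

variable {M N : Type u} [AddCommGroup M] [Module A M] [AddCommGroup N] [Module A N]

/-- The rank of `φ ⊗ κ(x)`. -/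
noncomputable def fibRank (φ : M →ₗ[A] N) (x : PrimeSpectrum A) : ℕ :=
  Module.finrank x.asIdeal.ResidueField (LinearMap.range (φ.baseChange x.asIdeal.ResidueField))

/-- `rank (φ ⊗ K) + dim (coker φ ⊗ K) = dim (N ⊗ K)`. -/
lemma finrank_range_baseChange_add {K : Type u} [Field K] [Algebra A K] (φ : M →ₗ[A] N)
    [Module.Finite A N] :
    Module.finrank K (LinearMap.range (φ.baseChange K)) +
      Module.finrank K (K ⊗[A] (N ⧸ LinearMap.range φ)) = Module.finrank K (K ⊗[A] N) := by
  have hex' := lTensor_exact K φ.exact_map_mkQ_range (LinearMap.range φ).mkQ_surjective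
  have hs2 : Function.Surjective ((LinearMap.range φ).mkQ.baseChange K) := by
    rw [LinearMap.baseChange_eq_ltensor]
    exact LinearMap.lTensor_surjective K (LinearMap.range φ).mkQ_surjective
  have hker : LinearMap.ker ((LinearMap.range φ).mkQ.baseChange K) =
      LinearMap.range (φ.baseChange K) := by
    ext z
    rw [LinearMap.mem_ker, LinearMap.mem_range]
    have := hex' z
    rw [← LinearMap.baseChange_eq_ltensor, ← LinearMap.baseChange_eq_ltensor] at this
    exact this
  have h1 := LinearMap.finrank_range_add_finrank_ker ((LinearMap.range φ).mkQ.baseChange K)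
  rw [LinearMap.range_eq_top.2 hs2, finrank_top, hker] at h1
  rw [add_comm]
  exact h1

lemma fibRank_add_fibDim (φ : M →ₗ[A] N) [Module.Finite A N] (x : PrimeSpectrum A) :
    fibRank φ x + fibDim (N ⧸ LinearMap.range φ) x = fibDim N x :=
  finrank_range_baseChange_add φ

/-- The fibre dimension of a finite projective module is its rank at the stalk. -/
lemma fibDim_eq_rankAtStalk (N : Type u) [AddCommGroup N] [Module A N] [Module.Finite A N]
    [Module.Projective A N] (x : PrimeSpectrum A) : fibDim N x = Module.rankAtStalk N x :=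
  (Module.rankAtStalk_eq (M := N) x).symm

lemma fibDim_eventually_eq (N : Type u) [AddCommGroup N] [Module A N] [Module.Finite A N]
    [Module.Projective A N] (x : PrimeSpectrum A) :
    ∀ᶠ y in nhds x, fibDim N y = fibDim N x := by
  have : Module.FinitePresentation A N := Module.finitePresentation_of_projective A N
  have hlc : IsLocallyConstant (Module.rankAtStalk (R := A) N) :=
    Module.isLocallyConstant_rankAtStalk
  refine (hlc.eventually_eq x).mono fun y hy => ?_
  rw [fibDim_eq_rankAtStalk, fibDim_eq_rankAtStalk]
  exact hy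

/-- The fibre rank of a map to a finite projective module does not go down in a
neighbourhood. -/
theorem fibRank_ge_eventually (φ : M →ₗ[A] N) [Module.Finite A N] [Module.Projective A N]
    (x : PrimeSpectrum A) : ∀ᶠ y in nhds x, fibRank φ x ≤ fibRank φ y := by
  have h1 := fibDim_le_eventually (N ⧸ LinearMap.range φ) x
  have h2 := fibDim_eventually_eq N x
  filter_upwards [h1, h2] with y hy1 hy2
  have e1 := fibRank_add_fibDim φ x
  have e2 := fibRank_add_fibDim φ y
  omega

theorem fibRank_lowerSemicontinuous (φ : M →ₗ[A] N) [Module.Finite A N]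
    [Module.Projective A N] : LowerSemicontinuous (fibRank φ) := by
  intro x n hn
  exact (fibRank_ge_eventually φ x).mono fun y hy => lt_of_lt_of_le hn hy

end fibRank

end Groth.Agent.H8.DRank
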