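import Groth.Prelude.Def_ega3
import Groth.Agent.Lib.Helper8.DRankMod
import Groth.Agent.Lib.Helper8.ExtScalarsBridge

/-!
# The rank formula for `CohIII.dRank`

`d_p(x) + ρ_{p+1}(x) + ρ_p(x) = dim κ(x) ⊗ P_p`, where `ρ_q(x)` is the rank of `d_q ⊗ κ(x)`.
-/

set_option autoImplicit false

universe u

open CategoryTheory TensorProduct

namespace Groth.Agent.H8.DRank

open Groth.Agent.H8.ExtBridge

/-- `dim H + rank f + rank g = dim X₂` for a short complex of vector spaces. -/
lemma finrank_homology_add {K : Type u} [Field K] (S : ShortComplex (ModuleCat.{u} K))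
    [Module.Finite K S.X₂] :
    Module.finrank K S.homology + Module.finrank K (LinearMap.range S.f.hom) +
      Module.finrank K (LinearMap.range S.g.hom) = Module.finrank K S.X₂ := by
  have h1 : Module.finrank K S.homology =
      Module.finrank K (LinearMap.ker S.g.hom ⧸ LinearMap.range S.moduleCatToCycles) :=
    S.moduleCatHomologyIso.toLinearEquiv.finrank_eq
  have h2 := Submodule.finrank_quotient_add_finrank (LinearMap.range S.moduleCatToCycles)
  have h3 : Module.finrank K (LinearMap.range S.moduleCatToCycles) =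
      Module.finrank K (LinearMap.range S.f.hom) := by
    have hle : LinearMap.range S.f.hom ≤ LinearMap.ker S.g.hom := by
      rintro _ ⟨y, rfl⟩
      exact S.moduleCat_zero_apply y
    rw [ShortComplex.moduleCatToCycles, LinearMap.range_codRestrict]
    exact (Submodule.comapSubtypeEquivOfLe hle).finrank_eq
  have h4 := LinearMap.finrank_range_add_finrank_ker S.g.hom
  omega

/-- Ranks of the ranges of two linear maps intertwined by linear equivalences agree. -/
lemma finrank_range_eq_of_equiv {K : Type u} [Field K] {V W V' W' : Type u}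
    [AddCommGroup V] [Module K V] [AddCommGroup W] [Module K W]
    [AddCommGroup V'] [Module K V'] [AddCommGroup W'] [Module K W']
    (f : V →ₗ[K] W) (g : V' →ₗ[K] W') (e : V ≃ₗ[K] V') (e' : W ≃ₗ[K] W')
    (h : ∀ v, e' (f v) = g (e v)) :
    Module.finrank K (LinearMap.range f) = Module.finrank K (LinearMap.range g) := by
  have : LinearMap.range g = (LinearMap.range f).map (e' : W →ₗ[K] W') := by
    ext w
    constructor
    · rintro ⟨v', rfl⟩
      refine ⟨f (e.symm v'), ⟨_, rfl⟩, ?_⟩
      change e' (f (e.symm v')) = _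
      rw [h, e.apply_symm_apply]
    · rintro ⟨_, ⟨v, rfl⟩, rfl⟩
      exact ⟨e v, (h v).symm⟩
  rw [this]
  exact (LinearEquiv.finrank_map_eq e' _).symm

variable {A : Type u} [CommRing A]

/-- The rank of `d_{i,j} ⊗ κ(x)`. -/
noncomputable def rho (P : ChainComplex (ModuleCat.{u} A) ℤ) (i j : ℤ) (x : PrimeSpectrum A) : ℕ :=
  fibRank (P.d i j).hom x

lemma finrank_range_extendScalars_map {M N : ModuleCat.{u} A} (φ : M ⟶ N) (x : PrimeSpectrum A) :
    Module.finrank x.asIdeal.ResidueField (LinearMap.range
      ((ModuleCat.extendScalars (algebraMap A x.asIdeal.ResidueField)).map φ).hom) =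
      fibRank φ.hom x :=
  finrank_range_eq_of_equiv _ _ (extEquiv M) (extEquiv N) (fun z => extEquiv_map φ z)

lemma finrank_extendScalars_obj (M : ModuleCat.{u} A) (x : PrimeSpectrum A) :
    Module.finrank x.asIdeal.ResidueField
      ((ModuleCat.extendScalars (algebraMap A x.asIdeal.ResidueField)).obj M) = fibDim M x :=
  (extEquiv M).finrank_eq

/-- The rank formula. -/
theorem dRank_add (P : ChainComplex (ModuleCat.{u} A) ℤ) (p : ℤ) [Module.Finite A (P.X p)]
    (x : PrimeSpectrum A) :
    CohIII.dRank P p x + rho P (p + 1) p x + rho P p (p - 1) x = fibDim (P.X p) x := by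
  let K := x.asIdeal.ResidueField
  let Q := CohIII.bcCx (algebraMap A K) P
  have hfin : Module.Finite K (Q.sc p).X₂ := by
    change Module.Finite K ((ModuleCat.extendScalars (algebraMap A K)).obj (P.X p))
    exact Module.Finite.equiv (extEquiv (B := K) (P.X p)).symm
  have h := finrank_homology_add (Q.sc p)
  have hX : Module.finrank K (Q.sc p).X₂ = fibDim (P.X p) x := finrank_extendScalars_obj _ x
  have hf : Module.finrank K (LinearMap.range (Q.sc p).f.hom) = rho P (p + 1) p x := by
    have : (ComplexShape.down ℤ).prev p = p + 1 := by simp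
    change Module.finrank K (LinearMap.range
      ((ModuleCat.extendScalars (algebraMap A K)).map (P.d ((ComplexShape.down ℤ).prev p) p)).hom) = _
    rw [finrank_range_extendScalars_map, this]
    rfl
  have hg : Module.finrank K (LinearMap.range (Q.sc p).g.hom) = rho P p (p - 1) x := by
    have : (ComplexShape.down ℤ).next p = p - 1 := by simp
    change Module.finrank K (LinearMap.range
      ((ModuleCat.extendScalars (algebraMap A K)).map (P.d p ((ComplexShape.down ℤ).next p))).hom) = _
    rw [finrank_range_extendScalars_map, this]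
    rfl
  rw [hX, hf, hg] at h
  exact h

lemma rho_ge_eventually (P : ChainComplex (ModuleCat.{u} A) ℤ) (i j : ℤ)
    [Module.Finite A (P.X j)] [Module.Projective A (P.X j)] (x : PrimeSpectrum A) :
    ∀ᶠ y in nhds x, rho P i j x ≤ rho P i j y :=
  fibRank_ge_eventually (P.d i j).hom x

/-- Finite flat modules over a Noetherian ring are projective. -/
lemma projective_of_finite_flat [IsNoetherianRing A] (M : Type u) [AddCommGroup M] [Module A M]
    [Module.Finite A M] [Module.Flat A M] : Module.Projective A M := by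
  have := Module.finitePresentation_of_finite A M
  exact Module.Flat.projective_of_finitePresentation

/-- `d_p` does not go up in a neighbourhood. -/
theorem dRank_le_eventually (P : ChainComplex (ModuleCat.{u} A) ℤ)
    (hP : ∀ i, Module.Finite A (P.X i) ∧ Module.Projective A (P.X i)) (p : ℤ)
    (x : PrimeSpectrum A) : ∀ᶠ y in nhds x, CohIII.dRank P p y ≤ CohIII.dRank P p x := by
  have := fun i => (hP i).1
  have := fun i => (hP i).2
  filter_upwards [rho_ge_eventually P (p + 1) p x, rho_ge_eventually P p (p - 1) x,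
    fibDim_eventually_eq (P.X p) x] with y h1 h2 h3
  have e1 := dRank_add P p x
  have e2 := dRank_add P p y
  omega

theorem dRank_upperSemicontinuous (P : ChainComplex (ModuleCat.{u} A) ℤ)
    (hP : ∀ i, Module.Finite A (P.X i) ∧ Module.Projective A (P.X i)) (p : ℤ) :
    UpperSemicontinuous (CohIII.dRank P p) := by
  intro x n hn
  exact (dRank_le_eventually P hP p x).mono fun y hy => lt_of_le_of_lt hy hn

/-- If `d_{p-1}` and `d_{p+1}` are locally constant near `z`, so is `d_p`. -/
theorem dRank_eventually_eq (P : ChainComplex (ModuleCat.{u} A) ℤ)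
    (hP : ∀ i, Module.Finite A (P.X i) ∧ Module.Projective A (P.X i)) (p : ℤ)
    (z : PrimeSpectrum A)
    (hlo : ∀ᶠ x in nhds z, CohIII.dRank P (p - 1) x = CohIII.dRank P (p - 1) z)
    (hhi : ∀ᶠ x in nhds z, CohIII.dRank P (p + 1) x = CohIII.dRank P (p + 1) z) :
    ∀ᶠ x in nhds z, CohIII.dRank P p x = CohIII.dRank P p z := by
  have := fun i => (hP i).1
  have := fun i => (hP i).2
  filter_upwards [hlo, hhi, rho_ge_eventually P (p + 1) p z, rho_ge_eventually P p (p - 1) z,
    rho_ge_eventually P (p + 1 + 1) (p + 1) z, rho_ge_eventually P (p - 1) (p - 1 - 1) z,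
    fibDim_eventually_eq (P.X p) z, fibDim_eventually_eq (P.X (p + 1)) z,
    fibDim_eventually_eq (P.X (p - 1)) z] with y h1 h2 h3 h4 h5 h6 h7 h8 h9
  have e1 := dRank_add P p z
  have e2 := dRank_add P p y
  have e3 := dRank_add P (p + 1) z
  have e4 := dRank_add P (p + 1) y
  have e5 := dRank_add P (p - 1) z
  have e6 := dRank_add P (p - 1) y
  have hpp : p + 1 - 1 = p := by ring
  have hpm : p - 1 + 1 = p := by ring
  rw [hpp] at e3 e4
  rw [hpm] at e5 e6
  omega

lemma dRank_le_fibDim (P : ChainComplex (ModuleCat.{u} A) ℤ) (p : ℤ) [Module.Finite A (P.X p)]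
    (x : PrimeSpectrum A) : CohIII.dRank P p x ≤ fibDim (P.X p) x := by
  have := dRank_add P p x
  omega

/-- `d_p` takes finitely many values. -/
theorem dRank_range_finite (P : ChainComplex (ModuleCat.{u} A) ℤ)
    (hP : ∀ i, Module.Finite A (P.X i) ∧ Module.Projective A (P.X i)) (p : ℤ) :
    (Set.range (CohIII.dRank P p)).Finite := by
  have := fun i => (hP i).1
  have := fun i => (hP i).2
  have : Module.FinitePresentation A (P.X p) := Module.finitePresentation_of_projective A _
  have hlc : IsLocallyConstant (Module.rankAtStalk (R := A) (P.X p)) :=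
    Module.isLocallyConstant_rankAtStalk
  have hfin := hlc.range_finite
  obtain ⟨N, hN⟩ := hfin.bddAbove
  refine (Set.finite_Iic N).subset ?_
  rintro _ ⟨x, rfl⟩
  refine (dRank_le_fibDim P p x).trans ?_
  rw [fibDim_eq_rankAtStalk]
  exact hN ⟨x, rfl⟩

/-- In a Noetherian space, open sets are constructible. -/
lemma isConstructible_of_isOpen {X : Type*} [TopologicalSpace X]
    [TopologicalSpace.NoetherianSpace X] {U : Set X} (hU : IsOpen U) :
    Topology.IsConstructible U :=
  IsRetrocompact.isConstructible hU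
    (fun _ _ _ => TopologicalSpace.NoetherianSpace.isCompact _)

/-- The level sets of an upper semicontinuous `ℕ`-valued function on a Noetherian space are
constructible. -/
lemma isConstructible_levelSet {X : Type*} [TopologicalSpace X]
    [TopologicalSpace.NoetherianSpace X] {f : X → ℕ} (hf : UpperSemicontinuous f) (n : ℕ) :
    Topology.IsConstructible {x | f x = n} := by
  have h1 : IsOpen {x | f x < n + 1} := hf.isOpen_preimage (n + 1)
  have h2 : IsOpen {x | f x < n} := hf.isOpen_preimage n
  have : {x | f x = n} = {x | f x < n + 1} \ {x | f x < n} := by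
    ext x
    simp only [Set.mem_ofPred_eq, Set.mem_sdiff]
    omega
  rw [this]
  exact (isConstructible_of_isOpen h1).sdiff (isConstructible_of_isOpen h2)

lemma sum_shift_cancel (s : Finset ℤ) (f : ℤ → ℤ) (h1 : ∀ i, i ∉ s → f i = 0)
    (h2 : ∀ i, i - 1 ∉ s → f i = 0) : (s.sum fun i => f (i + 1)) = s.sum f := by
  classical
  have himg : (s.image (· + 1)).sum f = s.sum fun i => f (i + 1) :=
    Finset.sum_image (fun a _ b _ (h : a + 1 = b + 1) => by omega)
  rw [← himg]
  have e1 : (s.image (· + 1)).sum f = (s ∪ s.image (· + 1)).sum f := by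
    refine Finset.sum_subset Finset.subset_union_right fun x _ hx => h2 x fun hx' => hx ?_
    exact Finset.mem_image.2 ⟨x - 1, hx', by ring⟩
  have e2 : s.sum f = (s ∪ s.image (· + 1)).sum f :=
    Finset.sum_subset Finset.subset_union_left fun x _ hx => h1 x hx
  rw [e1, e2]

lemma rho_eq_zero_of_isZero_src (P : ChainComplex (ModuleCat.{u} A) ℤ) (i j : ℤ)
    (h : Limits.IsZero (P.X i)) (x : PrimeSpectrum A) : rho P i j x = 0 := by
  have : P.d i j = 0 := h.eq_of_src _ _
  unfold rho fibRank
  rw [this]
  have : (0 : P.X i ⟶ P.X j).hom = 0 := rfl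
  rw [this, LinearMap.baseChange_zero, LinearMap.range_zero, finrank_bot]

lemma rho_eq_zero_of_isZero_tgt (P : ChainComplex (ModuleCat.{u} A) ℤ) (i j : ℤ)
    (h : Limits.IsZero (P.X j)) (x : PrimeSpectrum A) : rho P i j x = 0 := by
  have : P.d i j = 0 := h.eq_of_tgt _ _
  unfold rho fibRank
  rw [this]
  have : (0 : P.X i ⟶ P.X j).hom = 0 := rfl
  rw [this, LinearMap.baseChange_zero, LinearMap.range_zero, finrank_bot]

/-- The Euler characteristic formula. -/
theorem euler_char (P : ChainComplex (ModuleCat.{u} A) ℤ)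
    (hP : ∀ i, Module.Finite A (P.X i) ∧ Module.Projective A (P.X i))
    (s : Finset ℤ) (hs : ∀ i, i ∉ s → Limits.IsZero (P.X i)) (x : PrimeSpectrum A) :
    (s.sum fun i => ((i.negOnePow : ℤˣ) : ℤ) * (CohIII.dRank P i x : ℤ)) =
      s.sum fun i => ((i.negOnePow : ℤˣ) : ℤ) * (Module.rankAtStalk (P.X i) x : ℤ) := by
  have := fun i => (hP i).1
  have := fun i => (hP i).2
  let f : ℤ → ℤ := fun i => ((i.negOnePow : ℤˣ) : ℤ) * (rho P i (i - 1) x : ℤ)
  have hf1 : ∀ i, i ∉ s → f i = 0 := fun i hi => by
    simp only [f, rho_eq_zero_of_isZero_src P i (i - 1) (hs i hi) x, Nat.cast_zero, mul_zero]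
  have hf2 : ∀ i, i - 1 ∉ s → f i = 0 := fun i hi => by
    simp only [f, rho_eq_zero_of_isZero_tgt P i (i - 1) (hs _ hi) x, Nat.cast_zero, mul_zero]
  have key : ∀ i, ((i.negOnePow : ℤˣ) : ℤ) * (CohIII.dRank P i x : ℤ) =
      ((i.negOnePow : ℤˣ) : ℤ) * (Module.rankAtStalk (P.X i) x : ℤ) + (f (i + 1) - f i) := by
    intro i
    have e := dRank_add P i x
    rw [fibDim_eq_rankAtStalk] at e
    have e' : (CohIII.dRank P i x : ℤ) = (Module.rankAtStalk (P.X i) x : ℤ) -
        (rho P (i + 1) i x : ℤ) - (rho P i (i - 1) x : ℤ) := by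
      rw [← e]; push_cast; ring
    have hi : i + 1 - 1 = i := by ring
    simp only [f, hi, Int.negOnePow_succ, Units.val_neg]
    rw [e']
    ring
  rw [Finset.sum_congr rfl fun i _ => key i, Finset.sum_add_distrib, Finset.sum_sub_distrib,
    sum_shift_cancel s f hf1 hf2, sub_self, add_zero]

theorem euler_char_isLocallyConstant (P : ChainComplex (ModuleCat.{u} A) ℤ)
    (hP : ∀ i, Module.Finite A (P.X i) ∧ Module.Projective A (P.X i))
    (s : Finset ℤ) (hs : ∀ i, i ∉ s → Limits.IsZero (P.X i)) :
    IsLocallyConstant fun x : PrimeSpectrum A =>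
      s.sum fun i => ((i.negOnePow : ℤˣ) : ℤ) * (CohIII.dRank P i x : ℤ) := by
  have := fun i => (hP i).1
  have := fun i => (hP i).2
  rw [IsLocallyConstant.iff_eventually_eq]
  intro x
  have h : ∀ᶠ y in nhds x, ∀ i ∈ s, Module.rankAtStalk (P.X i) y = Module.rankAtStalk (P.X i) x := by
    rw [Filter.eventually_all_finset]
    intro i _
    have : Module.FinitePresentation A (P.X i) := Module.finitePresentation_of_projective A _
    exact (Module.isLocallyConstant_rankAtStalk (R := A) (M := P.X i)).eventually_eq x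
  refine h.mono fun y hy => ?_
  change (s.sum fun i => ((i.negOnePow : ℤˣ) : ℤ) * (CohIII.dRank P i y : ℤ)) =
    s.sum fun i => ((i.negOnePow : ℤˣ) : ℤ) * (CohIII.dRank P i x : ℤ)
  rw [euler_char P hP s hs y, euler_char P hP s hs x]
  exact Finset.sum_congr rfl fun i hi => by rw [hy i hi]

end Groth.Agent.H8.DRank
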