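import Mathlib

/-!
# A light version of the Krull–Akizuki theorem

For a Noetherian domain `R` of dimension `≤ 1` with fraction field `K`, every ring between `R` and
`K` is Noetherian.  Consequently a valuation ring of `K` dominating a one-dimensional Noetherian
local domain is a discrete valuation ring.
-/

set_option autoImplicit false

universe u

open Function Pointwise

namespace Groth.Agent.H8.KA

section Length

variable {R : Type u} [CommRing R] [IsDomain R] [IsNoetherianRing R] [Ring.KrullDimLE 1 R]

lemma enat_cancel {a b c : ℕ∞} (hc : c ≠ ⊤) (h : a + c = c + b) : a = b := by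
  lift c to ℕ using hc
  cases a with
  | top =>
    cases b with
    | top => rfl
    | coe b =>
      exfalso
      rw [top_add, ← ENat.natCast_add] at h
      exact ENat.natCast_ne_top _ h.symm
  | coe a =>
    cases b with
    | top =>
      exfalso
      rw [add_top, ← ENat.natCast_add] at h
      exact ENat.natCast_ne_top _ h
    | coe b =>
      norm_cast at h ⊢
      omega

omit [IsDomain R] [IsNoetherianRing R] [Ring.KrullDimLE 1 R] in
lemma smul_top_le_comap (I : Ideal R) (x : R) :
    x • (⊤ : Submodule R I) ≤ Submodule.comap (Submodule.subtype I) (x • I : Submodule R R) := by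
  rintro y hy
  obtain ⟨i, -, rfl⟩ := (Submodule.mem_smul_pointwise_iff_exists _ _ _).1 hy
  exact (Submodule.mem_smul_pointwise_iff_exists _ _ _).2 ⟨(i : R), i.2, rfl⟩

/-- The map `I / xI → R / xI`. -/
noncomputable def f₁ (I : Ideal R) (x : R) :
    (↥I ⧸ (x • (⊤ : Submodule R I))) →ₗ[R] (R ⧸ (x • I)) :=
  Submodule.mapQ _ _ (Submodule.subtype I) (smul_top_le_comap I x)

omit [IsDomain R] [IsNoetherianRing R] [Ring.KrullDimLE 1 R] in
lemma f₁_injective (I : Ideal R) (x : R) : Injective (f₁ I x) := by
  rw [injective_iff_map_eq_zero]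
  intro w hw
  obtain ⟨i, rfl⟩ := Submodule.Quotient.mk_surjective _ w
  rw [f₁, Submodule.mapQ_apply, Submodule.Quotient.mk_eq_zero] at hw
  obtain ⟨j, hj, hji⟩ := (Submodule.mem_smul_pointwise_iff_exists _ _ _).1 hw
  rw [Submodule.Quotient.mk_eq_zero]
  exact (Submodule.mem_smul_pointwise_iff_exists _ _ _).2
    ⟨⟨j, hj⟩, Submodule.mem_top, Subtype.ext hji⟩

omit [IsDomain R] [IsNoetherianRing R] [Ring.KrullDimLE 1 R] in
lemma smul_le_self (I : Ideal R) (x : R) : x • I ≤ I := by
  intro y hy
  obtain ⟨j, hj, rfl⟩ := (Submodule.mem_smul_pointwise_iff_exists _ _ _).1 hy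
  exact I.smul_mem x hj

/-- The map `R / xI → R / I`. -/
noncomputable def g₁ (I : Ideal R) (x : R) : (R ⧸ (x • I)) →ₗ[R] (R ⧸ I) :=
  Submodule.factor (p := (x • I : Submodule R R)) (p' := I) (smul_le_self I x)

omit [IsDomain R] [IsNoetherianRing R] [Ring.KrullDimLE 1 R] in
lemma g₁_surjective (I : Ideal R) (x : R) : Surjective (g₁ I x) :=
  Submodule.factor_surjective (smul_le_self I x)

omit [IsDomain R] [IsNoetherianRing R] [Ring.KrullDimLE 1 R] in
lemma exact_f₁_g₁ (I : Ideal R) (x : R) : Exact (f₁ I x) (g₁ I x) := by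
  intro w
  obtain ⟨r, rfl⟩ := Submodule.Quotient.mk_surjective _ w
  constructor
  · intro h
    rw [g₁, ← Submodule.mkQ_apply, Submodule.factor_mk, Submodule.mkQ_apply,
      Submodule.Quotient.mk_eq_zero] at h
    exact ⟨Submodule.Quotient.mk ⟨r, h⟩, rfl⟩
  · rintro ⟨v, hv⟩
    obtain ⟨i, rfl⟩ := Submodule.Quotient.mk_surjective _ v
    rw [← hv, g₁, f₁, Submodule.mapQ_apply, ← Submodule.mkQ_apply, Submodule.factor_mk,
      Submodule.mkQ_apply, Submodule.Quotient.mk_eq_zero]
    exact i.2

lemma length_quotient_ne_top (I : Ideal R) (hI : I ≠ ⊥) : Module.length R (R ⧸ I) ≠ ⊤ := by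
  obtain ⟨a, haI, ha⟩ := Submodule.exists_mem_ne_zero_of_ne_bot hI
  have hle : Ideal.span {a} ≤ I := (Ideal.span_singleton_le_iff_mem I).2 haI
  have h1 := Module.length_le_of_surjective (Submodule.factor hle) (Submodule.factor_surjective hle)
  have h2 : Module.length R (R ⧸ Ideal.span {a}) ≠ ⊤ :=
    Module.length_ne_top_iff.2
      (isFiniteLength_quotient_span_singleton R (mem_nonZeroDivisors_of_ne_zero ha))
  exact ne_top_of_le_ne_top h2 h1

/-- `length (I / xI) = length (R / xR)` for a nonzero ideal `I` and `x ≠ 0`. -/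
theorem length_quot_smul_top (I : Ideal R) (hI : I ≠ ⊥) {x : R} (hx : x ≠ 0) :
    Module.length R (↥I ⧸ (x • (⊤ : Submodule R I))) = Ring.ord R x := by
  have h1 := Module.length_eq_add_of_exact (f₁ I x) (g₁ I x) (f₁_injective I x)
    (g₁_surjective I x) (exact_f₁_g₁ I x)
  have h2 := Module.length_eq_add_of_exact (Ideal.mulQuot x I) (Ideal.quotOfMul x I)
    (Ideal.mulQuot_injective I (mem_nonZeroDivisors_of_ne_zero hx))
    (Ideal.quotOfMul_surjective I) (Ideal.exact_mulQuot_quotOfMul I)
  rw [h1] at h2
  exact enat_cancel (length_quotient_ne_top I hI) h2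

end Length

section Overring

variable {R : Type u} [CommRing R] [IsDomain R]
  {K : Type u} [Field K] [Algebra R K] [IsFractionRing R K] (V : Subalgebra R K)

/-- `a ↦ a / b` as a linear map `R → K`. -/
noncomputable def divMap (b : R) : R →ₗ[R] K where
  toFun a := algebraMap R K a / algebraMap R K b
  map_add' a a' := by rw [map_add, add_div]
  map_smul' r a := by
    rw [smul_eq_mul, map_mul, RingHom.id_apply, Algebra.smul_def, mul_div_assoc]

/-- The ideal of numerators `a` with `a / b ∈ V`. -/
noncomputable def numIdeal (b : R) : Ideal R :=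
  Submodule.comap (divMap (K := K) b) (Subalgebra.toSubmodule V)

omit [IsFractionRing R K] [IsDomain R] in
lemma mem_numIdeal {b a : R} :
    a ∈ numIdeal V b ↔ algebraMap R K a / algebraMap R K b ∈ V := Iff.rfl

omit [IsDomain R] in
lemma self_mem_numIdeal {b : R} (hb : b ≠ 0) : b ∈ numIdeal V b := by
  rw [mem_numIdeal, div_self]
  · exact V.one_mem
  · exact (map_ne_zero_iff _ (IsFractionRing.injective R K)).2 hb

omit [IsDomain R] in
lemma numIdeal_ne_bot {b : R} (hb : b ≠ 0) : numIdeal V b ≠ ⊥ := fun h =>
  hb ((Submodule.mem_bot R).1 (h ▸ self_mem_numIdeal V hb))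

/-- `a ↦ a / b` as a linear map from the ideal of numerators to `V`. -/
noncomputable def ψ (b : R) : ↥(numIdeal V b) →ₗ[R] V :=
  LinearMap.codRestrict (Subalgebra.toSubmodule V)
    (divMap (K := K) b ∘ₗ Submodule.subtype (numIdeal V b)) (fun a => a.2)

omit [IsFractionRing R K] [IsDomain R] in
lemma ψ_coe (b : R) (a : numIdeal V b) :
    ((ψ V b a : V) : K) = algebraMap R K a / algebraMap R K b := rfl

/-- The quotient map `V → V / xV` as an `R`-linear map. -/
noncomputable def πx (x : R) : V →ₗ[R] (V ⧸ Ideal.span {algebraMap R V x}) :=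
  (Submodule.mkQ (Ideal.span {algebraMap R V x})).restrictScalars R

omit [IsFractionRing R K] [IsDomain R] in
lemma πx_surjective (x : R) : Surjective (πx V x) := by
  intro w
  obtain ⟨v, rfl⟩ := Submodule.Quotient.mk_surjective _ w
  exact ⟨v, rfl⟩

omit [IsFractionRing R K] [IsDomain R] in
lemma smul_top_le_ker (b x : R) :
    x • (⊤ : Submodule R (numIdeal V b)) ≤ LinearMap.ker (πx V x ∘ₗ ψ V b) := by
  intro y hy
  obtain ⟨i, -, rfl⟩ := (Submodule.mem_smul_pointwise_iff_exists _ _ _).1 hy
  rw [LinearMap.mem_ker, LinearMap.comp_apply, map_smul]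
  change Submodule.Quotient.mk (x • ψ V b i) = 0
  rw [Submodule.Quotient.mk_eq_zero, Algebra.smul_def]
  exact Ideal.mul_mem_right _ _ (Ideal.subset_span (Set.mem_singleton _))

/-- The induced map `I / xI → V / xV`. -/
noncomputable def ψbar (b x : R) :
    (↥(numIdeal V b) ⧸ (x • (⊤ : Submodule R (numIdeal V b)))) →ₗ[R]
      (V ⧸ Ideal.span {algebraMap R V x}) :=
  Submodule.liftQ _ (πx V x ∘ₗ ψ V b) (smul_top_le_ker V b x)

section Main

variable [IsNoetherianRing R] [Ring.KrullDimLE 1 R]

/-- Key estimate of Krull–Akizuki: `length_R (V / xV) ≤ length_R (R / xR)`. -/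
theorem length_quot_le {x : R} (hx : x ≠ 0) :
    Module.length R (V ⧸ Ideal.span {algebraMap R V x}) ≤ Ring.ord R x := by
  have key : ∀ p : LTSeries (Submodule R (V ⧸ Ideal.span {algebraMap R V x})),
      (p.length : ℕ∞) ≤ Ring.ord R x := by
    intro p
    have hstep : ∀ i : Fin p.length, p i.castSucc < p i.succ := fun i => p.step i
    choose w hw1 hw2 using fun i : Fin p.length => SetLike.exists_of_lt (hstep i)
    choose v hv using fun i => πx_surjective V x (w i)
    obtain ⟨b, hb⟩ := IsLocalization.exist_integer_multiples_of_finite (nonZeroDivisors R)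
      (fun i : Fin p.length => ((v i : V) : K))
    choose a ha using hb
    have hb0 : (b : R) ≠ 0 := nonZeroDivisors.coe_ne_zero b
    have hbK : algebraMap R K (b : R) ≠ 0 :=
      (map_ne_zero_iff _ (IsFractionRing.injective R K)).2 hb0
    have haI : ∀ i, a i ∈ numIdeal V b := fun i => by
      rw [mem_numIdeal, ha i, Algebra.smul_def, mul_div_cancel_left₀ _ hbK]
      exact (v i).2
    have hψ : ∀ i, ψ V b ⟨a i, haI i⟩ = v i := fun i => by
      apply Subtype.ext
      rw [ψ_coe]
      change algebraMap R K (a i) / algebraMap R K (b : R) = _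
      rw [ha i, Algebra.smul_def, mul_div_cancel_left₀ _ hbK]
    have hbar : ∀ i, ψbar V b x (Submodule.Quotient.mk ⟨a i, haI i⟩) = w i := fun i => by
      rw [ψbar, Submodule.liftQ_apply, LinearMap.comp_apply, hψ, hv]
    let q : LTSeries (Submodule R
        (↥(numIdeal V b) ⧸ (x • (⊤ : Submodule R (numIdeal V b))))) :=
      { length := p.length
        toFun := fun j => Submodule.comap (ψbar V b x) (p j)
        step := fun i => by
          change Submodule.comap (ψbar V b x) (p i.castSucc) <
            Submodule.comap (ψbar V b x) (p i.succ)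
          rw [SetLike.lt_iff_le_and_exists]
          refine ⟨Submodule.comap_mono (le_of_lt (hstep i)),
            Submodule.Quotient.mk ⟨a i, haI i⟩, ?_, ?_⟩
          · rw [Submodule.mem_comap, hbar]
            exact hw1 i
          · rw [Submodule.mem_comap, hbar]
            exact hw2 i }
    have h1 := Order.LTSeries.length_le_krullDim q
    rw [← Module.coe_length, length_quot_smul_top _ (numIdeal_ne_bot V hb0) hx] at h1
    exact_mod_cast h1
  rw [← WithBot.coe_le_coe, Module.coe_length]
  exact iSup_le fun p => by exact_mod_cast key p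

/-- Krull–Akizuki (case `L = K`): every ring between a Noetherian domain of dimension `≤ 1` and
its fraction field is Noetherian. -/
theorem isNoetherianRing_overring : IsNoetherianRing V := by
  rw [isNoetherianRing_iff_ideal_fg]
  intro J
  by_cases hJ : J = ⊥
  · rw [hJ]
    exact Submodule.fg_bot
  obtain ⟨v, hvJ, hv0⟩ := Submodule.exists_mem_ne_zero_of_ne_bot hJ
  obtain ⟨a, b, hb, hab⟩ := IsFractionRing.div_surjective (A := R) (v : K)
  have hbK : algebraMap R K b ≠ 0 :=
    (map_ne_zero_iff _ (IsFractionRing.injective R K)).2 (nonZeroDivisors.ne_zero hb)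
  have ha0 : a ≠ 0 := by
    rintro rfl
    rw [map_zero, zero_div] at hab
    exact hv0 (Subtype.ext hab.symm)
  have haJ : algebraMap R V a ∈ J := by
    have e : algebraMap R V a = algebraMap R V b * v := by
      apply Subtype.ext
      change algebraMap R K a = algebraMap R K b * (v : K)
      rw [← hab, mul_div_cancel₀ _ hbK]
    rw [e]
    exact J.mul_mem_left _ hvJ
  have hlen : Module.length R (V ⧸ Ideal.span {algebraMap R V a}) ≠ ⊤ :=
    ne_top_of_le_ne_top (Ring.ord_ne_top (mem_nonZeroDivisors_of_ne_zero ha0))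
      (length_quot_le V ha0)
  have hN : IsNoetherian R (V ⧸ Ideal.span {algebraMap R V a}) :=
    (isFiniteLength_iff_isNoetherian_isArtinian.1 (Module.length_ne_top_iff.1 hlen)).1
  have hNV : IsNoetherian V (V ⧸ Ideal.span {algebraMap R V a}) := isNoetherian_of_tower R hN
  refine Submodule.fg_of_fg_map_of_fg_inf_ker (Submodule.mkQ (Ideal.span {algebraMap R V a}))
    (IsNoetherian.noetherian _) ?_
  have hle : Ideal.span {algebraMap R V a} ≤ J := (Ideal.span_singleton_le_iff_mem J).2 haJ
  rw [Submodule.ker_mkQ, inf_eq_right.2 hle]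
  exact Submodule.fg_span_singleton _

end Main

end Overring

section DVR

variable (R : Type u) [CommRing R] [IsDomain R] [IsNoetherianRing R] [Ring.KrullDimLE 1 R]
  [IsLocalRing R]

/-- A one-dimensional Noetherian local domain is dominated by a discrete valuation ring
(with the same fraction field). -/
theorem exists_dvr_dominating (hR : ¬ IsField R) :
    ∃ (B : Type u) (_ : CommRing B) (_ : IsDomain B) (_ : IsDiscreteValuationRing B)
      (_ : Algebra R B), Function.Injective (algebraMap R B) ∧ IsLocalHom (algebraMap R B) := by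
  obtain ⟨A, hA, hloc⟩ := IsLocalRing.exists_factor_valuationRing
    (algebraMap R (FractionRing R))
  let V : Subalgebra R (FractionRing R) :=
    { A.toSubring.toSubsemiring with algebraMap_mem' := hA }
  have hV : IsNoetherianRing V := isNoetherianRing_overring V
  let e : V ≃+* A :=
    { toFun := fun v => ⟨v.1, v.2⟩
      invFun := fun a => ⟨a.1, a.2⟩
      left_inv := fun _ => rfl
      right_inv := fun _ => rfl
      map_mul' := fun _ _ => rfl
      map_add' := fun _ _ => rfl }
  have hAn : IsNoetherianRing A := isNoetherianRing_of_ringEquiv V e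
  have hPID : IsPrincipalIdealRing A := ((IsBezout.TFAE (R := A)).out 0 1).1 hAn
  let φ : R →+* A := (algebraMap R (FractionRing R)).codRestrict A.toSubring hA
  have hφinj : Function.Injective φ := by
    intro x y hxy
    exact IsFractionRing.injective R (FractionRing R) (congrArg Subtype.val hxy)
  have hφloc : IsLocalHom φ := hloc
  have hnf : IsLocalRing.maximalIdeal A ≠ ⊥ := by
    rw [IsLocalRing.isField_iff_maximalIdeal_eq] at hR
    obtain ⟨x, hxm, hx0⟩ := Submodule.exists_mem_ne_zero_of_ne_bot hR
    intro h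
    have h1 : φ x ∈ IsLocalRing.maximalIdeal A := by
      rw [IsLocalRing.mem_maximalIdeal, mem_nonunits_iff]
      intro hu
      exact ((IsLocalRing.mem_maximalIdeal x).1 hxm) (hφloc.map_nonunit x hu)
    rw [h, Submodule.mem_bot] at h1
    exact hx0 (hφinj (by rw [h1, map_zero]))
  refine ⟨A, inferInstance, inferInstance,
    { toIsPrincipalIdealRing := hPID, toIsLocalRing := inferInstance, not_a_field' := hnf },
    φ.toAlgebra, hφinj, hφloc⟩

end DVR

end Groth.Agent.H8.KA
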