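import Mathlib
import Groth.Agent.Lib.Helper8.Hens.Normal

/-!
# Filtered colimits of normal domains are normal domains
-/

open Polynomial

namespace Groth.Agent.H8.NCol

open Groth.Agent.H8.Hens

section Abstract

variable {ι : Type*} [Preorder ι] [IsDirected ι (· ≤ ·)] [Nonempty ι]
  (D : ι → Type*) [∀ i, CommRing (D i)]
  (E : Type*) [CommRing E]
  (g : ∀ i, D i →+* E) (t : ∀ i j, i ≤ j → D i →+* D j)
  (hgt : ∀ i j (h : i ≤ j) (x : D i), g j (t i j h x) = g i x)
  (hsurj : ∀ x : E, ∃ i, x ∈ Set.range (g i))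

include hgt in
theorem range_mono {i j : ι} (h : i ≤ j) : Set.range (g i) ⊆ Set.range (g j) := by
  rintro _ ⟨x, rfl⟩
  exact ⟨t i j h x, hgt i j h x⟩

include hgt hsurj in
theorem exists_forall_mem_range (s : Finset E) : ∃ i, ∀ x ∈ s, x ∈ Set.range (g i) := by
  classical
  induction s using Finset.induction_on with
  | empty => exact ⟨Classical.arbitrary ι, by simp⟩
  | insert a s _ ih =>
    obtain ⟨i, hi⟩ := ih
    obtain ⟨j, hj⟩ := hsurj a
    obtain ⟨k, hik, hjk⟩ := exists_ge_ge i j
    refine ⟨k, fun x hx => ?_⟩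
    rcases Finset.mem_insert.mp hx with rfl | hx
    · exact range_mono D E g t hgt hjk hj
    · exact range_mono D E g t hgt hik (hi x hx)

variable (hker : ∀ i (x : D i), g i x = 0 → ∃ j, ∃ h : i ≤ j, t i j h x = 0)

include hgt hsurj hker in
/-- A nontrivial filtered colimit of normal domains is a normal domain. -/
theorem normal_of_colimit [Nontrivial E] [∀ i, IsDomain (D i)] [∀ i, IsIntegrallyClosed (D i)] :
    IsDomain E ∧ IsIntegrallyClosed E := by
  classical
  have hdom : IsDomain E := by
    haveI : NoZeroDivisors E := by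
      refine ⟨fun {x y} hxy => ?_⟩
      obtain ⟨i, hi⟩ := exists_forall_mem_range D E g t hgt hsurj {x, y}
      obtain ⟨x', rfl⟩ := hi x (by simp)
      obtain ⟨y', rfl⟩ := hi y (by simp)
      rw [← map_mul] at hxy
      obtain ⟨j, h, hj⟩ := hker i _ hxy
      rw [map_mul] at hj
      rcases mul_eq_zero.mp hj with h0 | h0
      · left; rw [← hgt i j h, h0, map_zero]
      · right; rw [← hgt i j h, h0, map_zero]
    exact NoZeroDivisors.to_isDomain E
  refine ⟨hdom, ?_⟩
  let F := FractionRing E
  have hinj : Function.Injective (algebraMap E F) := IsFractionRing.injective _ _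
  rw [isIntegrallyClosed_iff F]
  intro x hx
  obtain ⟨p, hpm, hp⟩ := hx
  obtain ⟨a, b, hb, rfl⟩ := IsFractionRing.div_surjective (A := E) x
  have hb0 : b ≠ 0 := nonZeroDivisors.ne_zero hb
  have h1 : eval a (scaleRoots p b) = 0 := by
    apply hinj
    rw [map_zero, ← eval₂_at_apply]
    exact scaleRoots_eval₂_eq_zero_of_eval₂_div_eq_zero hinj hp hb
  -- lift everything to a finite stage
  obtain ⟨i, hi⟩ := exists_forall_mem_range D E g t hgt hsurj (insert a (insert b p.coeffs))
  obtain ⟨a', rfl⟩ := hi a (by simp)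
  obtain ⟨b', rfl⟩ := hi b (by simp)
  have hlift : p ∈ lifts (g i) := by
    rw [lifts_iff_coeffs_subset_range]
    intro c hc
    exact hi c (by simp [Finset.mem_coe.mp hc])
  obtain ⟨p', rfl, -, hp'm⟩ := lifts_and_natDegree_eq_and_monic hlift hpm
  have h2 : g i (eval a' (scaleRoots p' b')) = 0 := by
    rw [← h1, ← map_scaleRoots _ _ _ (by rw [hp'm.leadingCoeff, map_one]; exact one_ne_zero),
      eval_map_apply]
  obtain ⟨j, h, hj⟩ := hker i _ h2
  have h3 : eval (t i j h a') (scaleRoots (p'.map (t i j h)) (t i j h b')) = 0 := by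
    rw [← map_scaleRoots _ _ _ (by rw [hp'm.leadingCoeff, map_one]; exact one_ne_zero),
      eval_map_apply, hj]
  have hb' : t i j h b' ≠ 0 := by
    intro h0
    apply hb0
    rw [← hgt i j h, h0, map_zero]
  obtain ⟨d, hd⟩ := dvd_of_eval_scaleRoots_eq_zero (hp'm.map _) hb' h3
  refine ⟨g j d, ?_⟩
  rw [eq_div_iff (by rwa [Ne, map_eq_zero_iff _ hinj]), ← map_mul]
  congr 1
  rw [← hgt i j h a', hd, ← hgt i j h b', map_mul, mul_comm]

end Abstract

section Loc

universe u v
variable {ι : Type v} [Preorder ι] [IsDirected ι (· ≤ ·)] [Nonempty ι]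
  (B : ι → Type u) [∀ i, CommRing (B i)]
  (R : Type u) [CommRing R]
  (f : ∀ i, B i →+* R) (t : ∀ i j, i ≤ j → B i →+* B j)
  (hft : ∀ i j (h : i ≤ j) (x : B i), f j (t i j h x) = f i x)
  (hinj : ∀ i, Function.Injective (f i))
  (hcov : ∀ x : R, ∃ i, x ∈ Set.range (f i))
  (q : Ideal R) [q.IsPrime]

include hft hinj hcov in
/-- If `R` is a directed union of subrings `B i` and the local rings of the `B i` at the
contractions of `q` are normal domains, then `R_q` is a normal domain. -/
theorem normal_localization_of_directed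
    (h : ∀ i, IsDomain (Localization.AtPrime (q.comap (f i))) ∧
      IsIntegrallyClosed (Localization.AtPrime (q.comap (f i)))) :
    IsDomain (Localization.AtPrime q) ∧ IsIntegrallyClosed (Localization.AtPrime q) := by
  haveI : ∀ i, IsDomain (Localization.AtPrime (q.comap (f i))) := fun i => (h i).1
  haveI : ∀ i, IsIntegrallyClosed (Localization.AtPrime (q.comap (f i))) := fun i => (h i).2
  have hcomap : ∀ i j (hij : i ≤ j), q.comap (f i) = (q.comap (f j)).comap (t i j hij) := by
    intro i j hij
    ext x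
    simp [Ideal.mem_comap, hft]
  refine normal_of_colimit (fun i => Localization.AtPrime (q.comap (f i))) (Localization.AtPrime q)
    (fun i => Localization.localRingHom (q.comap (f i)) q (f i) rfl)
    (fun i j hij => Localization.localRingHom (q.comap (f i)) (q.comap (f j)) (t i j hij)
      (hcomap i j hij)) ?_ ?_ ?_
  · intro i j hij x
    obtain ⟨a, s, rfl⟩ := IsLocalization.exists_mk'_eq (q.comap (f i)).primeCompl x
    simp only [Localization.localRingHom_mk', hft]
  · intro x
    obtain ⟨a, s, rfl⟩ := IsLocalization.exists_mk'_eq q.primeCompl x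
    obtain ⟨i, a', rfl⟩ := hcov a
    obtain ⟨j, s', hs'⟩ := hcov s
    obtain ⟨k, hik, hjk⟩ := exists_ge_ge i j
    have hsk : t j k hjk s' ∈ (q.comap (f k)).primeCompl := by
      show t j k hjk s' ∉ q.comap (f k)
      rw [Ideal.mem_comap, hft, hs']
      exact s.2
    refine ⟨k, IsLocalization.mk' _ (t i k hik a') ⟨t j k hjk s', hsk⟩, ?_⟩
    simp only [Localization.localRingHom_mk', hft, hs']
  · intro i x hx
    obtain ⟨a, s, rfl⟩ := IsLocalization.exists_mk'_eq (q.comap (f i)).primeCompl x
    rw [Localization.localRingHom_mk', IsLocalization.mk'_eq_zero_iff] at hx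
    obtain ⟨u, hu⟩ := hx
    obtain ⟨j, u', hu'⟩ := hcov u
    obtain ⟨k, hik, hjk⟩ := exists_ge_ge i j
    refine ⟨k, hik, ?_⟩
    rw [Localization.localRingHom_mk', IsLocalization.mk'_eq_zero_iff]
    have huk : t j k hjk u' ∈ (q.comap (f k)).primeCompl := by
      show t j k hjk u' ∉ q.comap (f k)
      rw [Ideal.mem_comap, hft, hu']
      exact u.2
    refine ⟨⟨t j k hjk u', huk⟩, ?_⟩
    apply hinj k
    rw [map_mul, hft, hft, hu', hu, map_zero]

end Loc

end Groth.Agent.H8.NCol
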