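import Mathlib
import Groth.Agent.Lib.Helper8.Hens.Normal
import Groth.Agent.Lib.Helper8.Hens.SmoothReduced

open TensorProduct

namespace Groth.Agent.H8.SmNR

universe u

open Groth.Agent.H8.Hens

/-- Polynomial rings in finitely many variables over a normal domain are normal. -/
theorem isIntegrallyClosed_mvPolynomial (R : Type u) [CommRing R] [IsDomain R] [IsIntegrallyClosed R]
    (n : ℕ) : IsIntegrallyClosed (MvPolynomial (Fin n) R) := by
  induction n with
  | zero => exact IsIntegrallyClosed.of_equiv (MvPolynomial.isEmptyAlgEquiv R (Fin 0)).symm.toRingEquiv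
  | succ n ih =>
    exact IsIntegrallyClosed.of_equiv (MvPolynomial.finSuccEquiv R n).symm.toRingEquiv

/-- The local rings of a smooth algebra over a normal domain are normal domains. -/
theorem normal_localization_of_smooth_domain (A B : Type u) [CommRing A] [CommRing B] [Algebra A B]
    [IsDomain A] [IsIntegrallyClosed A] [Algebra.Smooth A B] (q : Ideal B) [q.IsPrime] :
    IsDomain (Localization.AtPrime q) ∧ IsIntegrallyClosed (Localization.AtPrime q) := by
  obtain ⟨f, hfq, n, _, _, _⟩ :=
    Algebra.IsSmoothAt.exists_isStandardEtale_mvPolynomial (R := A) (p := q)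
  set P := MvPolynomial (Fin n) A
  set Bf := Localization.Away f
  have hdisj : Disjoint (Submonoid.powers f : Set B) (q : Set B) :=
    (Ideal.disjoint_powers_iff_notMem_of_isPrime _).mpr hfq
  let q0 : Ideal Bf := q.map (algebraMap B Bf)
  haveI hq0 : q0.IsPrime := IsLocalization.isPrime_of_isPrime_disjoint (.powers f) _ _ ‹_› hdisj
  have hq0c : q0.comap (algebraMap B Bf) = q :=
    IsLocalization.under_map_of_isPrime_disjoint (.powers f) _ ‹_› hdisj
  haveI : IsIntegrallyClosed P := isIntegrallyClosed_mvPolynomial A n
  haveI : IsReduced B := isReduced_of_smooth A B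
  set T := Localization.AtPrime q0
  haveI : Module.Flat P T := Module.Flat.trans P Bf T
  haveI : Algebra.EssFiniteType P T := Algebra.EssFiniteType.comp P Bf T
  haveI : Algebra.FormallyUnramified P T := Algebra.FormallyUnramified.comp P Bf T
  have hbij : Function.Bijective (TensorProduct.toIntegralClosure P T (FractionRing P)) :=
    TensorProduct.toIntegralClosure_bijective_of_tower (S := Bf) (T := T)
      TensorProduct.toIntegralClosure_bijective_of_smooth
      (TensorProduct.toIntegralClosure_bijective_of_isLocalization q0.primeCompl)
  obtain ⟨hD, hN⟩ := isDomain_and_isIntegrallyClosed_of_isLocalRing P T hbij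
  have h2 : IsLocalization.AtPrime T q := by
    have := IsLocalization.isLocalization_isLocalization_atPrime_isLocalization
      (Submonoid.powers f) T q0
    have hpc : (q0.comap (algebraMap B Bf)).primeCompl = q.primeCompl := by
      ext x
      simp only [Ideal.primeCompl, Submonoid.mem_mk, Subsemigroup.mem_mk, Set.mem_compl_iff,
        SetLike.mem_coe, hq0c]
    change IsLocalization q.primeCompl _
    rw [← hpc]
    exact this
  let e := IsLocalization.algEquiv q.primeCompl (Localization.AtPrime q) T
  exact ⟨e.toMulEquiv.isDomain _, IsIntegrallyClosed.of_equiv e.symm.toRingEquiv⟩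

attribute [local instance] Algebra.TensorProduct.rightAlgebra in
/-- If `B` is smooth over `A`, `q` is a prime of `B` over `p`, and `A_p` is a normal domain, then
`B_q` is a normal domain. -/
theorem normal_localization_of_smooth (A B : Type u) [CommRing A] [CommRing B] [Algebra A B]
    [Algebra.Smooth A B] (q : Ideal B) [q.IsPrime] (p : Ideal A) [p.IsPrime]
    (hpq : q.comap (algebraMap A B) = p)
    [IsDomain (Localization.AtPrime p)] [IsIntegrallyClosed (Localization.AtPrime p)] :
    IsDomain (Localization.AtPrime q) ∧ IsIntegrallyClosed (Localization.AtPrime q) := by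
  let A' := Localization.AtPrime p
  let B' := A' ⊗[A] B
  let M := Algebra.algebraMapSubmonoid B p.primeCompl
  have hloc : IsLocalization M B' := inferInstance
  have hdisj : Disjoint (M : Set B) (q : Set B) := by
    rw [Set.disjoint_left]
    rintro _ ⟨a, ha, rfl⟩ haq
    apply ha
    rw [← hpq]
    exact haq
  let q' : Ideal B' := q.map (algebraMap B B')
  haveI hq' : q'.IsPrime := IsLocalization.isPrime_of_isPrime_disjoint M _ _ ‹_› hdisj
  have hq'c : q'.comap (algebraMap B B') = q :=
    IsLocalization.under_map_of_isPrime_disjoint M _ ‹_› hdisj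
  obtain ⟨hD, hN⟩ := normal_localization_of_smooth_domain A' B' q'
  have h2 : IsLocalization.AtPrime (Localization.AtPrime q') q := by
    have := IsLocalization.isLocalization_isLocalization_atPrime_isLocalization M (Localization.AtPrime q') q'
    have hpc : (q'.comap (algebraMap B B')).primeCompl = q.primeCompl := by
      ext x
      simp only [Ideal.primeCompl, Submonoid.mem_mk, Subsemigroup.mem_mk, Set.mem_compl_iff,
        SetLike.mem_coe, hq'c]
    change IsLocalization q.primeCompl _
    rw [← hpc]
    exact this
  let e := IsLocalization.algEquiv q.primeCompl (Localization.AtPrime q) (Localization.AtPrime q')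
  exact ⟨e.toMulEquiv.isDomain _,
    @IsIntegrallyClosed.of_equiv (Localization.AtPrime q') (Localization.AtPrime q) _ _
      e.symm.toRingEquiv hN⟩

/-- Normality of local rings descends along flat maps. -/
theorem normal_localization_of_flat (A B : Type u) [CommRing A] [CommRing B] [Algebra A B]
    [Module.Flat A B] (q : Ideal B) [q.IsPrime] (p : Ideal A) [p.IsPrime] [q.LiesOver p]
    [IsDomain (Localization.AtPrime q)] [IsIntegrallyClosed (Localization.AtPrime q)] :
    IsDomain (Localization.AtPrime p) ∧ IsIntegrallyClosed (Localization.AtPrime p) := by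
  letI := Localization.AtPrime.algebraOfLiesOver p q
  haveI : IsLocalHom (algebraMap (Localization.AtPrime p) (Localization.AtPrime q)) :=
    Localization.isLocalHom_localRingHom _ _ _ Ideal.LiesOver.over
  haveI : Module.FaithfullyFlat (Localization.AtPrime p) (Localization.AtPrime q) :=
    Module.FaithfullyFlat.of_flat_of_isLocalHom
  exact normal_of_faithfullyFlat (Localization.AtPrime p) (Localization.AtPrime q)

end Groth.Agent.H8.SmNR
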