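import Mathlib
import Groth.Agent.Lib.Helper8.NormalColimit
import Groth.Agent.Lib.Helper8.SmoothNormalRing
import Groth.Agent.Lib.Helper5.SmoothSubalg

/-!
# Separable base field extension preserves normality of local rings
-/

open TensorProduct

namespace Groth.Agent.H8.SepBC

universe u

open Groth.Agent.H8.NCol Groth.Agent.H8.SmNR

variable (k S K : Type u) [Field k] [CommRing S] [Algebra k S] [Field K] [Algebra k K]

/-- The index set: smooth subalgebras of `K`. -/
abbrev SmSub : Type u := {A : Subalgebra k K // Algebra.Smooth k A}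

variable {k K} in
theorem SmSub.fg (A : SmSub k K) : A.1.FG := by
  haveI := A.2
  exact (Subalgebra.fg_iff_finiteType _).mpr inferInstance

instance [Algebra.IsGeometricallyReduced k K] : Nonempty (SmSub k K) := by
  obtain ⟨A, -, hA⟩ := Groth.Agent.H5.exists_smooth_subalgebra_of_isGeometricallyReduced k K ∅
  exact ⟨⟨A, hA⟩⟩

instance [Algebra.IsGeometricallyReduced k K] : IsDirected (SmSub k K) (· ≤ ·) := by
  classical
  refine ⟨fun A₁ A₂ => ?_⟩
  obtain ⟨s₁, hs₁⟩ := A₁.fg
  obtain ⟨s₂, hs₂⟩ := A₂.fg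
  obtain ⟨A, hE, hA⟩ :=
    Groth.Agent.H5.exists_smooth_subalgebra_of_isGeometricallyReduced k K (s₁ ∪ s₂)
  refine ⟨⟨A, hA⟩, ?_, ?_⟩
  · show A₁.1 ≤ A
    rw [← hs₁]
    refine Algebra.adjoin_le fun x hx => hE ?_
    simp [Finset.mem_coe.mp hx]
  · show A₂.1 ≤ A
    rw [← hs₂]
    refine Algebra.adjoin_le fun x hx => hE ?_
    simp [Finset.mem_coe.mp hx]

/-- the structure maps -/
noncomputable def fmap (A : SmSub k K) : S ⊗[k] A.1 →ₐ[S] S ⊗[k] K :=
  Algebra.TensorProduct.map (AlgHom.id S S) A.1.val

noncomputable def tmap {A A' : SmSub k K} (h : A ≤ A') : S ⊗[k] A.1 →ₐ[S] S ⊗[k] A'.1 :=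
  Algebra.TensorProduct.map (AlgHom.id S S) (Subalgebra.inclusion h)

theorem fmap_tmap {A A' : SmSub k K} (h : A ≤ A') (x : S ⊗[k] A.1) :
    fmap k S K A' (tmap k S K h x) = fmap k S K A x := by
  induction x with
  | zero => simp
  | add x y hx hy => rw [map_add, map_add, map_add, hx, hy]
  | tmul s a => simp [fmap, tmap]

theorem fmap_injective (A : SmSub k K) : Function.Injective (fmap k S K A) :=
  Module.Flat.lTensor_preserves_injective_linearMap (M := S) A.1.val.toLinearMap
    Subtype.val_injective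

theorem exists_mem_range_fmap [Algebra.IsGeometricallyReduced k K] (x : S ⊗[k] K) :
    ∃ A : SmSub k K, x ∈ Set.range (fmap k S K A) := by
  classical
  obtain ⟨T, rfl⟩ := TensorProduct.exists_finset x
  obtain ⟨A, hE, hA⟩ :=
    Groth.Agent.H5.exists_smooth_subalgebra_of_isGeometricallyReduced k K (T.image Prod.snd)
  refine ⟨⟨A, hA⟩, ?_⟩
  have hmem : ∀ mn ∈ T, mn.2 ∈ A := fun mn hmn => hE (by
    simp only [Finset.coe_image, Set.mem_image, Finset.mem_coe]
    exact ⟨mn, hmn, rfl⟩)
  refine ⟨∑ mn ∈ T.attach, mn.1.1 ⊗ₜ[k] ⟨mn.1.2, hmem mn.1 mn.2⟩, ?_⟩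
  rw [map_sum, ← Finset.sum_attach T]
  refine Finset.sum_congr rfl fun mn _ => ?_
  simp [fmap]

/-- If `K/k` is a separable (geometrically reduced) field extension, `q'` a prime of `S ⊗ K`
over `q`, and `S_q` is a normal domain, then `(S ⊗ K)_{q'}` is a normal domain. -/
theorem normal_localization_tensor [Algebra.IsGeometricallyReduced k K]
    (q' : Ideal (S ⊗[k] K)) [q'.IsPrime] (q : Ideal S) [q.IsPrime]
    (hq : q'.comap (algebraMap S (S ⊗[k] K)) = q)
    [IsDomain (Localization.AtPrime q)] [IsIntegrallyClosed (Localization.AtPrime q)] :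
    IsDomain (Localization.AtPrime q') ∧ IsIntegrallyClosed (Localization.AtPrime q') := by
  refine normal_localization_of_directed (ι := SmSub k K) (fun A => S ⊗[k] A.1) (S ⊗[k] K)
    (fun A => (fmap k S K A).toRingHom) (fun A A' h => (tmap k S K h).toRingHom)
    (fun A A' h x => fmap_tmap k S K h x) (fun A => fmap_injective k S K A)
    (fun x => exists_mem_range_fmap k S K x) q' fun A => ?_
  haveI := A.2
  refine normal_localization_of_smooth S (S ⊗[k] A.1) _ q ?_
  rw [← hq]
  ext x
  simp only [Ideal.mem_comap]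
  rw [show ((fmap k S K A).toRingHom (algebraMap S (S ⊗[k] A.1) x)) = algebraMap S (S ⊗[k] K) x
    from (fmap k S K A).commutes x]

/-- Transfer of normality of local rings along a ring isomorphism. -/
theorem normal_of_ringEquiv {R R' : Type u} [CommRing R] [CommRing R'] (e : R ≃+* R')
    (q' : Ideal R') [q'.IsPrime] (I : Ideal R) [I.IsPrime] (hI : I = q'.comap e)
    (h : IsDomain (Localization.AtPrime I) ∧ IsIntegrallyClosed (Localization.AtPrime I)) :
    IsDomain (Localization.AtPrime q') ∧ IsIntegrallyClosed (Localization.AtPrime q') := by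
  obtain ⟨h1, h2⟩ := h
  let E := Localization.localRingEquiv I q' e hI
  exact ⟨E.symm.toMulEquiv.isDomain _, IsIntegrallyClosed.of_equiv E⟩

variable (k S K : Type u) [Field k] [CommRing S] [Algebra k S] [Field K] [Algebra k K]

/-- Version of `normal_localization_tensor` with the field on the left. -/
theorem normal_localization_tensor_left [Algebra.IsGeometricallyReduced k K]
    (q' : Ideal (K ⊗[k] S)) [q'.IsPrime] (q : Ideal S) [q.IsPrime]
    (hq : q'.comap (Algebra.TensorProduct.includeRight : S →ₐ[k] K ⊗[k] S).toRingHom = q)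
    [IsDomain (Localization.AtPrime q)] [IsIntegrallyClosed (Localization.AtPrime q)] :
    IsDomain (Localization.AtPrime q') ∧ IsIntegrallyClosed (Localization.AtPrime q') := by
  let e := Algebra.TensorProduct.comm k S K
  let I : Ideal (S ⊗[k] K) := q'.comap e.toRingEquiv
  haveI : I.IsPrime := Ideal.comap_isPrime _ _
  refine normal_of_ringEquiv e.toRingEquiv q' I rfl ?_
  refine normal_localization_tensor k S K I q ?_
  rw [← hq]
  ext x
  simp only [I, Ideal.mem_comap]
  rw [show e.toRingEquiv (algebraMap S (S ⊗[k] K) x) =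
    (Algebra.TensorProduct.includeRight : S →ₐ[k] K ⊗[k] S).toRingHom x from by
      simp [e, Algebra.TensorProduct.algebraMap_apply]]

end Groth.Agent.H8.SepBC
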