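import Mathlib
import Groth.Agent.Lib.Helper8.SepBaseChange
import Groth.Agent.S9634

/-!
# Geometric normality: testing on finite purely inseparable extensions suffices
-/

open TensorProduct

namespace Groth.Agent.H8.GNorm

universe u

open Groth.Agent.H8.NCol Groth.Agent.H8.SmNR Groth.Agent.H8.SepBC

/-- All local rings are integrally closed domains. -/
def NormalLoc (R : Type u) [CommRing R] : Prop :=
  ∀ (p : Ideal R) [p.IsPrime],
    IsDomain (Localization.AtPrime p) ∧ IsIntegrallyClosed (Localization.AtPrime p)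

theorem NormalLoc.of_ringEquiv {R R' : Type u} [CommRing R] [CommRing R'] (e : R ≃+* R')
    (h : NormalLoc R) : NormalLoc R' := fun q' _ => by
  haveI : (q'.comap e).IsPrime := Ideal.comap_isPrime _ _
  exact normal_of_ringEquiv e q' (q'.comap e) rfl (h _)

theorem NormalLoc.of_faithfullyFlat (R R' : Type u) [CommRing R] [CommRing R'] [Algebra R R']
    [Module.FaithfullyFlat R R'] (h : NormalLoc R') : NormalLoc R := fun p _ => by
  obtain ⟨q, hq, hqp⟩ := Ideal.exists_isPrime_liesOver_of_faithfullyFlat (B := R') p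
  obtain ⟨h1, h2⟩ := h q
  exact normal_localization_of_flat R R' q p

/-- over a perfect field, reduced algebras are geometrically reduced. (after helper5) -/
theorem isGeometricallyReduced_of_perfectField (k S : Type u) [Field k] [PerfectField k]
    [CommRing S] [Algebra k S] [IsReduced S] : Algebra.IsGeometricallyReduced k S := by
  refine ((Groth.Agent.S9634.result (k := k) (S := S)).out 0 1).mp ?_
  intro k' _ _ _ _
  haveI : Algebra.IsAlgebraic k k' := Algebra.IsAlgebraic.of_finite k k'
  haveI : Algebra.IsSeparable k k' := Algebra.IsAlgebraic.isSeparable_of_perfectField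
  have hbij : Function.Bijective (algebraMap k k') :=
    ⟨(algebraMap k k').injective, IsPurelyInseparable.surjective_algebraMap_of_isSeparable k k'⟩
  let e : k ≃ₐ[k] k' := AlgEquiv.ofBijective (Algebra.ofId k k') hbij
  let E : k' ⊗[k] S ≃ₐ[k] S :=
    (Algebra.TensorProduct.congr e.symm (AlgEquiv.refl (R := k) (A₁ := S))).trans
      (Algebra.TensorProduct.lid k S)
  exact isReduced_of_injective E.toRingEquiv.toRingHom E.injective

section Colim

variable (k A : Type u) [Field k] [CommRing A] [Algebra k A]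
variable (Ω : Type u) [Field Ω] [Algebra k Ω]

/-- finite-dimensional intermediate fields -/
abbrev FinSub : Type u := {F : IntermediateField k Ω // FiniteDimensional k F}

instance : Nonempty (FinSub k Ω) := ⟨⟨⊥, inferInstance⟩⟩

instance : IsDirected (FinSub k Ω) (· ≤ ·) := by
  refine ⟨fun F₁ F₂ => ?_⟩
  haveI := F₁.2
  haveI := F₂.2
  exact ⟨⟨F₁.1 ⊔ F₂.1, inferInstance⟩, le_sup_left (a := F₁.1), le_sup_right (b := F₂.1)⟩

noncomputable def fmapL (F : FinSub k Ω) : F.1 ⊗[k] A →ₐ[k] Ω ⊗[k] A :=
  Algebra.TensorProduct.map F.1.val (AlgHom.id k A)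

noncomputable def tmapL {F F' : FinSub k Ω} (h : F ≤ F') : F.1 ⊗[k] A →ₐ[k] F'.1 ⊗[k] A :=
  Algebra.TensorProduct.map (IntermediateField.inclusion h) (AlgHom.id k A)

theorem fmapL_tmapL {F F' : FinSub k Ω} (h : F ≤ F') (x : F.1 ⊗[k] A) :
    fmapL k A Ω F' (tmapL k A Ω h x) = fmapL k A Ω F x := by
  induction x with
  | zero => simp
  | add x y hx hy => rw [map_add, map_add, map_add, hx, hy]
  | tmul s a => simp [fmapL, tmapL]

theorem fmapL_injective (F : FinSub k Ω) : Function.Injective (fmapL k A Ω F) :=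
  Module.Flat.rTensor_preserves_injective_linearMap (M := A) F.1.val.toLinearMap
    Subtype.val_injective

theorem exists_mem_range_fmapL [Algebra.IsAlgebraic k Ω] (x : Ω ⊗[k] A) :
    ∃ F : FinSub k Ω, x ∈ Set.range (fmapL k A Ω F) := by
  classical
  obtain ⟨T, rfl⟩ := TensorProduct.exists_finset x
  let E : Set Ω := ↑(T.image Prod.fst)
  haveI : Finite E := Finset.finite_toSet _
  have hfd : FiniteDimensional k (IntermediateField.adjoin k E) :=
    IntermediateField.finiteDimensional_adjoin fun x _ => Algebra.IsIntegral.isIntegral x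
  refine ⟨⟨IntermediateField.adjoin k E, hfd⟩, ?_⟩
  have hmem : ∀ mn ∈ T, mn.1 ∈ IntermediateField.adjoin k E := fun mn hmn =>
    IntermediateField.subset_adjoin _ _ (by
      simp only [E, Finset.coe_image, Set.mem_image, Finset.mem_coe]
      exact ⟨mn, hmn, rfl⟩)
  refine ⟨∑ mn ∈ T.attach, (⟨mn.1.1, hmem mn.1 mn.2⟩ : IntermediateField.adjoin k E) ⊗ₜ[k] mn.1.2, ?_⟩
  rw [map_sum, ← Finset.sum_attach T]
  refine Finset.sum_congr rfl fun mn _ => ?_
  simp [fmapL]

/-- If `F ⊗ A` is normal for every finite subextension `F` of an algebraic extension `Ω/k`, then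
`Ω ⊗ A` is normal. -/
theorem normalLoc_tensor_of_finite_subextensions [Algebra.IsAlgebraic k Ω]
    (h : ∀ F : IntermediateField k Ω, FiniteDimensional k F → NormalLoc (F ⊗[k] A)) :
    NormalLoc (Ω ⊗[k] A) := fun q _ => by
  refine normal_localization_of_directed (ι := FinSub k Ω) (fun F => F.1 ⊗[k] A) (Ω ⊗[k] A)
    (fun F => (fmapL k A Ω F).toRingHom) (fun F F' h => (tmapL k A Ω h).toRingHom)
    (fun F F' h x => fmapL_tmapL k A Ω h x) (fun F => fmapL_injective k A Ω F)
    (fun x => exists_mem_range_fmapL k A Ω x) q fun F => ?_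
  haveI : (q.comap (fmapL k A Ω F).toRingHom).IsPrime := Ideal.comap_isPrime _ _
  exact h F.1 F.2 _

end Colim

/-- If `kp ⊗ A` is normal, `L/kp` is separable and `L` contains `K`, then `K ⊗ A` is normal. -/
theorem normalLoc_tensor_of_normalLoc_tensor (k A kp K L : Type u) [Field k] [CommRing A]
    [Algebra k A] [Field kp] [Algebra k kp] [Field K] [Algebra k K] [Field L] [Algebra k L]
    [Algebra kp L] [Algebra K L] [IsScalarTower k kp L] [IsScalarTower k K L]
    [Algebra.IsGeometricallyReduced kp L] (hA : NormalLoc (kp ⊗[k] A)) :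
    NormalLoc (K ⊗[k] A) := by
  have hB : NormalLoc (L ⊗[kp] (kp ⊗[k] A)) := fun q' _ => by
    let q : Ideal (kp ⊗[k] A) :=
      q'.comap (Algebra.TensorProduct.includeRight : (kp ⊗[k] A) →ₐ[kp] L ⊗[kp] (kp ⊗[k] A)).toRingHom
    haveI : q.IsPrime := Ideal.comap_isPrime _ _
    obtain ⟨h1, h2⟩ := hA q
    exact normal_localization_tensor_left kp (kp ⊗[k] A) L q' q rfl
  have h1 : NormalLoc (L ⊗[k] A) :=
    hB.of_ringEquiv (Algebra.TensorProduct.cancelBaseChange k kp L L A).toRingEquiv
  have h2 : NormalLoc (L ⊗[K] (K ⊗[k] A)) :=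
    h1.of_ringEquiv (Algebra.TensorProduct.cancelBaseChange k K L L A).symm.toRingEquiv
  have h3 : NormalLoc ((K ⊗[k] A) ⊗[K] L) :=
    h2.of_ringEquiv (Algebra.TensorProduct.comm K L (K ⊗[k] A)).toRingEquiv
  exact NormalLoc.of_faithfullyFlat (K ⊗[k] A) ((K ⊗[k] A) ⊗[K] L) h3

/-- the perfect closure of `k` in its algebraic closure -/
abbrev PerfCl (k : Type u) [Field k] : Type u := ↥(perfectClosure k (AlgebraicClosure k))

/-- If `k' ⊗ A` is normal for all finite purely inseparable extensions `k'/k`, then `K ⊗ A` is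
normal for every field extension `K/k`. -/
theorem normalLoc_tensor_of_forall_finite_purelyInseparable (k A : Type u) [Field k] [CommRing A]
    [Algebra k A]
    (H : ∀ (k' : Type u) [Field k'] [Algebra k k'], Module.Finite k k' → IsPurelyInseparable k k' →
      NormalLoc (k' ⊗[k] A))
    (K : Type u) [Field K] [Algebra k K] : NormalLoc (K ⊗[k] A) := by
  have hA : NormalLoc (PerfCl k ⊗[k] A) := by
    refine normalLoc_tensor_of_finite_subextensions k A (PerfCl k) fun F hF => ?_
    haveI : IsPurelyInseparable k F := IsPurelyInseparable.tower_bot k F (PerfCl k)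
    exact H F hF inferInstance
  let φ : PerfCl k →ₐ[k] AlgebraicClosure K := IsAlgClosed.lift
  letI : Algebra (PerfCl k) (AlgebraicClosure K) := φ.toRingHom.toAlgebra
  haveI : IsScalarTower k (PerfCl k) (AlgebraicClosure K) :=
    IsScalarTower.of_algebraMap_eq fun x => (φ.commutes x).symm
  haveI : Algebra.IsGeometricallyReduced (PerfCl k) (AlgebraicClosure K) :=
    isGeometricallyReduced_of_perfectField (PerfCl k) (AlgebraicClosure K)
  exact normalLoc_tensor_of_normalLoc_tensor k A (PerfCl k) K (AlgebraicClosure K) hA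

/-- Descent of normality along a field extension `K → L`. -/
theorem normalLoc_tensor_descent (k A K L : Type u) [Field k] [CommRing A]
    [Algebra k A] [Field K] [Algebra k K] [Field L] [Algebra k L]
    [Algebra K L] [IsScalarTower k K L] (h1 : NormalLoc (L ⊗[k] A)) :
    NormalLoc (K ⊗[k] A) := by
  have h2 : NormalLoc (L ⊗[K] (K ⊗[k] A)) :=
    h1.of_ringEquiv (Algebra.TensorProduct.cancelBaseChange k K L L A).symm.toRingEquiv
  have h3 : NormalLoc ((K ⊗[k] A) ⊗[K] L) :=
    h2.of_ringEquiv (Algebra.TensorProduct.comm K L (K ⊗[k] A)).toRingEquiv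
  exact NormalLoc.of_faithfullyFlat (K ⊗[k] A) ((K ⊗[k] A) ⊗[K] L) h3

/-- `K' ⊗[K] (K ⊗[k] A)` is normal iff `K' ⊗[k] A` is. -/
theorem normalLoc_tensor_tensor_iff (k A K L : Type u) [Field k] [CommRing A]
    [Algebra k A] [Field K] [Algebra k K] [Field L] [Algebra k L]
    [Algebra K L] [IsScalarTower k K L] :
    NormalLoc (L ⊗[K] (K ⊗[k] A)) ↔ NormalLoc (L ⊗[k] A) :=
  ⟨fun h => h.of_ringEquiv (Algebra.TensorProduct.cancelBaseChange k K L L A).toRingEquiv,
    fun h => h.of_ringEquiv (Algebra.TensorProduct.cancelBaseChange k K L L A).symm.toRingEquiv⟩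

/-- Two field extensions of `k` embed in a common one which is finite over the first if the second
is finite over `k`. -/
theorem exists_compositum (k K k' : Type u) [Field k] [Field K] [Algebra k K] [Field k']
    [Algebra k k'] [Module.Finite k k'] :
    ∃ (K' : Type u) (_ : Field K') (_ : Algebra K K') (_ : Algebra k' K') (_ : Algebra k K')
      (_ : IsScalarTower k K K') (_ : IsScalarTower k k' K'), Module.Finite K K' := by
  obtain ⟨m, hm⟩ := Ideal.exists_maximal (K ⊗[k] k')
  letI : Field ((K ⊗[k] k') ⧸ m) := Ideal.Quotient.field m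
  letI : Algebra k' ((K ⊗[k] k') ⧸ m) :=
    ((Ideal.Quotient.mk m).comp
      (Algebra.TensorProduct.includeRight : k' →ₐ[k] K ⊗[k] k').toRingHom).toAlgebra
  refine ⟨(K ⊗[k] k') ⧸ m, inferInstance, inferInstance, inferInstance, inferInstance,
    inferInstance, ?_, inferInstance⟩
  refine IsScalarTower.of_algebraMap_eq fun x => ?_
  show _ = (Ideal.Quotient.mk m)
    ((Algebra.TensorProduct.includeRight : k' →ₐ[k] K ⊗[k] k') (algebraMap k k' x))
  rw [AlgHom.commutes]
  rfl

end Groth.Agent.H8.GNorm
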