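import Mathlib
import Groth.Agent.Lib.Helper8.GeomNormal
import Groth.Agent.Lib.Helper6.FlatNormal

/-!
# Ascent of normality along flat maps with normal fibres (Noetherian case), fibre-ring form
-/

open TensorProduct

namespace Groth.Agent.H8.NAsc

universe u

open Groth.Agent.H8.GNorm Groth.Agent.H6

theorem fibLocRing_congr {A B : Type u} [CommRing A] [CommRing B] [Algebra A B]
    (r r' : Ideal B) [r.IsPrime] [r'.IsPrime] (h : r' = r)
    (H : IsDomain (EGA4.FibLocRing A B r') ∧ IsIntegrallyClosed (EGA4.FibLocRing A B r')) :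
    IsDomain (EGA4.FibLocRing A B r) ∧ IsIntegrallyClosed (EGA4.FibLocRing A B r) := by
  subst h
  exact H

/-- If all fibre rings of `A → B` are normal, then all fibre local rings are normal domains. -/
theorem fibLocRing_normal (A B : Type u) [CommRing A] [CommRing B] [Algebra A B]
    (hfib : ∀ (p : Ideal A) [p.IsPrime], NormalLoc (p.Fiber B)) (r : Ideal B) [r.IsPrime] :
    IsDomain (EGA4.FibLocRing A B r) ∧ IsIntegrallyClosed (EGA4.FibLocRing A B r) := by
  haveI : (r.comap (algebraMap A B)).IsPrime := Ideal.comap_isPrime _ _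
  obtain ⟨P, hP, hPr⟩ := FiberDict.exists_under_eq (r.comap (algebraMap A B)) r rfl
  obtain ⟨h1, h2⟩ := hfib (r.comap (algebraMap A B)) P
  let e := FiberDict.ringEquiv (r.comap (algebraMap A B)) P
  refine fibLocRing_congr r _ hPr ⟨e.symm.toMulEquiv.isDomain _,
    @IsIntegrallyClosed.of_equiv (Localization.AtPrime P) _ _ _ e h2⟩

/-- Ascent of normality along a flat map of Noetherian rings with normal fibre rings. -/
theorem normalLoc_of_flat_of_fibres (A B : Type u) [CommRing A] [CommRing B] [IsNoetherianRing A]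
    [IsNoetherianRing B] [Algebra A B] [Module.Flat A B]
    (hfib : ∀ (p : Ideal A) [p.IsPrime], NormalLoc (p.Fiber B)) (hA : NormalLoc A) :
    NormalLoc B := fun q _ => by
  haveI : (q.comap (algebraMap A B)).IsPrime := Ideal.comap_isPrime _ _
  obtain ⟨h1, h2⟩ := hA (q.comap (algebraMap A B))
  exact FlatNormal.normal_localization A B (fun r _ => fibLocRing_normal A B hfib r) q

/-- `S ⊗ T` is normal if `S` is normal and `T` is geometrically normal (Noetherian case). -/
theorem normalLoc_tensor_of_geomNormal (k S T : Type u) [Field k] [CommRing S] [CommRing T]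
    [Algebra k S] [Algebra k T] [IsNoetherianRing S] [IsNoetherianRing (S ⊗[k] T)]
    (hS : NormalLoc S)
    (hT : ∀ (k' : Type u) [Field k'] [Algebra k k'], Module.Finite k k' → NormalLoc (k' ⊗[k] T)) :
    NormalLoc (S ⊗[k] T) := by
  refine normalLoc_of_flat_of_fibres S (S ⊗[k] T) (fun r _ => ?_) hS
  have h1 : NormalLoc (r.ResidueField ⊗[k] T) :=
    normalLoc_tensor_of_forall_finite_purelyInseparable k T (fun k' _ _ h1 _ => hT k' h1)
      r.ResidueField
  exact NormalLoc.of_ringEquiv
    (Algebra.TensorProduct.cancelBaseChange k S r.ResidueField r.ResidueField T).symm.toRingEquiv h1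

theorem isNoetherianRing_tensor_finite (k k' R : Type u) [Field k] [Field k'] [Algebra k k']
    [Module.Finite k k'] [CommRing R] [Algebra k R] [IsNoetherianRing R] :
    IsNoetherianRing (k' ⊗[k] R) := by
  haveI : IsNoetherianRing (R ⊗[k] k') := Algebra.FiniteType.isNoetherianRing R (R ⊗[k] k')
  exact isNoetherianRing_of_ringEquiv _ (Algebra.TensorProduct.comm k R k').toRingEquiv

/-- geometric normality of tensor products -/
theorem geomNormal_tensor (k S T : Type u) [Field k] [CommRing S] [CommRing T]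
    [Algebra k S] [Algebra k T] [IsNoetherianRing S] [IsNoetherianRing (S ⊗[k] T)]
    (hS : ∀ (k' : Type u) [Field k'] [Algebra k k'], Module.Finite k k' → NormalLoc (k' ⊗[k] S))
    (hT : ∀ (k' : Type u) [Field k'] [Algebra k k'], Module.Finite k k' → NormalLoc (k' ⊗[k] T))
    (k' : Type u) [Field k'] [Algebra k k'] (hfin : Module.Finite k k') :
    NormalLoc (k' ⊗[k] (S ⊗[k] T)) := by
  haveI := hfin
  haveI : IsNoetherianRing (k' ⊗[k] S) := isNoetherianRing_tensor_finite k k' S
  haveI : IsNoetherianRing (k' ⊗[k] (S ⊗[k] T)) := isNoetherianRing_tensor_finite k k' (S ⊗[k] T)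
  let e : (k' ⊗[k] S) ⊗[k] T ≃ₐ[k] k' ⊗[k] (S ⊗[k] T) := Algebra.TensorProduct.assoc k k k k' S T
  haveI : IsNoetherianRing ((k' ⊗[k] S) ⊗[k] T) :=
    isNoetherianRing_of_ringEquiv _ e.symm.toRingEquiv
  exact NormalLoc.of_ringEquiv e.toRingEquiv
    (normalLoc_tensor_of_geomNormal k (k' ⊗[k] S) T (hS k' hfin) hT)

end Groth.Agent.H8.NAsc
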