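import Mathlib
import Groth.Agent.Lib.Helper8.NormalAscent
import Groth.Agent.Lib.Helper1.FlatSource

/-!
# Composition and descent of normal homomorphisms
-/

open TensorProduct

namespace Groth.Agent.H8.NHC

universe u

open Groth.Agent.H8.GNorm Groth.Agent.H8.NAsc Groth.Agent.H6

/-- the hypothesis "geometrically normal fibres" in `NormalLoc` form -/
def GeomNormalFibres (B C : Type u) [CommRing B] [CommRing C] [Algebra B C] : Prop :=
  ∀ (q : Ideal B) [q.IsPrime] (k' : Type u) [Field k'] [Algebra q.ResidueField k'],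
    Module.Finite q.ResidueField k' → NormalLoc (k' ⊗[q.ResidueField] q.Fiber C)

/-- `K ⊗[B] C` is normal for a field `K` over `B`, when `B → C` has geometrically normal fibres. -/
theorem normalLoc_tensor_field (B C : Type u) [CommRing B] [CommRing C] [Algebra B C]
    (hfib : GeomNormalFibres B C) (K : Type u) [Field K] [Algebra B K] : NormalLoc (K ⊗[B] C) := by
  let p : Ideal B := RingHom.ker (algebraMap B K)
  haveI : p.IsPrime := RingHom.ker_isPrime _
  have hunits : p.primeCompl ≤ (IsUnit.submonoid K).comap (algebraMap B K) := by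
    intro a ha
    show IsUnit (algebraMap B K a)
    exact IsUnit.mk0 _ ha
  let φ : p.ResidueField →+* K := Ideal.ResidueField.lift p (algebraMap B K) le_rfl hunits
  letI : Algebra p.ResidueField K := φ.toAlgebra
  haveI : IsScalarTower B p.ResidueField K := IsScalarTower.of_algebraMap_eq fun a =>
    (Ideal.ResidueField.lift_algebraMap p (algebraMap B K) le_rfl hunits a).symm
  have h1 : NormalLoc (K ⊗[p.ResidueField] p.Fiber C) :=
    normalLoc_tensor_of_forall_finite_purelyInseparable p.ResidueField (p.Fiber C)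
      (fun k' _ _ h1 _ => hfib p k' h1) K
  exact NormalLoc.of_ringEquiv
    (Algebra.TensorProduct.cancelBaseChange B p.ResidueField K K C).toRingEquiv h1

/-- Base change of a normal Noetherian ring along a map with geometrically normal fibres. -/
theorem normalLoc_baseChange (B C R : Type u) [CommRing B] [CommRing C] [Algebra B C]
    [Module.Flat B C] [CommRing R] [Algebra B R] [IsNoetherianRing R]
    [IsNoetherianRing (R ⊗[B] C)] (hfib : GeomNormalFibres B C) (hR : NormalLoc R) :
    NormalLoc (R ⊗[B] C) := by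
  refine normalLoc_of_flat_of_fibres R (R ⊗[B] C) (fun r _ => ?_) hR
  have h1 : NormalLoc (r.ResidueField ⊗[B] C) := normalLoc_tensor_field B C hfib r.ResidueField
  exact NormalLoc.of_ringEquiv
    (Algebra.TensorProduct.cancelBaseChange B R r.ResidueField r.ResidueField C).symm.toRingEquiv h1

section Iso

variable (A B C : Type u) [CommRing A] [CommRing B] [CommRing C] [Algebra A B] [Algebra B C]
  [Algebra A C] [IsScalarTower A B C] (p : Ideal A) [p.IsPrime]
  (K : Type u) [Field K] [Algebra p.ResidueField K] [Algebra A K] [IsScalarTower A p.ResidueField K]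

/-- `K ⊗_{k(p)} (fibre of B) ≃ B ⊗_A K` -/
noncomputable def isoB : K ⊗[p.ResidueField] p.Fiber B ≃+* B ⊗[A] K :=
  (Algebra.TensorProduct.cancelBaseChange A p.ResidueField K K B).toRingEquiv.trans
    (Algebra.TensorProduct.comm A K B).toRingEquiv

/-- `(B ⊗_A K) ⊗_B C ≃ K ⊗_{k(p)} (fibre of C)` -/
noncomputable def isoC : (B ⊗[A] K) ⊗[B] C ≃+* K ⊗[p.ResidueField] p.Fiber C :=
  (Algebra.TensorProduct.comm B (B ⊗[A] K) C).toRingEquiv.trans <|
    (Algebra.TensorProduct.cancelBaseChange A B C C K).toRingEquiv.trans <|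
      (Algebra.TensorProduct.comm A C K).toRingEquiv.trans
        (Algebra.TensorProduct.cancelBaseChange A p.ResidueField K K C).symm.toRingEquiv

end Iso

variable (A B C : Type u) [CommRing A] [CommRing B] [CommRing C] [Algebra A B] [Algebra B C]
  [Algebra A C] [IsScalarTower A B C]

theorem geomNormalFibres_comp [IsNoetherianRing B] [IsNoetherianRing C] [Module.Flat B C]
    (hAB : GeomNormalFibres A B) (hBC : GeomNormalFibres B C) : GeomNormalFibres A C := by
  intro p _ K _ _ hfin
  haveI := hfin
  letI : Algebra A K := ((algebraMap p.ResidueField K).comp (algebraMap A p.ResidueField)).toAlgebra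
  haveI : IsScalarTower A p.ResidueField K := IsScalarTower.of_algebraMap_eq fun _ => rfl
  have hR : NormalLoc (B ⊗[A] K) := NormalLoc.of_ringEquiv (isoB A B p K) (hAB p K hfin)
  haveI : IsNoetherianRing (p.Fiber B) := FiberDict.isNoetherianRing_fiber p
  haveI : IsNoetherianRing (p.Fiber C) := FiberDict.isNoetherianRing_fiber p
  haveI : IsNoetherianRing (K ⊗[p.ResidueField] p.Fiber B) :=
    isNoetherianRing_tensor_finite p.ResidueField K (p.Fiber B)
  haveI : IsNoetherianRing (K ⊗[p.ResidueField] p.Fiber C) :=
    isNoetherianRing_tensor_finite p.ResidueField K (p.Fiber C)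
  haveI : IsNoetherianRing (B ⊗[A] K) := isNoetherianRing_of_ringEquiv _ (isoB A B p K)
  haveI : IsNoetherianRing ((B ⊗[A] K) ⊗[B] C) :=
    isNoetherianRing_of_ringEquiv _ (isoC A B C p K).symm
  exact NormalLoc.of_ringEquiv (isoC A B C p K) (normalLoc_baseChange B C (B ⊗[A] K) hBC hR)

theorem geomNormalFibres_of_comp [Module.FaithfullyFlat B C]
    (hAC : GeomNormalFibres A C) : GeomNormalFibres A B := by
  intro p _ K _ _ hfin
  haveI := hfin
  letI : Algebra A K := ((algebraMap p.ResidueField K).comp (algebraMap A p.ResidueField)).toAlgebra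
  haveI : IsScalarTower A p.ResidueField K := IsScalarTower.of_algebraMap_eq fun _ => rfl
  have h1 : NormalLoc ((B ⊗[A] K) ⊗[B] C) :=
    NormalLoc.of_ringEquiv (isoC A B C p K).symm (hAC p K hfin)
  have h2 : NormalLoc (B ⊗[A] K) := NormalLoc.of_faithfullyFlat (B ⊗[A] K) ((B ⊗[A] K) ⊗[B] C) h1
  exact NormalLoc.of_ringEquiv (isoB A B p K).symm h2

end Groth.Agent.H8.NHC
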