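import Mathlib
import Groth.Agent.Lib.Helper8.GeomNormal

/-!
# Reducedness of base change along a flat map with geometrically normal fibres
-/

open TensorProduct

namespace Groth.Agent.H8.NHR

universe u

open Groth.Agent.H8.GNorm

/-- a finite jointly injective family of maps stays jointly injective after a flat base change -/
theorem eq_zero_of_forall_lTensor_eq_zero {A : Type*} [CommRing A] (M : Type*) [AddCommGroup M]
    [Module A M] [Module.Flat A M] {ι : Type*} [Finite ι] (B : Type*) [AddCommGroup B] [Module A B]
    (K : ι → Type*) [∀ i, AddCommGroup (K i)] [∀ i, Module A (K i)]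
    (f : ∀ i, B →ₗ[A] K i) (hf : ∀ b, (∀ i, f i b = 0) → b = 0) (z : M ⊗[A] B)
    (hz : ∀ i, LinearMap.lTensor M (f i) z = 0) : z = 0 := by
  classical
  cases nonempty_fintype ι
  let F : B →ₗ[A] ∀ i, K i := LinearMap.pi f
  have hF : Function.Injective F := by
    rw [injective_iff_map_eq_zero]
    intro b hb
    exact hf b fun i => congrFun hb i
  have hFt : Function.Injective (LinearMap.lTensor M F) :=
    Module.Flat.lTensor_preserves_injective_linearMap F hF
  have hnat : ∀ z : M ⊗[A] B, TensorProduct.piRight A A M K (LinearMap.lTensor M F z) =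
      fun i => LinearMap.lTensor M (f i) z := by
    intro z
    induction z with
    | zero => simp; rfl
    | add x y hx hy =>
      rw [map_add, map_add, hx, hy]
      funext i
      simp
    | tmul m b =>
      funext i
      simp [F]
  apply hFt
  rw [map_zero]
  apply (TensorProduct.piRight A A M K).injective
  rw [hnat, map_zero]
  funext i
  exact hz i

theorem NormalLoc.isReduced {R : Type u} [CommRing R] (h : NormalLoc R) : IsReduced R :=
  isReduced_ofLocalizationMaximal R fun m hm => by
    haveI := hm.isPrime
    obtain ⟨h1, _⟩ := h m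
    infer_instance

/-- If `A' ⊗ K` is reduced for every field `K` over `A` (with `A'` flat over Noetherian `A`), then
`A' ⊗ B` is reduced for every reduced `A`-algebra `B`. -/
theorem isReduced_tensor_of_fields (A A' : Type u) [CommRing A] [CommRing A'] [Algebra A A']
    [IsNoetherianRing A] [Module.Flat A A']
    (hK : ∀ (K : Type u) [Field K] [Algebra A K], IsReduced (A' ⊗[A] K))
    (B : Type u) [CommRing B] [Algebra A B] [IsReduced B] : IsReduced (A' ⊗[A] B) := by
  refine IsReduced.tensorProduct_of_flat_of_forall_fg fun B₀ hB₀ => ?_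
  haveI : IsReduced B₀ := isReduced_of_injective B₀.val Subtype.val_injective
  haveI : Algebra.FiniteType A B₀ := (Subalgebra.fg_iff_finiteType B₀).mp hB₀
  haveI : IsNoetherianRing B₀ := Algebra.FiniteType.isNoetherianRing A B₀
  haveI : Finite (minimalPrimes B₀) := (minimalPrimes.finite_of_isNoetherianRing B₀).to_subtype
  haveI hprime : ∀ i : minimalPrimes B₀, i.1.IsPrime := fun i => i.2.1.1
  let K : minimalPrimes B₀ → Type u := fun i => FractionRing (B₀ ⧸ i.1)
  let f : ∀ i, B₀ →ₐ[A] K i := fun i =>
    (IsScalarTower.toAlgHom A (B₀ ⧸ i.1) (K i)).comp (Ideal.Quotient.mkₐ A i.1)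
  have hf : ∀ b : B₀, (∀ i, (f i).toLinearMap b = 0) → b = 0 := by
    intro b hb
    have h1 : b ∈ nilradical B₀ := by
      rw [nilradical, ← Ideal.sInf_minimalPrimes, Ideal.mem_sInf]
      intro p hp
      have h2 := hb ⟨p, hp⟩
      have h3 : algebraMap (B₀ ⧸ p) (FractionRing (B₀ ⧸ p)) (Ideal.Quotient.mk p b) = 0 := h2
      rw [map_eq_zero_iff _ (IsFractionRing.injective _ _)] at h3
      exact Ideal.Quotient.eq_zero_iff_mem.mp h3
    rw [nilradical_eq_zero] at h1
    exact h1
  constructor
  intro z hz
  refine eq_zero_of_forall_lTensor_eq_zero A' B₀ K (fun i => (f i).toLinearMap) hf z fun i => ?_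
  haveI := hK (K i)
  have h4 : IsNilpotent (Algebra.TensorProduct.map (AlgHom.id A A') (f i) z) := hz.map _
  exact h4.eq_zero

/-- The base change of a flat map with geometrically normal fibres to a field is reduced. -/
theorem isReduced_tensor_field (A A' : Type u) [CommRing A] [CommRing A'] [Algebra A A']
    (hfib : ∀ (p : Ideal A) [p.IsPrime] (k' : Type u) [Field k'] [Algebra p.ResidueField k'],
      Module.Finite p.ResidueField k' → NormalLoc (k' ⊗[p.ResidueField] p.Fiber A'))
    (K : Type u) [Field K] [Algebra A K] : IsReduced (A' ⊗[A] K) := by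
  let p : Ideal A := RingHom.ker (algebraMap A K)
  haveI : p.IsPrime := RingHom.ker_isPrime _
  have hunits : p.primeCompl ≤ (IsUnit.submonoid K).comap (algebraMap A K) := by
    intro a ha
    show IsUnit (algebraMap A K a)
    exact IsUnit.mk0 _ ha
  let φ : p.ResidueField →+* K := Ideal.ResidueField.lift p (algebraMap A K) le_rfl hunits
  letI : Algebra p.ResidueField K := φ.toAlgebra
  haveI : IsScalarTower A p.ResidueField K := IsScalarTower.of_algebraMap_eq fun a =>
    (Ideal.ResidueField.lift_algebraMap p (algebraMap A K) le_rfl hunits a).symm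
  have h1 : NormalLoc (K ⊗[p.ResidueField] p.Fiber A') :=
    normalLoc_tensor_of_forall_finite_purelyInseparable p.ResidueField (p.Fiber A')
      (fun k' _ _ h1 _ => hfib p k' h1) K
  haveI := NormalLoc.isReduced h1
  let e1 : K ⊗[p.ResidueField] (p.ResidueField ⊗[A] A') ≃ₐ[K] K ⊗[A] A' :=
    Algebra.TensorProduct.cancelBaseChange A p.ResidueField K K A'
  let e2 : A' ⊗[A] K ≃ₐ[A] K ⊗[A] A' := Algebra.TensorProduct.comm A A' K
  haveI : IsReduced (K ⊗[A] A') := isReduced_of_injective e1.symm.toRingEquiv.toRingHom e1.symm.injective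
  exact isReduced_of_injective e2.toRingEquiv.toRingHom e2.injective

end Groth.Agent.H8.NHR
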