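import Mathlib
import Groth.Agent.Lib.Helper8.NormalHomComp
import Groth.Agent.Lib.Helper8.NormalHomReduced

/-!
# Composition and descent of maps with geometrically reduced fibres
-/

open TensorProduct

namespace Groth.Agent.H8.RHC

universe u

open Groth.Agent.H8.GNorm Groth.Agent.H8.NHC Groth.Agent.H8.NHR

theorem isReduced_tensor_of_isGeometricallyReduced (k S : Type u) [Field k] [CommRing S]
    [Algebra k S] [Algebra.IsGeometricallyReduced k S] (K : Type u) [Field K] [Algebra k K] :
    IsReduced (K ⊗[k] S) := by
  have h := (Groth.Agent.S9634.result (k := k) (S := S)).out 1 2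
  exact h.mp inferInstance K

/-- geometrically reduced fibres -/
def GeomReducedFibres (B C : Type u) [CommRing B] [CommRing C] [Algebra B C] : Prop :=
  ∀ (q : Ideal B) [q.IsPrime], Algebra.IsGeometricallyReduced q.ResidueField (q.Fiber C)

/-- `K ⊗[B] C` is reduced for a field `K` over `B`, when `B → C` has geometrically reduced
fibres. -/
theorem isReduced_tensor_field_of_geomReduced (B C : Type u) [CommRing B] [CommRing C]
    [Algebra B C] (hfib : GeomReducedFibres B C) (K : Type u) [Field K] [Algebra B K] :
    IsReduced (K ⊗[B] C) := by
  let p : Ideal B := RingHom.ker (algebraMap B K)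
  haveI : p.IsPrime := RingHom.ker_isPrime _
  have hunits : p.primeCompl ≤ (IsUnit.submonoid K).comap (algebraMap B K) := by
    intro a ha
    show IsUnit (algebraMap B K a)
    exact IsUnit.mk0 _ ha
  let φ : p.ResidueField →+* K := Ideal.ResidueField.lift p (algebraMap B K) le_rfl hunits
  letI : Algebra p.ResidueField K := φ.toAlgebra
  haveI : IsScalarTower B p.ResidueField K := IsScalarTower.of_algebraMap_eq fun a =>
    (Ideal.ResidueField.lift_algebraMap p (algebraMap B K) le_rfl hunits a).symm
  haveI := hfib p
  have h1 : IsReduced (K ⊗[p.ResidueField] p.Fiber C) :=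
    isReduced_tensor_of_isGeometricallyReduced p.ResidueField (p.Fiber C) K
  let e := Algebra.TensorProduct.cancelBaseChange B p.ResidueField K K C
  exact isReduced_of_injective e.symm.toRingEquiv.toRingHom e.symm.injective

theorem isReduced_tensor_field_of_geomReduced' (B C : Type u) [CommRing B] [CommRing C]
    [Algebra B C] (hfib : GeomReducedFibres B C) (K : Type u) [Field K] [Algebra B K] :
    IsReduced (C ⊗[B] K) := by
  haveI := isReduced_tensor_field_of_geomReduced B C hfib K
  let e := Algebra.TensorProduct.comm B C K
  exact isReduced_of_injective e.toRingEquiv.toRingHom e.injective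

/-- Base change of a reduced ring along a flat map (from a Noetherian ring) with geometrically
reduced fibres is reduced. -/
theorem isReduced_baseChange (B C R : Type u) [CommRing B] [CommRing C] [Algebra B C]
    [IsNoetherianRing B] [Module.Flat B C] [CommRing R] [Algebra B R] [IsReduced R]
    (hfib : GeomReducedFibres B C) : IsReduced (R ⊗[B] C) := by
  haveI : IsReduced (C ⊗[B] R) := isReduced_tensor_of_fields B C
    (fun K _ _ => isReduced_tensor_field_of_geomReduced' B C hfib K) R
  let e := Algebra.TensorProduct.comm B R C
  exact isReduced_of_injective e.toRingEquiv.toRingHom e.injective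

variable (A B C : Type u) [CommRing A] [CommRing B] [CommRing C] [Algebra A B] [Algebra B C]
  [Algebra A C] [IsScalarTower A B C]

theorem isGeometricallyReduced_of_forall_field (k S : Type u) [Field k] [CommRing S] [Algebra k S]
    (h : ∀ (K : Type u) [Field K] [Algebra k K], IsReduced (K ⊗[k] S)) :
    Algebra.IsGeometricallyReduced k S := by
  have h' := (Groth.Agent.S9634.result (k := k) (S := S)).out 2 1
  exact h'.mp h

theorem geomReducedFibres_comp [IsNoetherianRing B] [Module.Flat B C]
    (hAB : GeomReducedFibres A B) (hBC : GeomReducedFibres B C) : GeomReducedFibres A C := by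
  intro p _
  refine isGeometricallyReduced_of_forall_field _ _ fun K _ _ => ?_
  letI : Algebra A K := ((algebraMap p.ResidueField K).comp (algebraMap A p.ResidueField)).toAlgebra
  haveI : IsScalarTower A p.ResidueField K := IsScalarTower.of_algebraMap_eq fun _ => rfl
  haveI := hAB p
  have h1 : IsReduced (K ⊗[p.ResidueField] p.Fiber B) :=
    isReduced_tensor_of_isGeometricallyReduced p.ResidueField (p.Fiber B) K
  haveI : IsReduced (B ⊗[A] K) :=
    isReduced_of_injective (isoB A B p K).symm.toRingHom (isoB A B p K).symm.injective
  haveI : IsReduced ((B ⊗[A] K) ⊗[B] C) := isReduced_baseChange B C (B ⊗[A] K) hBC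
  exact isReduced_of_injective (isoC A B C p K).symm.toRingHom (isoC A B C p K).symm.injective

theorem geomReducedFibres_of_comp [Module.FaithfullyFlat B C]
    (hAC : GeomReducedFibres A C) : GeomReducedFibres A B := by
  intro p _
  refine isGeometricallyReduced_of_forall_field _ _ fun K _ _ => ?_
  letI : Algebra A K := ((algebraMap p.ResidueField K).comp (algebraMap A p.ResidueField)).toAlgebra
  haveI : IsScalarTower A p.ResidueField K := IsScalarTower.of_algebraMap_eq fun _ => rfl
  haveI := hAC p
  have h1 : IsReduced (K ⊗[p.ResidueField] p.Fiber C) :=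
    isReduced_tensor_of_isGeometricallyReduced p.ResidueField (p.Fiber C) K
  haveI : IsReduced ((B ⊗[A] K) ⊗[B] C) :=
    isReduced_of_injective (isoC A B C p K).toRingHom (isoC A B C p K).injective
  haveI : IsReduced (B ⊗[A] K) :=
    isReduced_of_injective (algebraMap (B ⊗[A] K) ((B ⊗[A] K) ⊗[B] C))
      (FaithfulSMul.algebraMap_injective _ _)
  exact isReduced_of_injective (isoB A B p K).toRingHom (isoB A B p K).injective

end Groth.Agent.H8.RHC
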