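import Mathlib
import Groth.Agent.Lib.Helper8.NormalHomComp

/-!
# Base change of normal homomorphisms
-/

open TensorProduct

namespace Groth.Agent.H8.NHB

universe u

open Groth.Agent.H8.GNorm Groth.Agent.H8.NHC

/-- Descent of normality along a field extension `K → L`, over a base ring. -/
theorem normalLoc_tensor_descent' (A B K L : Type u) [CommRing A] [CommRing B]
    [Algebra A B] [Field K] [Algebra A K] [Field L] [Algebra A L]
    [Algebra K L] [IsScalarTower A K L] (h1 : NormalLoc (L ⊗[A] B)) :
    NormalLoc (K ⊗[A] B) := by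
  have h2 : NormalLoc (L ⊗[K] (K ⊗[A] B)) :=
    h1.of_ringEquiv (Algebra.TensorProduct.cancelBaseChange A K L L B).symm.toRingEquiv
  have h3 : NormalLoc ((K ⊗[A] B) ⊗[K] L) :=
    h2.of_ringEquiv (Algebra.TensorProduct.comm K L (K ⊗[A] B)).toRingEquiv
  exact NormalLoc.of_faithfullyFlat (K ⊗[A] B) ((K ⊗[A] B) ⊗[K] L) h3

section

variable (A B A' : Type u) [CommRing A] [CommRing B] [CommRing A'] [Algebra A B] [Algebra A A']

/-- the fibre of the base change, tensored up to a field -/
noncomputable def isoBC (p' : Ideal A') [p'.IsPrime] (K : Type u) [Field K]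
    [Algebra p'.ResidueField K] [Algebra A' K] [IsScalarTower A' p'.ResidueField K] [Algebra A K]
    [IsScalarTower A A' K] :
    K ⊗[p'.ResidueField] p'.Fiber (A' ⊗[A] B) ≃+* K ⊗[A] B :=
  (Algebra.TensorProduct.cancelBaseChange A' p'.ResidueField K K (A' ⊗[A] B)).toRingEquiv.trans
    (Algebra.TensorProduct.cancelBaseChange A A' K K B).toRingEquiv

/-- the fibre, tensored up to a field -/
noncomputable def isoF (p : Ideal A) [p.IsPrime] (K : Type u) [Field K]
    [Algebra p.ResidueField K] [Algebra A K] [IsScalarTower A p.ResidueField K] :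
    K ⊗[p.ResidueField] p.Fiber B ≃+* K ⊗[A] B :=
  (Algebra.TensorProduct.cancelBaseChange A p.ResidueField K K B).toRingEquiv

theorem geomNormalFibres_baseChange (h : GeomNormalFibres A B) :
    GeomNormalFibres A' (A' ⊗[A] B) := by
  intro p' _ K _ _ hfin
  letI : Algebra A' K :=
    ((algebraMap p'.ResidueField K).comp (algebraMap A' p'.ResidueField)).toAlgebra
  haveI : IsScalarTower A' p'.ResidueField K := IsScalarTower.of_algebraMap_eq fun _ => rfl
  letI : Algebra A K := ((algebraMap A' K).comp (algebraMap A A')).toAlgebra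
  haveI : IsScalarTower A A' K := IsScalarTower.of_algebraMap_eq fun _ => rfl
  exact NormalLoc.of_ringEquiv (isoBC A B A' p' K).symm (normalLoc_tensor_field A B h K)

end

section

variable (A B A' : Type u) [CommRing A] [CommRing B] [CommRing A'] [Algebra A B] [Algebra A A']

theorem geomNormalFibres_of_baseChange [Module.FaithfullyFlat A A']
    (h : GeomNormalFibres A' (A' ⊗[A] B)) : GeomNormalFibres A B := by
  intro p _ K _ _ hfin
  haveI := hfin
  obtain ⟨p', hp', hlies⟩ := Ideal.exists_isPrime_liesOver_of_faithfullyFlat (B := A') p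
  let ρ : p.ResidueField →+* p'.ResidueField :=
    Ideal.ResidueField.map p p' (algebraMap A A') hlies.over
  letI : Algebra p.ResidueField p'.ResidueField := ρ.toAlgebra
  obtain ⟨K', _, _, _, _, hT1, hT2, hK'⟩ := exists_compositum p.ResidueField p'.ResidueField K
  letI : Algebra A' K' :=
    ((algebraMap p'.ResidueField K').comp (algebraMap A' p'.ResidueField)).toAlgebra
  haveI : IsScalarTower A' p'.ResidueField K' := IsScalarTower.of_algebraMap_eq fun _ => rfl
  letI : Algebra A K' := ((algebraMap A' K').comp (algebraMap A A')).toAlgebra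
  haveI : IsScalarTower A A' K' := IsScalarTower.of_algebraMap_eq fun _ => rfl
  letI : Algebra A K := ((algebraMap p.ResidueField K).comp (algebraMap A p.ResidueField)).toAlgebra
  haveI : IsScalarTower A p.ResidueField K := IsScalarTower.of_algebraMap_eq fun _ => rfl
  haveI : IsScalarTower A K K' := by
    refine IsScalarTower.of_algebraMap_eq fun a => ?_
    show algebraMap p'.ResidueField K' (algebraMap A' p'.ResidueField (algebraMap A A' a)) =
      algebraMap K K' (algebraMap p.ResidueField K (algebraMap A p.ResidueField a))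
    rw [← IsScalarTower.algebraMap_apply p.ResidueField K K',
      IsScalarTower.algebraMap_apply p.ResidueField p'.ResidueField K']
    congr 1
    exact (Ideal.ResidueField.map_algebraMap p p' (algebraMap A A') hlies.over a).symm
  have h1 : NormalLoc (K' ⊗[A] B) := NormalLoc.of_ringEquiv (isoBC A B A' p' K') (h p' K' hK')
  have h2 : NormalLoc (K ⊗[A] B) := normalLoc_tensor_descent' A B K K' h1
  exact NormalLoc.of_ringEquiv (isoF A B p K).symm h2

end

end Groth.Agent.H8.NHB
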