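import Mathlib
import Groth.Agent.Lib.Helper8.KrullAkizuki

/-!
# Noetherian local domains are dominated by discrete valuation rings

[EGA II 7.1.7]: a Noetherian local domain `R` which is not a field, with fraction field `K`, and a
finitely generated field extension `L / K`: there is a discrete valuation ring of `L` (with
fraction field `L`) dominating `R`.  Everything is phrased with `LocalSubring L` and its
domination order.
-/

set_option autoImplicit false

universe u v

open IsLocalRing

namespace Groth.Agent.H8.KA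

variable {L : Type v} [Field L]

/-- Every element of `L` is a fraction of elements of `S`. -/
def FracTop (S : Subring L) : Prop := ∀ x : L, ∃ a ∈ S, ∃ b ∈ S, x = a / b

lemma FracTop.mono {S S' : Subring L} (h : S ≤ S') (hS : FracTop S) : FracTop S' := fun x => by
  obtain ⟨a, ha, b, hb, e⟩ := hS x
  exact ⟨a, h ha, b, h hb, e⟩

lemma FracTop.isFractionRing {S : Subring L} (hS : FracTop S) : IsFractionRing S L := by
  refine IsFractionRing.of_field S L fun z => ?_
  obtain ⟨a, ha, b, hb, e⟩ := hS z
  exact ⟨⟨a, ha⟩, ⟨b, hb⟩, e⟩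

lemma fracTop_of_closure_eq_top {S : Subring L} (h : Subfield.closure (S : Set L) = ⊤) :
    FracTop S := fun x => by
  have hx : x ∈ Subfield.closure (S : Set L) := h ▸ Subfield.mem_top x
  rw [Subfield.mem_closure_iff, Subring.closure_eq] at hx
  obtain ⟨y, hy, z, hz, e⟩ := hx
  exact ⟨y, hy, z, hz, e.symm⟩

/-- Domination unfolded. -/
lemma le_toLocalSubring_iff {A : LocalSubring L} {B : ValuationSubring L} :
    A ≤ B.toLocalSubring ↔ ∃ h : A.toSubring ≤ B.toSubring,
      ∀ a : A.toSubring, a ∈ maximalIdeal A.toSubring → (⟨a.1, h a.2⟩ : B) ∈ maximalIdeal B := by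
  have : IsLocalRing B.toSubring := B.isLocalRing
  constructor
  · rintro ⟨h, hloc⟩
    refine ⟨h, fun a ha => ?_⟩
    have := ((local_hom_TFAE (Subring.inclusion h)).out 0 3).1 hloc
    exact this ha
  · rintro ⟨h, hm⟩
    refine ⟨h, ((local_hom_TFAE (Subring.inclusion h)).out 3 0).1 ?_⟩
    intro a ha
    exact hm a ha

section DimOne

/-- Krull–Akizuki: a one-dimensional Noetherian local subring with fraction field `L` is dominated
by a discrete valuation ring of `L`. -/
theorem exists_dvr_of_dimLE_one (A : LocalSubring L) [IsNoetherianRing A.toSubring]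
    [Ring.KrullDimLE 1 A.toSubring] (hA : ¬ IsField A.toSubring) (hfr : FracTop A.toSubring) :
    ∃ B : ValuationSubring L, IsDiscreteValuationRing B ∧ A ≤ B.toLocalSubring := by
  obtain ⟨B, hB⟩ := A.exists_le_valuationSubring
  refine ⟨B, ?_, hB⟩
  obtain ⟨hle, hloc⟩ := hB
  have : IsLocalRing B.toSubring := B.isLocalRing
  have : IsFractionRing A.toSubring L := hfr.isFractionRing
  let V : Subalgebra A.toSubring L :=
    { B.toSubring.toSubsemiring with algebraMap_mem' := fun r => hle r.2 }
  have hV : IsNoetherianRing V := isNoetherianRing_overring V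
  let e : V ≃+* B :=
    { toFun := fun v => ⟨v.1, v.2⟩
      invFun := fun a => ⟨a.1, a.2⟩
      left_inv := fun _ => rfl
      right_inv := fun _ => rfl
      map_mul' := fun _ _ => rfl
      map_add' := fun _ _ => rfl }
  have hBn : IsNoetherianRing B := isNoetherianRing_of_ringEquiv V e
  have hPID : IsPrincipalIdealRing B := ((IsBezout.TFAE (R := B)).out 0 1).1 hBn
  have hnf : maximalIdeal B ≠ ⊥ := by
    rw [IsLocalRing.isField_iff_maximalIdeal_eq] at hA
    obtain ⟨x, hxm, hx0⟩ := Submodule.exists_mem_ne_zero_of_ne_bot hA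
    intro h
    have h0 := ((local_hom_TFAE (Subring.inclusion hle)).out 0 3).1 hloc
    have h1 : Subring.inclusion hle x ∈ maximalIdeal B.toSubring := h0 hxm
    have h2 : (⟨x.1, hle x.2⟩ : B) ∈ maximalIdeal B := h1
    rw [h, Submodule.mem_bot] at h2
    apply hx0
    have h3 : x.1 = 0 := congrArg Subtype.val h2
    exact Subtype.ext h3
  exact { toIsPrincipalIdealRing := hPID, toIsLocalRing := inferInstance, not_a_field' := hnf }

end DimOne

section DimReduction

/-- A Noetherian local subring which is not a field is dominated by a one-dimensional Noetherian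
local subring (a localization of a chart of the blow-up of the maximal ideal). -/
theorem exists_dimLE_one_ge (A : LocalSubring L) [IsNoetherianRing A.toSubring]
    (hA : ¬ IsField A.toSubring) :
    ∃ A' : LocalSubring L, A ≤ A' ∧ IsNoetherianRing A'.toSubring ∧
      Ring.KrullDimLE 1 A'.toSubring ∧ ¬ IsField A'.toSubring := by
  obtain ⟨V, hV⟩ := A.exists_le_valuationSubring
  obtain ⟨hle, hm⟩ := le_toLocalSubring_iff.1 hV
  obtain ⟨s, hs⟩ := (isNoetherianRing_iff_ideal_fg _).1 inferInstance (maximalIdeal A.toSubring)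
  have hne : s.Nonempty := by
    by_contra h
    rw [Finset.not_nonempty_iff_eq_empty] at h
    rw [h, Finset.coe_empty, Ideal.span_empty] at hs
    exact hA ((IsLocalRing.isField_iff_maximalIdeal_eq).2 hs.symm)
  obtain ⟨x₁, hx₁s, hmax⟩ := Finset.exists_max_image s (fun x => V.valuation (x : L)) hne
  have hx₁0 : (x₁ : L) ≠ 0 := by
    intro h0
    apply hA
    rw [IsLocalRing.isField_iff_maximalIdeal_eq, ← hs, Ideal.span_eq_bot]
    intro x hx
    have := hmax x hx
    simp only [h0, map_zero, le_zero_iff, map_eq_zero] at this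
    exact Subtype.ext this
  have hx₁m : x₁ ∈ maximalIdeal A.toSubring := hs ▸ Ideal.subset_span hx₁s
  let T : Set L := (fun x : A.toSubring => (x : L) / x₁) '' (s : Set A.toSubring)
  let S' : Subalgebra A.toSubring L := Algebra.adjoin A.toSubring T
  let VA : Subalgebra A.toSubring L :=
    { V.toSubring.toSubsemiring with algebraMap_mem' := fun r => hle r.2 }
  have hS'V : S' ≤ VA := by
    refine Algebra.adjoin_le ?_
    rintro _ ⟨x, hx, rfl⟩
    change (x : L) / x₁ ∈ V
    rw [← V.valuation_le_one_iff, map_div₀]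
    have hv0 : 0 < V.valuation (x₁ : L) := by
      rw [zero_lt_iff, ne_eq, map_eq_zero]; exact hx₁0
    rw [div_le_one₀ hv0]
    exact hmax x hx
  let S : Subring L := S'.toSubring
  have hAS : A.toSubring ≤ S := fun r hr => S'.algebraMap_mem ⟨r, hr⟩
  have hSV : S ≤ V.toSubring := fun x hx => hS'V hx
  have hfg : S'.FG := Subalgebra.fg_def.2 ⟨T, (Finset.finite_toSet s).image _, rfl⟩
  have hft : Algebra.FiniteType A.toSubring S' := (Subalgebra.fg_iff_finiteType S').1 hfg
  have hSn' : IsNoetherianRing S' := Algebra.FiniteType.isNoetherianRing A.toSubring S'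
  have hSn : IsNoetherianRing S := hSn'
  let x₁S : S := ⟨x₁, hAS x₁.2⟩
  let I : Ideal S := Ideal.span {x₁S}
  have hI : I ≠ ⊤ := by
    intro hI
    rw [Ideal.span_singleton_eq_top] at hI
    have hu : IsUnit (Subring.inclusion hSV x₁S) := hI.map (Subring.inclusion hSV)
    have hmem : (⟨x₁.1, hle x₁.2⟩ : V) ∈ maximalIdeal V := hm x₁ hx₁m
    exact (IsLocalRing.mem_maximalIdeal _).1 hmem hu
  obtain ⟨p, hp⟩ := Ideal.nonempty_minimalPrimes hI
  have hpp : p.IsPrime := hp.1.1
  have hIp : I ≤ p := hp.1.2
  have hheight : p.height ≤ 1 := Ideal.height_le_one_of_isPrincipal_of_mem_minimalPrimes I p hp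
  let A' : LocalSubring L := LocalSubring.ofPrime S p
  have hSA' : S ≤ A'.toSubring := LocalSubring.le_ofPrime S p
  have hmI : (maximalIdeal A.toSubring).map (Subring.inclusion hAS) ≤ I := by
    rw [← hs, Ideal.map_span, Ideal.span_le]
    rintro _ ⟨x, hx, rfl⟩
    change Subring.inclusion hAS x ∈ Ideal.span {x₁S}
    rw [Ideal.mem_span_singleton']
    refine ⟨⟨(x : L) / x₁, Algebra.subset_adjoin ⟨x, hx, rfl⟩⟩, ?_⟩
    apply Subtype.ext
    change (x : L) / x₁ * x₁ = x
    exact div_mul_cancel₀ _ hx₁0
  have hmem_max : ∀ y : S, y ∈ p → Subring.inclusion hSA' y ∈ maximalIdeal A'.toSubring := by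
    intro y hy
    exact (IsLocalization.AtPrime.to_map_mem_maximal_iff A'.toSubring p y).2 hy
  refine ⟨A', ⟨hAS.trans hSA', ((local_hom_TFAE _).out 3 0).1 ?_⟩, ?_, ?_, ?_⟩
  · intro a ha
    rw [Ideal.mem_comap]
    have h1 : Subring.inclusion hAS a ∈ p := hIp (hmI (Ideal.mem_map_of_mem _ ha))
    exact hmem_max _ h1
  · exact IsLocalization.isNoetherianRing p.primeCompl A'.toSubring hSn
  · rw [Ring.krullDimLE_iff, IsLocalization.AtPrime.ringKrullDim_eq_height p A'.toSubring]
    exact_mod_cast hheight
  · rw [IsLocalRing.isField_iff_maximalIdeal_eq]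
    intro h0
    have h1 : Subring.inclusion hSA' x₁S ∈ maximalIdeal A'.toSubring :=
      hmem_max _ (hIp (Ideal.subset_span rfl))
    rw [h0, Submodule.mem_bot] at h1
    exact hx₁0 (congrArg Subtype.val h1)

end DimReduction

section FGExt

open Classical in
/-- A Noetherian local subring `A` (not a field) of a field `L` finitely generated over `Frac A`
is dominated by a Noetherian local subring with fraction field `L`. -/
theorem exists_fracTop_ge (A : LocalSubring L) [IsNoetherianRing A.toSubring]
    (hA : ¬ IsField A.toSubring) (s : Finset L)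
    (hs : Subfield.closure ((A.toSubring : Set L) ∪ s) = ⊤) :
    ∃ A' : LocalSubring L, A ≤ A' ∧ IsNoetherianRing A'.toSubring ∧
      ¬ IsField A'.toSubring ∧ FracTop A'.toSubring := by
  obtain ⟨V, hV⟩ := A.exists_le_valuationSubring
  obtain ⟨hle, hm⟩ := le_toLocalSubring_iff.1 hV
  have hVloc : IsLocalRing V.toSubring := V.isLocalRing
  let T : Set L := (fun ℓ : L => if ℓ ∈ V then ℓ else ℓ⁻¹) '' (s : Set L)
  let S' : Subalgebra A.toSubring L := Algebra.adjoin A.toSubring T
  let VA : Subalgebra A.toSubring L :=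
    { V.toSubring.toSubsemiring with algebraMap_mem' := fun r => hle r.2 }
  have hS'V : S' ≤ VA := by
    refine Algebra.adjoin_le ?_
    rintro _ ⟨ℓ, -, rfl⟩
    change (if ℓ ∈ V then ℓ else ℓ⁻¹) ∈ V
    split_ifs with h
    · exact h
    · exact (V.mem_or_inv_mem ℓ).resolve_left h
  let S : Subring L := S'.toSubring
  have hAS : A.toSubring ≤ S := fun r hr => S'.algebraMap_mem ⟨r, hr⟩
  have hSV : S ≤ V.toSubring := fun x hx => hS'V hx
  have hfg : S'.FG := Subalgebra.fg_def.2 ⟨T, (Finset.finite_toSet s).image _, rfl⟩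
  have hft : Algebra.FiniteType A.toSubring S' := (Subalgebra.fg_iff_finiteType S').1 hfg
  have hSn' : IsNoetherianRing S' := Algebra.FiniteType.isNoetherianRing A.toSubring S'
  have hSn : IsNoetherianRing S := hSn'
  let P : Ideal S := (maximalIdeal V.toSubring).comap (Subring.inclusion hSV)
  have hPp : P.IsPrime := Ideal.comap_isPrime _ _
  let A' : LocalSubring L := LocalSubring.ofPrime S P
  have hSA' : S ≤ A'.toSubring := LocalSubring.le_ofPrime S P
  have hmem_max : ∀ y : S, y ∈ P → Subring.inclusion hSA' y ∈ maximalIdeal A'.toSubring := by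
    intro y hy
    exact (IsLocalization.AtPrime.to_map_mem_maximal_iff A'.toSubring P y).2 hy
  have hmP : ∀ a : A.toSubring, a ∈ maximalIdeal A.toSubring → Subring.inclusion hAS a ∈ P := by
    intro a ha
    exact hm a ha
  have hfrS : FracTop S := by
    apply fracTop_of_closure_eq_top
    rw [eq_top_iff, ← hs, Subfield.closure_le]
    rintro x (hx | hx)
    · exact Subfield.subset_closure (hAS hx)
    · by_cases h : x ∈ V
      · refine Subfield.subset_closure (Algebra.subset_adjoin ⟨x, hx, ?_⟩)
        simp only [h, if_true]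
      · have h1 : x⁻¹ ∈ Subfield.closure (S : Set L) := by
          refine Subfield.subset_closure (Algebra.subset_adjoin ⟨x, hx, ?_⟩)
          simp only [h, if_false]
        have h2 := Subfield.inv_mem _ h1
        rwa [inv_inv] at h2
  refine ⟨A', ⟨hAS.trans hSA', ((local_hom_TFAE _).out 3 0).1 ?_⟩, ?_, ?_, hfrS.mono hSA'⟩
  · intro a ha
    rw [Ideal.mem_comap]
    exact hmem_max _ (hmP a ha)
  · exact IsLocalization.isNoetherianRing P.primeCompl A'.toSubring hSn
  · rw [IsLocalRing.isField_iff_maximalIdeal_eq] at hA ⊢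
    obtain ⟨x, hxm, hx0⟩ := Submodule.exists_mem_ne_zero_of_ne_bot hA
    intro h0
    have h1 : Subring.inclusion hSA' (Subring.inclusion hAS x) ∈ maximalIdeal A'.toSubring :=
      hmem_max _ (hmP x hxm)
    rw [h0, Submodule.mem_bot] at h1
    have h2 : (x : L) = 0 := congrArg Subtype.val h1
    exact hx0 (Subtype.ext h2)

/-- [EGA II 7.1.7] in `LocalSubring` form. -/
theorem exists_dvr_ge (A : LocalSubring L) [IsNoetherianRing A.toSubring]
    (hA : ¬ IsField A.toSubring) (s : Finset L)
    (hs : Subfield.closure ((A.toSubring : Set L) ∪ s) = ⊤) :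
    ∃ B : ValuationSubring L, IsDiscreteValuationRing B ∧ A ≤ B.toLocalSubring := by
  obtain ⟨A₁, h1, hn1, hf1, hfr1⟩ := exists_fracTop_ge A hA s hs
  obtain ⟨A₂, h2, hn2, hd2, hf2⟩ := exists_dimLE_one_ge A₁ hf1
  obtain ⟨B, hB, h3⟩ := exists_dvr_of_dimLE_one A₂ hf2 (hfr1.mono h2.1)
  exact ⟨B, hB, h1.trans (h2.trans h3)⟩

end FGExt

section Primes

variable {C : Type u} [CommRing C] [IsNoetherianRing C]

/-- Let `C` be a Noetherian ring, `ψ : C → L` a ring map to a field and `p` a prime of `C` strictly
containing `ker ψ`, such that `L` is finitely generated as a field over `ψ(C)`.  Then there is a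
discrete valuation ring `B` of `L` (with fraction field `L`) containing `ψ(C)` and whose maximal
ideal contracts to `p`. -/
theorem exists_dvr_valuationSubring_of_lt (ψ : C →+* L) (p : Ideal C) [hp : p.IsPrime]
    (hlt : RingHom.ker ψ < p) (s : Finset L)
    (hs : Subfield.closure (Set.range ψ ∪ s) = ⊤) :
    ∃ B : ValuationSubring L, IsDiscreteValuationRing B ∧ ∃ hB : ∀ c, ψ c ∈ B,
      (maximalIdeal B).comap (ψ.codRestrict B.toSubring hB) = p := by
  let S₀ : Subring L := ψ.range
  have hsurj : Function.Surjective ψ.rangeRestrict := ψ.rangeRestrict_surjective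
  have hker : RingHom.ker ψ.rangeRestrict = RingHom.ker ψ := by
    ext x
    rw [RingHom.mem_ker, RingHom.mem_ker, Subtype.ext_iff]
    rfl
  let P₀ : Ideal S₀ := p.map ψ.rangeRestrict
  have hP₀ : P₀.IsPrime := Ideal.map_isPrime_of_surjective hsurj (hker ▸ hlt.le)
  have hmemP₀ : ∀ c, ψ.rangeRestrict c ∈ P₀ ↔ c ∈ p := by
    intro c
    constructor
    · intro h
      obtain ⟨c', hc', e⟩ := (Ideal.mem_map_iff_of_surjective _ hsurj).1 h
      have : c - c' ∈ RingHom.ker ψ.rangeRestrict := by
        rw [RingHom.mem_ker, map_sub, e, sub_self]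
      rw [hker] at this
      have := p.add_mem (hlt.le this) hc'
      rwa [sub_add_cancel] at this
    · exact fun h => Ideal.mem_map_of_mem _ h
  have hS₀n : IsNoetherianRing S₀ := isNoetherianRing_of_surjective C S₀ ψ.rangeRestrict hsurj
  let A : LocalSubring L := LocalSubring.ofPrime S₀ P₀
  have hSA : S₀ ≤ A.toSubring := LocalSubring.le_ofPrime S₀ P₀
  have hAn : IsNoetherianRing A.toSubring :=
    IsLocalization.isNoetherianRing P₀.primeCompl A.toSubring hS₀n
  have hmem_max : ∀ y : S₀, Subring.inclusion hSA y ∈ maximalIdeal A.toSubring ↔ y ∈ P₀ :=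
    fun y => IsLocalization.AtPrime.to_map_mem_maximal_iff A.toSubring P₀ y
  have hAf : ¬ IsField A.toSubring := by
    rw [IsLocalRing.isField_iff_maximalIdeal_eq]
    intro h0
    obtain ⟨c, hcp, hcq⟩ := SetLike.exists_of_lt hlt
    have h1 : Subring.inclusion hSA (ψ.rangeRestrict c) ∈ maximalIdeal A.toSubring :=
      (hmem_max _).2 ((hmemP₀ c).2 hcp)
    rw [h0, Submodule.mem_bot] at h1
    apply hcq
    rw [RingHom.mem_ker]
    exact congrArg Subtype.val h1
  have hs' : Subfield.closure ((A.toSubring : Set L) ∪ s) = ⊤ := by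
    rw [eq_top_iff, ← hs]
    refine Subfield.closure_mono (Set.union_subset_union_left _ ?_)
    rintro _ ⟨c, rfl⟩
    exact hSA ⟨c, rfl⟩
  obtain ⟨B, hBdvr, hAB⟩ := exists_dvr_ge A hAf s hs'
  have hBloc : IsLocalRing B.toSubring := B.isLocalRing
  obtain ⟨hle, hloc⟩ := hAB
  have hcomap := ((local_hom_TFAE (Subring.inclusion hle)).out 0 4).1 hloc
  have hB : ∀ c, ψ c ∈ B := fun c => hle (hSA ⟨c, rfl⟩)
  refine ⟨B, hBdvr, hB, ?_⟩
  ext c
  rw [Ideal.mem_comap, ← hmemP₀ c, ← hmem_max, ← hcomap, Ideal.mem_comap]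
  rfl

end Primes

section Abstract

/-- [EGA II 7.1.7]: a Noetherian local domain `R` which is not a field, and a field `L ⊇ R`
finitely generated over `Frac R`: there is a discrete valuation ring of `L` dominating `R`. -/
theorem exists_dvr_dominating_of_fg (R : Type u) [CommRing R] [IsNoetherianRing R]
    [IsLocalRing R] (hR : ¬ IsField R) (L : Type v) [Field L] [Algebra R L]
    (hinj : Function.Injective (algebraMap R L)) (s : Finset L)
    (hs : Subfield.closure (Set.range (algebraMap R L) ∪ s) = ⊤) :
    ∃ B : ValuationSubring L, IsDiscreteValuationRing B ∧ ∃ hB : ∀ r, algebraMap R L r ∈ B,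
      IsLocalHom ((algebraMap R L).codRestrict B.toSubring hB) := by
  have hprime : (RingHom.ker (algebraMap R L)).IsPrime := RingHom.ker_isPrime _
  have hker : RingHom.ker (algebraMap R L) = ⊥ := (RingHom.injective_iff_ker_eq_bot _).1 hinj
  have hlt : RingHom.ker (algebraMap R L) < maximalIdeal R := by
    rw [hker, bot_lt_iff_ne_bot]
    intro h
    exact hR ((IsLocalRing.isField_iff_maximalIdeal_eq).2 h)
  obtain ⟨B, hBdvr, hB, hcomap⟩ :=
    exists_dvr_valuationSubring_of_lt (algebraMap R L) (maximalIdeal R) hlt s hs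
  refine ⟨B, hBdvr, hB, ?_⟩
  have hBloc : IsLocalRing B.toSubring := B.isLocalRing
  exact ((local_hom_TFAE _).out 4 0).1 hcomap

/-- A Noetherian local domain which is not a field is dominated by a discrete valuation ring
(with the same fraction field). -/
theorem exists_dvr_dominating' (R : Type u) [CommRing R] [IsDomain R] [IsNoetherianRing R]
    [IsLocalRing R] (hR : ¬ IsField R) :
    ∃ (B : Type u) (_ : CommRing B) (_ : IsDomain B) (_ : IsDiscreteValuationRing B)
      (_ : Algebra R B), Function.Injective (algebraMap R B) ∧ IsLocalHom (algebraMap R B) := by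
  have hinj : Function.Injective (algebraMap R (FractionRing R)) := IsFractionRing.injective _ _
  have hs : Subfield.closure (Set.range (algebraMap R (FractionRing R)) ∪
      ((∅ : Finset (FractionRing R)) : Set (FractionRing R))) = ⊤ := by
    rw [eq_top_iff]
    intro x _
    obtain ⟨a, b, hb, rfl⟩ := IsFractionRing.div_surjective (A := R) x
    exact Subfield.div_mem _ (Subfield.subset_closure (Or.inl ⟨a, rfl⟩))
      (Subfield.subset_closure (Or.inl ⟨b, rfl⟩))
  obtain ⟨B, hBdvr, hB, hloc⟩ := exists_dvr_dominating_of_fg R hR (FractionRing R) hinj ∅ hs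
  refine ⟨B, inferInstance, inferInstance, hBdvr,
    ((algebraMap R (FractionRing R)).codRestrict B.toSubring hB).toAlgebra, ?_, hloc⟩
  intro x y hxy
  exact hinj (congrArg Subtype.val hxy)

end Abstract

section Spec

variable {C : Type u} [CommRing C] [IsNoetherianRing C]

/-- For primes `q < p` of a Noetherian ring `C` there is a discrete valuation ring `B` over `C`
whose generic point maps to `q` and whose closed point maps to `p`; moreover `Frac B = κ(q)`. -/
theorem exists_dvr_of_lt {q p : PrimeSpectrum C} (h : q < p) :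
    ∃ (B : Type u) (_ : CommRing B) (_ : IsDomain B) (_ : IsDiscreteValuationRing B)
      (_ : Algebra C B),
      PrimeSpectrum.comap (algebraMap C B) ⊥ = q ∧
        PrimeSpectrum.comap (algebraMap C B) (IsLocalRing.closedPoint B) = p := by
  let L := q.asIdeal.ResidueField
  let ψ : C →+* L := algebraMap C L
  have hker : RingHom.ker ψ = q.asIdeal := Ideal.ker_algebraMap_residueField q.asIdeal
  have hlt : RingHom.ker ψ < p.asIdeal := by
    rw [hker]; exact h
  have hs : Subfield.closure (Set.range ψ ∪ ((∅ : Finset L) : Set L)) = ⊤ := by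
    rw [eq_top_iff]
    intro x _
    obtain ⟨a, b, hb, rfl⟩ := IsFractionRing.div_surjective (A := C ⧸ q.asIdeal) x
    obtain ⟨a, rfl⟩ := Ideal.Quotient.mk_surjective a
    obtain ⟨b, rfl⟩ := Ideal.Quotient.mk_surjective b
    refine Subfield.div_mem _ (Subfield.subset_closure (Or.inl ⟨a, ?_⟩))
      (Subfield.subset_closure (Or.inl ⟨b, ?_⟩))
    · rfl
    · rfl
  obtain ⟨B, hBdvr, hB, hcomap⟩ :=
    exists_dvr_valuationSubring_of_lt ψ p.asIdeal hlt ∅ hs
  let φ : C →+* B := ψ.codRestrict B.toSubring hB
  refine ⟨B, inferInstance, inferInstance, hBdvr, φ.toAlgebra, ?_, ?_⟩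
  · apply PrimeSpectrum.ext
    change Ideal.comap φ ⊥ = q.asIdeal
    ext x
    have hx : x ∈ q.asIdeal ↔ ψ x = 0 := by
      have := congrArg (fun I : Ideal C => x ∈ I) hker
      simp only [RingHom.mem_ker] at this
      exact (Iff.of_eq this).symm
    rw [Ideal.mem_comap, Ideal.mem_bot, hx, Subtype.ext_iff]
    rfl
  · apply PrimeSpectrum.ext
    exact hcomap

end Spec

end Groth.Agent.H8.KA
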