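import Mathlib
import Groth.Agent.Lib.Helper8.DVRDominate

/-!
# Specializations in locally Noetherian schemes are witnessed by discrete valuation rings
-/

set_option autoImplicit false

universe u

open AlgebraicGeometry CategoryTheory CategoryTheory.Limits IsLocalRing

namespace Groth.Agent.H8.DVRSch

/-- In a locally Noetherian scheme, a nontrivial specialization `z ⤳ z'` is witnessed by a morphism
from the spectrum of a discrete valuation ring. -/
theorem exists_dvr_of_specializes {W : Scheme.{u}} [IsLocallyNoetherian W] {z z' : W}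
    (h : z ⤳ z') (hne : z ≠ z') :
    ∃ (B : Type u) (_ : CommRing B) (_ : IsDomain B) (_ : IsDiscreteValuationRing B)
      (g : Spec (CommRingCat.of B) ⟶ W),
      g (closedPoint B) = z' ∧ g (⊥ : PrimeSpectrum B) = z := by
  have hz : z ∈ Set.range (W.fromSpecStalk z') := by
    rw [Scheme.range_fromSpecStalk]; exact h
  obtain ⟨q₀, hq⟩ := hz
  let q : PrimeSpectrum (W.presheaf.stalk z') := q₀
  have hqne : q ≠ closedPoint (W.presheaf.stalk z') := by
    intro h0
    have h1 : q₀ = closedPoint (W.presheaf.stalk z') := h0
    rw [h1] at hq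
    exact hne (hq.symm.trans Scheme.fromSpecStalk_closedPoint)
  have hle : q ≤ closedPoint (W.presheaf.stalk z') :=
    IsLocalRing.le_maximalIdeal q.isPrime.ne_top
  have hlt : q < closedPoint (W.presheaf.stalk z') := lt_of_le_of_ne hle hqne
  obtain ⟨B, i1, i2, i3, i4, hbot, hcl⟩ := KA.exists_dvr_of_lt hlt
  refine ⟨B, i1, i2, i3,
    Spec.map (CommRingCat.ofHom (algebraMap (W.presheaf.stalk z') B)) ≫ W.fromSpecStalk z', ?_, ?_⟩
  · rw [Scheme.Hom.comp_apply]
    have : Spec.map (CommRingCat.ofHom (algebraMap (W.presheaf.stalk z') B)) (closedPoint B) =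
        closedPoint (W.presheaf.stalk z') := hcl
    rw [this, Scheme.fromSpecStalk_closedPoint]
  · rw [Scheme.Hom.comp_apply]
    have : Spec.map (CommRingCat.ofHom (algebraMap (W.presheaf.stalk z') B))
        (⊥ : PrimeSpectrum B) = q₀ := hbot
    rw [this, hq]

/-- A morphism from the spectrum of a field whose image point lies in the range of a preimmersion
factors through it. -/
theorem exists_factor_of_mem_range {E W : Scheme.{u}} (i : E ⟶ W) [IsPreimmersion i]
    {K : Type u} [Field K] (t : Spec (CommRingCat.of K) ⟶ W)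
    (ht : t (closedPoint K) ∈ Set.range i) :
    ∃ t' : Spec (CommRingCat.of K) ⟶ E, t' ≫ i = t := by
  obtain ⟨e, he⟩ := ht
  have hsurj : Function.Surjective (i.residueFieldMap e) := by
    have h1 := Scheme.residue_residueFieldMap i e
    have h2 : Function.Surjective (i.stalkMap e ≫ E.residue e) := by
      intro y
      obtain ⟨y', hy'⟩ := Scheme.residue_surjective E e y
      obtain ⟨y'', hy''⟩ := i.stalkMap_surjective e y'
      exact ⟨y'', by rw [CommRingCat.comp_apply, hy'', hy']⟩
    rw [← h1] at h2
    intro y
    obtain ⟨w, hw⟩ := h2 y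
    exact ⟨W.residue (i e) w, by rw [← CommRingCat.comp_apply]; exact hw⟩
  have hbij : Function.Bijective (i.residueFieldMap e) :=
    ⟨(i.residueFieldMap e).hom.injective, hsurj⟩
  have hiso : IsIso (i.residueFieldMap e) := (ConcreteCategory.isIso_iff_bijective _).mpr hbij
  have h1 := Scheme.descResidueField_stalkClosedPointTo_fromSpecResidueField K W t
  have h2 := Scheme.Hom.SpecMap_residueFieldMap_fromSpecResidueField i e
  have h3 := Scheme.residueFieldCongr_fromSpecResidueField (X := W) he
  refine ⟨Spec.map (Scheme.descResidueField (Scheme.stalkClosedPointTo t)) ≫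
    Spec.map (W.residueFieldCongr he).hom ≫ Spec.map (inv (i.residueFieldMap e)) ≫
      E.fromSpecResidueField e, ?_⟩
  rw [Category.assoc, Category.assoc, Category.assoc, ← h2, ← Spec.map_comp_assoc
    (i.residueFieldMap e), IsIso.hom_inv_id, Spec.map_id, Category.id_comp, h3, h1]

/-- The generic point of the spectrum of a domain is the image of the point of `Spec (Frac A)`. -/
lemma specMap_fractionRing_apply (A : Type u) [CommRing A] [IsDomain A]
    (pt : Spec (CommRingCat.of (FractionRing A))) :
    Spec.map (CommRingCat.ofHom (algebraMap A (FractionRing A))) pt = (⊥ : PrimeSpectrum A) := by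
  apply PrimeSpectrum.ext
  change Ideal.comap (algebraMap A (FractionRing A)) pt.asIdeal = ⊥
  have h0 : pt.asIdeal = ⊥ := by
    have := Ideal.eq_bot_or_top pt.asIdeal
    exact this.resolve_right pt.isPrime.ne_top
  rw [h0, ← RingHom.ker_eq_comap_bot]
  exact (RingHom.injective_iff_ker_eq_bot _).1 (IsFractionRing.injective A (FractionRing A))

/-- Uniqueness part of the valuative criterion with discrete valuation rings. -/
def DVRUniqueness {X Y : Scheme.{u}} (f : X ⟶ Y) : Prop :=
  ∀ (A : Type u) [CommRing A] [IsDomain A] [IsDiscreteValuationRing A]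
    (g₁ g₂ : (Spec (CommRingCat.of A)) ⟶ X),
    g₁ ≫ f = g₂ ≫ f →
      (Spec.map (CommRingCat.ofHom (algebraMap A (FractionRing A)))) ≫ g₁ =
        (Spec.map (CommRingCat.ofHom (algebraMap A (FractionRing A)))) ≫ g₂ → g₁ = g₂

/-- Noetherian valuative criterion of separatedness, the hard direction. -/
theorem isSeparated_of_dvrUniqueness {X Y : Scheme.{u}} [IsLocallyNoetherian Y] (f : X ⟶ Y)
    [LocallyOfFiniteType f] (H : DVRUniqueness f) : IsSeparated f := by
  have hX : IsLocallyNoetherian X := LocallyOfFiniteType.isLocallyNoetherian f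
  have hW : IsLocallyNoetherian (pullback f f) :=
    LocallyOfFiniteType.isLocallyNoetherian (pullback.fst f f)
  constructor
  refine IsClosedImmersion.of_isPreimmersion _ (IsClosedMap.isClosed_range ?_)
  rw [isClosedMap_iff_specializingMap]
  intro x z' hspec
  by_cases hne : (pullback.diagonal f) x = z'
  · exact ⟨x, specializes_rfl, hne⟩
  obtain ⟨B, _, _, _, h, hcl, hgen⟩ := exists_dvr_of_specializes hspec hne
  let ι := Spec.map (CommRingCat.ofHom (algebraMap B (FractionRing B)))
  have hpt : (ι ≫ h) (closedPoint (FractionRing B)) ∈ Set.range (pullback.diagonal f) := by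
    rw [Scheme.Hom.comp_apply, specMap_fractionRing_apply, hgen]
    exact ⟨x, rfl⟩
  obtain ⟨t, ht⟩ := exists_factor_of_mem_range (pullback.diagonal f) (ι ≫ h) hpt
  have h12 : h ≫ pullback.fst f f = h ≫ pullback.snd f f := by
    apply H B
    · rw [Category.assoc, Category.assoc, pullback.condition]
    · rw [← Category.assoc, ← Category.assoc, ← ht, Category.assoc, Category.assoc,
        pullback.diagonal_fst, pullback.diagonal_snd]
  have hh : h = (h ≫ pullback.fst f f) ≫ pullback.diagonal f := by
    apply pullback.hom_ext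
    · rw [Category.assoc, pullback.diagonal_fst, Category.comp_id]
    · rw [Category.assoc, pullback.diagonal_snd, Category.comp_id, h12]
  refine ⟨(h ≫ pullback.fst f f) (closedPoint B), ?_, ?_⟩
  · have hinj : Function.Injective (pullback.diagonal f) :=
      (pullback.diagonal f).isEmbedding.injective
    have hx : x = (h ≫ pullback.fst f f) (⊥ : PrimeSpectrum B) := by
      apply hinj
      rw [← Scheme.Hom.comp_apply, ← hh, hgen]
    rw [hx]
    have hsp : (⊥ : PrimeSpectrum B) ⤳ closedPoint B := IsLocalRing.specializes_closedPoint _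
    exact hsp.map (h ≫ pullback.fst f f).continuous
  · rw [← Scheme.Hom.comp_apply, ← hh, hcl]

/-- Noetherian valuative criterion of separatedness, the easy direction. -/
theorem dvrUniqueness_of_isSeparated {X Y : Scheme.{u}} (f : X ⟶ Y) [IsSeparated f] :
    DVRUniqueness f := by
  intro A _ _ _ g₁ g₂ h1 h2
  have hu := IsSeparated.valuativeCriterion f
  let S : ValuativeCommSq f :=
    { R := A
      K := FractionRing A
      i₁ := Spec.map (CommRingCat.ofHom (algebraMap A (FractionRing A))) ≫ g₁
      i₂ := g₁ ≫ f
      commSq := ⟨by rw [Category.assoc]⟩ }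
  have hs : Subsingleton S.commSq.LiftStruct := hu S
  let l₁ : S.commSq.LiftStruct := ⟨g₁, rfl, rfl⟩
  let l₂ : S.commSq.LiftStruct := ⟨g₂, h2.symm, h1.symm⟩
  exact congrArg CommSq.LiftStruct.l (Subsingleton.elim l₁ l₂)

end Groth.Agent.H8.DVRSch
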