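import Mathlib

/-!
# Monomorphisms, immersions and valuative lifting (helper8)
-/

open CategoryTheory CategoryTheory.Limits AlgebraicGeometry IsLocalRing TensorProduct TopologicalSpace

universe u

namespace Groth.Agent.H8.MonoVal

/-- A morphism from a reduced scheme to the target of a closed immersion, landing
set-theoretically in its range, factors through it. -/
theorem exists_lift_of_isClosedImmersion_of_isReduced {T V Y : Scheme.{u}} (i : Y ⟶ V)
    [IsClosedImmersion i] [IsReduced T] (s : T ⟶ V) (hs : Set.range s ⊆ Set.range i) :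
    ∃ l : T ⟶ Y, l ≫ i = s := by
  have hsurj : Surjective (pullback.snd i s) := by
    constructor
    rw [← Set.range_eq_univ, Scheme.Pullback.range_snd]
    rw [Set.eq_univ_iff_forall]
    intro t
    exact hs ⟨t, rfl⟩
  have : IsIso (pullback.snd i s) := isIso_of_isClosedImmersion_of_surjective _
  refine ⟨inv (pullback.snd i s) ≫ pullback.fst i s, ?_⟩
  rw [Category.assoc, pullback.condition, IsIso.inv_hom_id_assoc]

/-- Immersions: if a dense set of points of `Spec A` (`A` a domain) lifts, a nonempty open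
lifts. -/
theorem immersion_lift_of_dense {X Y : Scheme.{u}} (f : Y ⟶ X) [IsImmersion f]
    (A : Type u) [CommRing A] [IsDomain A] (s : Spec (CommRingCat.of A) ⟶ X)
    (D : Set ↥(Spec (CommRingCat.of A))) (hD : Dense D)
    (hl : ∀ p ∈ D, ∃ l : Spec ((Spec (CommRingCat.of A)).residueField p) ⟶ Y,
      l ≫ f = (Spec (CommRingCat.of A)).fromSpecResidueField p ≫ s) :
    ∃ U : (Spec (CommRingCat.of A)).Opens, (U : Set ↥(Spec (CommRingCat.of A))).Nonempty ∧
      ∃ l : (U : Scheme.{u}) ⟶ Y, l ≫ f = U.ι ≫ s := by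
  have hDr : ∀ p ∈ D, s p ∈ Set.range f := by
    intro p hp
    obtain ⟨l, hl⟩ := hl p hp
    refine ⟨l (closedPoint _), ?_⟩
    rw [← Scheme.Hom.comp_apply, hl, Scheme.Hom.comp_apply, Scheme.fromSpecResidueField_apply]
  have hsub : Set.range f ⊆ (f.coborderRange : Set X) := subset_coborder
  let U : (Spec (CommRingCat.of A)).Opens := s ⁻¹ᵁ f.coborderRange
  obtain ⟨p, hp⟩ := hD.nonempty
  refine ⟨U, ⟨p, hsub (hDr p hp)⟩, ?_⟩
  have hred : IsReduced (U : Scheme.{u}) := inferInstance
  obtain ⟨l, hl⟩ := exists_lift_of_isClosedImmersion_of_isReduced f.liftCoborder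
    (s ∣_ f.coborderRange) (by
      have hcl : IsClosed ((s ∣_ f.coborderRange) ⁻¹' (Set.range f.liftCoborder)) :=
        (f.liftCoborder.isClosedEmbedding.isClosed_range).preimage
          (s ∣_ f.coborderRange).continuous
      have hdense : Dense ((Subtype.val : U → _) ⁻¹' D) :=
        hD.preimage U.2.isOpenMap_subtype_val
      have huniv : (s ∣_ f.coborderRange) ⁻¹' (Set.range f.liftCoborder) = Set.univ := by
        apply hcl.closure_eq ▸ (Dense.closure_eq (hdense.mono ?_))
        intro u hu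
        obtain ⟨y, hy⟩ := hDr u.1 hu
        refine ⟨y, ?_⟩
        apply f.coborderRange.ι.isEmbedding.injective
        rw [← Scheme.Hom.comp_apply, f.liftCoborder_ι, ← Scheme.Hom.comp_apply,
          morphismRestrict_ι, hy]
        rfl
      rintro _ ⟨u, rfl⟩
      have : u ∈ (s ∣_ f.coborderRange) ⁻¹' (Set.range f.liftCoborder) := by
        rw [huniv]; trivial
      exact this)
  refine ⟨l, ?_⟩
  rw [← f.liftCoborder_ι, ← Category.assoc, hl, morphismRestrict_ι]

/-- The spectrum of the residue field of a local ring maps to the closed point. -/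
lemma specMap_residue_apply (R : Type u) [CommRing R] [IsLocalRing R]
    (pt : Spec (CommRingCat.of (IsLocalRing.ResidueField R))) :
    Spec.map (CommRingCat.ofHom (IsLocalRing.residue R)) pt = closedPoint R := by
  have h0 : pt = closedPoint (IsLocalRing.ResidueField R) := Subsingleton.elim _ _
  rw [h0]
  exact IsLocalRing.comap_closedPoint (IsLocalRing.residue R)

/-- If the closed point of a local ring maps into an open, everything does. -/
lemma range_subset_of_closedPoint_mem {X : Scheme.{u}} (R : Type u) [CommRing R] [IsLocalRing R]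
    (g : Spec (CommRingCat.of R) ⟶ X) (V : X.Opens) (h : g (closedPoint R) ∈ V) :
    Set.range g ⊆ (V : Set X) := by
  rintro _ ⟨x, rfl⟩
  have h1 : x ⤳ closedPoint R := IsLocalRing.specializes_closedPoint x
  exact (h1.map g.continuous).mem_open V.2 h

/-- Immersions satisfy valuative lifting as soon as the closed point lifts. -/
theorem immersion_valuative_lift {X Y : Scheme.{u}} (f : Y ⟶ X) [IsImmersion f]
    (S : ValuativeCommSq f)
    (h₀ : ∃ l₀ : Spec (CommRingCat.of (IsLocalRing.ResidueField S.R)) ⟶ Y,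
      l₀ ≫ f = Spec.map (CommRingCat.ofHom (IsLocalRing.residue S.R)) ≫ S.i₂) :
    S.commSq.HasLift := by
  obtain ⟨l₀, hl₀⟩ := h₀
  have hsub : Set.range f ⊆ (f.coborderRange : Set X) := subset_coborder
  have hc : S.i₂ (closedPoint S.R) ∈ f.coborderRange := by
    apply hsub
    refine ⟨l₀ (closedPoint _), ?_⟩
    rw [← Scheme.Hom.comp_apply, hl₀, Scheme.Hom.comp_apply, specMap_residue_apply]
  have hr := range_subset_of_closedPoint_mem S.R S.i₂ f.coborderRange hc
  let i₂' : Spec (CommRingCat.of S.R) ⟶ f.coborderRange :=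
    IsOpenImmersion.lift f.coborderRange.ι S.i₂ (by simpa using hr)
  have hi₂' : i₂' ≫ f.coborderRange.ι = S.i₂ := IsOpenImmersion.lift_fac _ _ _
  have hex : ValuativeCriterion.Existence f.liftCoborder := by
    have h : UniversallyClosed f.liftCoborder := inferInstance
    rw [UniversallyClosed.eq_valuativeCriterion] at h
    exact h.1
  let S' : ValuativeCommSq f.liftCoborder :=
    { R := S.R
      K := S.K
      i₁ := S.i₁
      i₂ := i₂'
      commSq := ⟨by
        rw [← cancel_mono f.coborderRange.ι, Category.assoc, Category.assoc, hi₂',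
          f.liftCoborder_ι]
        exact S.commSq.w⟩ }
  obtain ⟨l, h1, h2⟩ := (hex S').exists_lift
  refine ⟨⟨⟨l, h1, ?_⟩⟩⟩
  have h3 : l ≫ f = (l ≫ f.liftCoborder) ≫ f.coborderRange.ι := by
    rw [Category.assoc, f.liftCoborder_ι]
  rw [h3, h2, hi₂']


theorem surjective_algebraMap_of_isEpi_of_field (k C : Type*) [Field k] [CommRing C] [Algebra k C]
    [Algebra.IsEpi k C] : Function.Surjective (algebraMap k C) := by
  rcases subsingleton_or_nontrivial C with h | h
  · intro c; exact ⟨0, Subsingleton.elim _ _⟩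
  have hinj : Function.Injective (Algebra.linearMap k C) := (algebraMap k C).injective
  obtain ⟨φ, hφ⟩ := LinearMap.exists_leftInverse_of_injective (Algebra.linearMap k C)
    (LinearMap.ker_eq_bot.2 hinj)
  intro c
  refine ⟨φ c, ?_⟩
  have h1 := (Algebra.isEpi_iff_forall_one_tmul_eq k C).1 inferInstance c
  have h2 := congr(TensorProduct.lift ((LinearMap.lsmul k C).comp φ) $h1)
  simp only [TensorProduct.lift.tmul, LinearMap.comp_apply, LinearMap.lsmul_apply] at h2
  have h3 : φ 1 = 1 := by
    have := congr($hφ 1)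
    simpa using this
  rw [Algebra.algebraMap_eq_smul_one]
  first
  | exact h2.symm
  | (rw [h3, one_smul] at h2; exact h2.symm)

theorem mono_lift_field {X Y : Scheme.{u}} (f : Y ⟶ X) [Mono f] (k : Type u) [Field k]
    (t : Spec (CommRingCat.of k) ⟶ X) (y : Y) (hy : f y = t (closedPoint k)) :
    ∃ l : Spec (CommRingCat.of k) ⟶ Y, l ≫ f = t := by
  obtain ⟨z, hz1, hz2⟩ := Scheme.Pullback.exists_preimage_pullback (f := f) (g := t) y
    (closedPoint k) hy
  obtain ⟨W, hW, hzW, -⟩ := exists_isAffineOpen_mem_and_subset (x := z) (U := ⊤) trivial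
  let j := hW.fromSpec
  let m := j ≫ pullback.snd f t
  have hm : Mono m := inferInstance
  let φ : CommRingCat.of k ⟶ Γ(pullback f t, W) := Spec.preimage m
  have hφ : Spec.map φ = m := Spec.map_preimage m
  have hepi : Epi φ := by
    constructor
    intro T g₁ g₂ e
    apply Spec.map_injective
    have : Mono (Spec.map φ) := hφ ▸ hm
    rw [← cancel_mono (Spec.map φ), ← Spec.map_comp, ← Spec.map_comp, e]
  let _ : Algebra k Γ(pullback f t, W) := φ.hom.toAlgebra
  have hepi' : Algebra.IsEpi k Γ(pullback f t, W) := CommRingCat.epi_iff_epi.1 hepi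
  have hnt : Nontrivial Γ(pullback f t, W) :=
    (PrimeSpectrum.nonempty_iff_nontrivial).1 ⟨hW.primeIdealOf ⟨z, hzW⟩⟩
  have hsurj := surjective_algebraMap_of_isEpi_of_field k Γ(pullback f t, W)
  have hinj : Function.Injective (algebraMap k Γ(pullback f t, W)) := (algebraMap k _).injective
  let e : k ≃+* Γ(pullback f t, W) := RingEquiv.ofBijective (algebraMap k _) ⟨hinj, hsurj⟩
  let ρ : Γ(pullback f t, W) ⟶ CommRingCat.of k := CommRingCat.ofHom e.symm.toRingHom
  have hρ : φ ≫ ρ = 𝟙 _ := by
    apply CommRingCat.hom_ext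
    apply RingHom.ext
    intro x
    exact e.symm_apply_apply x
  refine ⟨Spec.map ρ ≫ j ≫ pullback.fst f t, ?_⟩
  have h5 : j ≫ pullback.snd f t = Spec.map φ := hφ.symm
  rw [Category.assoc, Category.assoc, pullback.condition, ← Category.assoc j, h5,
    ← Spec.map_comp_assoc, hρ, Spec.map_id, Category.id_comp]


/-- The spectrum of a field maps to the generic point under an injective ring map. -/
lemma specMap_apply_of_injective {A K : Type u} [CommRing A] [IsDomain A] [Field K]
    (φ : A →+* K) (hφ : Function.Injective φ) (pt : Spec (CommRingCat.of K)) :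
    Spec.map (CommRingCat.ofHom φ) pt = (⊥ : PrimeSpectrum A) := by
  apply PrimeSpectrum.ext
  change Ideal.comap φ pt.asIdeal = ⊥
  have h0 : pt.asIdeal = ⊥ := (Ideal.eq_bot_or_top pt.asIdeal).resolve_right pt.isPrime.ne_top
  rw [h0, ← RingHom.ker_eq_comap_bot]
  exact (RingHom.injective_iff_ker_eq_bot _).1 hφ

theorem specializes_of_lift {X Y X' : Scheme.{u}} (f : Y ⟶ X) [Mono f] (g : X' ⟶ X)
    (y₀ y₁ : ↥(pullback f g)) (V : Type u) [CommRing V] [IsDomain V] [IsLocalRing V]
    (h : Spec (CommRingCat.of V) ⟶ X')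
    (hgen : h (⊥ : PrimeSpectrum V) = pullback.snd f g y₁)
    (hcl : h (closedPoint V) = pullback.snd f g y₀)
    (l : Spec (CommRingCat.of V) ⟶ Y) (hl : l ≫ f = h ≫ g) : y₁ ⤳ y₀ := by
  let m := pullback.lift l h hl
  have hm : m ≫ pullback.snd f g = h := pullback.lift_snd _ _ _
  have inj := (pullback.snd f g).injective
  have h1 : m (⊥ : PrimeSpectrum V) = y₁ := by
    apply inj
    rw [← Scheme.Hom.comp_apply, hm, hgen]
  have h0 : m (closedPoint V) = y₀ := by
    apply inj
    rw [← Scheme.Hom.comp_apply, hm, hcl]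
  rw [← h1, ← h0]
  exact (IsLocalRing.specializes_closedPoint (⊥ : PrimeSpectrum V)).map m.continuous

set_option backward.isDefEq.respectTransparency.types false in
theorem exists_valuationRing_of_specializes {X' Y' : Scheme.{u}} (p : Y' ⟶ X') (y₁ : Y')
    (x₀ : X') (h : p y₁ ⤳ x₀) :
    ∃ (A : ValuationSubring (Y'.residueField y₁)) (hV : Spec (CommRingCat.of A) ⟶ X'),
      hV (closedPoint A) = x₀ ∧
      Y'.fromSpecResidueField y₁ ≫ p =
        Spec.map (CommRingCat.ofHom (algebraMap A (Y'.residueField y₁))) ≫ hV := by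
  let stalk_y_to_residue_x' : X'.presheaf.stalk x₀ ⟶ Y'.residueField y₁ :=
    X'.presheaf.stalkSpecializes h ≫ p.stalkMap y₁ ≫ Y'.residue y₁
  obtain ⟨A, hA, hA_local⟩ := exists_factor_valuationRing stalk_y_to_residue_x'.hom
  let stalk_y_to_A : X'.presheaf.stalk x₀ ⟶ .of A :=
    CommRingCat.ofHom (stalk_y_to_residue_x'.hom.codRestrict _ hA)
  have w : Y'.fromSpecResidueField y₁ ≫ p =
      Spec.map (CommRingCat.ofHom (algebraMap A (Y'.residueField y₁))) ≫
        Spec.map stalk_y_to_A ≫ X'.fromSpecStalk x₀ := by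
    rw [Scheme.fromSpecResidueField, Category.assoc, ← Scheme.SpecMap_stalkMap_fromSpecStalk,
      ← Scheme.SpecMap_stalkSpecializes_fromSpecStalk h]
    simp_rw [← Spec.map_comp_assoc]
    rfl
  refine ⟨A, Spec.map stalk_y_to_A ≫ X'.fromSpecStalk x₀, ?_, w⟩
  simp only [Scheme.Hom.comp_base, TopCat.coe_comp, Function.comp_apply]
  have : Spec.map stalk_y_to_A (closedPoint A) = closedPoint (X'.presheaf.stalk x₀) :=
    comap_closedPoint (S := A) (stalk_y_to_residue_x'.hom.codRestrict A.toSubring hA)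
  rw [this, X'.fromSpecStalk_closedPoint]

theorem reflects_of_valuative {X Y : Scheme.{u}} (f : Y ⟶ X) [Mono f]
    (H : ∀ S : ValuativeCommSq f,
        (∃ l₀ : Spec (CommRingCat.of (IsLocalRing.ResidueField S.R)) ⟶ Y,
            l₀ ≫ f = Spec.map (CommRingCat.ofHom (IsLocalRing.residue S.R)) ≫ S.i₂) →
          S.commSq.HasLift)
    (X' : Scheme.{u}) (g : X' ⟶ X) (y₀ y₁ : ↥(pullback f g))
    (hs : (pullback.snd f g).base y₁ ⤳ (pullback.snd f g).base y₀) : y₁ ⤳ y₀ := by
  obtain ⟨A, hV, hcl, hw⟩ := exists_valuationRing_of_specializes (pullback.snd f g) y₁ _ hs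
  have hgen : hV (⊥ : PrimeSpectrum A) = pullback.snd f g y₁ := by
    have h1 := congr(($hw).base (closedPoint _))
    simp only [Scheme.Hom.comp_base, TopCat.hom_comp, ContinuousMap.comp_apply] at h1
    rw [Scheme.fromSpecResidueField_apply] at h1
    rw [h1]
    congr 1
    exact (specMap_apply_of_injective (algebraMap A ((pullback f g).residueField y₁))
      Subtype.val_injective _).symm
  let S : ValuativeCommSq f :=
    { R := A
      K := (pullback f g).residueField y₁
      i₁ := (pullback f g).fromSpecResidueField y₁ ≫ pullback.fst f g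
      i₂ := hV ≫ g
      commSq := ⟨by rw [Category.assoc, pullback.condition, ← Category.assoc, hw, Category.assoc]⟩ }
  have hpt : f (pullback.fst f g y₀) =
      (Spec.map (CommRingCat.ofHom (IsLocalRing.residue A)) ≫ hV ≫ g)
        (closedPoint (IsLocalRing.ResidueField A)) := by
    rw [Scheme.Hom.comp_apply, Scheme.Hom.comp_apply, specMap_residue_apply, hcl,
      ← Scheme.Hom.comp_apply, ← Scheme.Hom.comp_apply, pullback.condition]
  obtain ⟨l₀, hl₀⟩ := mono_lift_field f (IsLocalRing.ResidueField A) _ _ hpt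
  obtain ⟨l, h1, h2⟩ := (H S ⟨l₀, hl₀⟩).exists_lift
  exact specializes_of_lift f g y₀ y₁ A hV hgen hcl l h2

instance {R S : CommRingCat} (e : R ≅ S) : IsLocalHom e.hom.hom :=
  isLocalHom_of_isIso _

set_option backward.isDefEq.respectTransparency false in
theorem valuative_of_reflects {X Y : Scheme.{u}} (f : Y ⟶ X)
    (H : ∀ (X' : Scheme.{u}) (g : X' ⟶ X) (y₀ y₁ : ↥(pullback f g)),
        (pullback.snd f g).base y₁ ⤳ (pullback.snd f g).base y₀ → y₁ ⤳ y₀)
    (S : ValuativeCommSq f)
    (h₀ : ∃ l₀ : Spec (CommRingCat.of (IsLocalRing.ResidueField S.R)) ⟶ Y,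
            l₀ ≫ f = Spec.map (CommRingCat.ofHom (IsLocalRing.residue S.R)) ≫ S.i₂) :
    S.commSq.HasLift := by
  obtain ⟨R, K, i₁, i₂, ⟨w⟩⟩ := S
  obtain ⟨l₀, hl₀⟩ := h₀
  dsimp only at l₀ hl₀
  have : IsDomain (CommRingCat.of R) := ‹_›
  have : ValuationRing (CommRingCat.of R) := ‹_›
  let : Field (CommRingCat.of K) := ‹_›
  let lft := pullback.lift i₁ (Spec.map (CommRingCat.ofHom (algebraMap R K))) w
  let lft₀ := pullback.lift l₀ (Spec.map (CommRingCat.ofHom (IsLocalRing.residue R))) hl₀
  let x := lft₀ (closedPoint _)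
  have h₂ : pullback.snd f i₂ x = closedPoint R := by
    change (lft₀ ≫ pullback.snd f i₂) _ = _
    rw [pullback.lift_snd, specMap_residue_apply]
  have h₁ : lft (closedPoint K) ⤳ x := by
    apply H _ i₂
    rw [h₂]
    exact specializes_closedPoint (R := R) _
  let e : CommRingCat.of R ≅ (Spec <| .of R).presheaf.stalk (pullback.snd f i₂ x) :=
    (stalkClosedPointIso (.of R)).symm ≪≫
      (Spec <| .of R).presheaf.stalkCongr (.of_eq h₂.symm)
  let α := e.hom ≫ (pullback.snd f i₂).stalkMap x
  have : IsLocalHom e.hom.hom := isLocalHom_of_isIso e.hom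
  have : IsLocalHom α.hom := inferInstanceAs
    (IsLocalHom (((pullback.snd f i₂).stalkMap x).hom.comp e.hom.hom))
  let β := (pullback f i₂).presheaf.stalkSpecializes h₁ ≫ Scheme.stalkClosedPointTo lft
  have hαβ : α ≫ β = CommRingCat.ofHom (algebraMap R K) := by
    simp only [CommRingCat.coe_of, Iso.trans_hom, Iso.symm_hom, TopCat.Presheaf.stalkCongr_hom,
      Category.assoc, α, e, β, stalkClosedPointIso_inv, StructureSheaf.toStalk]
    change (Scheme.ΓSpecIso (.of R)).inv ≫ (Spec <| .of R).presheaf.germ _ _ _ ≫ _ = _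
    simp only [TopCat.Presheaf.germ_stalkSpecializes_assoc, Scheme.Hom.germ_stalkMap_assoc]
    simp only [TopologicalSpace.Opens.map_top]
    rw [Scheme.germ_stalkClosedPointTo lft ⊤ trivial]
    erw [← Scheme.Hom.comp_app_assoc lft (pullback.snd f i₂)]
    rw [pullback.lift_snd]
    simp
  have hbij := (bijective_rangeRestrict_comp_of_valuationRing (R := R) (K := K) α.hom β.hom
    (CommRingCat.hom_ext_iff.mp hαβ))
  let φ : (pullback f i₂).presheaf.stalk x ⟶ CommRingCat.of R := CommRingCat.ofHom <|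
    (RingEquiv.ofBijective _ hbij).symm.toRingHom.comp β.hom.rangeRestrict
  have hαφ : α ≫ φ = 𝟙 _ := by ext x; exact (RingEquiv.ofBijective _ hbij).symm_apply_apply x
  have hαφ' : (pullback.snd f i₂).stalkMap x ≫ φ = e.inv := by
    rw [← cancel_epi e.hom, ← Category.assoc, hαφ, e.hom_inv_id]
  have hφβ : φ ≫ CommRingCat.ofHom (algebraMap R K) = β :=
    hαβ ▸ CommRingCat.hom_ext (RingHom.ext fun x ↦ congr_arg Subtype.val
      ((RingEquiv.ofBijective _ hbij).apply_symm_apply (β.hom.rangeRestrict x)))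
  refine ⟨⟨⟨Spec.map ((pullback.fst f i₂).stalkMap x ≫ φ) ≫ Y.fromSpecStalk _, ?_, ?_⟩⟩⟩
  · simp only [← Spec.map_comp_assoc, Category.assoc, hφβ]
    simp only [Spec.map_comp, Category.assoc, Scheme.SpecMap_stalkMap_fromSpecStalk,
      Scheme.SpecMap_stalkSpecializes_fromSpecStalk_assoc, β]
    rw [Scheme.Spec_stalkClosedPointTo_fromSpecStalk_assoc]
    simp [lft]
  · simp only [Spec.map_comp, Category.assoc, Scheme.SpecMap_stalkMap_fromSpecStalk,
      pullback.condition]
    rw [← Scheme.SpecMap_stalkMap_fromSpecStalk_assoc, ← Spec.map_comp_assoc, hαφ']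
    simp only [Iso.trans_inv, TopCat.Presheaf.stalkCongr_inv, Iso.symm_inv, Spec.map_comp,
      Category.assoc, Scheme.SpecMap_stalkSpecializes_fromSpecStalk_assoc, e]
    rw [← Spec_stalkClosedPointIso, ← Spec.map_comp_assoc,
      Iso.inv_hom_id, Spec.map_id, Category.id_comp]



theorem quasiCompact_of_mono_of_denseLift {X Y : Scheme.{u}} [IsLocallyNoetherian X]
    (f : Y ⟶ X) [Mono f]
    (hc : ∀ (A : Type u) [CommRing A] [IsDomain A] (s : Spec (CommRingCat.of A) ⟶ X)
        (D : Set ↥(Spec (CommRingCat.of A))),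
        Dense D →
        (∀ p ∈ D, ∃ l : Spec ((Spec (CommRingCat.of A)).residueField p) ⟶ Y,
            l ≫ f = (Spec (CommRingCat.of A)).fromSpecResidueField p ≫ s) →
          ∃ U : (Spec (CommRingCat.of A)).Opens, (U : Set ↥(Spec (CommRingCat.of A))).Nonempty ∧
            ∃ l : (U : Scheme.{u}) ⟶ Y, l ≫ f = U.ι ≫ s) :
    QuasiCompact f := by
  rw [quasiCompact_iff_forall_isAffineOpen]
  intro V hV
  have hR : IsNoetherianRing Γ(X, V) := IsLocallyNoetherian.component_noetherian ⟨V, hV⟩
  let j := hV.fromSpec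
  have hNS : NoetherianSpace ↥(Spec Γ(X, V)) :=
    inferInstanceAs (NoetherianSpace (PrimeSpectrum Γ(X, V)))
  have key : ∀ Z : Closeds ↥(Spec Γ(X, V)),
      IsCompact (f ⁻¹' (j '' (Z : Set ↥(Spec Γ(X, V))))) := by
    intro Z
    induction Z using WellFoundedLT.induction with
    | ind Z IH =>
    rcases eq_or_ne Z ⊥ with rfl | h₀
    · simp only [Closeds.coe_bot, Set.image_empty, Set.preimage_empty]
      exact isCompact_empty
    by_cases h₁ : IsPreirreducible (Z : Set ↥(Spec Γ(X, V)))
    swap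
    · simp only [isPreirreducible_iff_isClosed_union_isClosed, not_forall, not_or] at h₁
      obtain ⟨z₁, z₂, hz₁, hz₂, h, hz₁', hz₂'⟩ := h₁
      lift z₁ to Closeds ↥(Spec Γ(X, V)) using hz₁
      lift z₂ to Closeds ↥(Spec Γ(X, V)) using hz₂
      have e : (Z : Set ↥(Spec Γ(X, V))) =
          ((Z ⊓ z₁ : Closeds _) : Set _) ∪ ((Z ⊓ z₂ : Closeds _) : Set _) := by
        simp only [Closeds.coe_inf]
        rw [← Set.inter_union_distrib_left]
        exact (Set.inter_eq_left.2 h).symm
      rw [e, Set.image_union, Set.preimage_union]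
      exact (IH _ (inf_lt_left.2 hz₁')).union (IH _ (inf_lt_left.2 hz₂'))
    have hirr : IsIrreducible (Z : Set ↥(Spec Γ(X, V))) :=
      ⟨Closeds.coe_nonempty.2 h₀, h₁⟩
    let p : Ideal Γ(X, V) := PrimeSpectrum.vanishingIdeal (R := Γ(X, V)) (Z : Set ↥(Spec Γ(X, V)))
    have hp : p.IsPrime := (PrimeSpectrum.isIrreducible_iff_vanishingIdeal_isPrime).1 hirr
    have hZ : PrimeSpectrum.zeroLocus (p : Set Γ(X, V)) = (Z : Set ↥(Spec Γ(X, V))) := by
      change PrimeSpectrum.zeroLocus ((PrimeSpectrum.vanishingIdeal (R := Γ(X, V))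
        (Z : Set ↥(Spec Γ(X, V))) : Ideal Γ(X, V)) : Set Γ(X, V)) = _
      rw [PrimeSpectrum.zeroLocus_vanishingIdeal_eq_closure]
      exact Z.isClosed.closure_eq
    let A := Γ(X, V) ⧸ p
    let q : Spec (CommRingCat.of A) ⟶ Spec Γ(X, V) :=
      Spec.map (CommRingCat.ofHom (Ideal.Quotient.mk p))
    have hqr : Set.range q = (Z : Set ↥(Spec Γ(X, V))) := by
      rw [← hZ]
      have := _root_.range_comap_of_surjective _ (Ideal.Quotient.mk p)
        Ideal.Quotient.mk_surjective
      rw [Ideal.mk_ker] at this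
      exact this
    have hqe : Topology.IsClosedEmbedding q :=
      PrimeSpectrum.isClosedEmbedding_comap_of_surjective _ (Ideal.Quotient.mk p)
        Ideal.Quotient.mk_surjective
    let s : Spec (CommRingCat.of A) ⟶ X := q ≫ j
    let D : Set ↥(Spec (CommRingCat.of A)) := s ⁻¹' (Set.range f)
    by_cases hD : Dense D
    · obtain ⟨U, hUne, l, hl⟩ := hc A s D hD (fun p' hp' => by
        obtain ⟨y, hy⟩ := hp'
        exact mono_lift_field f _ ((Spec (CommRingCat.of A)).fromSpecResidueField p' ≫ s) y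
          (hy.trans (congrArg (⇑s) (Scheme.fromSpecResidueField_apply p' _)).symm))
      let Z' : Closeds ↥(Spec Γ(X, V)) :=
        ⟨q '' ((U : Set ↥(Spec (CommRingCat.of A)))ᶜ), hqe.isClosedMap _ U.2.isClosed_compl⟩
      have hZ'le : (Z' : Set ↥(Spec Γ(X, V))) ⊆ (Z : Set ↥(Spec Γ(X, V))) := by
        rw [← hqr]; exact Set.image_subset_range _ _
      have hlt : Z' < Z := by
        refine lt_of_le_of_ne hZ'le ?_
        intro heq
        obtain ⟨u, hu⟩ := hUne
        have h1 : q u ∈ (Z' : Set ↥(Spec Γ(X, V))) := by rw [heq, ← hqr]; exact ⟨u, rfl⟩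
        obtain ⟨u', hu', he⟩ := h1
        exact hu' (hqe.injective he ▸ hu)
      have hUc : CompactSpace ↥(U : Scheme.{u}) :=
        isCompact_iff_compactSpace.1 (NoetherianSpace.isCompact (U : Set ↥(Spec (CommRingCat.of A))))
      have e : f ⁻¹' (j '' (Z : Set ↥(Spec Γ(X, V)))) = Set.range l ∪ f ⁻¹' (j '' (Z' : Set ↥(Spec Γ(X, V)))) := by
        ext y
        constructor
        · rintro ⟨z, hz, hzy⟩
          rw [← hqr] at hz
          obtain ⟨a, rfl⟩ := hz
          by_cases ha : a ∈ U
          · left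
            refine ⟨⟨a, ha⟩, ?_⟩
            apply f.injective
            rw [← Scheme.Hom.comp_apply, hl, ← hzy]
            rfl
          · right
            exact ⟨q a, ⟨a, ha, rfl⟩, hzy⟩
        · rintro (⟨u, rfl⟩ | ⟨z, hz, hzy⟩)
          · refine ⟨q u.1, by rw [← hqr]; exact ⟨u.1, rfl⟩, ?_⟩
            rw [← Scheme.Hom.comp_apply l f, hl]
            rfl
          · exact ⟨z, hZ'le hz, hzy⟩
      rw [e]
      exact (isCompact_range l.continuous).union (IH Z' hlt)
    · let Z' : Closeds ↥(Spec Γ(X, V)) :=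
        ⟨q '' (closure D), hqe.isClosedMap _ isClosed_closure⟩
      have hZ'le : (Z' : Set ↥(Spec Γ(X, V))) ⊆ (Z : Set ↥(Spec Γ(X, V))) := by
        rw [← hqr]; exact Set.image_subset_range _ _
      have hlt : Z' < Z := by
        refine lt_of_le_of_ne hZ'le ?_
        intro heq
        apply hD
        rw [dense_iff_closure_eq, Set.eq_univ_iff_forall]
        intro a
        have h1 : q a ∈ (Z' : Set ↥(Spec Γ(X, V))) := by rw [heq, ← hqr]; exact ⟨a, rfl⟩
        obtain ⟨a', ha', he⟩ := h1
        exact hqe.injective he ▸ ha'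
      have e : f ⁻¹' (j '' (Z : Set ↥(Spec Γ(X, V)))) = f ⁻¹' (j '' (Z' : Set ↥(Spec Γ(X, V)))) := by
        ext y
        constructor
        · rintro ⟨z, hz, hzy⟩
          rw [← hqr] at hz
          obtain ⟨a, rfl⟩ := hz
          refine ⟨q a, ⟨a, subset_closure ?_, rfl⟩, hzy⟩
          exact ⟨y, hzy.symm⟩
        · rintro ⟨z, hz, hzy⟩
          exact ⟨z, hZ'le hz, hzy⟩
      rw [e]
      exact IH Z' hlt
  have h := key ⊤
  have e : f ⁻¹' (j '' ((⊤ : Closeds ↥(Spec Γ(X, V))) : Set ↥(Spec Γ(X, V)))) =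
      (f ⁻¹ᵁ V : Set Y) := by
    rw [Closeds.coe_top, Set.image_univ, hV.range_fromSpec]
    rfl
  rw [← e]
  exact h


end Groth.Agent.H8.MonoVal
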