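import Mathlib
import Groth.Agent.Lib.Helper8.MonoVal

/-!
# Reduced induced subscheme structure on a locally closed subset
-/

set_option autoImplicit false
universe u
open CategoryTheory CategoryTheory.Limits AlgebraicGeometry

namespace Groth.Agent.H8.RedImm

/-- The closed subscheme of a radical ideal sheaf is reduced. -/
theorem isReduced_subscheme_of_isRadical {X : Scheme.{u}} (I : X.IdealSheafData)
    (h : ∀ U : X.affineOpens, (I.ideal U).IsRadical) : IsReduced I.subscheme := by
  have : ∀ U, IsReduced (I.subschemeCover.openCover.X U) := fun U => by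
    have := (Ideal.isRadical_iff_quotient_reduced _).mp (h U)
    exact (affine_isReduced_iff (.of (Γ(X, (U : X.affineOpens).1) ⧸ I.ideal U))).mpr this
  exact IsReduced.of_openCover (X := I.subscheme) I.subschemeCover.openCover

theorem isReduced_subscheme_vanishingIdeal {X : Scheme.{u}} (Z : TopologicalSpace.Closeds X) :
    IsReduced (Scheme.IdealSheafData.vanishingIdeal Z).subscheme := by
  apply isReduced_subscheme_of_isRadical
  intro U
  rw [Scheme.IdealSheafData.vanishingIdeal_ideal]
  exact PrimeSpectrum.isRadical_vanishingIdeal _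

/-- A morphism from a reduced scheme whose image lies in the image of an immersion factors through
the immersion. -/
theorem exists_lift_of_isImmersion_of_isReduced {T X Y : Scheme.{u}} (i : Y ⟶ X) [IsImmersion i]
    [IsReduced T] (s : T ⟶ X) (hs : Set.range s ⊆ Set.range i) : ∃ l : T ⟶ Y, l ≫ i = s := by
  have hsub : Set.range i ⊆ (i.coborderRange : Set X) := subset_coborder
  let s' : T ⟶ i.coborderRange := IsOpenImmersion.lift i.coborderRange.ι s (by
    rw [Scheme.Opens.range_ι]; exact hs.trans hsub)
  have hs' : s' ≫ i.coborderRange.ι = s := IsOpenImmersion.lift_fac _ _ _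
  obtain ⟨l, hl⟩ := MonoVal.exists_lift_of_isClosedImmersion_of_isReduced i.liftCoborder s' (by
    rintro _ ⟨t, rfl⟩
    obtain ⟨y, hy⟩ := hs ⟨t, rfl⟩
    refine ⟨y, ?_⟩
    apply i.coborderRange.ι.isEmbedding.injective
    rw [← Scheme.Hom.comp_apply, i.liftCoborder_ι, ← Scheme.Hom.comp_apply, hs', hy])
  refine ⟨l, ?_⟩
  rw [← i.liftCoborder_ι, ← Category.assoc, hl, hs']

/-- Two immersions from reduced schemes with the same image are isomorphic over the target. -/
theorem exists_iso_of_range_eq {X Y Y' : Scheme.{u}} (i : Y ⟶ X) (i' : Y' ⟶ X) [IsImmersion i]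
    [IsImmersion i'] [IsReduced Y] [IsReduced Y'] (h : Set.range i = Set.range i') :
    ∃ e : Y ≅ Y', e.hom ≫ i' = i := by
  obtain ⟨l, hl⟩ := exists_lift_of_isImmersion_of_isReduced i' i h.le
  obtain ⟨l', hl'⟩ := exists_lift_of_isImmersion_of_isReduced i i' h.ge
  refine ⟨⟨l, l', ?_, ?_⟩, hl⟩
  · rw [← cancel_mono i, Category.assoc, hl', hl, Category.id_comp]
  · rw [← cancel_mono i', Category.assoc, hl, hl', Category.id_comp]

/-- Existence of the reduced induced structure on a locally closed subset. -/
theorem exists_reduced_immersion {X : Scheme.{u}} (Z : Set X) (hZ : IsLocallyClosed Z) :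
    ∃ (Y : Scheme.{u}) (i : Y ⟶ X), IsImmersion i ∧ IsReduced Y ∧ Set.range i = Z := by
  obtain ⟨U, C, hU, hC, rfl⟩ := hZ
  let Uo : X.Opens := ⟨U, hU⟩
  let C' : TopologicalSpace.Closeds (Uo : Scheme.{u}) := ⟨Uo.ι ⁻¹' C, hC.preimage Uo.ι.continuous⟩
  let I := Scheme.IdealSheafData.vanishingIdeal C'
  have hred : IsReduced I.subscheme := isReduced_subscheme_vanishingIdeal C'
  refine ⟨I.subscheme, I.subschemeι ≫ Uo.ι, inferInstance, hred, ?_⟩
  rw [Scheme.Hom.comp_base, TopCat.coe_comp, Set.range_comp,
    Scheme.IdealSheafData.range_subschemeι, Scheme.IdealSheafData.coe_support_vanishingIdeal]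
  change Uo.ι '' (Uo.ι ⁻¹' C) = U ∩ C
  rw [Set.image_preimage_eq_inter_range, Scheme.Opens.range_ι, Set.inter_comm]
  rfl

end Groth.Agent.H8.RedImm
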