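import Mathlib

/-!
# Flat + unramified + finite type over a reduced base with finitely many irreducible components
is étale (helper8)

Algebra core: if `E` is étale over `A`, `A` embeds in a Noetherian ring `Q`, and `E ⧸ I` is flat
over `A`, then `I` is generated by an idempotent.
-/

open TensorProduct Polynomial AlgebraicGeometry CategoryTheory TopologicalSpace

universe u

namespace Groth.Agent.H8.FlatUnram

section Algebra

variable {A E Q : Type*} [CommRing A] [CommRing E] [Algebra A E] [CommRing Q] [Algebra A Q]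

/-- Step 2: after base change to a Noetherian ring, the ideal becomes idempotent-generated. -/
theorem exists_idem_tensor [Algebra.Etale A E] [IsNoetherianRing Q] (I : Ideal E)
    [Module.Flat A (E ⧸ I)] :
    ∃ ε : Q ⊗[A] E, IsIdempotentElem ε ∧
      RingHom.ker (Algebra.TensorProduct.map (AlgHom.id Q Q) (Ideal.Quotient.mkₐ A I)) =
        Ideal.span {ε} := by
  set φ : Q ⊗[A] E →ₐ[Q] Q ⊗[A] (E ⧸ I) :=
    Algebra.TensorProduct.map (AlgHom.id Q Q) (Ideal.Quotient.mkₐ A I) with hφ
  have hsurj : Function.Surjective φ := by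
    intro z
    induction z with
    | zero => exact ⟨0, map_zero _⟩
    | tmul q b =>
      obtain ⟨e, rfl⟩ := Ideal.Quotient.mk_surjective b
      exact ⟨q ⊗ₜ e, by simp [hφ]⟩
    | add x y hx hy =>
      obtain ⟨x', rfl⟩ := hx
      obtain ⟨y', rfl⟩ := hy
      exact ⟨x' + y', map_add _ _ _⟩
  have : Algebra.FiniteType A (E ⧸ I) := inferInstance
  have : Algebra.FinitePresentation Q (Q ⊗[A] (E ⧸ I)) :=
    Algebra.FinitePresentation.of_finiteType.mp inferInstance
  have : Algebra.Etale Q (Q ⊗[A] (E ⧸ I)) := Algebra.Etale.of_formallyUnramified_of_flat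
  let _ := φ.toRingHom.toAlgebra
  have : IsScalarTower Q (Q ⊗[A] E) (Q ⊗[A] (E ⧸ I)) :=
    .of_algebraMap_eq' φ.comp_algebraMap.symm
  have hsurj' : Function.Surjective (algebraMap (Q ⊗[A] E) (Q ⊗[A] (E ⧸ I))) := hsurj
  obtain ⟨e, he, hfe⟩ :=
    (Ideal.isIdempotentElem_iff_of_fg _
      (Algebra.FinitePresentation.ker_fG_of_surjective φ hsurj)).mp
      ((Algebra.FormallyEtale.iff_of_surjective hsurj').mp (.of_restrictScalars (R := Q)))
  exact ⟨e, he, hfe⟩

/-- For an idempotent `ε`, `ε * p(ε) = p(1) • ε`. -/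
theorem idem_mul_aeval {R S : Type*} [CommRing R] [CommRing S] [Algebra R S] {ε : S}
    (hε : IsIdempotentElem ε) (p : R[X]) : ε * aeval ε p = (p.eval 1) • ε := by
  induction p using Polynomial.induction_on' with
  | add p q hp hq => rw [map_add, mul_add, hp, hq, eval_add, add_smul]
  | monomial n a =>
    rw [aeval_monomial, eval_monomial, one_pow, mul_one, mul_left_comm, ← pow_succ',
      hε.pow_succ_eq, Algebra.smul_def]

/-- For a monic polynomial whose non-leading coefficients are in `I`, `p(1) - 1 ∈ I`. -/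
theorem eval_one_sub_one_mem {R : Type*} [CommRing R] {I : Ideal R} {p : R[X]} (hp : p.Monic)
    (h : ∀ i ≠ p.natDegree, p.coeff i ∈ I) : p.eval 1 - 1 ∈ I := by
  rw [eval_eq_sum_range, Finset.sum_range_succ]
  simp only [one_pow, mul_one]
  rw [hp.coeff_natDegree, add_sub_cancel_right]
  exact I.sum_mem fun i hi => h i (Finset.mem_range.mp hi).ne

/-- Core: a flat quotient of an étale algebra is cut out by an idempotent. -/
theorem exists_idem_of_flat_quotient [Algebra.Etale A E] [IsNoetherianRing Q]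
    (hinj : Function.Injective (algebraMap A Q)) (I : Ideal E) [Module.Flat A (E ⧸ I)] :
    ∃ a : E, IsIdempotentElem a ∧ I = Ideal.span {a} := by
  obtain ⟨ε', hε', hker⟩ := exists_idem_tensor (A := A) (Q := Q) I
  set φ : Q ⊗[A] E →ₐ[Q] Q ⊗[A] (E ⧸ I) :=
    Algebra.TensorProduct.map (AlgHom.id Q Q) (Ideal.Quotient.mkₐ A I) with hφ
  let cE := Algebra.TensorProduct.comm A Q E
  let cB := Algebra.TensorProduct.comm A Q (E ⧸ I)
  set ε : E ⊗[A] Q := cE ε' with hεdef
  have hε : IsIdempotentElem ε := hε'.map cE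
  let ψ : E ⊗[A] Q →ₗ[A] (E ⧸ I) ⊗[A] Q :=
    LinearMap.rTensor Q (Ideal.Quotient.mkₐ A I).toLinearMap
  have hψ : ∀ z : Q ⊗[A] E, ψ (cE z) = cB (φ z) := by
    intro z
    induction z with
    | zero => simp
    | tmul q e => simp [ψ, cE, cB, hφ]
    | add x y hx hy => simp only [map_add, hx, hy]
  have hψε : ψ ε = 0 := by
    have h1 : ε' ∈ RingHom.ker φ := hker ▸ Ideal.mem_span_singleton_self ε'
    rw [hεdef, hψ, (RingHom.mem_ker).mp h1, map_zero]
  have hP3 : ∀ i ∈ I, ε * (i ⊗ₜ[A] (1 : Q)) = i ⊗ₜ[A] (1 : Q) := by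
    intro i hi
    have h1 : (1 : Q) ⊗ₜ[A] i ∈ RingHom.ker φ := by
      simp [hφ, Ideal.Quotient.eq_zero_iff_mem.mpr hi]
    rw [hker, Ideal.mem_span_singleton'] at h1
    obtain ⟨c, hc⟩ := h1
    have h2 : ε' * ((1 : Q) ⊗ₜ[A] i) = (1 : Q) ⊗ₜ[A] i := by
      rw [← hc, mul_comm c, ← mul_assoc, hε'.eq]
    have h3 := congrArg cE h2
    simpa [map_mul, cE] using h3
  -- integrality
  have hint : IsIntegral E ε := by
    refine ⟨X ^ 2 - X, monic_X_pow_sub (degree_X_le.trans_lt (by norm_num)), ?_⟩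
    simp [sq, hε.eq]
  let Ã : Subalgebra A Q := integralClosure A Q
  obtain ⟨t, ht⟩ : ∃ t : E ⊗[A] Ã, TensorProduct.toIntegralClosure A E Q t = ⟨ε, hint⟩ :=
    (TensorProduct.toIntegralClosure_bijective_of_smooth (R := A) (S := E) (B := Q)).2 ⟨ε, hint⟩
  have hval : ∀ t : E ⊗[A] Ã, ((TensorProduct.toIntegralClosure A E Q t :
      integralClosure E (E ⊗[A] Q)) : E ⊗[A] Q) = LinearMap.lTensor E Ã.val.toLinearMap t := by
    intro t
    simp only [TensorProduct.toIntegralClosure, AlgHom.coe_codRestrict]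
    induction t with
    | zero => simp
    | tmul x y => simp [Ã]
    | add x y hx hy => simp only [map_add, hx, hy]
  have ht' : LinearMap.lTensor E Ã.val.toLinearMap t = ε := by
    rw [← hval, ht]
  have h0 : LinearMap.rTensor Ã (Ideal.Quotient.mkₐ A I).toLinearMap t = 0 := by
    apply Module.Flat.lTensor_preserves_injective_linearMap (M := E ⧸ I) Ã.val.toLinearMap
      Subtype.val_injective
    rw [map_zero, ← LinearMap.comp_apply, LinearMap.lTensor_comp_rTensor,
      ← LinearMap.rTensor_comp_lTensor, LinearMap.comp_apply, ht']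
    exact hψε
  have hex : Function.Exact (LinearMap.rTensor Ã (I.restrictScalars A).subtype)
      (LinearMap.rTensor Ã (Ideal.Quotient.mkₐ A I).toLinearMap) := by
    apply rTensor_exact Ã
    · intro x
      simp only [AlgHom.toLinearMap_apply, Ideal.Quotient.mkₐ_eq_mk, Ideal.Quotient.eq_zero_iff_mem]
      constructor
      · intro hx
        exact ⟨⟨x, hx⟩, rfl⟩
      · rintro ⟨y, rfl⟩
        exact y.2
    · exact Ideal.Quotient.mk_surjective
  obtain ⟨s, hs⟩ := (hex t).mp h0
  have key : ∀ s : ↥(I.restrictScalars A) ⊗[A] Ã,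
      TensorProduct.toIntegralClosure A E Q
        (LinearMap.rTensor Ã (I.restrictScalars A).subtype s) ∈
        I.map (algebraMap E (integralClosure E (E ⊗[A] Q))) := by
    intro s
    induction s with
    | zero => simp
    | add x y hx hy => rw [map_add, map_add]; exact add_mem hx hy
    | tmul i a =>
      have h1 : (i : E) ⊗ₜ[A] a = (i : E) • ((1 : E) ⊗ₜ[A] a) := by simp [smul_tmul']
      rw [LinearMap.rTensor_tmul, Submodule.subtype_apply, h1, map_smul, Algebra.smul_def]
      exact Ideal.mul_mem_right _ _ (Ideal.mem_map_of_mem _ i.2)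
  have hεC : (⟨ε, hint⟩ : integralClosure E (E ⊗[A] Q)) ∈
      I.map (algebraMap E (integralClosure E (E ⊗[A] Q))) := by
    rw [← ht, ← hs]; exact key s
  obtain ⟨p, hp, hp0, hpI⟩ := Polynomial.exists_monic_aeval_eq_zero_forall_mem_of_mem_map hεC
  have hr1 : p.eval 1 - 1 ∈ I := eval_one_sub_one_mem hp hpI
  have hrε : (p.eval 1) • ε = 0 := by
    have h1 : aeval ε p = 0 := by
      have h2 := congrArg Subtype.val hp0
      rwa [Polynomial.aeval_subalgebra_coe] at h2
    rw [← idem_mul_aeval hε, h1, mul_zero]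
  -- the idempotent
  have hinjE : Function.Injective (fun x : E => x ⊗ₜ[A] (1 : Q)) :=
    Algebra.TensorProduct.includeLeft_injective (R := A) (S := A) (A := E) (B := Q) hinj
  set a : E := 1 - p.eval 1 with ha
  have haI : a ∈ I := by
    have : a = -(p.eval 1 - 1) := by ring
    rw [this]; exact I.neg_mem hr1
  have haε : a ⊗ₜ[A] (1 : Q) = ε := by
    have h1 : (a ⊗ₜ[A] (1 : Q)) * ε = ε := by
      have : a ⊗ₜ[A] (1 : Q) = 1 - (p.eval 1) • (1 : E ⊗[A] Q) := by
        rw [ha, sub_tmul, Algebra.TensorProduct.one_def, smul_tmul', smul_eq_mul, mul_one]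
      rw [this, sub_mul, one_mul, smul_mul_assoc, one_mul, hrε, sub_zero]
    rw [← hP3 a haI, mul_comm, h1]
  refine ⟨a, ?_, ?_⟩
  · apply hinjE
    show (a * a) ⊗ₜ[A] (1 : Q) = a ⊗ₜ[A] (1 : Q)
    have : (a * a) ⊗ₜ[A] (1 : Q) = (a ⊗ₜ[A] (1 : Q)) * (a ⊗ₜ[A] (1 : Q)) := by
      simp [Algebra.TensorProduct.tmul_mul_tmul]
    rw [this, haε, hε.eq]
  · apply le_antisymm
    · intro i hi
      rw [Ideal.mem_span_singleton']
      refine ⟨i, ?_⟩
      apply hinjE
      show (i * a) ⊗ₜ[A] (1 : Q) = i ⊗ₜ[A] (1 : Q)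
      have : (i * a) ⊗ₜ[A] (1 : Q) = (a ⊗ₜ[A] (1 : Q)) * (i ⊗ₜ[A] (1 : Q)) := by
        simp [Algebra.TensorProduct.tmul_mul_tmul, mul_comm]
      rw [this, haε, hP3 i hi]
    · rw [Ideal.span_le, Set.singleton_subset_iff]; exact haI

/-- A flat quotient of an étale algebra is étale, over a ring embedding in a Noetherian ring. -/
theorem etale_quotient_of_flat [Algebra.Etale A E] [IsNoetherianRing Q]
    (hinj : Function.Injective (algebraMap A Q)) (I : Ideal E) [Module.Flat A (E ⧸ I)] :
    Algebra.Etale A (E ⧸ I) := by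
  obtain ⟨a, ha, hI⟩ := exists_idem_of_flat_quotient (Q := Q) hinj I
  have hfe : Algebra.FormallyEtale E (E ⧸ I) := by
    rw [Algebra.FormallyEtale.iff_of_surjective Ideal.Quotient.mk_surjective]
    have : RingHom.ker (algebraMap E (E ⧸ I)) = I := Ideal.mk_ker
    rw [this, hI]
    show Ideal.span {a} * Ideal.span {a} = Ideal.span {a}
    rw [Ideal.span_singleton_mul_span_singleton, ha.eq]
  have : Algebra.FormallyEtale A (E ⧸ I) := Algebra.FormallyEtale.comp A E (E ⧸ I)
  have : Algebra.FinitePresentation A (E ⧸ I) :=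
    Algebra.FinitePresentation.quotient (hI ▸ ⟨{a}, by simp⟩)
  exact ⟨inferInstance, inferInstance⟩

/-- Surjective version. -/
theorem etale_of_surjective_of_flat [Algebra.Etale A E] [IsNoetherianRing Q]
    (hinj : Function.Injective (algebraMap A Q)) {B : Type*} [CommRing B] [Algebra A B]
    [Module.Flat A B] (π : E →ₐ[A] B) (hπ : Function.Surjective π) : Algebra.Etale A B := by
  let e : (E ⧸ RingHom.ker π.toRingHom) ≃ₐ[A] B := Ideal.quotientKerAlgEquivOfSurjective hπ
  have : Module.Flat A (E ⧸ RingHom.ker π.toRingHom) :=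
    Module.Flat.of_linearEquiv e.toLinearEquiv
  have := etale_quotient_of_flat (Q := Q) hinj (RingHom.ker π.toRingHom)
  exact Algebra.Etale.of_equiv e

/-- A reduced ring with finitely many minimal primes embeds in a Noetherian ring. -/
theorem exists_noetherian_embedding (A : Type u) [CommRing A] [IsReduced A]
    (hA : (minimalPrimes A).Finite) :
    ∃ (Q : Type u) (_ : CommRing Q) (_ : Algebra A Q), IsNoetherianRing Q ∧
      Function.Injective (algebraMap A Q) := by
  have : ∀ p : {p // p ∈ minimalPrimes A}, p.1.IsPrime := fun p => p.2.1.1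
  have : Finite {p // p ∈ minimalPrimes A} := hA
  refine ⟨Π p : {p // p ∈ minimalPrimes A}, p.1.ResidueField, inferInstance, inferInstance,
    inferInstance, ?_⟩
  rw [injective_iff_map_eq_zero]
  intro x hx
  have h1 : ∀ p ∈ minimalPrimes A, x ∈ p := by
    intro p hp
    have := congrFun hx ⟨p, hp⟩
    simpa using this
  have h2 : x ∈ sInf (minimalPrimes A) := by
    rw [Ideal.mem_sInf]; exact fun {p} hp => h1 p hp
  have h3 : sInf (minimalPrimes A) = nilradical A := by
    rw [minimalPrimes, Ideal.sInf_minimalPrimes]; rfl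
  rw [h3, nilradical_eq_zero] at h2
  simpa using h2

end Algebra

theorem exists_etale_away {A B : Type u} [CommRing A] [CommRing B] [Algebra A B]
    [IsReduced A] (hA : (minimalPrimes A).Finite)
    [Algebra.FiniteType A B] [Module.Flat A B] [Algebra.FormallyUnramified A B]
    (q : Ideal B) [q.IsPrime] : ∃ g ∉ q, Algebra.Etale A (Localization.Away g) := by
  obtain ⟨Q, _, _, hQ, hinj⟩ := exists_noetherian_embedding A hA
  obtain ⟨g, hg, P, π, hπ⟩ :=
    Algebra.IsUnramifiedAt.exists_hasStandardEtaleSurjectionOn (R := A) q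
  refine ⟨g, hg, ?_⟩
  have : Module.Flat A (Localization.Away g) := Module.Flat.trans A B _
  exact etale_of_surjective_of_flat (Q := Q) hinj π hπ

/-- ring hom version, for any localization away. -/
theorem exists_etale_comp {A B : Type u} [CommRing A] [CommRing B] (φ : A →+* B)
    [IsReduced A] (hA : (minimalPrimes A).Finite)
    (h1 : φ.FiniteType) (h2 : φ.Flat) (h3 : φ.FormallyUnramified)
    (q : Ideal B) [q.IsPrime] : ∃ g ∉ q, ∀ (T : Type u) [CommRing T] [Algebra B T]
      [IsLocalization.Away g T], ((algebraMap B T).comp φ).Etale := by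
  algebraize [φ]
  obtain ⟨g, hg, hE⟩ := exists_etale_away hA q
  refine ⟨g, hg, fun T _ _ _ => ?_⟩
  let e : Localization.Away g ≃ₐ[B] T := IsLocalization.algEquiv (.powers g) _ _
  have h4 : (algebraMap A (Localization.Away g)).Etale := RingHom.etale_algebraMap.mpr hE
  have h5 : (algebraMap B T).comp φ = (e : Localization.Away g →+* T).comp
      (algebraMap A (Localization.Away g)) := by
    ext a
    simp [IsScalarTower.algebraMap_apply A B (Localization.Away g), RingHom.algebraMap_toAlgebra]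
  rw [h5]
  exact RingHom.Etale.stableUnderComposition _ _ h4
    (RingHom.Etale.of_bijective e.bijective)

theorem finite_irreducibleComponents_of_isOpenEmbedding {V T : Type*} [TopologicalSpace V]
    [TopologicalSpace T] {j : V → T} (hj : Topology.IsOpenEmbedding j)
    (h : (irreducibleComponents T).Finite) : (irreducibleComponents V).Finite := by
  refine (h.image (fun Z => j ⁻¹' Z)).subset ?_
  intro W hW
  have hWirr : IsIrreducible W := hW.1
  have himg : IsIrreducible (j '' W) := hWirr.image j hj.continuous.continuousOn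
  obtain ⟨Z, hZirr, hZsub, hZmax⟩ := exists_preirreducible (j '' W) himg.isPreirreducible
  have hZne : Z.Nonempty := himg.nonempty.mono hZsub
  have hZ : Z ∈ irreducibleComponents T := by
    refine ⟨⟨hZne, hZirr⟩, fun Z' hZ' hle => ?_⟩
    exact (hZmax Z' hZ'.isPreirreducible hle).le
  refine ⟨Z, hZ, ?_⟩
  have h1 : W ⊆ j ⁻¹' Z := fun w hw => hZsub ⟨w, hw, rfl⟩
  have h2 : IsIrreducible (j ⁻¹' Z) := ⟨hWirr.nonempty.mono h1, hZirr.preimage hj⟩
  exact (hW.eq_of_subset h2 h1).symm

theorem finite_minimalPrimes_of_isAffineOpen {Y : Scheme.{u}} {U V : Y.Opens} (hV : IsAffineOpen V)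
    (hVU : V ≤ U) (hU : (irreducibleComponents (U : Set Y)).Finite) :
    (minimalPrimes Γ(Y, V)).Finite := by
  have hmem : ∀ p : PrimeSpectrum Γ(Y, V), hV.fromSpec p ∈ (U : Set Y) := by
    intro p
    have h1 : hV.fromSpec p ∈ Set.range hV.fromSpec := Set.mem_range_self p
    rw [hV.range_fromSpec] at h1
    exact hVU h1
  let j : PrimeSpectrum Γ(Y, V) → (U : Set Y) := fun p => ⟨hV.fromSpec p, hmem p⟩
  have hj : Topology.IsOpenEmbedding j := by
    apply Topology.IsOpenEmbedding.of_comp j U.2.isOpenEmbedding_subtypeVal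
    exact hV.fromSpec.isOpenEmbedding
  have h1 := finite_irreducibleComponents_of_isOpenEmbedding hj hU
  have h2 := (minimalPrimes.equivIrreducibleComponents Γ(Y, V)).toEquiv
  have : Finite (irreducibleComponents (PrimeSpectrum Γ(Y, V))) := h1
  exact Set.finite_coe_iff.mp (Finite.of_equiv _ h2.symm)

theorem etale_stableUnderCompositionWithLocalizationAwaySource :
    RingHom.StableUnderCompositionWithLocalizationAwaySource RingHom.Etale := by
  intro R S T _ _ _ _ r _ f hf
  exact RingHom.Etale.stableUnderComposition _ _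
    (RingHom.Etale.propertyIsLocal.HoldsForLocalizationAway RingHom.Etale.containsIdentities S r) hf

/-- Main theorem: flat + formally unramified + locally of finite type over a reduced scheme with
locally finitely many irreducible components is étale. -/
theorem etale_of_flat_of_formallyUnramified {X Y : Scheme.{u}} (f : X ⟶ Y)
    [LocallyOfFiniteType f] [Flat f] [FormallyUnramified f] [IsReduced Y]
    (hY : ∀ y : Y, ∃ U : Y.Opens, y ∈ U ∧ (irreducibleComponents (U : Set Y)).Finite) :
    Etale f := by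
  rw [HasRingHomProperty.iff_exists_appLE (P := @Etale)
    etale_stableUnderCompositionWithLocalizationAwaySource]
  intro x
  obtain ⟨U, hyU, hU⟩ := hY (f x)
  obtain ⟨V, hV, hfxV, hVU⟩ := Opens.isBasis_iff_nbhd.mp Y.isBasis_affineOpens hyU
  obtain ⟨W₀, hW₀, hxW₀, hW₀V⟩ := Opens.isBasis_iff_nbhd.mp X.isBasis_affineOpens
    (show x ∈ f ⁻¹ᵁ V from hfxV)
  have hmin : (minimalPrimes Γ(Y, V)).Finite := finite_minimalPrimes_of_isAffineOpen hV hVU hU
  have h1 : (f.appLE V W₀ hW₀V).hom.FiniteType := f.finiteType_appLE hV hW₀ hW₀V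
  have h2 : (f.appLE V W₀ hW₀V).hom.Flat := f.flat_appLE hV hW₀ hW₀V
  have h3 : (f.appLE V W₀ hW₀V).hom.FormallyUnramified := f.formallyUnramified_appLE hV hW₀ hW₀V
  obtain ⟨g, hg, H⟩ := exists_etale_comp (f.appLE V W₀ hW₀V).hom hmin h1 h2 h3
    (hW₀.primeIdealOf ⟨x, hxW₀⟩).asIdeal
  have hxg : x ∈ X.basicOpen g := by
    have h4 : hW₀.primeIdealOf ⟨x, hxW₀⟩ ∈ hW₀.fromSpec ⁻¹ᵁ X.basicOpen g := by
      rw [hW₀.fromSpec_preimage_basicOpen]
      exact hg
    have h5 : hW₀.fromSpec (hW₀.primeIdealOf ⟨x, hxW₀⟩) = x := hW₀.fromSpec_primeIdealOf ⟨x, hxW₀⟩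
    rw [← h5]
    exact h4
  refine ⟨⟨V, hV⟩, ⟨X.basicOpen g, hW₀.basicOpen g⟩, hxg, (X.basicOpen_le g).trans hW₀V, ?_⟩
  have : IsLocalization.Away g Γ(X, X.basicOpen g) := hW₀.isLocalization_basicOpen g
  have h6 := H Γ(X, X.basicOpen g)
  rw [← f.appLE_map hW₀V (homOfLE (X.basicOpen_le g)).op]
  exact h6

end Groth.Agent.H8.FlatUnram
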