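import Groth.Agent.Lib.Helper8.Torsor

/-! Helper8: the torsor attached to a Čech 1-cocycle on a family covering the site. -/

set_option autoImplicit false
universe w' w v u

open CategoryTheory Opposite

namespace Groth.Agent.H8.Torsor

open NonAbH1

variable {C : Type u} [Category.{v} C] {J : GrothendieckTopology C}

theorem isSheaf_forget (G : Sheaf J GrpCat.{w}) :
    Presieve.IsSheaf J (G.obj ⋙ forget GrpCat.{w}) :=
  Presieve.isSheaf_iso J (Functor.isoWhiskerLeft G.obj GrpCat.coyonedaObjIsoForget)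
    (G.property (GrpCat.of (ULift.{w} (Multiplicative ℤ))))

theorem G_sep (G : Sheaf J GrpCat.{w}) {V : C} (S : Sieve V) (hS : S ∈ J V)
    (x y : G.obj.obj (op V))
    (h : ∀ ⦃W : C⦄ (g : W ⟶ V), S g → G.obj.map g.op x = G.obj.map g.op y) : x = y :=
  ((isSheaf_forget G).isSeparated S hS).ext (t₁ := x) (t₂ := y) (fun _ g hg => h g hg)

theorem G_glue (G : Sheaf J GrpCat.{w}) {V : C} (S : Sieve V) (hS : S ∈ J V)
    (y : ∀ ⦃W : C⦄ (g : W ⟶ V), S g → G.obj.obj (op W))
    (hy : ∀ ⦃W W' : C⦄ (k : W' ⟶ W) (g : W ⟶ V) (hg : S g) (hkg : S (k ≫ g)),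
      y (k ≫ g) hkg = G.obj.map k.op (y g hg)) :
    ∃ z : G.obj.obj (op V), ∀ ⦃W : C⦄ (g : W ⟶ V) (hg : S g), G.obj.map g.op z = y g hg := by
  let x : Presieve.FamilyOfElements (G.obj ⋙ forget GrpCat.{w}) S.arrows := fun W g hg => y g hg
  have hx : x.Compatible := by
    rw [Presieve.compatible_iff_sieveCompatible]
    intro W W' g k hg
    exact hy k g hg _
  exact ⟨(isSheaf_forget G S hS).amalgamate x hx,
    fun W g hg => Presieve.IsSheafFor.valid_glue (isSheaf_forget G S hS) hx g hg⟩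


section Twist

variable {G : Sheaf J GrpCat.{w}} {I : Type w'} {U : I → C}
  (γ : PresheafOfGroups.OneCocycle G.obj U)

/-- Sections over `X` of the torsor attached to the cocycle `γ`. -/
@[ext]
structure Tw (X : C) where
  val : ∀ ⦃V : C⦄ (_ : V ⟶ X) (i : I) (_ : V ⟶ U i), G.obj.obj (op V)
  res : ∀ ⦃V W : C⦄ (g : W ⟶ V) (f : V ⟶ X) (i : I) (a : V ⟶ U i),
    G.obj.map g.op (val f i a) = val (g ≫ f) i (g ≫ a)
  coc : ∀ ⦃V : C⦄ (f : V ⟶ X) (i j : I) (a : V ⟶ U i) (b : V ⟶ U j),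
    val f i a * γ.ev i j a b = val f j b

variable {γ}

theorem Gmap_comp {V W X : C} (k : W ⟶ V) (f : V ⟶ X) (g : G.obj.obj (op X)) :
    G.obj.map (k ≫ f).op g = G.obj.map k.op (G.obj.map f.op g) := by
  rw [op_comp, Functor.map_comp_apply]

theorem Gmap_id {X : C} (g : G.obj.obj (op X)) : G.obj.map (𝟙 X).op g = g := by
  rw [op_id, CategoryTheory.Functor.map_id]; rfl

/-- restriction -/
def Tw.restrict {X X' : C} (h : X' ⟶ X) (x : Tw γ X) : Tw γ X' where
  val V f i a := x.val (f ≫ h) i a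
  res V W g f i a := by rw [x.res, Category.assoc]
  coc V f i j a b := x.coc _ _ _ _ _

@[simp] theorem Tw.restrict_val {X X' : C} (h : X' ⟶ X) (x : Tw γ X) {V : C} (f : V ⟶ X') (i : I)
    (a : V ⟶ U i) : (x.restrict h).val f i a = x.val (f ≫ h) i a := rfl

theorem Tw.restrict_id {X : C} (x : Tw γ X) : x.restrict (𝟙 X) = x := by
  ext V f i a
  simp

theorem Tw.restrict_comp {X X' X'' : C} (h : X' ⟶ X) (h' : X'' ⟶ X') (x : Tw γ X) :
    x.restrict (h' ≫ h) = (x.restrict h).restrict h' := by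
  ext V f i a
  simp

/-- the action -/
def Tw.smul {X : C} (g : G.obj.obj (op X)) (x : Tw γ X) : Tw γ X where
  val V f i a := G.obj.map f.op g * x.val f i a
  res V W k f i a := by rw [map_mul, x.res, Gmap_comp]
  coc V f i j a b := by rw [mul_assoc, x.coc]

@[simp] theorem Tw.smul_val {X : C} (g : G.obj.obj (op X)) (x : Tw γ X) {V : C} (f : V ⟶ X) (i : I)
    (a : V ⟶ U i) : (x.smul g).val f i a = G.obj.map f.op g * x.val f i a := rfl

theorem Tw.one_smul {X : C} (x : Tw γ X) : x.smul 1 = x := by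
  ext V f i a
  simp

theorem Tw.mul_smul {X : C} (g h : G.obj.obj (op X)) (x : Tw γ X) :
    x.smul (g * h) = (x.smul h).smul g := by
  ext V f i a
  simp [mul_assoc]

theorem Tw.restrict_smul {X X' : C} (h : X' ⟶ X) (g : G.obj.obj (op X)) (x : Tw γ X) :
    (x.smul g).restrict h = (x.restrict h).smul (G.obj.map h.op g) := by
  ext V f i a
  simp

variable (γ) in
/-- the canonical sections -/
def Tw.sec (k : I) : Tw γ (U k) where
  val V f i a := γ.ev k i f a
  res V W g f i a := γ.ev_precomp k i g f a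
  coc V f i j a b := γ.ev_trans k i j f a b

@[simp] theorem Tw.sec_val (k : I) {V : C} (f : V ⟶ U k) (i : I)
    (a : V ⟶ U i) : (Tw.sec γ k).val f i a = γ.ev k i f a := rfl

theorem Tw.sec_cocycle (i j : I) {T : C} (a : T ⟶ U i) (b : T ⟶ U j) :
    ((Tw.sec γ j).restrict b).smul (γ.ev i j a b) = (Tw.sec γ i).restrict a := by
  ext V f k c
  simp only [Tw.smul_val, Tw.restrict_val, Tw.sec_val]
  rw [γ.ev_precomp, γ.ev_trans]


/-! ### sheaf property -/

theorem Tw.sep {X : C} (S : Sieve X) (hS : S ∈ J X) (x y : Tw γ X)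
    (h : ∀ ⦃V : C⦄ (f : V ⟶ X), S f → x.restrict f = y.restrict f) : x = y := by
  ext V f' i a
  apply G_sep G (S.pullback f') (J.pullback_stable f' hS)
  intro W g hg
  rw [x.res, y.res]
  have := congrArg (fun z : Tw γ W => z.val (𝟙 W) i (g ≫ a)) (h (g ≫ f') hg)
  simpa using this

theorem Tw.glue {X : C} (S : Sieve X) (hS : S ∈ J X)
    (y : ∀ ⦃V : C⦄ (f : V ⟶ X), S f → Tw γ V)
    (hy : ∀ ⦃V W : C⦄ (g : W ⟶ V) (f : V ⟶ X) (hf : S f) (hgf : S (g ≫ f)),
      y (g ≫ f) hgf = (y f hf).restrict g) :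
    ∃ z : Tw γ X, ∀ ⦃V : C⦄ (f : V ⟶ X) (hf : S f), z.restrict f = y f hf := by
  have ycongr : ∀ ⦃V : C⦄ (f f' : V ⟶ X) (hf : S f) (hf' : S f'), f = f' → y f hf = y f' hf' := by
    intro V f f' hf hf' e
    subst e
    rfl
  -- the local values
  have key : ∀ ⦃V : C⦄ (f' : V ⟶ X) (i : I) (a : V ⟶ U i),
      ∃ z : G.obj.obj (op V), ∀ ⦃W : C⦄ (g : W ⟶ V) (hg : S (g ≫ f')),
        G.obj.map g.op z = (y (g ≫ f') hg).val (𝟙 W) i (g ≫ a) := by
    intro V f' i a
    apply G_glue G (S.pullback f') (J.pullback_stable f' hS)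
      (fun W g hg => (y (g ≫ f') hg).val (𝟙 W) i (g ≫ a))
    intro W W' k g hg hkg
    have e1 : y ((k ≫ g) ≫ f') hkg = (y (g ≫ f') hg).restrict k := by
      rw [← hy k (g ≫ f') hg (by rw [← Category.assoc]; exact hkg)]
      exact ycongr _ _ _ _ (Category.assoc _ _ _)
    rw [e1, Tw.restrict_val, (y (g ≫ f') hg).res]
    simp
  choose zv hzv using key
  have hres : ∀ ⦃V W : C⦄ (g : W ⟶ V) (f : V ⟶ X) (i : I) (a : V ⟶ U i),
      G.obj.map g.op (zv f i a) = zv (g ≫ f) i (g ≫ a) := by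
    intro V W g f i a
    apply G_sep G (S.pullback (g ≫ f)) (J.pullback_stable (g ≫ f) hS)
    intro W' k hk
    have hk' : S ((k ≫ g) ≫ f) := by rw [Category.assoc]; exact hk
    rw [← Gmap_comp, hzv f i a (k ≫ g) hk', hzv (g ≫ f) i (g ≫ a) k hk]
    rw [ycongr ((k ≫ g) ≫ f) (k ≫ g ≫ f) hk' hk (Category.assoc _ _ _)]
    simp
  have hcoc : ∀ ⦃V : C⦄ (f : V ⟶ X) (i j : I) (a : V ⟶ U i) (b : V ⟶ U j),
      zv f i a * γ.ev i j a b = zv f j b := by
    intro V f i j a b
    apply G_sep G (S.pullback f) (J.pullback_stable f hS)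
    intro W g hg
    rw [map_mul, hzv f i a g hg, hzv f j b g hg, γ.ev_precomp, (y (g ≫ f) hg).coc]
  refine ⟨⟨zv, hres, hcoc⟩, ?_⟩
  intro V f hf
  ext W g i a
  simp only [Tw.restrict_val]
  have h1 := hzv (g ≫ f) i a (𝟙 W) (by rw [Category.id_comp]; exact S.downward_closed hf g)
  rw [Gmap_id] at h1
  rw [h1]
  have h2 : y (𝟙 W ≫ g ≫ f) (by rw [Category.id_comp]; exact S.downward_closed hf g) =
      (y f hf).restrict g := by
    rw [← hy g f hf (S.downward_closed hf g)]
    exact ycongr _ _ _ _ (Category.id_comp _)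
  rw [h2]
  simp


/-! ### torsor property -/

theorem Tw.ratio_indep {X : C} (x y : Tw γ X) {V : C} (f : V ⟶ X) (i j : I) (a : V ⟶ U i)
    (b : V ⟶ U j) :
    y.val f i a * (x.val f i a)⁻¹ = y.val f j b * (x.val f j b)⁻¹ := by
  rw [← x.coc f i j a b, ← y.coc f i j a b]
  group

theorem Tw.exists_smul_eq (hU : J.CoversTop U) {X : C} (x y : Tw γ X) :
    ∃ g : G.obj.obj (op X), x.smul g = y := by
  obtain ⟨g, hg⟩ := G_glue G (Sieve.ofObjects U X) (hU X)
    (fun V f hf => y.val f hf.choose hf.choose_spec.some *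
      (x.val f hf.choose hf.choose_spec.some)⁻¹) (by
    intro W W' k f hf hkf
    rw [map_mul, map_inv, x.res, y.res]
    exact Tw.ratio_indep x y _ _ _ _ _)
  refine ⟨g, ?_⟩
  ext V f i a
  rw [Tw.smul_val, hg f ⟨i, ⟨a⟩⟩, Tw.ratio_indep x y f _ i _ a]
  group

theorem Tw.smul_cancel (hU : J.CoversTop U) {X : C} (x : Tw γ X) (g g' : G.obj.obj (op X))
    (h : x.smul g = x.smul g') : g = g' := by
  apply G_sep G (Sieve.ofObjects U X) (hU X)
  rintro V f ⟨i, ⟨a⟩⟩
  have := congrArg (fun z : Tw γ X => z.val f i a) h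
  simpa using this

theorem Tw.existsUnique_smul_eq (hU : J.CoversTop U) {X : C} (x y : Tw γ X) :
    ∃! g : G.obj.obj (op X), x.smul g = y := by
  obtain ⟨g, hg⟩ := Tw.exists_smul_eq hU x y
  exact ⟨g, hg, fun g' hg' => Tw.smul_cancel hU x g' g (hg'.trans hg.symm)⟩

theorem Tw.small (hU : J.CoversTop U) (X : C) : Small.{w} (Tw γ X) := by
  classical
  by_cases h : Nonempty (Tw γ X)
  · obtain ⟨x₀⟩ := h
    refine small_of_injective (β := G.obj.obj (op X))
      (f := fun x => (Tw.exists_smul_eq hU x₀ x).choose) ?_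
    intro x y hxy
    have hx := (Tw.exists_smul_eq hU x₀ x).choose_spec
    have hy := (Tw.exists_smul_eq hU x₀ y).choose_spec
    simp only at hxy
    rw [← hx, ← hy, hxy]
  · have : IsEmpty (Tw γ X) := not_nonempty_iff.mp h
    infer_instance


/-! ### packaging as a `GSheaf` valued in `Type w` -/

section Pack

variable (γ) [∀ X : C, Small.{w} (Tw γ X)]

/-- the underlying presheaf -/
noncomputable def twPresheaf : Cᵒᵖ ⥤ Type w where
  obj X := Shrink.{w} (Tw γ X.unop)
  map {X Y} h := TypeCat.ofHom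
    (fun p => equivShrink _ (((equivShrink (Tw γ X.unop)).symm p).restrict h.unop))
  map_id X := by
    ext p
    simp [Tw.restrict_id]
  map_comp h h' := by
    ext p
    simp [Tw.restrict_comp]

theorem twPresheaf_map {X Y : Cᵒᵖ} (h : X ⟶ Y) (p : (twPresheaf γ).obj X) :
    (twPresheaf γ).map h p =
      equivShrink _ (((equivShrink (Tw γ X.unop)).symm p).restrict h.unop) := rfl

theorem twPresheaf_isSheaf : Presheaf.IsSheaf J (twPresheaf γ) := by
  rw [isSheaf_iff_isSheaf_of_type]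
  intro X S hS x hx
  have hx' := (Presieve.compatible_iff_sieveCompatible x).1 hx
  obtain ⟨z, hz⟩ := Tw.glue (γ := γ) S hS
    (fun V f hf => (equivShrink (Tw γ V)).symm (x f hf)) (by
    intro V W g f hf hgf
    have := hx' f g hf
    rw [twPresheaf_map] at this
    rw [this, Equiv.symm_apply_apply]
    rfl)
  refine ⟨equivShrink _ z, ?_, ?_⟩
  · intro V f hf
    rw [twPresheaf_map, Equiv.symm_apply_apply]
    show equivShrink _ (z.restrict f) = _
    rw [hz f hf, Equiv.apply_symm_apply]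
  · intro t ht
    rw [← (equivShrink (Tw γ X)).apply_symm_apply t]
    congr 1
    apply Tw.sep S hS
    intro V f hf
    rw [hz f hf]
    have := ht f hf
    rw [twPresheaf_map] at this
    rw [← this, Equiv.symm_apply_apply]
    rfl

/-- the `G`-sheaf attached to a cocycle -/
noncomputable def twGSheaf : GSheaf G where
  P := ⟨twPresheaf γ, twPresheaf_isSheaf γ⟩
  smul {X} g p := equivShrink _ (((equivShrink (Tw γ X.unop)).symm p).smul g)
  one_smul {X} p := by
    rw [Tw.one_smul, Equiv.apply_symm_apply]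
  mul_smul {X} g h p := by
    rw [Tw.mul_smul, Equiv.symm_apply_apply]
  map_smul {X Y} f g p := by
    show (twPresheaf γ).map f _ = equivShrink _ (((equivShrink _).symm ((twPresheaf γ).map f p)).smul _)
    rw [twPresheaf_map, twPresheaf_map, Equiv.symm_apply_apply, Equiv.symm_apply_apply,
      Tw.restrict_smul]
    rfl

theorem twGSheaf_smul {X : Cᵒᵖ} (g : G.obj.obj X) (p : (twGSheaf γ).P.obj.obj X) :
    (twGSheaf γ).smul g p = equivShrink _ (((equivShrink (Tw γ X.unop)).symm p).smul g) := rfl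

theorem twGSheaf_map {X Y : Cᵒᵖ} (h : X ⟶ Y) (p : (twGSheaf γ).P.obj.obj X) :
    (twGSheaf γ).P.obj.map h p =
      equivShrink _ (((equivShrink (Tw γ X.unop)).symm p).restrict h.unop) := rfl

theorem twGSheaf_isTorsor (hU : J.CoversTop U) : (twGSheaf γ).IsTorsor := by
  constructor
  · intro X p q
    obtain ⟨g, hg, huniq⟩ := Tw.existsUnique_smul_eq hU
      ((equivShrink (Tw γ X.unop)).symm p) ((equivShrink (Tw γ X.unop)).symm q)
    refine ⟨g, ?_, ?_⟩
    · show (twGSheaf γ).smul g p = q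
      rw [twGSheaf_smul, hg, Equiv.apply_symm_apply]
    · intro g' hg'
      apply huniq
      have : (twGSheaf γ).smul g' p = q := hg'
      rw [twGSheaf_smul] at this
      rw [← this, Equiv.symm_apply_apply]
  · intro X
    refine ⟨Sieve.ofObjects U X, hU X, ?_⟩
    rintro V f ⟨i, ⟨a⟩⟩
    exact ⟨equivShrink _ ((Tw.sec γ i).restrict a)⟩

/-- the canonical sections -/
noncomputable def twSec (i : I) : (twGSheaf γ).P.obj.obj (op (U i)) :=
  equivShrink _ (Tw.sec γ i)

theorem twGSheaf_isCocycleOf : (twGSheaf γ).IsCocycleOf U (twSec γ) γ := by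
  intro i j T a b
  rw [twGSheaf_map, twGSheaf_map, twGSheaf_smul, Equiv.symm_apply_apply]
  unfold twSec
  rw [Equiv.symm_apply_apply, Equiv.symm_apply_apply]
  congr 1
  exact Tw.sec_cocycle i j a b

end Pack

theorem exists_torsor_of_class (G : Sheaf J GrpCat.{w}) {I : Type w'} (U : I → C)
    (hU : J.CoversTop U) (c : PresheafOfGroups.H1 G.obj U) :
    ∃ P : NonAbH1.Torsor G, P.TrivialisedBy U ∧ P.HasCechClass U c := by
  obtain ⟨γ, rfl⟩ := Quot.exists_rep c
  have : ∀ X : C, Small.{w} (Tw γ X) := fun X => Tw.small hU X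
  refine ⟨⟨twGSheaf γ, twGSheaf_isTorsor γ hU⟩, fun i => ⟨twSec γ i⟩, twSec γ, γ,
    twGSheaf_isCocycleOf γ, rfl⟩

end Twist

end Groth.Agent.H8.Torsor
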