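import Mathlib

/-!
# Cartesian squares relating the diagonal and the unit of a group object
-/

set_option autoImplicit false

universe v u

open CategoryTheory CategoryTheory.Limits MonoidalCategory CartesianMonoidalCategory MonObj

namespace Groth.Agent.H8.GrpObjSq

variable {C : Type u} [Category.{v} C] [CartesianMonoidalCategory C] (G : C) [GrpObj G]

/-- `(g, h) ↦ g⁻¹ h`. -/
noncomputable def divMap : G ⊗ G ⟶ G := (fst G G)⁻¹ * snd G G

lemma comp_divMap {Z : C} (x : Z ⟶ G ⊗ G) : x ≫ divMap G = (x ≫ fst G G)⁻¹ * (x ≫ snd G G) := by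
  rw [divMap, MonObj.comp_mul, GrpObj.comp_inv]

/-- The diagonal of `G` is the base change of the unit along `(g, h) ↦ g⁻¹ h`. -/
theorem isPullback_diag_unit :
    IsPullback (lift (𝟙 G) (𝟙 G)) (toUnit G) (divMap G) η[G] := by
  refine ⟨⟨?_⟩, ⟨PullbackCone.IsLimit.mk _ (fun c => c.fst ≫ fst G G) ?_ ?_ ?_⟩⟩
  · rw [comp_divMap, lift_fst, lift_snd, inv_mul_cancel, Hom.one_def]
  · intro c
    have h1 := c.condition
    rw [comp_divMap] at h1
    have h2 : c.snd ≫ η[G] = 1 := by
      rw [Hom.one_def, toUnit_unique c.snd (toUnit _)]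
    rw [h2, inv_mul_eq_one] at h1
    rw [comp_lift, Category.comp_id]
    conv_lhs => rw [h1]
    apply CartesianMonoidalCategory.hom_ext
    · rw [lift_fst, h1]
    · rw [lift_snd]
  · intro c
    exact toUnit_unique _ _
  · intro c m h1 h2
    rw [← h1, Category.assoc, lift_fst, Category.comp_id]

/-- The unit of `G` is the base change of the diagonal along `g ↦ (g, 1)`. -/
theorem isPullback_unit_diag :
    IsPullback η[G] η[G] (lift (𝟙 G) (𝟙 G)) (lift (𝟙 G) (toUnit G ≫ η[G])) := by
  refine ⟨⟨?_⟩, ⟨PullbackCone.IsLimit.mk _ (fun c => toUnit _) ?_ ?_ ?_⟩⟩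
  · rw [comp_lift, comp_lift, Category.comp_id, ← Category.assoc, toUnit_unique (η[G] ≫ toUnit G) (𝟙 _),
      Category.id_comp]
  · intro c
    have h1 := c.condition
    rw [comp_lift, comp_lift, Category.comp_id, Category.comp_id] at h1
    have h2 := congrArg (· ≫ fst G G) h1
    have h3 := congrArg (· ≫ snd G G) h1
    simp only [lift_fst, lift_snd] at h2 h3
    rw [h3, ← Category.assoc, toUnit_unique (c.snd ≫ toUnit G) (toUnit _)]
  · intro c
    have h1 := c.condition
    rw [comp_lift, comp_lift, Category.comp_id, Category.comp_id] at h1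
    have h2 := congrArg (· ≫ fst G G) h1
    have h3 := congrArg (· ≫ snd G G) h1
    simp only [lift_fst, lift_snd] at h2 h3
    rw [← h2, h3, ← Category.assoc, toUnit_unique (c.snd ≫ toUnit G) (toUnit _)]
  · intro c m h1 h2
    exact toUnit_unique _ _

end Groth.Agent.H8.GrpObjSq
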