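import Groth.Agent.Lib.Helper8.TFunLES

/-!
# `T_q` preserves monomorphisms iff `coker (d_{q+1})` is flat
-/

set_option autoImplicit false

universe u v

open CategoryTheory CategoryTheory.Limits MonoidalCategory TensorProduct

namespace Groth.Agent.H8.TFun

section ShortComplexModuleCat

variable {R : Type u} [Ring R] {S₁ S₂ : ShortComplex (ModuleCat.{v} R)} (φ : S₁ ⟶ S₂)

lemma mem_range_toCycles_iff (S : ShortComplex (ModuleCat.{v} R)) (c : LinearMap.ker S.g.hom) :
    c ∈ LinearMap.range S.moduleCatToCycles ↔ (c : S.X₂) ∈ LinearMap.range S.f.hom := by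
  constructor
  · rintro ⟨y, rfl⟩
    exact ⟨y, rfl⟩
  · rintro ⟨y, hy⟩
    exact ⟨y, Subtype.ext hy⟩

lemma τ₂_mem_ker (z : S₁.X₂) (hz : z ∈ LinearMap.ker S₁.g.hom) :
    φ.τ₂.hom z ∈ LinearMap.ker S₂.g.hom := by
  rw [LinearMap.mem_ker] at hz ⊢
  have := congrArg (fun f => f.hom z) φ.comm₂₃
  change S₂.g.hom (φ.τ₂.hom z) = φ.τ₃.hom (S₁.g.hom z) at this
  rw [this, hz, map_zero]

/-- Restriction of `τ₂` to cycles. -/
noncomputable def cyclesRestrict : LinearMap.ker S₁.g.hom →ₗ[R] LinearMap.ker S₂.g.hom :=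
  φ.τ₂.hom.restrict (τ₂_mem_ker φ)

lemma cyclesRestrict_toCycles (y : S₁.X₁) :
    cyclesRestrict φ (S₁.moduleCatToCycles y) = S₂.moduleCatToCycles (φ.τ₁.hom y) := by
  apply Subtype.ext
  have := congrArg (fun f => f.hom y) φ.comm₁₂
  exact this.symm

lemma range_le_comap : LinearMap.range S₁.moduleCatToCycles ≤
    (LinearMap.range S₂.moduleCatToCycles).comap (cyclesRestrict φ) := by
  rintro _ ⟨y, rfl⟩
  exact ⟨φ.τ₁.hom y, (cyclesRestrict_toCycles φ y).symm⟩

/-- Explicit left homology map data for a morphism of short complexes of modules. -/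
noncomputable def lhmd : ShortComplex.LeftHomologyMapData φ S₁.moduleCatLeftHomologyData
    S₂.moduleCatLeftHomologyData where
  φK := ModuleCat.ofHom (cyclesRestrict φ)
  φH := ModuleCat.ofHom (Submodule.mapQ _ _ (cyclesRestrict φ) (range_le_comap φ))
  commi := by
    ext c
    rfl
  commf' := by
    ext y
    exact cyclesRestrict_toCycles φ y
  commπ := by
    ext c
    rfl

lemma mono_homologyMap_iff_injective : Mono (ShortComplex.homologyMap φ) ↔
    Function.Injective (Submodule.mapQ _ _ (cyclesRestrict φ) (range_le_comap φ)) := by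
  let h₁ := S₁.moduleCatLeftHomologyData
  let h₂ := S₂.moduleCatLeftHomologyData
  let γ := lhmd φ
  have e : ShortComplex.homologyMap φ = h₁.homologyIso.hom ≫ γ.φH ≫ h₂.homologyIso.inv :=
    γ.homologyMap_eq
  have hmono : Mono (ShortComplex.homologyMap φ) ↔ Mono γ.φH := by
    constructor
    · intro h
      have e' : γ.φH = h₁.homologyIso.inv ≫ ShortComplex.homologyMap φ ≫ h₂.homologyIso.hom := by
        rw [e]; simp
      rw [e']
      infer_instance
    · intro h
      rw [e]
      infer_instance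
  rw [hmono, ModuleCat.mono_iff_injective]
  rfl

lemma epi_homologyMap_iff_surjective : Epi (ShortComplex.homologyMap φ) ↔
    Function.Surjective (Submodule.mapQ _ _ (cyclesRestrict φ) (range_le_comap φ)) := by
  let h₁ := S₁.moduleCatLeftHomologyData
  let h₂ := S₂.moduleCatLeftHomologyData
  let γ := lhmd φ
  have e : ShortComplex.homologyMap φ = h₁.homologyIso.hom ≫ γ.φH ≫ h₂.homologyIso.inv :=
    γ.homologyMap_eq
  have hepi : Epi (ShortComplex.homologyMap φ) ↔ Epi γ.φH := by
    constructor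
    · intro h
      have e' : γ.φH = h₁.homologyIso.inv ≫ ShortComplex.homologyMap φ ≫ h₂.homologyIso.hom := by
        rw [e]; simp
      rw [e']
      infer_instance
    · intro h
      rw [e]
      infer_instance
  rw [hepi, ModuleCat.epi_iff_surjective]
  rfl

/-- Elementwise criterion for the map on homology to be a monomorphism. -/
lemma mono_homologyMap_iff : Mono (ShortComplex.homologyMap φ) ↔
    ∀ z : S₁.X₂, S₁.g.hom z = 0 → φ.τ₂.hom z ∈ LinearMap.range S₂.f.hom →
      z ∈ LinearMap.range S₁.f.hom := by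
  rw [mono_homologyMap_iff_injective, injective_iff_map_eq_zero]
  constructor
  · intro H z hz hφ
    have hc : z ∈ LinearMap.ker S₁.g.hom := hz
    have := H (Submodule.Quotient.mk ⟨z, hc⟩) (by
      rw [Submodule.mapQ_apply, Submodule.Quotient.mk_eq_zero, mem_range_toCycles_iff]
      exact hφ)
    rw [Submodule.Quotient.mk_eq_zero, mem_range_toCycles_iff] at this
    exact this
  · intro H a ha
    obtain ⟨c, rfl⟩ := Submodule.Quotient.mk_surjective _ a
    rw [Submodule.mapQ_apply, Submodule.Quotient.mk_eq_zero, mem_range_toCycles_iff] at ha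
    rw [Submodule.Quotient.mk_eq_zero, mem_range_toCycles_iff]
    exact H c c.2 ha

/-- Elementwise criterion for the map on homology to be an epimorphism. -/
lemma epi_homologyMap_iff : Epi (ShortComplex.homologyMap φ) ↔
    ∀ z₂ : S₂.X₂, S₂.g.hom z₂ = 0 → ∃ z₁ : S₁.X₂, S₁.g.hom z₁ = 0 ∧
      z₂ - φ.τ₂.hom z₁ ∈ LinearMap.range S₂.f.hom := by
  rw [epi_homologyMap_iff_surjective]
  constructor
  · intro H z₂ hz₂
    have hc : z₂ ∈ LinearMap.ker S₂.g.hom := hz₂
    obtain ⟨a, ha⟩ := H (Submodule.Quotient.mk ⟨z₂, hc⟩)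
    obtain ⟨c, rfl⟩ := Submodule.Quotient.mk_surjective _ a
    refine ⟨c, c.2, ?_⟩
    rw [Submodule.mapQ_apply, eq_comm, Submodule.Quotient.eq, mem_range_toCycles_iff] at ha
    exact ha
  · intro H b
    obtain ⟨c, rfl⟩ := Submodule.Quotient.mk_surjective _ b
    obtain ⟨z₁, hz₁, h⟩ := H c c.2
    refine ⟨Submodule.Quotient.mk ⟨z₁, hz₁⟩, ?_⟩
    rw [Submodule.mapQ_apply, eq_comm, Submodule.Quotient.eq, mem_range_toCycles_iff]
    exact h

end ShortComplexModuleCat

section Modules

variable {A : Type u} [CommRing A] {P₁ P₂ P₃ : Type u} [AddCommGroup P₁] [Module A P₁]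
  [AddCommGroup P₂] [Module A P₂] [AddCommGroup P₃] [Module A P₃]
  (d₁ : P₁ →ₗ[A] P₂) (d₂ : P₂ →ₗ[A] P₃)

/-- The concrete condition that `H(P ⊗ M') → H(P ⊗ M)` is injective. -/
def MonoCond {M' M : Type u} [AddCommGroup M'] [Module A M'] [AddCommGroup M] [Module A M]
    (f : M' →ₗ[A] M) : Prop :=
  ∀ z : P₂ ⊗[A] M', d₂.rTensor M' z = 0 → f.lTensor P₂ z ∈ LinearMap.range (d₁.rTensor M) →
    z ∈ LinearMap.range (d₁.rTensor M')

lemma mem_range_rTensor_iff (M : Type u) [AddCommGroup M] [Module A M] (z : P₂ ⊗[A] M) :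
    z ∈ LinearMap.range (d₁.rTensor M) ↔ (LinearMap.range d₁).mkQ.rTensor M z = 0 :=
  ((rTensor_exact M d₁.exact_map_mkQ_range (LinearMap.range d₁).mkQ_surjective) z).symm

lemma monoCond_of_flat [Module.Flat A (P₂ ⧸ LinearMap.range d₁)] {M' M : Type u}
    [AddCommGroup M'] [Module A M'] [AddCommGroup M] [Module A M]
    (f : M' →ₗ[A] M) (hf : Function.Injective f) : MonoCond d₁ d₂ f := by
  intro z _ hz
  rw [mem_range_rTensor_iff] at hz ⊢
  have hinj : Function.Injective (f.lTensor (P₂ ⧸ LinearMap.range d₁)) :=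
    Module.Flat.lTensor_preserves_injective_linearMap f hf
  apply hinj
  rw [map_zero, ← hz, ← LinearMap.comp_apply, ← LinearMap.comp_apply,
    LinearMap.lTensor_comp_rTensor, LinearMap.rTensor_comp_lTensor]

lemma flat_of_monoCond [Module.Flat A P₃] (hd : d₂ ∘ₗ d₁ = 0)
    (H : ∀ (M' M : Type u) [AddCommGroup M'] [Module A M'] [AddCommGroup M] [Module A M]
      (f : M' →ₗ[A] M), Function.Injective f → MonoCond d₁ d₂ f) :
    Module.Flat A (P₂ ⧸ LinearMap.range d₁) := by
  rw [Module.Flat.iff_lTensor_preserves_injective_linearMap]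
  intro M' M _ _ _ _ f hf
  rw [injective_iff_map_eq_zero]
  intro w' hw'
  obtain ⟨z', rfl⟩ := LinearMap.rTensor_surjective M' (LinearMap.range d₁).mkQ_surjective w'
  have hz : f.lTensor P₂ z' ∈ LinearMap.range (d₁.rTensor M) := by
    rw [mem_range_rTensor_iff, ← hw', ← LinearMap.comp_apply, ← LinearMap.comp_apply,
      LinearMap.lTensor_comp_rTensor, LinearMap.rTensor_comp_lTensor]
  have hcyc : d₂.rTensor M' z' = 0 := by
    have hinj : Function.Injective (f.lTensor P₃) :=
      Module.Flat.lTensor_preserves_injective_linearMap f hf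
    apply hinj
    rw [map_zero, ← LinearMap.comp_apply, LinearMap.lTensor_comp_rTensor,
      ← LinearMap.rTensor_comp_lTensor, LinearMap.comp_apply]
    obtain ⟨y, hy⟩ := hz
    rw [← hy, ← LinearMap.comp_apply, ← LinearMap.rTensor_comp, hd, LinearMap.rTensor_zero,
      LinearMap.zero_apply]
  have := H M' M f hf z' hcyc hz
  rwa [mem_range_rTensor_iff] at this

end Modules

section Complex

variable {A : Type u} [CommRing A] (P : ChainComplex (ModuleCat.{u} A) ℤ)

/-- Elementwise criterion for `T_j(f)` to be a monomorphism. -/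
lemma mono_TFun_map_iff {M' M : ModuleCat.{u} A} (f : M' ⟶ M) (i j k : ℤ)
    (hi : (ComplexShape.down ℤ).prev j = i) (hk : (ComplexShape.down ℤ).next j = k) :
    Mono ((CohIII.TFun P j).map f) ↔ MonoCond (P.d i j).hom (P.d j k).hom f.hom := by
  subst hi hk
  exact mono_homologyMap_iff _

/-- `T_j` preserves monomorphisms if `coker (d : P_i → P_j)` is flat (`i = j + 1`). -/
theorem preservesMono_of_flat (i j : ℤ) (hij : j + 1 = i)
    [Module.Flat A (P.X j ⧸ LinearMap.range (P.d i j).hom)] :
    (CohIII.TFun P j).PreservesMonomorphisms := by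
  constructor
  intro M' M f hf
  rw [mono_TFun_map_iff P f i j (j - 1) (by simp [← hij]) (by simp)]
  exact monoCond_of_flat _ _ _ ((ModuleCat.mono_iff_injective f).1 hf)

/-- If `T_j` preserves monomorphisms then `coker (d : P_i → P_j)` is flat (`i = j + 1`),
provided `P_{j-1}` is flat. -/
theorem flat_of_preservesMono (i j k : ℤ) (hij : j + 1 = i) (hjk : k + 1 = j)
    [Module.Flat A (P.X k)] (h : (CohIII.TFun P j).PreservesMonomorphisms) :
    Module.Flat A (P.X j ⧸ LinearMap.range (P.d i j).hom) := by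
  refine flat_of_monoCond (P.d i j).hom (P.d j k).hom ?_ ?_
  · have := P.d_comp_d i j k
    exact congrArg ModuleCat.Hom.hom this
  · intro M' M _ _ _ _ f hf
    have hm : Mono (ModuleCat.ofHom f) := (ModuleCat.mono_iff_injective _).2 hf
    have := h.preserves (ModuleCat.ofHom f)
    rw [mono_TFun_map_iff P _ i j k (by simp [← hij]) (by simp [← hjk])] at this
    exact this

theorem preservesMono_iff_flat (hP : ∀ i, Module.Flat A (P.X i)) (i j : ℤ) (hij : j + 1 = i) :
    (CohIII.TFun P j).PreservesMonomorphisms ↔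
      Module.Flat A (P.X j ⧸ LinearMap.range (P.d i j).hom) := by
  have := hP (j - 1)
  exact ⟨fun h => flat_of_preservesMono P i j (j - 1) hij (by ring) h,
    fun _ => preservesMono_of_flat P i j hij⟩

theorem preservesEpi_iff_flat (hP : ∀ i, Module.Flat A (P.X i)) (i j : ℤ) (hij : j + 1 = i) :
    (CohIII.TFun P i).PreservesEpimorphisms ↔
      Module.Flat A (P.X j ⧸ LinearMap.range (P.d i j).hom) := by
  rw [preservesEpi_iff_preservesMono P hP i j hij, preservesMono_iff_flat P hP i j hij]

end Complex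

end Groth.Agent.H8.TFun
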