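import Groth.Agent.Lib.Helper8.DRank
import Groth.Agent.Lib.Helper8.TFunFlat
import Groth.Agent.Lib.Helper8.ReducedFlat

/-!
# Exactness of `T_p` versus local constancy of `d_p`
-/

set_option autoImplicit false

universe u

open CategoryTheory TensorProduct

namespace Groth.Agent.H8.TFun

open Groth.Agent.H8.DRank

variable {A : Type u} [CommRing A] (P : ChainComplex (ModuleCat.{u} A) ℤ)

/-- If `coker (d : P_i → P_j)` is flat, the rank of `d ⊗ κ(x)` is locally constant. -/
lemma rho_eventually_eq_of_flat [IsNoetherianRing A]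
    (hP : ∀ i, Module.Finite A (P.X i) ∧ Module.Projective A (P.X i)) (i j : ℤ)
    [Module.Flat A (P.X j ⧸ LinearMap.range (P.d i j).hom)] (x : PrimeSpectrum A) :
    ∀ᶠ y in nhds x, rho P i j y = rho P i j x := by
  have := (hP j).1
  have := (hP j).2
  have : Module.Projective A (P.X j ⧸ LinearMap.range (P.d i j).hom) :=
    projective_of_finite_flat _
  filter_upwards [fibDim_eventually_eq (P.X j) x,
    fibDim_eventually_eq (P.X j ⧸ LinearMap.range (P.d i j).hom) x] with y h1 h2
  have e1 := fibRank_add_fibDim (P.d i j).hom x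
  have e2 := fibRank_add_fibDim (P.d i j).hom y
  unfold rho
  omega

/-- If `T_p` preserves monomorphisms and epimorphisms then `d_p` is locally constant. -/
theorem dRank_locallyConstant_of_exact [IsNoetherianRing A]
    (hP : ∀ i, Module.Finite A (P.X i) ∧ Module.Projective A (P.X i)) (p : ℤ)
    (hm : (CohIII.TFun P p).PreservesMonomorphisms)
    (he : (CohIII.TFun P p).PreservesEpimorphisms) : IsLocallyConstant (CohIII.dRank P p) := by
  have hfl : ∀ i, Module.Flat A (P.X i) := fun i => by
    have := (hP i).2
    infer_instance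
  have := fun i => (hP i).1
  have := fun i => (hP i).2
  rw [preservesMono_iff_flat P hfl (p + 1) p rfl] at hm
  rw [preservesEpi_iff_flat P hfl p (p - 1) (by ring)] at he
  rw [IsLocallyConstant.iff_eventually_eq]
  intro x
  filter_upwards [rho_eventually_eq_of_flat P hP (p + 1) p x,
    rho_eventually_eq_of_flat P hP p (p - 1) x, fibDim_eventually_eq (P.X p) x] with y h1 h2 h3
  have e1 := dRank_add P p x
  have e2 := dRank_add P p y
  omega

/-- Over a reduced ring, if `d_p` is locally constant then `T_p` preserves monomorphisms and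
epimorphisms. -/
theorem exact_of_dRank_locallyConstant [IsReduced A]
    (hP : ∀ i, Module.Finite A (P.X i) ∧ Module.Projective A (P.X i)) (p : ℤ)
    (h : IsLocallyConstant (CohIII.dRank P p)) :
    (CohIII.TFun P p).PreservesMonomorphisms ∧ (CohIII.TFun P p).PreservesEpimorphisms := by
  have hfl : ∀ i, Module.Flat A (P.X i) := fun i => by
    have := (hP i).2
    infer_instance
  have := fun i => (hP i).1
  have := fun i => (hP i).2
  rw [IsLocallyConstant.iff_eventually_eq] at h
  have key : ∀ x : PrimeSpectrum A, ∀ᶠ y in nhds x,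
      rho P (p + 1) p y = rho P (p + 1) p x ∧ rho P p (p - 1) y = rho P p (p - 1) x := by
    intro x
    filter_upwards [h x, rho_ge_eventually P (p + 1) p x, rho_ge_eventually P p (p - 1) x,
      fibDim_eventually_eq (P.X p) x] with y h0 h1 h2 h3
    have e1 := dRank_add P p x
    have e2 := dRank_add P p y
    omega
  have hW1 : Module.Flat A (P.X p ⧸ LinearMap.range (P.d (p + 1) p).hom) := by
    refine flat_of_fibDim_locallyConstant _ fun x => ?_
    filter_upwards [key x, fibDim_eventually_eq (P.X p) x] with y hy h3
    have e1 := fibRank_add_fibDim (P.d (p + 1) p).hom x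
    have e2 := fibRank_add_fibDim (P.d (p + 1) p).hom y
    have := hy.1
    unfold rho at this
    omega
  have hW2 : Module.Flat A (P.X (p - 1) ⧸ LinearMap.range (P.d p (p - 1)).hom) := by
    refine flat_of_fibDim_locallyConstant _ fun x => ?_
    filter_upwards [key x, fibDim_eventually_eq (P.X (p - 1)) x] with y hy h3
    have e1 := fibRank_add_fibDim (P.d p (p - 1)).hom x
    have e2 := fibRank_add_fibDim (P.d p (p - 1)).hom y
    have := hy.2
    unfold rho at this
    omega
  exact ⟨(preservesMono_iff_flat P hfl (p + 1) p rfl).2 hW1,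
    (preservesEpi_iff_flat P hfl p (p - 1) (by ring)).2 hW2⟩

lemma dRank_le_of_specializes
    (hP : ∀ i, Module.Finite A (P.X i) ∧ Module.Projective A (P.X i)) (p : ℤ)
    {x y : PrimeSpectrum A} (hxy : y ⤳ x) : CohIII.dRank P p y ≤ CohIII.dRank P p x := by
  obtain ⟨U, hU, hUo, hxU⟩ := eventually_nhds_iff.1 (dRank_le_eventually P hP p x)
  exact hU y (hxy.mem_open hUo hxU)

lemma dRank_eq_of_specializes (p : ℤ) (h : IsLocallyConstant (CohIII.dRank P p))
    {x y : PrimeSpectrum A} (hxy : y ⤳ x) : CohIII.dRank P p y = CohIII.dRank P p x := by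
  obtain ⟨U, hU, hUo, hxU⟩ := eventually_nhds_iff.1 (h.eventually_eq x)
  exact hU y (hxy.mem_open hUo hxU)

/-- Over a reduced local ring: `T_p` is exact iff `d_p` takes the same value at the minimal primes
and at the closed point. -/
theorem exact_iff_dRank_minimalPrimes [IsNoetherianRing A] [IsLocalRing A] [IsReduced A]
    (hP : ∀ i, Module.Finite A (P.X i) ∧ Module.Projective A (P.X i)) (p : ℤ) :
    ((CohIII.TFun P p).PreservesMonomorphisms ∧ (CohIII.TFun P p).PreservesEpimorphisms) ↔
      ∀ q : PrimeSpectrum A, q.asIdeal ∈ minimalPrimes A →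
        CohIII.dRank P p q = CohIII.dRank P p (IsLocalRing.closedPoint A) := by
  constructor
  · rintro ⟨hm, he⟩ q _
    exact dRank_eq_of_specializes P p (dRank_locallyConstant_of_exact P hP p hm he)
      (IsLocalRing.specializes_closedPoint q)
  · intro h
    refine exact_of_dRank_locallyConstant P hP p ?_
    have hconst : ∀ y : PrimeSpectrum A,
        CohIII.dRank P p y = CohIII.dRank P p (IsLocalRing.closedPoint A) := by
      intro y
      obtain ⟨q, hq, hqy⟩ := Ideal.exists_minimalPrimes_le (I := ⊥) (J := y.asIdeal) bot_le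
      have hqp : Ideal.IsPrime q := hq.1.1
      let q' : PrimeSpectrum A := ⟨q, hqp⟩
      have h1 : CohIII.dRank P p q' ≤ CohIII.dRank P p y :=
        dRank_le_of_specializes P hP p ((PrimeSpectrum.le_iff_specializes q' y).1 hqy)
      have h2 : CohIII.dRank P p y ≤ CohIII.dRank P p (IsLocalRing.closedPoint A) :=
        dRank_le_of_specializes P hP p (IsLocalRing.specializes_closedPoint y)
      have h3 := h q' hq
      omega
    rw [IsLocallyConstant.iff_eventually_eq]
    intro x
    exact Filter.Eventually.of_forall fun y => by rw [hconst y, hconst x]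

end Groth.Agent.H8.TFun
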