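import Mathlib
import Groth.Agent.Lib.Helper8.MonoVal
open CategoryTheory CategoryTheory.Limits AlgebraicGeometry IsLocalRing TopologicalSpace
universe u
namespace Groth.Agent.H8.Extend

/-- The image in `X` of the generic point of `Spec 𝒪_{X,x}` (stalk a domain). -/
noncomputable def genPt {X : Scheme.{u}} (x : X) [IsDomain (X.presheaf.stalk x)] : X :=
  X.fromSpecStalk x (⊥ : PrimeSpectrum (X.presheaf.stalk x))

lemma genPt_specializes {X : Scheme.{u}} (x : X) [IsDomain (X.presheaf.stalk x)] :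
    genPt x ⤳ x := by
  have h : genPt x ∈ Set.range (X.fromSpecStalk x) := ⟨_, rfl⟩
  rw [Scheme.range_fromSpecStalk] at h
  exact h

/-- Any generization of `x` is a specialization of `genPt x`. -/
lemma genPt_specializes_of_specializes {X : Scheme.{u}} (x : X) [IsDomain (X.presheaf.stalk x)]
    {y : X} (hy : y ⤳ x) : genPt x ⤳ y := by
  have h : y ∈ Set.range (X.fromSpecStalk x) := by
    rw [Scheme.range_fromSpecStalk]; exact hy
  obtain ⟨p₀, rfl⟩ := h
  let p : PrimeSpectrum (X.presheaf.stalk x) := p₀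
  have h1 : (⊥ : PrimeSpectrum (X.presheaf.stalk x)) ⤳ p :=
    (PrimeSpectrum.le_iff_specializes _ _).1 bot_le
  exact h1.map (X.fromSpecStalk x).continuous

/-- If `V` is an integral open containing `x`, then `genPt x ∈ V` and its closure contains `V`. -/
lemma genPt_mem_and_subset_closure {X : Scheme.{u}} (x : X) [IsDomain (X.presheaf.stalk x)]
    (V : X.Opens) (hxV : x ∈ V) [IsIntegral (V : Scheme.{u})] :
    genPt x ∈ V ∧ (V : Set X) ⊆ closure {genPt x} := by
  let η₁ : X := V.ι (genericPoint (V : Scheme.{u}))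
  have h1 : ∀ v : X, v ∈ V → η₁ ⤳ v := by
    intro v hv
    have h2 : genericPoint (V : Scheme.{u}) ⤳ (⟨v, hv⟩ : (V : Scheme.{u})) :=
      (genericPoint_spec (V : Scheme.{u})).specializes (by trivial)
    exact h2.map V.ι.continuous
  have h3 : genPt x ⤳ η₁ := genPt_specializes_of_specializes x (h1 x hxV)
  have hη₁V : η₁ ∈ V := (genericPoint (V : Scheme.{u})).2
  refine ⟨h3.mem_open V.isOpen hη₁V, ?_⟩
  intro v hv
  exact (h3.trans (h1 v hv)).mem_closure

/-- Germ-injectivity plus a domain stalk gives an integral affine open neighbourhood. -/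
lemma exists_isIntegral_nhd_of_germInjective {X : Scheme.{u}} (x : X)
    [IsDomain (X.presheaf.stalk x)] [X.IsGermInjectiveAt x] :
    ∃ V : X.Opens, x ∈ V ∧ IsIntegral (V : Scheme.{u}) := by
  obtain ⟨V, hxV, hV, hinj⟩ := X.exists_germ_injective x
  refine ⟨V, hxV, ?_⟩
  have : IsAffine (V : Scheme.{u}) := hV
  have : Nonempty (V : Scheme.{u}) := ⟨⟨x, hxV⟩⟩
  have hdom : IsDomain Γ(X, V) := Function.Injective.isDomain _ hinj
  have : IsDomain Γ((V : Scheme.{u}), ⊤) :=
    (V.topIso.commRingCatIsoToRingEquiv).toMulEquiv.isDomain Γ(X, V)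
  exact isIntegral_of_isAffine_of_isDomain _

/-- Reduced with finitely many irreducible components and a domain stalk:
integral open neighbourhood. -/
lemma exists_isIntegral_nhd_of_finite {X : Scheme.{u}} (x : X)
    [IsDomain (X.presheaf.stalk x)] [IsReduced X] (hfin : (irreducibleComponents ↥X).Finite) :
    ∃ V : X.Opens, x ∈ V ∧ IsIntegral (V : Scheme.{u}) := by
  -- every irreducible component through `x` is the closure of `genPt x`
  have hcomp : ∀ Z ∈ irreducibleComponents ↥X, x ∈ Z → Z = closure {genPt x} := by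
    intro Z hZ hxZ
    have hZirr : IsIrreducible Z := hZ.1
    have hZcl : IsClosed Z := isClosed_of_mem_irreducibleComponents Z hZ
    obtain ⟨ζ, hζ⟩ := QuasiSober.sober hZirr hZcl
    have h1 : ζ ⤳ x := by
      rw [specializes_iff_mem_closure, hζ.def]; exact hxZ
    have h2 : genPt x ⤳ ζ := genPt_specializes_of_specializes x h1
    have h3 : Z ⊆ closure {genPt x} := by
      rw [← hζ.def]
      exact closure_minimal (Set.singleton_subset_iff.2 h2.mem_closure) isClosed_closure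
    exact le_antisymm h3 (hZ.2 (isIrreducible_singleton.closure) h3)
  let C : Set (Set ↥X) := {Z ∈ irreducibleComponents ↥X | x ∉ Z}
  have hCfin : C.Finite := hfin.subset (fun Z hZ => hZ.1)
  have hCcl : IsClosed (⋃₀ C) := by
    rw [Set.sUnion_eq_biUnion]
    exact hCfin.isClosed_biUnion (fun Z hZ => isClosed_of_mem_irreducibleComponents Z hZ.1)
  let V : X.Opens := ⟨(⋃₀ C)ᶜ, hCcl.isOpen_compl⟩
  have hxV : x ∈ V := by
    rintro ⟨Z, hZ, hxZ⟩
    exact hZ.2 hxZ
  have hVsub : (V : Set X) ⊆ closure {genPt x} := by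
    intro v hv
    have hmem := irreducibleComponent_mem_irreducibleComponents v
    have hv' : v ∈ irreducibleComponent v := mem_irreducibleComponent
    by_cases hx : x ∈ irreducibleComponent v
    · rw [← hcomp _ hmem hx]; exact hv'
    · exact absurd ⟨irreducibleComponent v, ⟨hmem, hx⟩, hv'⟩ hv
  have hVirr : IsIrreducible (V : Set X) :=
    ⟨⟨x, hxV⟩, (isIrreducible_singleton.closure).isPreirreducible.open_subset V.isOpen hVsub⟩
  have : IrreducibleSpace ↥(V : Scheme.{u}) := isIrreducible_iff_irreducibleSpace.1 hVirr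
  exact ⟨V, hxV, isIntegral_of_irreducibleSpace_of_isReduced _⟩

/-- Two morphisms into opens `U`, `V` which agree in `X` factor through `U ⊓ V`. -/
lemma comp_eq_of_agree {X Y T : Scheme.{u}} (U V : X.Opens) (fU : (U : Scheme.{u}) ⟶ Y)
    (fV : (V : Scheme.{u}) ⟶ Y)
    (h : X.homOfLE (inf_le_left : U ⊓ V ≤ U) ≫ fU = X.homOfLE (inf_le_right : U ⊓ V ≤ V) ≫ fV)
    (a : T ⟶ U) (b : T ⟶ V) (hab : a ≫ U.ι = b ≫ V.ι) : a ≫ fU = b ≫ fV := by
  let m : T ⟶ (U ⊓ V : X.Opens) := IsOpenImmersion.lift (U ⊓ V).ι (a ≫ U.ι) (by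
    rintro _ ⟨t, rfl⟩
    simp only [Scheme.Opens.range_ι, Opens.coe_inf, Set.mem_inter_iff, SetLike.mem_coe]
    refine ⟨?_, ?_⟩
    · rw [Scheme.Hom.comp_apply]; exact (a t).2
    · rw [hab, Scheme.Hom.comp_apply]; exact (b t).2)
  have hm : m ≫ (U ⊓ V).ι = a ≫ U.ι := IsOpenImmersion.lift_fac _ _ _
  have h1 : m ≫ X.homOfLE (inf_le_left : U ⊓ V ≤ U) = a := by
    rw [← cancel_mono U.ι, Category.assoc, Scheme.homOfLE_ι, hm]
  have h2 : m ≫ X.homOfLE (inf_le_right : U ⊓ V ≤ V) = b := by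
    rw [← cancel_mono V.ι, Category.assoc, Scheme.homOfLE_ι, hm, hab]
  rw [← h1, ← h2, Category.assoc, Category.assoc, h]

/-- Gluing two morphisms defined on opens agreeing on the intersection. -/
theorem exists_glue_two {X Y : Scheme.{u}} (U V : X.Opens) (fU : (U : Scheme.{u}) ⟶ Y)
    (fV : (V : Scheme.{u}) ⟶ Y)
    (h : X.homOfLE (inf_le_left : U ⊓ V ≤ U) ≫ fU = X.homOfLE (inf_le_right : U ⊓ V ≤ V) ≫ fV) :
    ∃ (U' : X.Opens) (hU : U ≤ U') (hV : V ≤ U') (f : (U' : Scheme.{u}) ⟶ Y),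
      X.homOfLE hU ≫ f = fU ∧ X.homOfLE hV ≫ f = fV ∧
      ∀ (Z : Scheme.{u}) (g₁ g₂ : (U' : Scheme.{u}) ⟶ Z), X.homOfLE hU ≫ g₁ = X.homOfLE hU ≫ g₂ →
        X.homOfLE hV ≫ g₁ = X.homOfLE hV ≫ g₂ → g₁ = g₂ := by
  let W : Bool → X.Opens := fun b => bif b then U else V
  let 𝒰 := Scheme.Opens.iSupOpenCover W
  let g : ∀ b, 𝒰.X b ⟶ Y := fun b =>
    Bool.rec (motive := fun b => ((W b : X.Opens) : Scheme.{u}) ⟶ Y) fV fU b
  have hι : ∀ b, 𝒰.f b ≫ (⨆ b, W b).ι = (W b).ι := fun b => Scheme.homOfLE_ι X (le_iSup W b)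
  have hcompat : ∀ b b', pullback.fst (𝒰.f b) (𝒰.f b') ≫ g b = pullback.snd _ _ ≫ g b' := by
    intro b b'
    have hc : pullback.fst (𝒰.f b) (𝒰.f b') ≫ (W b).ι = pullback.snd (𝒰.f b) (𝒰.f b') ≫ (W b').ι := by
      rw [← hι b, ← hι b', ← Category.assoc, pullback.condition, Category.assoc]
    cases b <;> cases b'
    · have : pullback.fst (𝒰.f false) (𝒰.f false) = pullback.snd (𝒰.f false) (𝒰.f false) := by
        rw [← cancel_mono (𝒰.f false), pullback.condition]
      rw [this]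
    · exact (comp_eq_of_agree U V fU fV h _ _ hc.symm).symm
    · exact comp_eq_of_agree U V fU fV h _ _ hc
    · have : pullback.fst (𝒰.f true) (𝒰.f true) = pullback.snd (𝒰.f true) (𝒰.f true) := by
        rw [← cancel_mono (𝒰.f true), pullback.condition]
      rw [this]
  refine ⟨⨆ b, W b, le_iSup W true, le_iSup W false, 𝒰.glueMorphisms g hcompat, ?_, ?_, ?_⟩
  · exact 𝒰.ι_glueMorphisms g hcompat true
  · exact 𝒰.ι_glueMorphisms g hcompat false
  · intro Z g₁ g₂ h1 h2
    apply Scheme.Cover.hom_ext 𝒰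
    intro b
    cases b
    · exact h2
    · exact h1

set_option maxHeartbeats 400000 in
theorem extend_at_valuationRing_point {X Y S : Scheme.{u}} (p : X ⟶ S) (q : Y ⟶ S)
    [IsProper q] (x : X) (U : X.Opens) (f : (U : Scheme.{u}) ⟶ Y) (hf : f ≫ q = U.ι ≫ p)
    (hx : x ∈ closure (U : Set ↥X))
    [hd : IsDomain (X.presheaf.stalk x)] [hv : ValuationRing (X.presheaf.stalk x)]
    (V₁ : X.Opens) (hxV₁ : x ∈ V₁) [IsIntegral (V₁ : Scheme.{u})] :
    ∃ (U' : X.Opens) (hUU' : U ≤ U'), x ∈ U' ∧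
      ∃ f' : (U' : Scheme.{u}) ⟶ Y, f' ≫ q = U'.ι ≫ p ∧ X.homOfLE hUU' ≫ f' = f := by
  -- germ injectivity
  have hgi : X.IsGermInjectiveAt x := by
    have h1 : (V₁ : Scheme.{u}).IsGermInjectiveAt ⟨x, hxV₁⟩ := inferInstance
    exact (isGermInjectiveAt_iff_of_isOpenImmersion (f := V₁.ι) (x := ⟨x, hxV₁⟩)).2 h1
  obtain ⟨hηV₁, hV₁cl⟩ := genPt_mem_and_subset_closure x V₁ hxV₁
  -- the generic point lies in `U`
  have hηU : genPt x ∈ U := by
    obtain ⟨u, huV, huU⟩ := mem_closure_iff.1 hx V₁ V₁.isOpen hxV₁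
    have h1 : genPt x ⤳ u := specializes_iff_mem_closure.2 (hV₁cl huV)
    exact h1.mem_open U.isOpen huU
  let K := FractionRing (X.presheaf.stalk x)
  let ι : Spec (CommRingCat.of K) ⟶ Spec (X.presheaf.stalk x) :=
    Spec.map (CommRingCat.ofHom (algebraMap (X.presheaf.stalk x) K))
  let tK : Spec (CommRingCat.of K) ⟶ X := ι ≫ X.fromSpecStalk x
  have htK : ∀ pt, tK pt = genPt x := by
    intro pt
    rw [Scheme.Hom.comp_apply]
    congr 1
    exact MonoVal.specMap_apply_of_injective (algebraMap (X.presheaf.stalk x) K)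
      (IsFractionRing.injective (X.presheaf.stalk x) K) pt
  have hrange : ∀ (W : X.Opens), genPt x ∈ W → Set.range tK ⊆ Set.range W.ι := by
    rintro W hW _ ⟨pt, rfl⟩
    rw [htK, Scheme.Opens.range_ι]; exact hW
  let t : Spec (CommRingCat.of K) ⟶ U := IsOpenImmersion.lift U.ι tK (hrange U hηU)
  have ht : t ≫ U.ι = tK := IsOpenImmersion.lift_fac _ _ _
  -- valuative criterion
  have hex : ValuativeCriterion.Existence q := by
    have h : UniversallyClosed q := inferInstance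
    rw [UniversallyClosed.eq_valuativeCriterion] at h
    exact h.1
  let Sq : ValuativeCommSq q :=
    { R := X.presheaf.stalk x
      commRing := inferInstance
      domain := hd
      valuationRing := hv
      K := K
      i₁ := t ≫ f
      i₂ := X.fromSpecStalk x ≫ p
      commSq := ⟨by rw [Category.assoc, hf, ← Category.assoc, ht]; rfl⟩ }
  obtain ⟨l₀, hl₁, hl₂⟩ := (hex Sq).exists_lift
  let l : Spec (X.presheaf.stalk x) ⟶ Y := l₀
  change ι ≫ l = t ≫ f at hl₁
  change l ≫ q = X.fromSpecStalk x ≫ p at hl₂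
  -- spread out
  obtain ⟨V₂, hxV₂, fV₂, hfV₂, hfV₂q⟩ := spread_out_of_isGermInjective' p q l hl₂
  let V : X.Opens := V₂ ⊓ V₁
  have hxV : x ∈ V := ⟨hxV₂, hxV₁⟩
  let fV : (V : Scheme.{u}) ⟶ Y := X.homOfLE (inf_le_left : V ≤ V₂) ≫ fV₂
  have hfVq : fV ≫ q = V.ι ≫ p := by
    rw [Category.assoc, hfV₂q, ← Category.assoc, Scheme.homOfLE_ι]
  -- agreement on the overlap
  let T : X.Opens := U ⊓ V
  have hηV₂ : genPt x ∈ V₂ := (genPt_specializes x).mem_open V₂.isOpen hxV₂
  have hηT : genPt x ∈ T := ⟨hηU, hηV₂, hηV₁⟩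
  have hTV₁ : T ≤ V₁ := inf_le_right.trans inf_le_right
  have : Nonempty (T : Scheme.{u}) := ⟨⟨genPt x, hηT⟩⟩
  have hTint : IsIntegral (T : Scheme.{u}) := isIntegral_of_isOpenImmersion (X.homOfLE hTV₁)
  let tT : Spec (CommRingCat.of K) ⟶ T := IsOpenImmersion.lift T.ι tK (hrange T hηT)
  have htT : tT ≫ T.ι = tK := IsOpenImmersion.lift_fac _ _ _
  have hdom : IsDominant tT := by
    constructor
    rw [DenseRange, dense_iff_closure_eq, Set.eq_univ_iff_forall]
    intro w
    have h1 : genPt x ⤳ T.ι w := specializes_iff_mem_closure.2 (hV₁cl (hTV₁ w.2))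
    have h2 : T.ι (tT (closedPoint K)) = genPt x := by
      rw [← Scheme.Hom.comp_apply, htT, htK]
    rw [← h2] at h1
    have h3 : tT (closedPoint K) ⤳ w := (T.ι.isEmbedding.isInducing.specializes_iff).1 h1
    have h4 : ({tT (closedPoint K)} : Set (T : Scheme.{u})) ⊆ Set.range tT :=
      Set.singleton_subset_iff.2 ⟨closedPoint K, rfl⟩
    exact closure_mono h4 h3.mem_closure
  have hagree : X.homOfLE (inf_le_left : U ⊓ V ≤ U) ≫ f = X.homOfLE (inf_le_right : U ⊓ V ≤ V) ≫ fV := by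
    apply ext_of_isDominant_of_isSeparated q ?_ tT ?_
    · rw [Category.assoc, Category.assoc, hf, hfVq, ← Category.assoc, ← Category.assoc,
        Scheme.homOfLE_ι, Scheme.homOfLE_ι]
    · have h1 : tT ≫ X.homOfLE (inf_le_left : U ⊓ V ≤ U) = t := by
        rw [← cancel_mono U.ι, Category.assoc, Scheme.homOfLE_ι, htT, ht]
      have h2 : tT ≫ X.homOfLE (inf_le_right : U ⊓ V ≤ V) ≫ X.homOfLE (inf_le_left : V ≤ V₂) =
          ι ≫ V₂.fromSpecStalkOfMem x hxV₂ := by
        rw [← cancel_mono V₂.ι, Category.assoc, Category.assoc, Scheme.homOfLE_ι,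
          Scheme.homOfLE_ι, htT, Category.assoc, Scheme.Opens.fromSpecStalkOfMem_ι]
      rw [← Category.assoc, h1, ← hl₁, hfV₂]
      simp only [fV]
      rw [← Category.assoc, ← Category.assoc, ← Category.assoc, Category.assoc tT, h2]
  obtain ⟨U', hU, hV, f', hf'U, hf'V, hext⟩ := exists_glue_two U V f fV hagree
  refine ⟨U', hU, hV hxV, f', ?_, hf'U⟩
  apply hext
  · rw [← Category.assoc, hf'U, hf, ← Category.assoc, Scheme.homOfLE_ι]
  · rw [← Category.assoc, hf'V, hfVq, ← Category.assoc, Scheme.homOfLE_ι]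

end Groth.Agent.H8.Extend
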