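import Mathlib

/-!
# The closure of the image of a quasi-compact morphism consists of specializations

[Stacks 01K9-type]: for `g : U ⟶ W` quasi-compact, every point in the closure of the range of `g`
is a specialization of a point in the range.
-/

set_option autoImplicit false

universe u

open AlgebraicGeometry CategoryTheory CategoryTheory.Limits TopologicalSpace

namespace Groth.Agent.H8.QCClosure

/-- Ring level: a prime in the closure of the image of `Spec S → Spec R` is a specialization of a
point in the image. -/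
lemma exists_comap_specializes {R S : Type u} [CommRing R] [CommRing S] (f : R →+* S)
    (p : PrimeSpectrum R) (hp : p ∈ closure (Set.range (PrimeSpectrum.comap f))) :
    ∃ q : PrimeSpectrum S, PrimeSpectrum.comap f q ⤳ p := by
  rw [PrimeSpectrum.closure_range_comap, PrimeSpectrum.mem_zeroLocus] at hp
  have hp' : RingHom.ker f ≤ p.asIdeal := hp
  obtain ⟨q₀, hq₀, hq₀p⟩ := Ideal.exists_minimalPrimes_le hp'
  rw [RingHom.ker_eq_comap_bot] at hq₀
  obtain ⟨q', hq'prime, -, hq'⟩ := Ideal.exists_comap_eq_of_mem_minimalPrimes f q₀ hq₀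
  refine ⟨⟨q', hq'prime⟩, ?_⟩
  rw [← PrimeSpectrum.le_iff_specializes]
  change Ideal.comap f q' ≤ p.asIdeal
  rw [hq']
  exact hq₀p

/-- Affine source and target. -/
lemma exists_specializes_of_spec {R : CommRingCat.{u}} {Y : Scheme.{u}} [IsAffine Y]
    (g : Spec R ⟶ Y) (y : Y) (hy : y ∈ closure (Set.range g)) :
    ∃ x : Spec R, g x ⤳ y := by
  let φ := Spec.preimage (g ≫ Y.isoSpec.hom)
  have hφ : Spec.map φ = g ≫ Y.isoSpec.hom := Spec.map_preimage _
  have h1 : Y.isoSpec.hom y ∈ closure (Set.range (Spec.map φ)) := by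
    rw [hφ]
    have := image_closure_subset_closure_image (f := Y.isoSpec.hom) (s := Set.range g)
      Y.isoSpec.hom.continuous (Set.mem_image_of_mem _ hy)
    rw [← Set.range_comp] at this
    exact this
  obtain ⟨q, hq⟩ := exists_comap_specializes φ.hom (Y.isoSpec.hom y) h1
  refine ⟨q, ?_⟩
  have h2 : (Spec.map φ) q ⤳ Y.isoSpec.hom y := hq
  rw [hφ, Scheme.Hom.comp_apply] at h2
  have h3 := h2.map Y.isoSpec.inv.continuous
  have e1 : Y.isoSpec.inv (Y.isoSpec.hom (g q)) = g q := by
    rw [← Scheme.Hom.comp_apply, Iso.hom_inv_id]; rfl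
  have e2 : Y.isoSpec.inv (Y.isoSpec.hom y) = y := by
    rw [← Scheme.Hom.comp_apply, Iso.hom_inv_id]; rfl
  rw [e1, e2] at h3
  exact h3

/-- Affine target. -/
lemma exists_specializes_of_isAffine {X Y : Scheme.{u}} [IsAffine Y] (g : X ⟶ Y) [QuasiCompact g]
    (y : Y) (hy : y ∈ closure (Set.range g)) : ∃ x : X, g x ⤳ y := by
  have : CompactSpace X := QuasiCompact.compactSpace_of_compactSpace g
  obtain ⟨R, π, hπ⟩ := compactSpace_iff_exists.mp this
  have hrange : Set.range (π ≫ g) = Set.range g := by
    rw [Scheme.Hom.comp_base, TopCat.coe_comp, Set.range_comp, hπ.range_eq, Set.image_univ]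
  obtain ⟨x, hx⟩ := exists_specializes_of_spec (π ≫ g) y (hrange ▸ hy)
  exact ⟨π x, by rwa [Scheme.Hom.comp_apply] at hx⟩

/-- The closure of the image of a quasi-compact morphism consists of specializations of points of
the image. -/
theorem exists_specializes_of_mem_closure_range {U W : Scheme.{u}} (g : U ⟶ W) [QuasiCompact g]
    (z' : W) (hz' : z' ∈ closure (Set.range g)) : ∃ u : U, g u ⤳ z' := by
  obtain ⟨i, v, rfl⟩ := W.affineCover.exists_eq z'
  let j := W.affineCover.f i
  let g' := pullback.snd g j
  have hg' : QuasiCompact g' := MorphismProperty.pullback_snd _ _ inferInstance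
  have hv : v ∈ closure (Set.range g') := by
    rw [Scheme.Pullback.range_snd,
      ← j.isOpenEmbedding.isOpenMap.preimage_closure_eq_closure_preimage j.continuous]
    exact hz'
  obtain ⟨u', hu'⟩ := exists_specializes_of_isAffine g' v hv
  refine ⟨pullback.fst g j u', ?_⟩
  have := hu'.map j.continuous
  rwa [← Scheme.Hom.comp_apply, ← pullback.condition, Scheme.Hom.comp_apply] at this

end Groth.Agent.H8.QCClosure
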