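import Mathlib
import Groth.Agent.Lib.Helper8.DVRDominate
import Groth.Agent.Lib.Helper8.QCClosure
import Groth.Agent.Lib.Helper8.Extend
import Groth.Agent.Lib.Helper8.DVRSch
import Groth.Agent.Lib.Helper8.MonoVal
open CategoryTheory CategoryTheory.Limits AlgebraicGeometry IsLocalRing TopologicalSpace Polynomial
universe u
namespace Groth.Agent.H8.RatExt

/-- A Noetherian integrally closed local domain is the intersection of the discrete valuation
rings of its fraction field dominating it. -/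
theorem mem_range_of_forall_dvr (A : Type u) [CommRing A] [IsDomain A] [IsNoetherianRing A]
    [IsLocalRing A] [IsIntegrallyClosed A]
    (K : Type u) [Field K] [Algebra A K] [IsFractionRing A K] (c : K)
    (H : ∀ B : ValuationSubring K, IsDiscreteValuationRing B →
      ∀ (hB : ∀ a, algebraMap A K a ∈ B),
        IsLocalHom ((algebraMap A K).codRestrict B.toSubring hB) → c ∈ B) :
    c ∈ Set.range (algebraMap A K) := by
  by_contra hc
  have hc0 : c ≠ 0 := by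
    rintro rfl
    exact hc ⟨0, map_zero _⟩
  let ψ : A[X] →+* K := Polynomial.eval₂RingHom (algebraMap A K) c⁻¹
  let p : Ideal A[X] := Ideal.comap (Polynomial.constantCoeff) (maximalIdeal A)
  have hp : p.IsPrime := Ideal.comap_isPrime _ _
  have hmemp : ∀ F : A[X], F ∈ p ↔ F.coeff 0 ∈ maximalIdeal A := fun F => Iff.rfl
  have hle : RingHom.ker ψ ≤ p := by
    intro F hF
    rw [hmemp]
    by_contra h0
    have hu : IsUnit (F.coeff 0) := by
      by_contra hnu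
      exact h0 ((IsLocalRing.mem_maximalIdeal _).2 hnu)
    have hF0 : Polynomial.eval₂ (algebraMap A K) c⁻¹ F = 0 := hF
    have hcoeff0 : F.coeff 0 ≠ 0 := hu.ne_zero
    let _ : Invertible c⁻¹ := invertibleOfNonzero (inv_ne_zero hc0)
    have h1 : Polynomial.eval₂ (algebraMap A K) (⅟(c⁻¹)) F.reverse = 0 :=
      (Polynomial.eval₂_reverse_eq_zero_iff (algebraMap A K) c⁻¹ F).2 hF0
    have h2 : ⅟(c⁻¹) = c := by
      rw [invOf_eq_inv, inv_inv]
    rw [h2] at h1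
    have hlead : F.reverse.leadingCoeff = F.coeff 0 := by
      rw [Polynomial.reverse_leadingCoeff, Polynomial.trailingCoeff_eq_coeff_zero hcoeff0]
    obtain ⟨v, hv⟩ := hu
    have hmonic : (Polynomial.C (↑v⁻¹ : A) * F.reverse).Monic := by
      apply Polynomial.monic_C_mul_of_mul_leadingCoeff_eq_one
      rw [hlead, ← hv]
      exact v.inv_mul
    have hint : IsIntegral A c := by
      refine ⟨_, hmonic, ?_⟩
      rw [Polynomial.eval₂_mul, h1, mul_zero]
    obtain ⟨a, ha⟩ := IsIntegrallyClosed.algebraMap_eq_of_integral hint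
    exact hc ⟨a, ha⟩
  have hlt : RingHom.ker ψ < p := by
    refine lt_of_le_of_ne hle ?_
    intro heq
    have hX : (Polynomial.X : A[X]) ∈ p := by
      rw [hmemp, Polynomial.coeff_X_zero]; exact zero_mem _
    rw [← heq] at hX
    have : ψ Polynomial.X = 0 := hX
    simp only [ψ, Polynomial.coe_eval₂RingHom, Polynomial.eval₂_X] at this
    exact inv_ne_zero hc0 this
  have hs : Subfield.closure (Set.range ψ ∪ ((∅ : Finset K) : Set K)) = ⊤ := by
    rw [eq_top_iff]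
    intro x _
    obtain ⟨a, b, hb, rfl⟩ := IsFractionRing.div_surjective (A := A) x
    have hmem : ∀ a : A, algebraMap A K a ∈ Set.range ψ ∪ ((∅ : Finset K) : Set K) :=
      fun a => Or.inl ⟨Polynomial.C a, by simp [ψ]⟩
    exact Subfield.div_mem _ (Subfield.subset_closure (hmem a)) (Subfield.subset_closure (hmem b))
  obtain ⟨B, hBdvr, hB, hcomap⟩ := KA.exists_dvr_valuationSubring_of_lt ψ p hlt ∅ hs
  have hBA : ∀ a, algebraMap A K a ∈ B := fun a => by
    have := hB (Polynomial.C a)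
    simpa [ψ] using this
  have hloc : IsLocalHom ((algebraMap A K).codRestrict B.toSubring hBA) := by
    constructor
    intro a ha
    by_contra hnu
    have h1 : Polynomial.C a ∈ p := by
      rw [hmemp, Polynomial.coeff_C_zero]
      exact (IsLocalRing.mem_maximalIdeal _).2 hnu
    rw [← hcomap] at h1
    have h2 : (ψ.codRestrict B.toSubring hB) (Polynomial.C a) ∈ maximalIdeal B := h1
    have h3 : (ψ.codRestrict B.toSubring hB) (Polynomial.C a) =
        (algebraMap A K).codRestrict B.toSubring hBA a := by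
      apply Subtype.ext
      simp [ψ]
    rw [h3] at h2
    exact (IsLocalRing.mem_maximalIdeal _).1 h2 ha
  have hcB : c ∈ B := H B hBdvr hBA hloc
  have hX : (Polynomial.X : A[X]) ∈ p := by
    rw [hmemp, Polynomial.coeff_X_zero]; exact zero_mem _
  rw [← hcomap] at hX
  have h2 : (ψ.codRestrict B.toSubring hB) Polynomial.X ∈ maximalIdeal B := hX
  have h3 : (⟨c, hcB⟩ : B) * (ψ.codRestrict B.toSubring hB) Polynomial.X = 1 := by
    apply Subtype.ext
    simp [ψ, hc0]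
  have h4 : (1 : B) ∈ maximalIdeal B := h3 ▸ Ideal.mul_mem_left _ _ h2
  exact (Ideal.ne_top_iff_one _).1 (IsLocalRing.maximalIdeal.isMaximal B).ne_top h4

lemma exists_stalk_hom {Y : Scheme.{u}} (B : Type u) [CommRing B] [IsLocalRing B]
    (g : Spec (CommRingCat.of B) ⟶ Y) (y : Y) (hy : g (closedPoint B) = y) :
    ∃ φ : Y.presheaf.stalk y ⟶ CommRingCat.of B, IsLocalHom φ.hom ∧
      Spec.map φ ≫ Y.fromSpecStalk y = g := by
  subst hy
  exact ⟨Scheme.stalkClosedPointTo g, inferInstance, Scheme.Spec_stalkClosedPointTo_fromSpecStalk g⟩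

section StalkSection

variable {X Y : Scheme.{u}} (q : Y ⟶ X) (y₀ : Y)

local notation "𝒜" => (X.presheaf.stalk (q y₀))
local notation "𝒦" => (FractionRing (X.presheaf.stalk (q y₀)))

/-- Stalk-level extension: under the DVR condition, the `K`-point `yK` of `Y` (lying over the
generic point of `Spec 𝒪_{X,x}`) extends to a section `Spec 𝒪_{X,x} ⟶ Y` through `y₀`. -/
theorem exists_stalk_section [IsLocallyNoetherian X]
    [IsDomain 𝒜] [IsIntegrallyClosed 𝒜]
    (hnf : ¬ IsField 𝒜)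
    (yK : Spec (CommRingCat.of 𝒦) ⟶ Y)
    (hyK : yK ≫ q = Spec.map (CommRingCat.ofHom (algebraMap 𝒜 𝒦)) ≫ X.fromSpecStalk (q y₀))
    (H : ∀ B : ValuationSubring 𝒦,
      IsDiscreteValuationRing B →
      ∀ (hB : ∀ a, algebraMap 𝒜 𝒦 a ∈ B),
        IsLocalHom ((algebraMap 𝒜 𝒦).codRestrict B.toSubring hB) →
        ∃ h₁ : Spec (CommRingCat.of B) ⟶ Y, h₁ (closedPoint B) = y₀ ∧
          Spec.map (CommRingCat.ofHom B.subtype) ≫ h₁ = yK) :
    ∃ l : Spec 𝒜 ⟶ Y, l ≫ q = X.fromSpecStalk (q y₀) ∧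
      l (closedPoint 𝒜) = y₀ ∧
      Spec.map (CommRingCat.ofHom (algebraMap 𝒜 𝒦)) ≫ l = yK := by
  have hinj : Function.Injective (algebraMap 𝒜 𝒦) := IsFractionRing.injective 𝒜 𝒦
  -- for each good `B`, a local homomorphism from the stalk
  have key : ∀ B : ValuationSubring 𝒦, IsDiscreteValuationRing B →
      ∀ (hB : ∀ a, algebraMap 𝒜 𝒦 a ∈ B),
        IsLocalHom ((algebraMap 𝒜 𝒦).codRestrict B.toSubring hB) →
        ∃ φ : Y.presheaf.stalk y₀ ⟶ CommRingCat.of B, IsLocalHom φ.hom ∧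
          Spec.map (φ ≫ CommRingCat.ofHom B.subtype) ≫ Y.fromSpecStalk y₀ = yK := by
    intro B hBdvr hB hloc
    obtain ⟨h₁, h₁cl, h₁K⟩ := H B hBdvr hB hloc
    obtain ⟨φ, hφloc, hφ⟩ := exists_stalk_hom B h₁ y₀ h₁cl
    refine ⟨φ, hφloc, ?_⟩
    rw [Spec.map_comp, Category.assoc, hφ, h₁K]
  -- uniqueness
  have huniq : ∀ ψ₁ ψ₂ : Y.presheaf.stalk y₀ ⟶ CommRingCat.of 𝒦,
      Spec.map ψ₁ ≫ Y.fromSpecStalk y₀ = yK → Spec.map ψ₂ ≫ Y.fromSpecStalk y₀ = yK → ψ₁ = ψ₂ := by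
    intro ψ₁ ψ₂ h1 h2
    apply Spec.map_injective
    rw [← cancel_mono (Y.fromSpecStalk y₀), h1, h2]
  -- one good `B₀`
  have hs : Subfield.closure (Set.range (algebraMap 𝒜 𝒦) ∪ ((∅ : Finset 𝒦) : Set 𝒦)) = ⊤ := by
    rw [eq_top_iff]
    intro x _
    obtain ⟨a, b, hb, rfl⟩ := IsFractionRing.div_surjective (A := 𝒜) x
    exact Subfield.div_mem _ (Subfield.subset_closure (Or.inl ⟨a, rfl⟩))
      (Subfield.subset_closure (Or.inl ⟨b, rfl⟩))
  obtain ⟨B₀, hB₀dvr, hB₀, hloc₀⟩ := KA.exists_dvr_dominating_of_fg 𝒜 hnf 𝒦 hinj ∅ hs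
  obtain ⟨φ₀, hφ₀loc, hφ₀⟩ := key B₀ hB₀dvr hB₀ hloc₀
  let ψ₀ : Y.presheaf.stalk y₀ ⟶ CommRingCat.of 𝒦 := φ₀ ≫ CommRingCat.ofHom B₀.subtype
  have hψ₀range : ∀ s, ψ₀.hom s ∈ (algebraMap 𝒜 𝒦).range := by
    intro s
    apply mem_range_of_forall_dvr 𝒜 𝒦
    intro B hBdvr hB hloc
    obtain ⟨φ, -, hφ⟩ := key B hBdvr hB hloc
    have := huniq _ _ hφ hφ₀
    have h2 : ψ₀.hom s = (φ ≫ CommRingCat.ofHom B.subtype).hom s := by rw [this]
    rw [h2]
    exact (φ.hom s).2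
  let eA : 𝒜 ≃+* (algebraMap 𝒜 𝒦).range := RingEquiv.ofBijective (algebraMap 𝒜 𝒦).rangeRestrict
    ⟨fun a b hab => hinj (congrArg Subtype.val hab), (algebraMap 𝒜 𝒦).rangeRestrict_surjective⟩
  let ψ : Y.presheaf.stalk y₀ ⟶ 𝒜 :=
    CommRingCat.ofHom (eA.symm.toRingHom.comp (ψ₀.hom.codRestrict (algebraMap 𝒜 𝒦).range hψ₀range))
  have hψ : ψ ≫ CommRingCat.ofHom (algebraMap 𝒜 𝒦) = ψ₀ := by
    apply CommRingCat.hom_ext
    apply RingHom.ext
    intro s
    have h1 : (algebraMap 𝒜 𝒦) (eA.symm (ψ₀.hom.codRestrict (algebraMap 𝒜 𝒦).range hψ₀range s)) =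
        ((ψ₀.hom.codRestrict (algebraMap 𝒜 𝒦).range hψ₀range s) : 𝒦) :=
      congrArg Subtype.val (eA.apply_symm_apply _)
    exact h1
  have hψ𝒦 : Spec.map ψ₀ ≫ Y.fromSpecStalk y₀ = yK := hφ₀
  -- local
  have hψloc : IsLocalHom ψ.hom := by
    constructor
    intro s hs
    apply hφ₀loc.map_nonunit
    have h1 : B₀.subtype (φ₀.hom s) = algebraMap 𝒜 𝒦 (ψ.hom s) := by
      have := congr(($hψ).hom s)
      exact this.symm
    have h2 : φ₀.hom s = (algebraMap 𝒜 𝒦).codRestrict B₀.toSubring hB₀ (ψ.hom s) :=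
      Subtype.ext h1
    rw [h2]
    exact hs.map _
  refine ⟨Spec.map ψ ≫ Y.fromSpecStalk y₀, ?_, ?_, ?_⟩
  · rw [Category.assoc, ← Scheme.SpecMap_stalkMap_fromSpecStalk, ← Spec.map_comp_assoc]
    have h1 : q.stalkMap y₀ ≫ ψ = 𝟙 _ := by
      have h2 : (q.stalkMap y₀ ≫ ψ) ≫ CommRingCat.ofHom (algebraMap 𝒜 𝒦) =
          CommRingCat.ofHom (algebraMap 𝒜 𝒦) := by
        rw [Category.assoc, hψ]
        apply Spec.map_injective
        rw [← cancel_mono (X.fromSpecStalk (q y₀)), Spec.map_comp, Category.assoc,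
          Scheme.SpecMap_stalkMap_fromSpecStalk, ← Category.assoc, hψ𝒦, hyK]
      apply CommRingCat.hom_ext
      apply RingHom.ext
      intro a
      apply hinj
      exact congr(($h2).hom a)
    rw [h1, Spec.map_id, Category.id_comp]
  · rw [Scheme.Hom.comp_apply]
    have : Spec.map ψ (closedPoint 𝒜) = closedPoint (Y.presheaf.stalk y₀) :=
      IsLocalRing.comap_closedPoint ψ.hom
    rw [this, Scheme.fromSpecStalk_closedPoint]
  · rw [← Category.assoc, ← Spec.map_comp]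
    exact (congrArg (fun z => Spec.map z ≫ Y.fromSpecStalk y₀) hψ).trans hψ𝒦

end StalkSection

/-- In a locally Noetherian scheme, a point in the closure of a locally closed set is a
specialization of a point of that set. -/
theorem exists_specializes_of_mem_closure_inter {X : Scheme.{u}} [IsLocallyNoetherian X]
    (O : X.Opens) (F : Set X) (hF : IsClosed F) (x : X)
    (hx : x ∈ closure ((O : Set X) ∩ F)) : ∃ d ∈ (O : Set X) ∩ F, d ⤳ x := by
  let I := Scheme.IdealSheafData.vanishingIdeal (X := X) ⟨F, hF⟩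
  let i := I.subschemeι
  have hir : Set.range i = F := by
    rw [Scheme.IdealSheafData.range_subschemeι, Scheme.IdealSheafData.coe_support_vanishingIdeal]
    rfl
  let g := pullback.fst i O.ι ≫ i
  have hgr : Set.range g = (O : Set X) ∩ F := by
    rw [Scheme.Pullback.range_fst_comp, hir, Scheme.Opens.range_ι, Set.inter_comm]
  have : QuasiCompact g := inferInstance
  obtain ⟨u, hu⟩ := QCClosure.exists_specializes_of_mem_closure_range g x (hgr ▸ hx)
  exact ⟨g u, hgr ▸ ⟨u, rfl⟩, hu⟩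

/-- Dominance of the generic point in an open inside an integral open neighbourhood. -/
lemma isDominant_of_genPt {X : Scheme.{u}} (x : X) [IsDomain (X.presheaf.stalk x)]
    (V₁ : X.Opens) (hV₁cl : (V₁ : Set X) ⊆ closure {Extend.genPt x})
    (W : X.Opens) (hWV₁ : W ≤ V₁) {K : Type u} [Field K]
    (tW : Spec (CommRingCat.of K) ⟶ W) (htW : W.ι (tW (closedPoint K)) = Extend.genPt x) :
    IsDominant tW := by
  constructor
  rw [DenseRange, dense_iff_closure_eq, Set.eq_univ_iff_forall]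
  intro w
  have h1 : Extend.genPt x ⤳ W.ι w := specializes_iff_mem_closure.2 (hV₁cl (hWV₁ w.2))
  rw [← htW] at h1
  have h3 : tW (closedPoint K) ⤳ w := (W.ι.isEmbedding.isInducing.specializes_iff).1 h1
  have h4 : ({tW (closedPoint K)} : Set (W : Scheme.{u})) ⊆ Set.range tW :=
    Set.singleton_subset_iff.2 ⟨closedPoint K, rfl⟩
  exact closure_mono h4 h3.mem_closure

section Assembly

variable {X Y : Scheme.{u}} (q : Y ⟶ X) (y₀ : Y)

local notation "𝒜" => (X.presheaf.stalk (q y₀))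
local notation "𝒦" => (FractionRing (X.presheaf.stalk (q y₀)))

set_option maxHeartbeats 1000000 in
theorem extend_section_of_dvr [IsLocallyNoetherian X]
    [LocallyOfFiniteType q] (U : X.Opens) (hU : Dense (U : Set ↥X)) (h : (U : Scheme.{u}) ⟶ Y)
    (hh : h ≫ q = U.ι) (hxU : q y₀ ∉ U) [IsDomain 𝒜] [IsIntegrallyClosed 𝒜]
    (H : ∀ (R : Type u) [CommRing R] [IsDomain R] [IsDiscreteValuationRing R]
        (u : Spec (CommRingCat.of R) ⟶ X), u (closedPoint R) = q y₀ →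
        ∀ ub : Spec (CommRingCat.of (FractionRing R)) ⟶ (U : Scheme.{u}),
          ub ≫ U.ι = Spec.map (CommRingCat.ofHom (algebraMap R (FractionRing R))) ≫ u →
          ∃ h₁ : Spec (CommRingCat.of R) ⟶ Y, h₁ ≫ q = u ∧ h₁ (closedPoint R) = y₀ ∧
            Spec.map (CommRingCat.ofHom (algebraMap R (FractionRing R))) ≫ h₁ = ub ≫ h) :
    ∃ (U' : X.Opens) (hUU' : U ≤ U') (hxU' : q y₀ ∈ U') (h' : (U' : Scheme.{u}) ⟶ Y),
        h' ≫ q = U'.ι ∧ X.homOfLE hUU' ≫ h' = h ∧ h' ⟨q y₀, hxU'⟩ = y₀ := by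
  obtain ⟨V₁, hxV₁, hV₁int⟩ := Extend.exists_isIntegral_nhd_of_germInjective (q y₀)
  obtain ⟨hηV₁, hV₁cl⟩ := Extend.genPt_mem_and_subset_closure (q y₀) V₁ hxV₁
  have hηx : Extend.genPt (q y₀) ⤳ q y₀ := Extend.genPt_specializes (q y₀)
  have hηU : Extend.genPt (q y₀) ∈ U := by
    obtain ⟨u, huV, huU⟩ := hU.inter_open_nonempty V₁ V₁.isOpen ⟨q y₀, hxV₁⟩
    have h1 : Extend.genPt (q y₀) ⤳ u := specializes_iff_mem_closure.2 (hV₁cl huV)
    exact h1.mem_open U.isOpen huU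
  have hnf : ¬ IsField 𝒜 := by
    intro hf
    have h1 : (⊥ : PrimeSpectrum 𝒜) = closedPoint 𝒜 := by
      apply PrimeSpectrum.ext
      exact ((IsLocalRing.isField_iff_maximalIdeal_eq).1 hf).symm
    have h2 : Extend.genPt (q y₀) = q y₀ := by
      rw [Extend.genPt, h1, Scheme.fromSpecStalk_closedPoint]
    exact hxU (h2 ▸ hηU)
  let ι : Spec (CommRingCat.of 𝒦) ⟶ Spec 𝒜 := Spec.map (CommRingCat.ofHom (algebraMap 𝒜 𝒦))
  let tK : Spec (CommRingCat.of 𝒦) ⟶ X := ι ≫ X.fromSpecStalk (q y₀)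
  have htK : ∀ pt, tK pt = Extend.genPt (q y₀) := by
    intro pt
    rw [Scheme.Hom.comp_apply]
    congr 1
    exact MonoVal.specMap_apply_of_injective (algebraMap 𝒜 𝒦) (IsFractionRing.injective 𝒜 𝒦) pt
  have hrange : ∀ (W : X.Opens), Extend.genPt (q y₀) ∈ W → Set.range tK ⊆ Set.range W.ι := by
    rintro W hW _ ⟨pt, rfl⟩
    rw [htK, Scheme.Opens.range_ι]; exact hW
  let t : Spec (CommRingCat.of 𝒦) ⟶ U := IsOpenImmersion.lift U.ι tK (hrange U hηU)
  have ht : t ≫ U.ι = tK := IsOpenImmersion.lift_fac _ _ _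
  let yK : Spec (CommRingCat.of 𝒦) ⟶ Y := t ≫ h
  have hyK : yK ≫ q = ι ≫ X.fromSpecStalk (q y₀) := by
    rw [Category.assoc, hh, ht]
  -- the stalk section
  obtain ⟨l, hlq, hlcl, hlK⟩ := exists_stalk_section q y₀ hnf yK hyK (by
    intro B hBdvr hB hloc
    let φB : 𝒜 ⟶ CommRingCat.of B :=
      CommRingCat.ofHom ((algebraMap 𝒜 𝒦).codRestrict B.toSubring hB)
    let uB : Spec (CommRingCat.of B) ⟶ X := Spec.map φB ≫ X.fromSpecStalk (q y₀)
    have huB : uB (closedPoint B) = q y₀ := by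
      rw [Scheme.Hom.comp_apply]
      have : Spec.map φB (closedPoint B) = closedPoint 𝒜 :=
        IsLocalRing.comap_closedPoint ((algebraMap 𝒜 𝒦).codRestrict B.toSubring hB)
      rw [this, Scheme.fromSpecStalk_closedPoint]
    let eB : FractionRing B ≃ₐ[B] 𝒦 := FractionRing.algEquiv B 𝒦
    let ubB : Spec (CommRingCat.of (FractionRing B)) ⟶ U :=
      Spec.map (CommRingCat.ofHom (eB.symm : 𝒦 →+* FractionRing B)) ≫ t
    have hub : ubB ≫ U.ι =
        Spec.map (CommRingCat.ofHom (algebraMap B (FractionRing B))) ≫ uB := by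
      rw [Category.assoc, ht]
      simp only [tK, uB, ι]
      rw [← Spec.map_comp_assoc, ← Spec.map_comp_assoc]
      congr 2
      apply CommRingCat.hom_ext
      apply RingHom.ext
      intro a
      exact eB.symm.commutes ⟨algebraMap 𝒜 𝒦 a, hB a⟩
    obtain ⟨h₁, h₁q, h₁cl, h₁K⟩ := H B uB huB ubB hub
    refine ⟨h₁, h₁cl, ?_⟩
    have h2 : CommRingCat.ofHom B.subtype =
        CommRingCat.ofHom (algebraMap B (FractionRing B)) ≫
          CommRingCat.ofHom (eB : FractionRing B →+* 𝒦) := by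
      apply CommRingCat.hom_ext
      apply RingHom.ext
      intro b
      exact (eB.commutes b).symm
    rw [h2, Spec.map_comp, Category.assoc, h₁K]
    simp only [ubB]
    rw [← Category.assoc, ← Category.assoc, ← Spec.map_comp]
    have h3 : CommRingCat.ofHom (eB.symm : 𝒦 →+* FractionRing B) ≫
        CommRingCat.ofHom (eB : FractionRing B →+* 𝒦) = 𝟙 _ := by
      apply CommRingCat.hom_ext
      apply RingHom.ext
      intro k
      exact eB.apply_symm_apply k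
    rw [h3, Spec.map_id, Category.id_comp])
  -- spread out
  obtain ⟨V₂, hxV₂, fV₂, hfV₂, hfV₂q⟩ := spread_out_of_isGermInjective' (𝟙 X) q l
    (by rw [hlq, Category.comp_id])
  rw [Category.comp_id] at hfV₂q
  have hfV₂x : fV₂ ⟨q y₀, hxV₂⟩ = y₀ := by
    have h1 : V₂.fromSpecStalkOfMem (q y₀) hxV₂ (closedPoint 𝒜) = ⟨q y₀, hxV₂⟩ := by
      apply Subtype.ext
      change (V₂.fromSpecStalkOfMem (q y₀) hxV₂ ≫ V₂.ι) _ = _
      rw [Scheme.Opens.fromSpecStalkOfMem_ι, Scheme.fromSpecStalk_closedPoint]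
    rw [← h1, ← Scheme.Hom.comp_apply, ← hfV₂, hlcl]
  -- an affine neighbourhood of `y₀`
  obtain ⟨N, hN, hy₀N, -⟩ := exists_isAffineOpen_mem_and_subset (x := y₀) (U := ⊤) trivial
  have hNaff : IsAffine (N : Scheme.{u}) := hN
  let V : X.Opens := V₂ ⊓ V₁
  have hxV : q y₀ ∈ V := ⟨hxV₂, hxV₁⟩
  let fV : (V : Scheme.{u}) ⟶ Y := X.homOfLE (inf_le_left : V ≤ V₂) ≫ fV₂
  have hfVq : fV ≫ q = V.ι := by
    rw [Category.assoc, hfV₂q, Scheme.homOfLE_ι]
  have hfVx : fV ⟨q y₀, hxV⟩ = y₀ := by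
    rw [Scheme.Hom.comp_apply, Scheme.homOfLE_apply']
    exact hfV₂x
  let UN : X.Opens := U.ι ''ᵁ (h ⁻¹ᵁ N)
  let VN : X.Opens := V.ι ''ᵁ (fV ⁻¹ᵁ N)
  have hmemUN : ∀ (d : X) (hd : d ∈ U), h ⟨d, hd⟩ ∈ N → d ∈ UN := fun d hd hdN =>
    ⟨⟨d, hd⟩, hdN, rfl⟩
  have hmemVN : ∀ (d : X) (hd : d ∈ V), fV ⟨d, hd⟩ ∈ N → d ∈ VN := fun d hd hdN =>
    ⟨⟨d, hd⟩, hdN, rfl⟩
  have hUNle : UN ≤ U := by
    rintro _ ⟨d, -, rfl⟩; exact d.2
  have hVNle : VN ≤ V := by
    rintro _ ⟨d, -, rfl⟩; exact d.2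
  let G : Set X := ((U ⊓ V : X.Opens) : Set X) ∩ ((UN ⊓ VN : X.Opens) : Set X)ᶜ
  have hxG : q y₀ ∉ closure G := by
    intro hx
    obtain ⟨d, ⟨⟨hdU, hdV⟩, hdT⟩, hdx⟩ := exists_specializes_of_mem_closure_inter (U ⊓ V)
      (((UN ⊓ VN : X.Opens) : Set X)ᶜ) (UN ⊓ VN).isOpen.isClosed_compl (q y₀) hx
    apply hdT
    have hne : d ≠ q y₀ := by
      rintro rfl
      exact hxU hdU
    obtain ⟨R, _, _, _, u, hucl, hugen⟩ := DVRSch.exists_dvr_of_specializes hdx hne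
    let ιR := Spec.map (CommRingCat.ofHom (algebraMap R (FractionRing R)))
    let ub : Spec (CommRingCat.of (FractionRing R)) ⟶ U := IsOpenImmersion.lift U.ι (ιR ≫ u) (by
      rintro _ ⟨pt, rfl⟩
      rw [Scheme.Hom.comp_apply, DVRSch.specMap_fractionRing_apply, hugen, Scheme.Opens.range_ι]
      exact hdU)
    have hub : ub ≫ U.ι = ιR ≫ u := IsOpenImmersion.lift_fac _ _ _
    obtain ⟨h₁, h₁q, h₁cl, h₁K⟩ := H R u hucl ub hub
    have hubpt : ub (closedPoint (FractionRing R)) = ⟨d, hdU⟩ := by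
      apply Subtype.ext
      change (ub ≫ U.ι) _ = _
      rw [hub, Scheme.Hom.comp_apply, DVRSch.specMap_fractionRing_apply, hugen]
    have h2 : h ⟨d, hdU⟩ ⤳ y₀ := by
      rw [← hubpt, ← Scheme.Hom.comp_apply, ← h₁K, Scheme.Hom.comp_apply, ← h₁cl]
      exact (IsLocalRing.specializes_closedPoint _).map h₁.continuous
    have h3 : fV ⟨d, hdV⟩ ⤳ y₀ := by
      rw [← hfVx]
      have h4 : (⟨d, hdV⟩ : (V : Scheme.{u})) ⤳ ⟨q y₀, hxV⟩ :=
        (V.ι.isEmbedding.isInducing.specializes_iff).1 hdx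
      exact h4.map fV.continuous
    exact ⟨hmemUN d hdU (h2.mem_open N.isOpen hy₀N), hmemVN d hdV (h3.mem_open N.isOpen hy₀N)⟩
  let V' : X.Opens := V ⊓ ⟨(closure G)ᶜ, isClosed_closure.isOpen_compl⟩
  have hxV' : q y₀ ∈ V' := ⟨hxV, hxG⟩
  have hV'V : V' ≤ V := inf_le_left
  have hW : U ⊓ V' ≤ UN ⊓ VN := by
    rintro d ⟨hdU, hdV, hdG⟩
    by_contra hd
    exact hdG (subset_closure ⟨⟨hdU, hdV⟩, hd⟩)
  let fV' : (V' : Scheme.{u}) ⟶ Y := X.homOfLE hV'V ≫ fV
  have hfV'q : fV' ≫ q = V'.ι := by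
    rw [Category.assoc, hfVq, Scheme.homOfLE_ι]
  -- agreement on the overlap
  let W : X.Opens := U ⊓ V'
  have hηV' : Extend.genPt (q y₀) ∈ V' :=
    hηx.mem_open V'.isOpen hxV'
  have hηW : Extend.genPt (q y₀) ∈ W := ⟨hηU, hηV'⟩
  have hWV₁ : W ≤ V₁ := (inf_le_right.trans hV'V).trans inf_le_right
  have : Nonempty (W : Scheme.{u}) := ⟨⟨_, hηW⟩⟩
  have hWint : IsIntegral (W : Scheme.{u}) := isIntegral_of_isOpenImmersion (X.homOfLE hWV₁)
  let tW : Spec (CommRingCat.of 𝒦) ⟶ W := IsOpenImmersion.lift W.ι tK (hrange W hηW)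
  have htW : tW ≫ W.ι = tK := IsOpenImmersion.lift_fac _ _ _
  have hdom : IsDominant tW := isDominant_of_genPt (q y₀) V₁ hV₁cl W hWV₁ tW (by
    rw [← Scheme.Hom.comp_apply, htW, htK])
  let a₀ : (W : Scheme.{u}) ⟶ Y := X.homOfLE (inf_le_left : U ⊓ V' ≤ U) ≫ h
  let b₀ : (W : Scheme.{u}) ⟶ Y := X.homOfLE (inf_le_right : U ⊓ V' ≤ V') ≫ fV'
  have haN : Set.range a₀ ⊆ Set.range N.ι := by
    rintro _ ⟨w, rfl⟩
    rw [Scheme.Opens.range_ι]
    obtain ⟨⟨d, hdN, hde⟩, -⟩ := hW w.2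
    have : X.homOfLE (inf_le_left : U ⊓ V' ≤ U) w = d := by
      apply Subtype.ext
      rw [Scheme.homOfLE_apply]
      exact hde.symm
    rw [Scheme.Hom.comp_apply, this]
    exact hdN
  have hbN : Set.range b₀ ⊆ Set.range N.ι := by
    rintro _ ⟨w, rfl⟩
    rw [Scheme.Opens.range_ι]
    obtain ⟨-, ⟨d, hdN, hde⟩⟩ := hW w.2
    have : X.homOfLE hV'V (X.homOfLE (inf_le_right : U ⊓ V' ≤ V') w) = d := by
      apply Subtype.ext
      rw [Scheme.homOfLE_apply, Scheme.homOfLE_apply]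
      exact hde.symm
    change fV (X.homOfLE hV'V (X.homOfLE (inf_le_right : U ⊓ V' ≤ V') w)) ∈ _
    rw [this]
    exact hdN
  let a' : (W : Scheme.{u}) ⟶ N := IsOpenImmersion.lift N.ι a₀ haN
  let b' : (W : Scheme.{u}) ⟶ N := IsOpenImmersion.lift N.ι b₀ hbN
  have ha' : a' ≫ N.ι = a₀ := IsOpenImmersion.lift_fac _ _ _
  have hb' : b' ≫ N.ι = b₀ := IsOpenImmersion.lift_fac _ _ _
  have hab : a' = b' := by
    apply ext_of_isDominant tW
    rw [← cancel_mono N.ι, Category.assoc, Category.assoc, ha', hb']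
    have h1 : tW ≫ X.homOfLE (inf_le_left : U ⊓ V' ≤ U) = t := by
      rw [← cancel_mono U.ι, Category.assoc, Scheme.homOfLE_ι, htW, ht]
    have h2 : tW ≫ X.homOfLE (inf_le_right : U ⊓ V' ≤ V') ≫ X.homOfLE hV'V ≫
        X.homOfLE (inf_le_left : V ≤ V₂) = ι ≫ V₂.fromSpecStalkOfMem (q y₀) hxV₂ := by
      rw [← cancel_mono V₂.ι]
      simp only [Category.assoc, Scheme.homOfLE_ι, Scheme.Opens.fromSpecStalkOfMem_ι]
      exact htW
    simp only [a₀, b₀, fV', fV]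
    rw [← Category.assoc, h1]
    have h3 : tW ≫ X.homOfLE (inf_le_right : U ⊓ V' ≤ V') ≫ (X.homOfLE hV'V ≫
        X.homOfLE (inf_le_left : V ≤ V₂) ≫ fV₂) = (tW ≫ X.homOfLE (inf_le_right : U ⊓ V' ≤ V') ≫
        X.homOfLE hV'V ≫ X.homOfLE (inf_le_left : V ≤ V₂)) ≫ fV₂ := by
      simp only [Category.assoc]
    rw [h3, h2, Category.assoc, ← hfV₂]
    exact hlK.symm
  have hagree : X.homOfLE (inf_le_left : U ⊓ V' ≤ U) ≫ h =
      X.homOfLE (inf_le_right : U ⊓ V' ≤ V') ≫ fV' := by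
    change a₀ = b₀
    rw [← ha', ← hb', hab]
  obtain ⟨U', hUU', hV'U', h', hh'U, hh'V, hext⟩ := Extend.exists_glue_two U V' h fV' hagree
  refine ⟨U', hUU', hV'U' hxV', h', ?_, hh'U, ?_⟩
  · apply hext
    · rw [← Category.assoc, hh'U, hh, Scheme.homOfLE_ι]
    · rw [← Category.assoc, hh'V, hfV'q, Scheme.homOfLE_ι]
  · have h1 : (⟨q y₀, hV'U' hxV'⟩ : (U' : Scheme.{u})) = X.homOfLE hV'U' ⟨q y₀, hxV'⟩ :=
      (Scheme.homOfLE_apply' hV'U' (q y₀) hxV').symm
    rw [h1, ← Scheme.Hom.comp_apply, hh'V]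
    change fV (X.homOfLE hV'V ⟨q y₀, hxV'⟩) = y₀
    rw [Scheme.homOfLE_apply' hV'V (q y₀) hxV', hfVx]

end Assembly

end Groth.Agent.H8.RatExt
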