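import Mathlib
import Groth.Agent.Lib.Helper8.RatExt

/-!
# Extending sections of quasi-finite separated morphisms over normal points (via Zariski's main
theorem)
-/

set_option autoImplicit false
universe u
open CategoryTheory CategoryTheory.Limits AlgebraicGeometry IsLocalRing

namespace Groth.Agent.H8.ZMTSection

/-- Algebraic core (Zariski's main theorem): an essentially quasi-finite local algebra `𝒪` over a
normal local domain `𝒜`, mapping to the fraction field compatibly, has image in `𝒜`. -/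
theorem range_of_quasiFiniteAt {A B 𝒜 𝒪 𝒦 : Type u} [CommRing A] [CommRing B] [CommRing 𝒜]
    [CommRing 𝒪] [Field 𝒦] [IsLocalRing 𝒜] [IsDomain 𝒜] [IsIntegrallyClosed 𝒜] [Algebra 𝒜 𝒦]
    [IsFractionRing 𝒜 𝒦] [IsLocalRing 𝒪]
    (φ : A →+* B) (hφft : φ.FiniteType) (P : Ideal B) [P.IsPrime] (hqf : φ.QuasiFiniteAt P)
    (α : A →+* 𝒜) (β : B →+* 𝒪) (σ : 𝒜 →+* 𝒪) [IsLocalHom σ] (hsq : β.comp φ = σ.comp α)
    (hloc : ∀ z : 𝒪, ∃ b s, s ∉ P ∧ z * β s = β b)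
    (hP : ∀ s, s ∉ P → IsUnit (β s))
    (ψ₀ : 𝒪 →+* 𝒦) (hψ₀ : ψ₀.comp σ = algebraMap 𝒜 𝒦) :
    ∀ z, ψ₀ z ∈ (algebraMap 𝒜 𝒦).range := by
  let _ := φ.toAlgebra
  have hft : Algebra.FiniteType A B := hφft
  have hqf' : Algebra.QuasiFiniteAt A P := hqf
  let ψ : B →+* 𝒦 := ψ₀.comp β
  have hψφ : ψ.comp (algebraMap A B) = (algebraMap 𝒜 𝒦).comp α := by
    change (ψ₀.comp β).comp φ = _
    rw [RingHom.comp_assoc, hsq, ← RingHom.comp_assoc, hψ₀]
  -- integral elements map into `𝒜`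
  have hint : ∀ b : B, IsIntegral A b → ∃ a : 𝒜, algebraMap 𝒜 𝒦 a = ψ b := by
    intro b hb
    apply IsIntegrallyClosed.algebraMap_eq_of_integral
    obtain ⟨p, hp, hpb⟩ := hb
    refine ⟨p.map α, hp.map α, ?_⟩
    rw [Polynomial.eval₂_map, ← hψφ, ← Polynomial.hom_eval₂, hpb, map_zero]
  -- units
  have hunit : ∀ b : B, b ∉ P → ∀ a : 𝒜, algebraMap 𝒜 𝒦 a = ψ b → IsUnit a := by
    intro b hb a hab
    by_contra ha
    have ha' : a ∈ maximalIdeal 𝒜 := ha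
    obtain ⟨w, hw⟩ := (hP b hb).exists_left_inv
    have h1 : ψ₀ (w * σ a - 1) = 0 := by
      have h2 : ψ₀ (σ a) = algebraMap 𝒜 𝒦 a := congr($hψ₀ a)
      rw [map_sub, map_mul, h2, hab, map_one]
      change ψ₀ w * ψ₀ (β b) - 1 = 0
      rw [← map_mul, hw, map_one, sub_self]
    have h3 : w * σ a - 1 ∈ maximalIdeal 𝒪 := by
      rw [mem_maximalIdeal, mem_nonunits_iff]
      intro hu
      have := hu.map ψ₀
      rw [h1] at this
      exact not_isUnit_zero this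
    have h4 : w * σ a ∈ maximalIdeal 𝒪 := by
      apply Ideal.mul_mem_left
      rw [mem_maximalIdeal, mem_nonunits_iff]
      intro hu
      exact ha (isUnit_of_map_unit σ a hu)
    have h5 : (1 : 𝒪) ∈ maximalIdeal 𝒪 := by
      have := Ideal.sub_mem _ h4 h3
      simp at this
    exact (maximalIdeal.isMaximal 𝒪).ne_top ((Ideal.eq_top_iff_one _).2 h5)
  obtain ⟨r, hrP, hrint, hr⟩ := Algebra.zariskisMainProperty_iff.mp
    (Algebra.ZariskisMainProperty.of_finiteType (R := A) P)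
  obtain ⟨ar, har⟩ := hint r hrint
  have haru : IsUnit ar := hunit r hrP ar har
  have hB : ∀ b : B, ψ b ∈ (algebraMap 𝒜 𝒦).range := by
    intro b
    obtain ⟨m, hm⟩ := hr b
    obtain ⟨a', ha'⟩ := hint _ hm
    obtain ⟨v, hv⟩ := haru.exists_left_inv
    refine ⟨v ^ m * a', ?_⟩
    rw [map_mul, ha', map_mul, map_pow, map_pow, ← har, ← mul_assoc, ← mul_pow, ← map_mul, hv,
      map_one, one_pow, one_mul]
  intro z
  obtain ⟨b, s, hs, hz⟩ := hloc z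
  obtain ⟨ab, hab⟩ := hB b
  obtain ⟨as, has⟩ := hB s
  have hasu : IsUnit as := hunit s hs as has
  obtain ⟨v, hv⟩ := hasu.exists_left_inv
  refine ⟨v * ab, ?_⟩
  have h1 : ψ₀ z * ψ s = ψ b := by
    change ψ₀ z * ψ₀ (β s) = ψ₀ (β b)
    rw [← map_mul, hz]
  have h2 : algebraMap 𝒜 𝒦 v * ψ s = 1 := by
    rw [← has, ← map_mul, hv, map_one]
  calc algebraMap 𝒜 𝒦 (v * ab) = algebraMap 𝒜 𝒦 v * ψ b := by rw [map_mul, hab]
    _ = algebraMap 𝒜 𝒦 v * (ψ₀ z * ψ s) := by rw [h1]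
    _ = ψ₀ z * (algebraMap 𝒜 𝒦 v * ψ s) := by ring
    _ = ψ₀ z := by rw [h2, mul_one]

section StalkSection

variable {X Y : Scheme.{u}} (q : Y ⟶ X) (y₀ : Y)

local notation "𝒜" => (X.presheaf.stalk (q y₀))
local notation "𝒦" => (FractionRing (X.presheaf.stalk (q y₀)))

/-- compatibility of a stalk-level `K`-point with the structure maps -/
lemma stalkMap_comp_eq [IsDomain 𝒜]
    (yK : Spec (CommRingCat.of 𝒦) ⟶ Y)
    (hyK : yK ≫ q = Spec.map (CommRingCat.ofHom (algebraMap 𝒜 𝒦)) ≫ X.fromSpecStalk (q y₀))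
    (ψ₀ : Y.presheaf.stalk y₀ ⟶ CommRingCat.of 𝒦)
    (hψ₀ : Spec.map ψ₀ ≫ Y.fromSpecStalk y₀ = yK) :
    q.stalkMap y₀ ≫ ψ₀ = CommRingCat.ofHom (algebraMap 𝒜 𝒦) := by
  apply Spec.map_injective
  rw [← cancel_mono (X.fromSpecStalk (q y₀)), Spec.map_comp, Category.assoc,
    Scheme.SpecMap_stalkMap_fromSpecStalk, ← Category.assoc, hψ₀, hyK]

theorem exists_stalk_section_of_range [IsDomain 𝒜]
    (yK : Spec (CommRingCat.of 𝒦) ⟶ Y)
    (hyK : yK ≫ q = Spec.map (CommRingCat.ofHom (algebraMap 𝒜 𝒦)) ≫ X.fromSpecStalk (q y₀))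
    (ψ₀ : Y.presheaf.stalk y₀ ⟶ CommRingCat.of 𝒦)
    (hψ₀ : Spec.map ψ₀ ≫ Y.fromSpecStalk y₀ = yK)
    (hrange : ∀ s, ψ₀.hom s ∈ (algebraMap 𝒜 𝒦).range) :
    ∃ l : Spec 𝒜 ⟶ Y, l ≫ q = X.fromSpecStalk (q y₀) ∧ l (closedPoint 𝒜) = y₀ ∧
      Spec.map (CommRingCat.ofHom (algebraMap 𝒜 𝒦)) ≫ l = yK := by
  have hinj : Function.Injective (algebraMap 𝒜 𝒦) := IsFractionRing.injective 𝒜 𝒦
  let eA : 𝒜 ≃+* (algebraMap 𝒜 𝒦).range := RingEquiv.ofBijective (algebraMap 𝒜 𝒦).rangeRestrict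
    ⟨fun a b hab => hinj (congrArg Subtype.val hab), (algebraMap 𝒜 𝒦).rangeRestrict_surjective⟩
  let ψ : Y.presheaf.stalk y₀ ⟶ 𝒜 :=
    CommRingCat.ofHom (eA.symm.toRingHom.comp (ψ₀.hom.codRestrict (algebraMap 𝒜 𝒦).range hrange))
  have hψ : ψ ≫ CommRingCat.ofHom (algebraMap 𝒜 𝒦) = ψ₀ := by
    apply CommRingCat.hom_ext
    apply RingHom.ext
    intro s
    have h1 : (algebraMap 𝒜 𝒦) (eA.symm (ψ₀.hom.codRestrict (algebraMap 𝒜 𝒦).range hrange s)) =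
        ((ψ₀.hom.codRestrict (algebraMap 𝒜 𝒦).range hrange s) : 𝒦) :=
      congrArg Subtype.val (eA.apply_symm_apply _)
    exact h1
  have h1 : q.stalkMap y₀ ≫ ψ = 𝟙 _ := by
    have h2 : (q.stalkMap y₀ ≫ ψ) ≫ CommRingCat.ofHom (algebraMap 𝒜 𝒦) =
        CommRingCat.ofHom (algebraMap 𝒜 𝒦) := by
      rw [Category.assoc, hψ]
      exact stalkMap_comp_eq q y₀ yK hyK ψ₀ hψ₀
    apply CommRingCat.hom_ext
    apply RingHom.ext
    intro a
    apply hinj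
    exact congr(($h2).hom a)
  have hψloc : IsLocalHom ψ.hom := by
    constructor
    intro s hs
    -- `s = σ (ψ s) + (element of the kernel)`
    by_contra hns
    have hsm : s ∈ maximalIdeal (Y.presheaf.stalk y₀) := hns
    have hσu : IsUnit ((q.stalkMap y₀).hom (ψ.hom s)) := hs.map _
    have hker : ψ.hom (s - (q.stalkMap y₀).hom (ψ.hom s)) = 0 := by
      rw [map_sub]
      have : ψ.hom ((q.stalkMap y₀).hom (ψ.hom s)) = ψ.hom s := congr(($h1).hom (ψ.hom s))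
      rw [this, sub_self]
    have hkm : s - (q.stalkMap y₀).hom (ψ.hom s) ∈ maximalIdeal (Y.presheaf.stalk y₀) := by
      rw [mem_maximalIdeal, mem_nonunits_iff]
      intro hu
      have := hu.map ψ.hom
      rw [hker] at this
      exact not_isUnit_zero this
    have : (q.stalkMap y₀).hom (ψ.hom s) ∈ maximalIdeal (Y.presheaf.stalk y₀) := by
      have := Ideal.sub_mem _ hsm hkm
      simpa using this
    exact this hσu
  refine ⟨Spec.map ψ ≫ Y.fromSpecStalk y₀, ?_, ?_, ?_⟩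
  · rw [Category.assoc, ← Scheme.SpecMap_stalkMap_fromSpecStalk, ← Spec.map_comp_assoc, h1,
      Spec.map_id, Category.id_comp]
  · rw [Scheme.Hom.comp_apply]
    have : Spec.map ψ (closedPoint 𝒜) = closedPoint (Y.presheaf.stalk y₀) :=
      IsLocalRing.comap_closedPoint ψ.hom
    rw [this, Scheme.fromSpecStalk_closedPoint]
  · rw [← Category.assoc, ← Spec.map_comp]
    exact (congrArg (fun z => Spec.map z ≫ Y.fromSpecStalk y₀) hψ).trans hψ₀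

theorem exists_stalk_section_of_quasiFinite [LocallyOfFiniteType q] (hqf : q.QuasiFiniteAt y₀)
    [IsDomain 𝒜] [IsIntegrallyClosed 𝒜]
    (yK : Spec (CommRingCat.of 𝒦) ⟶ Y)
    (hyK : yK ≫ q = Spec.map (CommRingCat.ofHom (algebraMap 𝒜 𝒦)) ≫ X.fromSpecStalk (q y₀))
    (hsp : yK (closedPoint 𝒦) ⤳ y₀) :
    ∃ l : Spec 𝒜 ⟶ Y, l ≫ q = X.fromSpecStalk (q y₀) ∧ l (closedPoint 𝒜) = y₀ ∧
      Spec.map (CommRingCat.ofHom (algebraMap 𝒜 𝒦)) ≫ l = yK := by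
  let ψ₀ : Y.presheaf.stalk y₀ ⟶ CommRingCat.of 𝒦 :=
    Y.presheaf.stalkSpecializes hsp ≫ Scheme.stalkClosedPointTo yK
  have hψ₀ : Spec.map ψ₀ ≫ Y.fromSpecStalk y₀ = yK := by
    rw [Spec.map_comp, Category.assoc, Scheme.SpecMap_stalkSpecializes_fromSpecStalk,
      Scheme.Spec_stalkClosedPointTo_fromSpecStalk]
  refine exists_stalk_section_of_range q y₀ yK hyK ψ₀ hψ₀ ?_
  have hcomp := stalkMap_comp_eq q y₀ yK hyK ψ₀ hψ₀
  obtain ⟨M, hM, hxM, -⟩ := exists_isAffineOpen_mem_and_subset (x := q y₀) (U := ⊤) trivial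
  obtain ⟨N, hN, hyN, hNM⟩ := exists_isAffineOpen_mem_and_subset (x := y₀) (U := q ⁻¹ᵁ M) hxM
  have hsq : q.appLE M N hNM ≫ Y.presheaf.germ N y₀ hyN =
      X.presheaf.germ M (q y₀) hxM ≫ q.stalkMap y₀ := by
    rw [Scheme.Hom.germ_stalkMap, Scheme.Hom.appLE, Category.assoc, Y.presheaf.germ_res]
  let _ := Y.presheaf.algebra_section_stalk ⟨y₀, hyN⟩
  have hloc := hN.isLocalization_stalk ⟨y₀, hyN⟩
  refine range_of_quasiFiniteAt (q.appLE M N hNM).hom (q.finiteType_appLE hM hN hNM)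
    (hN.primeIdealOf ⟨y₀, hyN⟩).asIdeal (hqf.quasiFiniteAt hN hM hNM hyN)
    (X.presheaf.germ M (q y₀) hxM).hom (Y.presheaf.germ N y₀ hyN).hom (q.stalkMap y₀).hom
    (by rw [← CommRingCat.hom_comp, ← CommRingCat.hom_comp, hsq]) ?_ ?_ ψ₀.hom
    (by rw [← CommRingCat.hom_comp, hcomp]; rfl)
  · intro z
    obtain ⟨⟨b, s⟩, hbs⟩ := IsLocalization.surj (hN.primeIdealOf ⟨y₀, hyN⟩).asIdeal.primeCompl z
    exact ⟨b, s.1, s.2, hbs⟩
  · intro s hs
    exact IsLocalization.map_units (M := (hN.primeIdealOf ⟨y₀, hyN⟩).asIdeal.primeCompl)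
      (Y.presheaf.stalk y₀) ⟨s, hs⟩

open RatExt in
set_option maxHeartbeats 1000000 in
/-- Extension of a section of a separated morphism quasi-finite at `y₀` over a normal point. -/
theorem extend_section_of_quasiFinite [IsLocallyNoetherian X]
    [LocallyOfFiniteType q] [IsSeparated q] (hqf : q.QuasiFiniteAt y₀)
    (U : X.Opens) (h : (U : Scheme.{u}) ⟶ Y)
    (hh : h ≫ q = U.ι) [IsDomain 𝒜] [IsIntegrallyClosed 𝒜]
    (ξ : X) (hξU : ξ ∈ U) (hξ : h ⟨ξ, hξU⟩ ⤳ y₀) :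
    ∃ (U' : X.Opens) (hUU' : U ≤ U') (hxU' : q y₀ ∈ U') (h' : (U' : Scheme.{u}) ⟶ Y),
        h' ≫ q = U'.ι ∧ X.homOfLE hUU' ≫ h' = h ∧ h' ⟨q y₀, hxU'⟩ = y₀ := by
  obtain ⟨V₁, hxV₁, hV₁int⟩ := Extend.exists_isIntegral_nhd_of_germInjective (q y₀)
  obtain ⟨hηV₁, hV₁cl⟩ := Extend.genPt_mem_and_subset_closure (q y₀) V₁ hxV₁
  have hηx : Extend.genPt (q y₀) ⤳ q y₀ := Extend.genPt_specializes (q y₀)
  have hξx : ξ ⤳ q y₀ := by
    have h1 := hξ.map q.continuous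
    have h2 : q (h ⟨ξ, hξU⟩) = ξ := by
      rw [← Scheme.Hom.comp_apply, hh]; rfl
    rwa [h2] at h1
  have hηξ : Extend.genPt (q y₀) ⤳ ξ := Extend.genPt_specializes_of_specializes (q y₀) hξx
  have hηU : Extend.genPt (q y₀) ∈ U := hηξ.mem_open U.isOpen hξU
  let ι : Spec (CommRingCat.of 𝒦) ⟶ Spec 𝒜 := Spec.map (CommRingCat.ofHom (algebraMap 𝒜 𝒦))
  let tK : Spec (CommRingCat.of 𝒦) ⟶ X := ι ≫ X.fromSpecStalk (q y₀)
  have htK : ∀ pt, tK pt = Extend.genPt (q y₀) := by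
    intro pt
    rw [Scheme.Hom.comp_apply]
    congr 1
    exact MonoVal.specMap_apply_of_injective (algebraMap 𝒜 𝒦) (IsFractionRing.injective 𝒜 𝒦) pt
  have hrange : ∀ (W : X.Opens), Extend.genPt (q y₀) ∈ W → Set.range tK ⊆ Set.range W.ι := by
    rintro W hW _ ⟨pt, rfl⟩
    rw [htK, Scheme.Opens.range_ι]; exact hW
  let t : Spec (CommRingCat.of 𝒦) ⟶ U := IsOpenImmersion.lift U.ι tK (hrange U hηU)
  have ht : t ≫ U.ι = tK := IsOpenImmersion.lift_fac _ _ _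
  let yK : Spec (CommRingCat.of 𝒦) ⟶ Y := t ≫ h
  have hyK : yK ≫ q = ι ≫ X.fromSpecStalk (q y₀) := by
    rw [Category.assoc, hh, ht]
  have htpt : t (closedPoint 𝒦) = ⟨Extend.genPt (q y₀), hηU⟩ := by
    apply Subtype.ext
    change (t ≫ U.ι) _ = _
    rw [ht, htK]
  have hsp : yK (closedPoint 𝒦) ⤳ y₀ := by
    rw [Scheme.Hom.comp_apply, htpt]
    have h1 : (⟨Extend.genPt (q y₀), hηU⟩ : (U : Scheme.{u})) ⤳ ⟨ξ, hξU⟩ :=
      (U.ι.isEmbedding.isInducing.specializes_iff).1 hηξ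
    exact (h1.map h.continuous).trans hξ
  -- the stalk section
  obtain ⟨l, hlq, hlcl, hlK⟩ := exists_stalk_section_of_quasiFinite q y₀ hqf yK hyK hsp
  -- spread out
  obtain ⟨V₂, hxV₂, fV₂, hfV₂, hfV₂q⟩ := spread_out_of_isGermInjective' (𝟙 X) q l
    (by rw [hlq, Category.comp_id])
  rw [Category.comp_id] at hfV₂q
  have hfV₂x : fV₂ ⟨q y₀, hxV₂⟩ = y₀ := by
    have h1 : V₂.fromSpecStalkOfMem (q y₀) hxV₂ (closedPoint 𝒜) = ⟨q y₀, hxV₂⟩ := by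
      apply Subtype.ext
      change (V₂.fromSpecStalkOfMem (q y₀) hxV₂ ≫ V₂.ι) _ = _
      rw [Scheme.Opens.fromSpecStalkOfMem_ι, Scheme.fromSpecStalk_closedPoint]
    rw [← h1, ← Scheme.Hom.comp_apply, ← hfV₂, hlcl]
  let V : X.Opens := V₂ ⊓ V₁
  have hxV : q y₀ ∈ V := ⟨hxV₂, hxV₁⟩
  let fV : (V : Scheme.{u}) ⟶ Y := X.homOfLE (inf_le_left : V ≤ V₂) ≫ fV₂
  have hfVq : fV ≫ q = V.ι := by
    rw [Category.assoc, hfV₂q, Scheme.homOfLE_ι]
  have hfVx : fV ⟨q y₀, hxV⟩ = y₀ := by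
    rw [Scheme.Hom.comp_apply, Scheme.homOfLE_apply']
    exact hfV₂x
  -- agreement on the overlap
  let W : X.Opens := U ⊓ V
  have hηV : Extend.genPt (q y₀) ∈ V := hηx.mem_open V.isOpen hxV
  have hηW : Extend.genPt (q y₀) ∈ W := ⟨hηU, hηV⟩
  have hWV₁ : W ≤ V₁ := inf_le_right.trans inf_le_right
  have : Nonempty (W : Scheme.{u}) := ⟨⟨_, hηW⟩⟩
  have hWint : IsIntegral (W : Scheme.{u}) := isIntegral_of_isOpenImmersion (X.homOfLE hWV₁)
  let tW : Spec (CommRingCat.of 𝒦) ⟶ W := IsOpenImmersion.lift W.ι tK (hrange W hηW)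
  have htW : tW ≫ W.ι = tK := IsOpenImmersion.lift_fac _ _ _
  have hdom : IsDominant tW := isDominant_of_genPt (q y₀) V₁ hV₁cl W hWV₁ tW (by
    rw [← Scheme.Hom.comp_apply, htW, htK])
  have hagree : X.homOfLE (inf_le_left : U ⊓ V ≤ U) ≫ h =
      X.homOfLE (inf_le_right : U ⊓ V ≤ V) ≫ fV := by
    apply ext_of_isDominant_of_isSeparated q _ tW
    · have h1 : tW ≫ X.homOfLE (inf_le_left : U ⊓ V ≤ U) = t := by
        rw [← cancel_mono U.ι, Category.assoc, Scheme.homOfLE_ι, htW, ht]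
      have h2 : tW ≫ X.homOfLE (inf_le_right : U ⊓ V ≤ V) ≫
          X.homOfLE (inf_le_left : V ≤ V₂) = ι ≫ V₂.fromSpecStalkOfMem (q y₀) hxV₂ := by
        rw [← cancel_mono V₂.ι]
        simp only [Category.assoc, Scheme.homOfLE_ι, Scheme.Opens.fromSpecStalkOfMem_ι]
        exact htW
      rw [← Category.assoc, h1]
      simp only [fV]
      have h3 : tW ≫ X.homOfLE (inf_le_right : U ⊓ V ≤ V) ≫
          X.homOfLE (inf_le_left : V ≤ V₂) ≫ fV₂ = (tW ≫ X.homOfLE (inf_le_right : U ⊓ V ≤ V) ≫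
          X.homOfLE (inf_le_left : V ≤ V₂)) ≫ fV₂ := by
        simp only [Category.assoc]
      rw [h3, h2, Category.assoc, ← hfV₂]
      exact hlK.symm
    · rw [Category.assoc, Category.assoc, hh, hfVq, Scheme.homOfLE_ι, Scheme.homOfLE_ι]
  obtain ⟨U', hUU', hVU', h', hh'U, hh'V, hext⟩ := Extend.exists_glue_two U V h fV hagree
  refine ⟨U', hUU', hVU' hxV, h', ?_, hh'U, ?_⟩
  · apply hext
    · rw [← Category.assoc, hh'U, hh, Scheme.homOfLE_ι]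
    · rw [← Category.assoc, hh'V, hfVq, Scheme.homOfLE_ι]
  · have h1 : (⟨q y₀, hVU' hxV⟩ : (U' : Scheme.{u})) = X.homOfLE hVU' ⟨q y₀, hxV⟩ :=
      (Scheme.homOfLE_apply' hVU' (q y₀) hxV).symm
    rw [h1, ← Scheme.Hom.comp_apply, hh'V, hfVx]

end StalkSection

end Groth.Agent.H8.ZMTSection
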