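import Mathlib
import Groth.Agent.Lib.Helper8.ZMTSection

/-!
# Local isomorphisms from stalk isomorphisms, and the classical form of Zariski's main theorem:
a birational quasi-finite morphism to a normal integral scheme is a local isomorphism.
-/

set_option autoImplicit false
universe u
open CategoryTheory CategoryTheory.Limits AlgebraicGeometry IsLocalRing

namespace Groth.Agent.H8.LocalIso

/-- If `g ≫ σ = j` is an open immersion and `σ` is a section of `f` over an open `V`, with
`g ≫ V.ι = j ≫ f`, then `g` is an open immersion. -/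
theorem isOpenImmersion_of_section {X Y P : Scheme.{u}} (f : X ⟶ Y) (V : Y.Opens)
    (σ : (V : Scheme.{u}) ⟶ X) (hσ : σ ≫ f = V.ι) (j : P ⟶ X) [IsOpenImmersion j]
    (g : P ⟶ V) (hg : g ≫ σ = j) (hgf : g ≫ V.ι = j ≫ f) : IsOpenImmersion g := by
  let s : P ⟶ pullback σ j := pullback.lift g (𝟙 P) (by rw [hg, Category.id_comp])
  have hs1 : s ≫ pullback.fst σ j = g := pullback.lift_fst _ _ _
  have hs2 : s ≫ pullback.snd σ j = 𝟙 P := pullback.lift_snd _ _ _
  have h3 : pullback.snd σ j ≫ g = pullback.fst σ j := by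
    rw [← cancel_mono V.ι, Category.assoc, hgf, ← Category.assoc, ← pullback.condition,
      Category.assoc, hσ]
  have h4 : pullback.snd σ j ≫ s = 𝟙 _ := by
    apply pullback.hom_ext
    · rw [Category.assoc, hs1, h3, Category.id_comp]
    · rw [Category.assoc, hs2, Category.comp_id, Category.id_comp]
  have : IsIso s := ⟨pullback.snd σ j, hs2, h4⟩
  rw [← hs1]
  infer_instance

/-- A morphism locally of finite type whose stalk map at `x` is an isomorphism is an open immersion
near `x` (for germ-injective schemes, e.g. integral or locally Noetherian ones). -/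
theorem exists_isOpenImmersion_of_isIso_stalkMap {X Y : Scheme.{u}} (f : X ⟶ Y)
    [LocallyOfFiniteType f] (x : X) [X.IsGermInjectiveAt x] [Y.IsGermInjectiveAt (f x)]
    [IsIso (f.stalkMap x)] :
    ∃ U : X.Opens, x ∈ U ∧ IsOpenImmersion (U.ι ≫ f) := by
  let l : Spec (Y.presheaf.stalk (f x)) ⟶ X := Spec.map (inv (f.stalkMap x)) ≫ X.fromSpecStalk x
  have hl : l ≫ f = Y.fromSpecStalk (f x) := by
    rw [Category.assoc, ← Scheme.SpecMap_stalkMap_fromSpecStalk, ← Spec.map_comp_assoc,
      IsIso.hom_inv_id, Spec.map_id, Category.id_comp]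
  obtain ⟨V, hyV, σ, hσl, hσ⟩ := spread_out_of_isGermInjective' (𝟙 Y) f l
    (by rw [hl, Category.comp_id])
  rw [Category.comp_id] at hσ
  let P : X.Opens := f ⁻¹ᵁ V
  have hxP : x ∈ P := hyV
  -- the two morphisms `P ⟶ X`
  have hagree : P.fromSpecStalkOfMem x hxP ≫ P.ι = P.fromSpecStalkOfMem x hxP ≫ (f ∣_ V) ≫ σ := by
    rw [Scheme.Opens.fromSpecStalkOfMem_ι]
    have h1 : P.fromSpecStalkOfMem x hxP ≫ (f ∣_ V) =
        Spec.map (f.stalkMap x) ≫ V.fromSpecStalkOfMem (f x) hyV := by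
      rw [← cancel_mono V.ι, Category.assoc, Category.assoc, morphismRestrict_ι,
        Scheme.Opens.fromSpecStalkOfMem_ι, ← Category.assoc, Scheme.Opens.fromSpecStalkOfMem_ι,
        Scheme.SpecMap_stalkMap_fromSpecStalk]
    rw [← Category.assoc, h1, Category.assoc, ← hσl]
    simp only [l]
    rw [← Spec.map_comp_assoc, IsIso.inv_hom_id, Spec.map_id, Category.id_comp]
  let x' : (P : Scheme.{u}) := ⟨x, hxP⟩
  have hgi : (P : Scheme.{u}).IsGermInjectiveAt x' :=
    (isGermInjectiveAt_iff_of_isOpenImmersion (f := P.ι) (x := x')).mp ‹_›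
  have e : (P : Scheme.{u}).fromSpecStalk x' ≫ P.ι =
      (P : Scheme.{u}).fromSpecStalk x' ≫ (f ∣_ V) ≫ σ := by
    have h2 : P.fromSpecStalkOfMem x hxP =
        Spec.map (inv (P.ι.stalkMap x')) ≫ (P : Scheme.{u}).fromSpecStalk x' := rfl
    apply (cancel_epi (Spec.map (inv (P.ι.stalkMap x')))).mp
    calc Spec.map (inv (P.ι.stalkMap x')) ≫ (P : Scheme.{u}).fromSpecStalk x' ≫ P.ι
        = P.fromSpecStalkOfMem x hxP ≫ P.ι := (Category.assoc _ _ _).symm
      _ = P.fromSpecStalkOfMem x hxP ≫ (f ∣_ V) ≫ σ := hagree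
      _ = _ := Category.assoc _ _ _
  obtain ⟨P', hxP', hP'⟩ := spread_out_unique_of_isGermInjective' (x := x') P.ι
    ((f ∣_ V) ≫ σ) e
  let j : (P' : Scheme.{u}) ⟶ X := P'.ι ≫ P.ι
  let g : (P' : Scheme.{u}) ⟶ V := P'.ι ≫ (f ∣_ V)
  have hg : g ≫ σ = j := by
    simp only [g, j, Category.assoc]
    exact hP'.symm
  have hgf : g ≫ V.ι = j ≫ f := by
    simp only [g, j, Category.assoc, morphismRestrict_ι]
    rfl
  have hgo : IsOpenImmersion g := isOpenImmersion_of_section f V σ hσ j g hg hgf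
  refine ⟨j.opensRange, ⟨⟨x', hxP'⟩, rfl⟩, ?_⟩
  let e' := IsOpenImmersion.isoOfRangeEq j.opensRange.ι j (by
    rw [Scheme.Opens.range_ι]; rfl)
  have he' : e'.hom ≫ j = j.opensRange.ι := IsOpenImmersion.isoOfRangeEq_hom_fac _ _ _
  rw [← he', Category.assoc, ← hgf]
  infer_instance

section
variable {X Y : Scheme.{u}} (q : Y ⟶ X) (y₀ : Y)

local notation "𝒜" => (X.presheaf.stalk (q y₀))
local notation "𝒦" => (FractionRing (X.presheaf.stalk (q y₀)))

/-- Zariski's main theorem at the level of stalks: the stalk of a morphism locally of finite type at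
a point where it is quasi-finite, mapping compatibly to the fraction field of the normal local
domain `𝒪_{X, q y₀}`, lands in `𝒪_{X, q y₀}`. -/
theorem range_stalk_of_quasiFinite [LocallyOfFiniteType q] (hqf : q.QuasiFiniteAt y₀)
    [IsDomain 𝒜] [IsIntegrallyClosed 𝒜]
    (ψ₀ : Y.presheaf.stalk y₀ ⟶ CommRingCat.of 𝒦)
    (hcomp : q.stalkMap y₀ ≫ ψ₀ = CommRingCat.ofHom (algebraMap 𝒜 𝒦)) :
    ∀ s, ψ₀.hom s ∈ (algebraMap 𝒜 𝒦).range := by
  obtain ⟨M, hM, hxM, -⟩ := exists_isAffineOpen_mem_and_subset (x := q y₀) (U := ⊤) trivial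
  obtain ⟨N, hN, hyN, hNM⟩ := exists_isAffineOpen_mem_and_subset (x := y₀) (U := q ⁻¹ᵁ M) hxM
  have hsq : q.appLE M N hNM ≫ Y.presheaf.germ N y₀ hyN =
      X.presheaf.germ M (q y₀) hxM ≫ q.stalkMap y₀ := by
    rw [Scheme.Hom.germ_stalkMap, Scheme.Hom.appLE, Category.assoc, Y.presheaf.germ_res]
  let _ := Y.presheaf.algebra_section_stalk ⟨y₀, hyN⟩
  have hloc := hN.isLocalization_stalk ⟨y₀, hyN⟩
  refine ZMTSection.range_of_quasiFiniteAt (q.appLE M N hNM).hom (q.finiteType_appLE hM hN hNM)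
    (hN.primeIdealOf ⟨y₀, hyN⟩).asIdeal (hqf.quasiFiniteAt hN hM hNM hyN)
    (X.presheaf.germ M (q y₀) hxM).hom (Y.presheaf.germ N y₀ hyN).hom (q.stalkMap y₀).hom
    (by rw [← CommRingCat.hom_comp, ← CommRingCat.hom_comp, hsq]) ?_ ?_ ψ₀.hom
    (by rw [← CommRingCat.hom_comp, hcomp]; rfl)
  · intro z
    obtain ⟨⟨b, s⟩, hbs⟩ := IsLocalization.surj (hN.primeIdealOf ⟨y₀, hyN⟩).asIdeal.primeCompl z
    exact ⟨b, s.1, s.2, hbs⟩
  · intro s hs
    exact IsLocalization.map_units (M := (hN.primeIdealOf ⟨y₀, hyN⟩).asIdeal.primeCompl)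
      (Y.presheaf.stalk y₀) ⟨s, hs⟩

/-- If moreover `ψ₀` is injective, the stalk map is bijective. -/
theorem stalkMap_bijective_of_quasiFinite [LocallyOfFiniteType q] (hqf : q.QuasiFiniteAt y₀)
    [IsDomain 𝒜] [IsIntegrallyClosed 𝒜]
    (ψ₀ : Y.presheaf.stalk y₀ ⟶ CommRingCat.of 𝒦)
    (hcomp : q.stalkMap y₀ ≫ ψ₀ = CommRingCat.ofHom (algebraMap 𝒜 𝒦))
    (hinj : Function.Injective ψ₀.hom) :
    Function.Bijective (q.stalkMap y₀).hom := by
  have hc : ∀ a, ψ₀.hom ((q.stalkMap y₀).hom a) = algebraMap 𝒜 𝒦 a := fun a => congr(($hcomp).hom a)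
  constructor
  · intro a b hab
    apply IsFractionRing.injective 𝒜 𝒦
    rw [← hc, ← hc, hab]
  · intro s
    obtain ⟨a, ha⟩ := range_stalk_of_quasiFinite q y₀ hqf ψ₀ hcomp s
    exact ⟨a, hinj (by rw [hc, ha])⟩

end

theorem isIso_stalkMap_of_birational {X Y : Scheme.{u}} [IsIntegral X] [IsIntegral Y] (f : X ⟶ Y)
    [LocallyOfFiniteType f] (x : X) (hqf : f.QuasiFiniteAt x)
    [IsIntegrallyClosed (Y.presheaf.stalk (f x))]
    (hgen : f (genericPoint X) = genericPoint Y) [IsIso (f.stalkMap (genericPoint X))] :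
    IsIso (f.stalkMap x) := by
  let e : FractionRing (Y.presheaf.stalk (f x)) ≃ₐ[Y.presheaf.stalk (f x)] Y.functionField :=
    FractionRing.algEquiv _ _
  have hηx : genericPoint X ⤳ x := (genericPoint_spec X).specializes trivial
  let ψ₀ : X.presheaf.stalk x ⟶ CommRingCat.of (FractionRing (Y.presheaf.stalk (f x))) :=
    X.presheaf.stalkSpecializes hηx ≫ inv (f.stalkMap (genericPoint X)) ≫
      (Y.presheaf.stalkCongr (Inseparable.of_eq hgen)).hom ≫
      CommRingCat.ofHom (e.symm : Y.functionField →+* FractionRing (Y.presheaf.stalk (f x)))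
  have hcomp : f.stalkMap x ≫ ψ₀ = CommRingCat.ofHom (algebraMap (Y.presheaf.stalk (f x))
      (FractionRing (Y.presheaf.stalk (f x)))) := by
    simp only [ψ₀]
    rw [← Category.assoc, ← Scheme.Hom.stalkSpecializes_stalkMap, Category.assoc,
      IsIso.hom_inv_id_assoc, TopCat.Presheaf.stalkCongr_hom, ← Category.assoc,
      TopCat.Presheaf.stalkSpecializes_comp]
    apply CommRingCat.hom_ext
    apply RingHom.ext
    intro a
    exact e.symm.commutes a
  have hinj : Function.Injective ψ₀.hom := by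
    simp only [ψ₀, CommRingCat.hom_comp, RingHom.coe_comp]
    refine e.symm.injective.comp (Function.Injective.comp ?_ (Function.Injective.comp ?_ ?_))
    · exact ((ConcreteCategory.isIso_iff_bijective _).mp inferInstance).1
    · exact ((ConcreteCategory.isIso_iff_bijective _).mp inferInstance).1
    · exact IsFractionRing.injective (X.presheaf.stalk x) X.functionField
  have hbij := stalkMap_bijective_of_quasiFinite f x hqf ψ₀ hcomp hinj
  exact (ConcreteCategory.isIso_iff_bijective _).mpr hbij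

lemma isDominant_specMap_of_injective (A K : Type u) [CommRing A] [IsDomain A] [Field K]
    [Algebra A K] (hinj : Function.Injective (algebraMap A K)) :
    IsDominant (Spec.map (CommRingCat.ofHom (algebraMap A K))) := by
  constructor
  rw [DenseRange, dense_iff_closure_eq, Set.eq_univ_iff_forall]
  intro p
  have h1 : (⊥ : PrimeSpectrum A) ⤳ (p : PrimeSpectrum A) :=
    (PrimeSpectrum.le_iff_specializes _ _).1 bot_le
  have h2 : (⊥ : PrimeSpectrum A) ∈ Set.range (Spec.map (CommRingCat.ofHom (algebraMap A K))) :=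
    ⟨closedPoint K, MonoVal.specMap_apply_of_injective _ hinj _⟩
  exact closure_mono (Set.singleton_subset_iff.2 h2) h1.mem_closure

/-- In an integral scheme, the generic point of `Spec 𝒪_{Y,y}` maps to the generic point. -/
lemma fromSpecStalk_bot_eq_genericPoint {Y : Scheme.{u}} [IsIntegral Y] (y : Y) :
    Y.fromSpecStalk y (⊥ : PrimeSpectrum (Y.presheaf.stalk y)) = genericPoint Y := by
  have h1 : genericPoint Y ⤳ y := (genericPoint_spec Y).specializes trivial
  have h2 : Extend.genPt y ⤳ genericPoint Y := Extend.genPt_specializes_of_specializes y h1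
  have h3 : genericPoint Y ⤳ Extend.genPt y := (genericPoint_spec Y).specializes trivial
  exact (h2.antisymm h3).eq

/-- The fibre of a locally quasi-finite morphism of integral schemes over the generic point, when it
contains the generic point, is that single point. -/
lemma eq_genericPoint_of_map_eq {X Y : Scheme.{u}} [IsIntegral X] (f : X ⟶ Y)
    [LocallyQuasiFinite f] (y : Y) (hgen : f (genericPoint X) = y) (z : X)
    (hz : f z = y) : z = genericPoint X := by
  have hd := f.isDiscrete_preimage_singleton y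
  rw [isDiscrete_iff_discreteTopology] at hd
  have h1 : genericPoint X ⤳ z := (genericPoint_spec X).specializes trivial
  have h2 : (⟨genericPoint X, hgen⟩ : f ⁻¹' {y}) ⤳ ⟨z, hz⟩ :=
    (Topology.IsInducing.subtypeVal.specializes_iff).1 h1
  exact (congrArg Subtype.val h2.eq).symm

/-- Classical Zariski main theorem: birational + locally quasi-finite to a normal integral scheme
is a local isomorphism, and an open immersion if separated. -/
theorem isLocalIso_of_birational {X Y : Scheme.{u}} [IsIntegral X] [IsIntegral Y]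
    (hN : ∀ y : Y, IsIntegrallyClosed (Y.presheaf.stalk y)) (f : X ⟶ Y) [LocallyQuasiFinite f]
    [LocallyOfFiniteType f] (hgen : f (genericPoint X) = genericPoint Y)
    (hbir : IsIso (f.stalkMap (genericPoint X))) :
    IsLocalIso f ∧ (IsSeparated f → IsOpenImmersion f) := by
  have hiso : ∀ x : X, IsIso (f.stalkMap x) := fun x =>
    have := hN (f x)
    isIso_stalkMap_of_birational f x (f.quasiFiniteAt x) hgen
  have hloc : ∀ x : X, ∃ U : X.Opens, x ∈ U ∧ IsOpenImmersion (U.ι ≫ f) := fun x =>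
    have := hiso x
    exists_isOpenImmersion_of_isIso_stalkMap f x
  have hli : IsLocalIso f := ⟨hloc⟩
  refine ⟨hli, fun hsep => ?_⟩
  have huo : UniversallyOpen f := IsLocalIso.le_of_isZariskiLocalAtSource @UniversallyOpen _ _ f hli
  obtain ⟨U₀, hηU₀, hU₀⟩ := hloc (genericPoint X)
  -- sections through a point
  have hA : ∀ (y : Y) (x : X), f x = y →
      ∃ l : Spec (Y.presheaf.stalk y) ⟶ X, l ≫ f = Y.fromSpecStalk y ∧
        l (closedPoint (Y.presheaf.stalk y)) = x := by
    rintro _ x rfl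
    have := hiso x
    refine ⟨Spec.map (inv (f.stalkMap x)) ≫ X.fromSpecStalk x, ?_, ?_⟩
    · rw [Category.assoc, ← Scheme.SpecMap_stalkMap_fromSpecStalk, ← Spec.map_comp_assoc,
        IsIso.hom_inv_id, Spec.map_id, Category.id_comp]
    · rw [Scheme.Hom.comp_apply]
      have : Spec.map (inv (f.stalkMap x)) (closedPoint (Y.presheaf.stalk (f x))) =
          closedPoint (X.presheaf.stalk x) := IsLocalRing.comap_closedPoint (inv (f.stalkMap x)).hom
      rw [this, Scheme.fromSpecStalk_closedPoint]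
  -- uniqueness of such sections
  have hB : ∀ (y : Y) (l₁ l₂ : Spec (Y.presheaf.stalk y) ⟶ X), l₁ ≫ f = Y.fromSpecStalk y →
      l₂ ≫ f = Y.fromSpecStalk y → l₁ = l₂ := by
    intro y l₁ l₂ h₁ h₂
    have hinj : Function.Injective (algebraMap (Y.presheaf.stalk y)
        (FractionRing (Y.presheaf.stalk y))) := IsFractionRing.injective _ _
    let ι : Spec (CommRingCat.of (FractionRing (Y.presheaf.stalk y))) ⟶ Spec (Y.presheaf.stalk y) :=
      Spec.map (CommRingCat.ofHom (algebraMap (Y.presheaf.stalk y)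
        (FractionRing (Y.presheaf.stalk y))))
    have hdom : IsDominant ι := isDominant_specMap_of_injective (Y.presheaf.stalk y)
      (FractionRing (Y.presheaf.stalk y)) hinj
    have hred : IsReduced (Spec (Y.presheaf.stalk y)) := inferInstance
    refine ext_of_isDominant_of_isSeparated f (h₁.trans h₂.symm) ι ?_
    -- both land in `U₀`
    have hpt : ∀ (l : Spec (Y.presheaf.stalk y) ⟶ X), l ≫ f = Y.fromSpecStalk y →
        ∀ pt, (ι ≫ l) pt = genericPoint X := by
      intro l hl pt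
      apply eq_genericPoint_of_map_eq f _ hgen
      rw [← Scheme.Hom.comp_apply, Category.assoc, hl, Scheme.Hom.comp_apply]
      have : ι pt = (⊥ : PrimeSpectrum (Y.presheaf.stalk y)) :=
        MonoVal.specMap_apply_of_injective _ hinj pt
      rw [this, fromSpecStalk_bot_eq_genericPoint]
    have hr : ∀ (l : Spec (Y.presheaf.stalk y) ⟶ X), l ≫ f = Y.fromSpecStalk y →
        Set.range (ι ≫ l) ⊆ Set.range U₀.ι := by
      rintro l hl _ ⟨pt, rfl⟩
      rw [hpt l hl, Scheme.Opens.range_ι]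
      exact hηU₀
    let t₁ := IsOpenImmersion.lift U₀.ι (ι ≫ l₁) (hr l₁ h₁)
    let t₂ := IsOpenImmersion.lift U₀.ι (ι ≫ l₂) (hr l₂ h₂)
    have ht₁ : t₁ ≫ U₀.ι = ι ≫ l₁ := IsOpenImmersion.lift_fac _ _ _
    have ht₂ : t₂ ≫ U₀.ι = ι ≫ l₂ := IsOpenImmersion.lift_fac _ _ _
    have : t₁ = t₂ := by
      rw [← cancel_mono (U₀.ι ≫ f), ← Category.assoc, ← Category.assoc, ht₁, ht₂, Category.assoc,
        Category.assoc, h₁, h₂]
    rw [← ht₁, ← ht₂, this]
  have hinj : Function.Injective f := by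
    intro x₁ x₂ h
    obtain ⟨l₁, hl₁, hx₁⟩ := hA (f x₁) x₁ rfl
    obtain ⟨l₂, hl₂, hx₂⟩ := hA (f x₁) x₂ h.symm
    rw [← hx₁, ← hx₂, hB _ l₁ l₂ hl₁ hl₂]
  have hemb : Topology.IsOpenEmbedding f :=
    .of_continuous_injective_isOpenMap f.continuous hinj f.isOpenMap
  exact IsOpenImmersion.of_isIso_stalkMap f hemb

/-- If a separated morphism from an integral scheme restricts to an open immersion on a nonempty
open `U'`, then it is an isomorphism over the image of `U'`. -/
theorem isIso_morphismRestrict_of_isOpenImmersion {X Y : Scheme.{u}} [IsIntegral X] (f : X ⟶ Y)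
    [IsSeparated f] (U' : X.Opens) (hne : (U' : Set X).Nonempty) [IsOpenImmersion (U'.ι ≫ f)] :
    IsIso (f ∣_ (U'.ι ≫ f).opensRange) := by
  let V : Y.Opens := (U'.ι ≫ f).opensRange
  let e : (U' : Scheme.{u}) ≅ V := IsOpenImmersion.isoOfRangeEq (U'.ι ≫ f) V.ι (by
    rw [Scheme.Opens.range_ι]; rfl)
  have he : e.hom ≫ V.ι = U'.ι ≫ f := IsOpenImmersion.isoOfRangeEq_hom_fac _ _ _
  let σ : (V : Scheme.{u}) ⟶ X := e.inv ≫ U'.ι
  have hσ : σ ≫ f = V.ι := by
    rw [Category.assoc, ← he, Iso.inv_hom_id_assoc]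
  let σ' : (V : Scheme.{u}) ⟶ (f ⁻¹ᵁ V : X.Opens) := IsOpenImmersion.lift (f ⁻¹ᵁ V).ι σ (by
    rintro _ ⟨v, rfl⟩
    rw [Scheme.Opens.range_ι]
    change f (σ v) ∈ V
    rw [← Scheme.Hom.comp_apply, hσ]
    exact v.2)
  have hσ' : σ' ≫ (f ⁻¹ᵁ V).ι = σ := IsOpenImmersion.lift_fac _ _ _
  have hid : σ' ≫ (f ∣_ V) = 𝟙 _ := by
    rw [← cancel_mono V.ι, Category.assoc, morphismRestrict_ι, ← Category.assoc, hσ', hσ,
      Category.id_comp]
  have hci : IsClosedImmersion σ' := by
    have : IsClosedImmersion (σ' ≫ (f ∣_ V)) := by rw [hid]; infer_instance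
    exact IsClosedImmersion.of_comp σ' (f ∣_ V)
  -- surjectivity
  have hηU' : genericPoint X ∈ U' :=
    ((genericPoint_spec X).mem_open_set_iff U'.isOpen).mpr (by simpa using hne)
  have hηV : genericPoint X ∈ f ⁻¹ᵁ V := ⟨⟨genericPoint X, hηU'⟩, rfl⟩
  have hsurj : Surjective σ' := by
    constructor
    rw [← Set.range_eq_univ, Set.eq_univ_iff_forall]
    intro p
    have hcl : IsClosed (Set.range σ') := σ'.isClosedEmbedding.isClosed_range
    have hmem : (⟨genericPoint X, hηV⟩ : (f ⁻¹ᵁ V : X.Opens)) ∈ Set.range σ' := by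
      refine ⟨e.hom ⟨genericPoint X, hηU'⟩, ?_⟩
      apply (f ⁻¹ᵁ V).ι.isEmbedding.injective
      rw [← Scheme.Hom.comp_apply, ← Scheme.Hom.comp_apply, hσ']
      simp only [σ]
      rw [Iso.hom_inv_id_assoc]
      rfl
    have hsp : (⟨genericPoint X, hηV⟩ : (f ⁻¹ᵁ V : X.Opens)) ⤳ p :=
      ((f ⁻¹ᵁ V).ι.isEmbedding.isInducing.specializes_iff).1
        ((genericPoint_spec X).specializes trivial)
    exact hsp.mem_closed hcl hmem
  have hiso : IsIso σ' := isIso_of_isClosedImmersion_of_surjective σ'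
  have : f ∣_ V = inv σ' := by
    rw [← cancel_epi σ', hid, IsIso.hom_inv_id]
  rw [this]
  infer_instance

end Groth.Agent.H8.LocalIso
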