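import Mathlib
import Groth.Agent.Lib.Helper8.DVRSch

/-!
# Relative domination by discrete valuation rings for morphisms locally of finite type
-/

set_option autoImplicit false

universe u

open AlgebraicGeometry CategoryTheory CategoryTheory.Limits IsLocalRing TopologicalSpace

namespace Groth.Agent.H8.DVRSch

section EV

variable {X : Scheme.{u}} {U : X.Opens} (hU : IsAffineOpen U)

include hU in
/-- `Spec κ(x) ⟶ X` factors through any affine open containing `x`. -/
lemma specMap_evaluation_fromSpec {x : X} (hx : x ∈ U) :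
    Spec.map (X.evaluation U x hx) ≫ hU.fromSpec = X.fromSpecResidueField x := by
  rw [← Scheme.germ_residue, Spec.map_comp, Category.assoc]
  change Spec.map (X.residue x) ≫ hU.fromSpecStalk hx = _
  rw [hU.fromSpecStalk_eq_fromSpecStalk hx]
  rfl

include hU in
/-- `κ(x)` is generated as a field by the image of the sections over an affine open. -/
lemma closure_range_evaluation {x : X} (hx : x ∈ U) :
    Subfield.closure (Set.range (X.evaluation U x hx).hom) = ⊤ := by
  rw [eq_top_iff]
  intro y _
  obtain ⟨y', rfl⟩ := X.residue_surjective x y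
  let _ : Algebra Γ(X, U) (X.presheaf.stalk x) :=
    TopCat.Presheaf.algebra_section_stalk X.presheaf ⟨x, hx⟩
  have hloc : IsLocalization.AtPrime (X.presheaf.stalk x)
      (hU.primeIdealOf ⟨x, hx⟩).asIdeal := hU.isLocalization_stalk ⟨x, hx⟩
  obtain ⟨⟨a, b⟩, hab⟩ := IsLocalization.surj (hU.primeIdealOf ⟨x, hx⟩).asIdeal.primeCompl y'
  have hunit : IsUnit (algebraMap Γ(X, U) (X.presheaf.stalk x) b) :=
    IsLocalization.map_units _ b
  have h1 : (X.residue x).hom y' * (X.evaluation U x hx).hom b = (X.evaluation U x hx).hom a := by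
    have := congrArg (X.residue x).hom hab
    rw [map_mul] at this
    exact this
  have hb0 : (X.evaluation U x hx).hom (b : Γ(X, U)) ≠ 0 := by
    have : IsUnit ((X.residue x).hom (algebraMap Γ(X, U) (X.presheaf.stalk x) b)) :=
      hunit.map _
    exact this.ne_zero
  have h2 : (X.residue x).hom y' =
      (X.evaluation U x hx).hom a / (X.evaluation U x hx).hom (b : Γ(X, U)) := by
    rw [eq_div_iff hb0, h1]
  rw [h2]
  exact Subfield.div_mem _ (Subfield.subset_closure ⟨a, rfl⟩) (Subfield.subset_closure ⟨b, rfl⟩)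

end EV

section R0

variable {W : Scheme.{u}} [IsLocallyNoetherian W] {V : W.Opens} (hV : IsAffineOpen V)

include hV in
/-- Affine-open form: a morphism `Spec L ⟶ W` through an affine open `V`, given by `ψ : Γ(W,V) → L`
with `L` finitely generated over the image, and a nontrivial specialization `z'` in `V` of its
image point.  Then `ψ` extends to a discrete valuation ring of `L` whose closed point maps to
`z'`. -/
theorem exists_dvr_valuationSubring_of_specializes {L : Type u} [Field L]
    (ψ : Γ(W, V) ⟶ CommRingCat.of L) {z' : W} (hz' : z' ∈ V)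
    (hspec : (Spec.map ψ ≫ hV.fromSpec) (closedPoint L) ⤳ z')
    (hne : (Spec.map ψ ≫ hV.fromSpec) (closedPoint L) ≠ z')
    (s : Finset L) (hs : Subfield.closure (Set.range ψ.hom ∪ s) = ⊤) :
    ∃ B : ValuationSubring L, IsDiscreteValuationRing B ∧
      ∃ h' : Spec (CommRingCat.of B) ⟶ W,
        Spec.map (CommRingCat.ofHom B.subtype) ≫ h' = Spec.map ψ ≫ hV.fromSpec ∧
        h' (closedPoint B) = z' := by
  have hN : IsNoetherianRing Γ(W, V) := IsLocallyNoetherian.component_noetherian ⟨V, hV⟩
  let p : PrimeSpectrum Γ(W, V) := hV.primeIdealOf ⟨z', hz'⟩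
  have hp : hV.fromSpec p = z' := hV.fromSpec_primeIdealOf ⟨z', hz'⟩
  let q : PrimeSpectrum Γ(W, V) := Spec.map ψ (closedPoint L)
  have hqker : q.asIdeal = RingHom.ker ψ.hom := by
    change Ideal.comap ψ.hom (maximalIdeal L) = _
    rw [IsLocalRing.maximalIdeal_eq_bot, RingHom.ker_eq_comap_bot]
  have hq : hV.fromSpec q = (Spec.map ψ ≫ hV.fromSpec) (closedPoint L) :=
    (Scheme.Hom.comp_apply _ _ _).symm
  have hqp : q ⤳ p := by
    have h0 : hV.fromSpec q ⤳ hV.fromSpec p := by
      rw [hp, hq]; exact hspec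
    exact hV.fromSpec.isOpenEmbedding.isInducing.specializes_iff.1 h0
  have hle : q ≤ p := (PrimeSpectrum.le_iff_specializes q p).2 hqp
  have hqne : q ≠ p := by
    intro h
    apply hne
    rw [← hq, h, hp]
  have hlt' : q < p := lt_of_le_of_ne hle hqne
  have hlt : RingHom.ker ψ.hom < p.asIdeal := by
    rw [← hqker]; exact hlt'
  obtain ⟨B, hBdvr, hB, hcomap⟩ :=
    KA.exists_dvr_valuationSubring_of_lt ψ.hom p.asIdeal hlt s hs
  let φ : Γ(W, V) ⟶ CommRingCat.of B := CommRingCat.ofHom (ψ.hom.codRestrict B.toSubring hB)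
  refine ⟨B, hBdvr, Spec.map φ ≫ hV.fromSpec, ?_, ?_⟩
  · rw [← Category.assoc, ← Spec.map_comp]
    rfl
  · rw [Scheme.Hom.comp_apply]
    have : Spec.map φ (closedPoint B) = p := PrimeSpectrum.ext hcomap
    rw [this, hp]

end R0

section R

variable {U W : Scheme.{u}} [IsLocallyNoetherian W] (g : U ⟶ W) [LocallyOfFiniteType g]

/-- Relative domination: for `g : U ⟶ W` locally of finite type with `W` locally Noetherian, a
point `u` and a nontrivial specialization `z'` of `g u`, there is a discrete valuation ring `B` of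
the residue field `κ(u)` and a morphism `Spec B ⟶ W` extending `Spec κ(u) ⟶ U ⟶ W` and sending the
closed point to `z'`. -/
theorem exists_dvr_valuationSubring_residueField (u : U) {z' : W} (hspec : g u ⤳ z')
    (hne : g u ≠ z') :
    ∃ B : ValuationSubring (U.residueField u), IsDiscreteValuationRing B ∧
      ∃ h' : Spec (CommRingCat.of B) ⟶ W,
        Spec.map (CommRingCat.ofHom B.subtype) ≫ h' = U.fromSpecResidueField u ≫ g ∧
        h' (closedPoint B) = z' := by
  obtain ⟨V, hV, hz'V, -⟩ :=
    exists_isAffineOpen_mem_and_subset (x := z') (U := ⊤) (Opens.mem_top z')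
  have hguV : g u ∈ V := hspec.mem_open V.2 hz'V
  obtain ⟨U₁, hU₁, huU₁, hU₁V⟩ :=
    exists_isAffineOpen_mem_and_subset (x := u) (U := g ⁻¹ᵁ V) hguV
  let φ := g.appLE V U₁ hU₁V
  have hφ : RingHom.FiniteType φ.hom :=
    g.finiteType_appLE hV hU₁ hU₁V
  let ev := U.evaluation U₁ u huU₁
  let ψ : Γ(W, V) ⟶ CommRingCat.of (U.residueField u) := φ ≫ ev
  have hfac : Spec.map ψ ≫ hV.fromSpec = U.fromSpecResidueField u ≫ g := by
    change Spec.map (φ ≫ ev) ≫ hV.fromSpec = _
    rw [Spec.map_comp, Category.assoc, IsAffineOpen.SpecMap_appLE_fromSpec g hV hU₁ hU₁V,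
      ← Category.assoc, specMap_evaluation_fromSpec hU₁ huU₁]
  have hpt : (Spec.map ψ ≫ hV.fromSpec) (closedPoint (U.residueField u)) = g u := by
    rw [hfac, Scheme.Hom.comp_apply, Scheme.fromSpecResidueField_apply]
  letI : Algebra Γ(W, V) Γ(U, U₁) := φ.hom.toAlgebra
  have hft : Algebra.FiniteType Γ(W, V) Γ(U, U₁) := hφ
  obtain ⟨s₀, hs₀⟩ := hft.out
  classical
  have hs : Subfield.closure (Set.range ψ.hom ∪ ((s₀.image ev.hom : Finset (U.residueField u)) :
      Set (U.residueField u))) = ⊤ := by
    rw [eq_top_iff, ← closure_range_evaluation hU₁ huU₁, Subfield.closure_le]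
    rintro _ ⟨a, rfl⟩
    have ha : a ∈ Algebra.adjoin Γ(W, V) (s₀ : Set Γ(U, U₁)) := hs₀ ▸ Algebra.mem_top
    induction ha using Algebra.adjoin_induction with
    | mem x hx =>
      refine Subfield.subset_closure (Or.inr ?_)
      rw [Finset.coe_image]
      exact ⟨x, hx, rfl⟩
    | algebraMap r => exact Subfield.subset_closure (Or.inl ⟨r, rfl⟩)
    | add x y _ _ hx hy =>
      rw [map_add]; exact Subfield.add_mem _ hx hy
    | mul x y _ _ hx hy =>
      rw [map_mul]; exact Subfield.mul_mem _ hx hy
  obtain ⟨B, hBdvr, h', h1, h2⟩ := exists_dvr_valuationSubring_of_specializes hV ψ hz'V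
    (hpt ▸ hspec) (hpt ▸ hne) _ hs
  exact ⟨B, hBdvr, h', h1.trans hfac, h2⟩

/-- Relative domination, fraction field form. -/
theorem exists_dvr_of_specializes_of_locallyOfFiniteType (u : U) {z' : W} (hspec : g u ⤳ z')
    (hne : g u ≠ z') :
    ∃ (B : Type u) (_ : CommRing B) (_ : IsDomain B) (_ : IsDiscreteValuationRing B)
      (u' : Spec (CommRingCat.of (FractionRing B)) ⟶ U) (h' : Spec (CommRingCat.of B) ⟶ W),
      Spec.map (CommRingCat.ofHom (algebraMap B (FractionRing B))) ≫ h' = u' ≫ g ∧
        h' (closedPoint B) = z' ∧ u' (closedPoint (FractionRing B)) = u := by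
  obtain ⟨B, hBdvr, h', h1, h2⟩ := exists_dvr_valuationSubring_residueField g u hspec hne
  let e : FractionRing B ≃ₐ[B] U.residueField u := FractionRing.algEquiv B (U.residueField u)
  let e₁ : CommRingCat.of (U.residueField u) ⟶ CommRingCat.of (FractionRing B) :=
    CommRingCat.ofHom (e.symm : U.residueField u →+* FractionRing B)
  let e₂ : CommRingCat.of (FractionRing B) ⟶ CommRingCat.of (U.residueField u) :=
    CommRingCat.ofHom (e : FractionRing B →+* U.residueField u)
  have he12 : e₂ ≫ e₁ = 𝟙 _ := by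
    ext x
    exact e.symm_apply_apply x
  have hsub : CommRingCat.ofHom (algebraMap B (FractionRing B)) ≫ e₂ =
      CommRingCat.ofHom B.subtype := by
    ext x
    exact e.commutes x
  refine ⟨B, inferInstance, inferInstance, hBdvr, Spec.map e₁ ≫ U.fromSpecResidueField u, h',
    ?_, h2, ?_⟩
  · rw [Category.assoc, ← h1, ← hsub, Spec.map_comp, Category.assoc, ← Category.assoc,
      ← Spec.map_comp, he12, Spec.map_id, Category.id_comp]
  · rw [Scheme.Hom.comp_apply, Scheme.fromSpecResidueField_apply]

end R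

end Groth.Agent.H8.DVRSch
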