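import Mathlib
import Groth.Prelude.Def_EtBase

set_option autoImplicit false
universe u
open Polynomial

namespace Groth.Agent.H8.AIC

variable {A : Type u} [CommRing A]
  (hA : ∀ f : A[X], f.Monic → ∃ s : Multiset A, f = (s.map fun a => X - C a).prod)
  (p : Ideal A) [p.IsPrime]

include hA in
theorem exists_scaleRoots_eq_prod (f : (Localization.AtPrime p)[X]) (hf : f.Monic) :
    ∃ (s₁ : Localization.AtPrime p) (_ : IsUnit s₁) (t : Multiset (Localization.AtPrime p)),
      f.scaleRoots s₁ = (t.map fun a => X - C a).prod ∧ Multiset.card t = f.natDegree := by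
  rcases subsingleton_or_nontrivial (Localization.AtPrime p) with h | h
  · exact ⟨1, isUnit_one, 0, Subsingleton.elim _ _, by
      rw [Multiset.card_zero, Subsingleton.elim f 0, natDegree_zero]⟩
  set M := p.primeCompl with hM
  set d := IsLocalization.commonDenom M f.support f.coeff with hd
  set s₁ := algebraMap A (Localization.AtPrime p) d with hs₁
  have hunit : IsUnit s₁ := IsLocalization.map_units _ d
  have hlift := IsLocalization.scaleRoots_commonDenom_mem_lifts M f (by
    rw [hf.leadingCoeff]; exact one_mem _)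
  have hmonic : (f.scaleRoots s₁).Monic := (monic_scaleRoots_iff _).mpr hf
  obtain ⟨G, hG1, hG2, hG3⟩ := lifts_and_natDegree_eq_and_monic hlift hmonic
  obtain ⟨t, ht⟩ := hA G hG3
  refine ⟨s₁, hunit, t.map (algebraMap A (Localization.AtPrime p)), ?_, ?_⟩
  · rw [← hG1, ht, Polynomial.map_multiset_prod, Multiset.map_map, Multiset.map_map]
    congr 1
    apply Multiset.map_congr rfl
    intro a _
    simp
  · rw [Multiset.card_map]
    haveI : Nontrivial A := by
      by_contra hnt
      rw [not_nontrivial_iff_subsingleton] at hnt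
      exact (Ideal.IsPrime.ne_top ‹p.IsPrime›) (Subsingleton.elim _ _)
    have h1 : G.natDegree = Multiset.card t := by
      rw [ht]
      exact natDegree_multiset_prod_X_sub_C_eq_card t
    rw [← h1, hG2, natDegree_scaleRoots]

include hA in
theorem exists_root_of_mem (f : (Localization.AtPrime p)[X]) (hf : f.Monic)
    (a₀ : Localization.AtPrime p)
    (h₀ : f.eval a₀ ∈ IsLocalRing.maximalIdeal (Localization.AtPrime p)) :
    ∃ a, f.IsRoot a ∧ a - a₀ ∈ IsLocalRing.maximalIdeal (Localization.AtPrime p) := by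
  obtain ⟨s₁, hs₁, t, ht, -⟩ := exists_scaleRoots_eq_prod hA p f hf
  have h1 : eval (s₁ * a₀) (f.scaleRoots s₁) ∈ IsLocalRing.maximalIdeal (Localization.AtPrime p) := by
    rw [scaleRoots_eval_mul]
    exact Ideal.mul_mem_left _ _ h₀
  rw [ht, eval_multiset_prod, Multiset.map_map] at h1
  obtain ⟨x, hx, hxm⟩ := (Ideal.IsPrime.multiset_prod_mem_iff_exists_mem
    (IsLocalRing.maximalIdeal.isMaximal _).isPrime _).mp h1
  obtain ⟨b, hb, rfl⟩ := Multiset.mem_map.mp hx
  simp only [Function.comp_apply, eval_sub, eval_X, eval_C] at hxm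
  obtain ⟨v, hv⟩ := hs₁.exists_left_inv
  refine ⟨v * b, ?_, ?_⟩
  · have h2 : eval (s₁ * (v * b)) (f.scaleRoots s₁) = s₁ ^ f.natDegree * eval (v * b) f :=
      scaleRoots_eval_mul _ _ _
    have h3 : s₁ * (v * b) = b := by rw [← mul_assoc, mul_comm s₁ v, hv, one_mul]
    rw [h3, ht, eval_multiset_prod, Multiset.map_map] at h2
    have h4 : ((t.map ((fun x => eval b x) ∘ fun a => X - C a))).prod = 0 := by
      apply Multiset.prod_eq_zero
      rw [Multiset.mem_map]
      exact ⟨b, hb, by simp⟩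
    rw [h4] at h2
    have h5 : IsUnit (s₁ ^ f.natDegree) := hs₁.pow _
    exact (h5.mul_right_eq_zero.mp h2.symm)
  · have : v * b - a₀ = -(v * (s₁ * a₀ - b)) := by
      have : v * (s₁ * a₀) = a₀ := by rw [← mul_assoc, hv, one_mul]
      rw [mul_sub, this]; ring
    rw [this]
    exact neg_mem (Ideal.mul_mem_left _ _ hxm)

include hA in
theorem exists_root_of_pos (f : (Localization.AtPrime p)[X]) (hf : f.Monic)
    (hdeg : 0 < f.natDegree) : ∃ a, f.IsRoot a := by
  obtain ⟨s₁, hs₁, t, ht, hcard⟩ := exists_scaleRoots_eq_prod hA p f hf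
  have hne : t ≠ 0 := by
    intro h0
    rw [h0, Multiset.card_zero] at hcard
    omega
  obtain ⟨b, hb⟩ := Multiset.exists_mem_of_ne_zero hne
  obtain ⟨v, hv⟩ := hs₁.exists_left_inv
  refine ⟨v * b, ?_⟩
  have h2 : eval (s₁ * (v * b)) (f.scaleRoots s₁) = s₁ ^ f.natDegree * eval (v * b) f :=
    scaleRoots_eval_mul _ _ _
  have h3 : s₁ * (v * b) = b := by rw [← mul_assoc, mul_comm s₁ v, hv, one_mul]
  rw [h3, ht, eval_multiset_prod, Multiset.map_map] at h2
  have h4 : ((t.map ((fun x => eval b x) ∘ fun a => X - C a))).prod = 0 := by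
    apply Multiset.prod_eq_zero
    rw [Multiset.mem_map]
    exact ⟨b, hb, by simp⟩
  rw [h4] at h2
  have h5 : IsUnit (s₁ ^ f.natDegree) := hs₁.pow _
  exact (h5.mul_right_eq_zero.mp h2.symm)

include hA in
theorem isStrictlyHenselian : EtCoh.IsStrictlyHenselianLocalRing (Localization.AtPrime p) := by
  refine ⟨⟨fun f hf a₀ h₀ _ => exists_root_of_mem hA p f hf a₀ h₀⟩, ?_⟩
  apply IsSepClosed.of_exists_root
  intro q hq hirr _
  obtain ⟨Q, hQ1, hQ2, hQ3⟩ := lifts_and_natDegree_eq_and_monic
    ((Polynomial.mem_lifts _).mpr (Polynomial.map_surjective _ IsLocalRing.residue_surjective q)) hq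
  have hdeg : 0 < Q.natDegree := by
    rw [hQ2]
    exact Irreducible.natDegree_pos hirr
  obtain ⟨a, ha⟩ := exists_root_of_pos hA p Q hQ3 hdeg
  refine ⟨IsLocalRing.residue _ a, ?_⟩
  rw [← hQ1, eval_map, eval₂_hom]
  have : eval a Q = 0 := ha
  rw [this, map_zero]

end Groth.Agent.H8.AIC
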