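import Mathlib
import Groth.Agent.Lib.Helper8.KrullAkizuki

set_option autoImplicit false
universe u
open Function

namespace Groth.Agent.H8.SL1

variable {B : Type u} [CommRing B] [IsDomain B] [IsNoetherianRing B]
  {K : Type u} [Field K] [Algebra B K] [IsFractionRing B K]

theorem dimensionLEOne_of_krullDimLE [Ring.KrullDimLE 1 B] : Ring.DimensionLEOne B :=
  ⟨fun hp hpp => Ring.krullDimLE_one_iff_of_noZeroDivisors.mp ‹_› _ hp hpp⟩

variable (B K) in
theorem isDedekindDomain_integralClosure [Ring.KrullDimLE 1 B] :
    IsDedekindDomain (integralClosure B K) := by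
  have hD1 : Ring.DimensionLEOne B := dimensionLEOne_of_krullDimLE
  have hnoeth : IsNoetherianRing (integralClosure B K) :=
    KA.isNoetherianRing_overring (integralClosure B K)
  have hic : IsIntegrallyClosed (integralClosure B K) :=
    integralClosure.isIntegrallyClosedOfFiniteExtension K
  have hfr : IsFractionRing (integralClosure B K) K :=
    integralClosure.isFractionRing_of_finite_extension K K
  exact (isDedekindDomain_iff (integralClosure B K) K).2 ⟨inferInstance, hnoeth, inferInstance,
    fun {x} hx => (isIntegrallyClosed_iff K).1 hic hx⟩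

variable (B K) in
theorem finite_maximalSpectrum_integralClosure [Ring.KrullDimLE 1 B]
    [Finite (MaximalSpectrum B)] : Finite (MaximalSpectrum (integralClosure B K)) := by
  haveI := isDedekindDomain_integralClosure B K
  let f : MaximalSpectrum (integralClosure B K) → MaximalSpectrum B := fun M =>
    ⟨M.asIdeal.comap (algebraMap B (integralClosure B K)),
      Ideal.isMaximal_comap_of_isIntegral_of_isMaximal _⟩
  rw [← Set.finite_univ_iff]
  refine Set.Finite.of_finite_fibers f (Set.toFinite _) fun m _ => ?_
  have hfin := IsDedekindDomain.primesOver_finite m.asIdeal (integralClosure B K)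
  refine Set.Finite.of_injOn (f := fun M => M.asIdeal) (t := m.asIdeal.primesOver (integralClosure B K))
    ?_ (fun M _ M' _ h => MaximalSpectrum.ext h) hfin
  intro M hM
  refine ⟨M.isMaximal.isPrime, ⟨?_⟩⟩
  have : f M = m := hM.2
  exact (congrArg MaximalSpectrum.asIdeal this).symm

/-- If `S ⊆ B'` are subalgebras of `K` integral over `B`, an element of `S` in the Jacobson radical
of `B'` lies in every maximal ideal of `S`. -/
theorem mem_of_mem_jacobson {S : Subalgebra B K} (hle : S ≤ integralClosure B K)
    (x : S) (hx : Subalgebra.inclusion hle x ∈ (⊥ : Ideal (integralClosure B K)).jacobson)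
    (P : Ideal S) [hP : P.IsMaximal] : x ∈ P := by
  by_contra hxP
  obtain ⟨s, p, hp, hsp⟩ := (hP.exists_inv hxP)
  -- `s * x + p = 1`
  have hunit : IsUnit (Subalgebra.inclusion hle p) := by
    have h1 := (Ideal.mem_jacobson_bot.1 hx) (Subalgebra.inclusion hle (-s))
    have : Subalgebra.inclusion hle p =
        Subalgebra.inclusion hle x * Subalgebra.inclusion hle (-s) + 1 := by
      rw [← map_mul, ← map_one (Subalgebra.inclusion hle), ← map_add]
      congr 1
      rw [← hsp]; ring
    rwa [this]
  have hint : ((Subalgebra.inclusion hle).toRingHom).IsIntegral := by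
    refine RingHom.IsIntegral.tower_top (algebraMap B S) _ ?_
    have : ((Subalgebra.inclusion hle).toRingHom).comp (algebraMap B S) =
        algebraMap B (integralClosure B K) := by
      ext b; rfl
    rw [this]
    exact algebraMap_isIntegral_iff.2 inferInstance
  have hloc := hint.isLocalHom (Subalgebra.inclusion_injective hle)
  have hpu : IsUnit p := hloc.map_nonunit p hunit
  exact hP.ne_top (Ideal.eq_top_of_isUnit_mem _ hp hpu)

/-- A finitely generated `B`-submodule of `K` has a common denominator. -/
theorem exists_ne_zero_mul_mem_range (N : Submodule B K) (hN : N.FG) :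
    ∃ c : B, c ≠ 0 ∧ ∀ z ∈ N, algebraMap B K c * z ∈ (algebraMap B K).range := by
  obtain ⟨T, hT⟩ := hN
  obtain ⟨c, hc⟩ := IsLocalization.exist_integer_multiples_of_finset (nonZeroDivisors B) T
  refine ⟨c, nonZeroDivisors.ne_zero c.2, fun z hz => ?_⟩
  rw [← hT] at hz
  induction hz using Submodule.span_induction with
  | mem t ht =>
    obtain ⟨b, hb⟩ := hc t ht
    exact ⟨b, by rw [hb, Algebra.smul_def]⟩
  | zero => exact ⟨0, by simp⟩
  | add u v _ _ hu hv =>
    obtain ⟨a, ha⟩ := hu
    obtain ⟨b, hb⟩ := hv
    exact ⟨a + b, by rw [map_add, ha, hb, mul_add]⟩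
  | smul r u _ hu =>
    obtain ⟨a, ha⟩ := hu
    exact ⟨r * a, by rw [map_mul, ha, Algebra.smul_def]; ring⟩

theorem exists_pow_mul_mem_range [Ring.KrullDimLE 1 B]
    (x : integralClosure B K) (hx : x ∈ (⊥ : Ideal (integralClosure B K)).jacobson)
    (y : integralClosure B K) :
    ∃ n : ℕ, ((x ^ n * y : integralClosure B K) : K) ∈ (algebraMap B K).range := by
  have hD1 : Ring.DimensionLEOne B := dimensionLEOne_of_krullDimLE
  let S : Subalgebra B K := Algebra.adjoin B {(x : K), (y : K)}
  have hle : S ≤ integralClosure B K := Algebra.adjoin_le (by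
    rintro z (rfl | rfl)
    · exact x.2
    · exact y.2)
  have hfg : (Subalgebra.toSubmodule S).FG :=
    fg_adjoin_of_finite (Set.toFinite _) (by
      rintro z (rfl | rfl)
      · exact x.2
      · exact y.2)
  obtain ⟨c, hc0, hc⟩ := exists_ne_zero_mul_mem_range (Subalgebra.toSubmodule S) hfg
  have hxS : (x : K) ∈ S := Algebra.subset_adjoin (by simp)
  have hyS : (y : K) ∈ S := Algebra.subset_adjoin (by simp)
  haveI : Algebra.IsIntegral B S := ⟨fun z => by
    have := hle z.2
    exact (isIntegral_algebraMap_iff (B := K) (Subtype.val_injective)).1 this⟩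
  haveI : Ring.DimensionLEOne S := Ring.DimensionLEOne.of_isIntegral B S
  have hcS : algebraMap B S c ≠ 0 := by
    intro h
    apply hc0
    have h2 : algebraMap B K c = 0 := by
      have := congrArg (Subtype.val) h
      simpa using this
    exact (map_eq_zero_iff _ (IsFractionRing.injective B K)).1 h2
  have hrad : (⟨x, hxS⟩ : S) ∈ (Ideal.span {algebraMap B S c}).radical := by
    rw [Ideal.radical_eq_sInf, Ideal.mem_sInf]
    rintro P ⟨hcP, hPp⟩
    have hPbot : P ≠ ⊥ := by
      rintro rfl
      exact hcS (by simpa using hcP (Ideal.subset_span rfl))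
    haveI := hPp.isMaximal hPbot
    refine mem_of_mem_jacobson hle _ ?_ P
    have : Subalgebra.inclusion hle ⟨x, hxS⟩ = x := Subtype.ext rfl
    rw [this]; exact hx
  obtain ⟨n, hn⟩ := hrad
  obtain ⟨s, hs⟩ := Ideal.mem_span_singleton'.1 hn
  refine ⟨n, ?_⟩
  obtain ⟨b, hb⟩ := hc ((s * ⟨y, hyS⟩ : S) : K) (s * ⟨y, hyS⟩ : S).2
  refine ⟨b, ?_⟩
  rw [hb]
  have h1 := congrArg (Subtype.val) hs
  simp only [MulMemClass.coe_mul, SubmonoidClass.coe_pow] at h1 ⊢
  rw [← h1]
  have : ((algebraMap B S c : S) : K) = algebraMap B K c := rfl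
  rw [this]; ring

end Groth.Agent.H8.SL1
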