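import Mathlib
import Groth.Agent.Lib.Helper8.SemiLocalDimOne

set_option autoImplicit false
universe u
open Function IsDedekindDomain

namespace Groth.Agent.H8.SL1

/-- Simultaneously making finitely many valuations large on a subring. -/
theorem exists_forall_one_lt_valuation {K : Type*} [Field K] {Γ₀ : Type*}
    [LinearOrderedCommGroupWithZero Γ₀] {ι : Type*} (v : ι → Valuation K Γ₀) (A : Subring K)
    (s : Finset ι) (h : ∀ j ∈ s, ∃ a ∈ A, 1 < v j a) :
    ∃ x ∈ A, x ≠ 0 ∧ ∀ j ∈ s, 1 < v j x := by
  classical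
  induction s using Finset.induction_on with
  | empty => exact ⟨1, A.one_mem, one_ne_zero, by simp⟩
  | insert j s hj ih =>
    obtain ⟨x, hxA, hx0, hx⟩ := ih fun k hk => h k (Finset.mem_insert_of_mem hk)
    obtain ⟨a, haA, ha⟩ := h j (Finset.mem_insert_self j s)
    by_cases hjx : 1 < v j x
    · refine ⟨x, hxA, hx0, fun k hk => ?_⟩
      rcases Finset.mem_insert.1 hk with rfl | hk
      · exact hjx
      · exact hx k hk
    push Not at hjx
    -- bad exponents
    let bad : Set ℕ := {0} ∪ ⋃ k ∈ s, {N | 1 < v k a ∧ v k a ^ N = v k x}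
    have hbad : bad.Finite := by
      refine (Set.finite_singleton 0).union (Set.Finite.biUnion s.finite_toSet fun k _ => ?_)
      refine Set.Subsingleton.finite fun N hN M hM => ?_
      have hmono : StrictMono fun n : ℕ => v k a ^ n := pow_right_strictMono₀ hN.1
      exact hmono.injective (hN.2.trans hM.2.symm)
    obtain ⟨N, hN⟩ := hbad.infinite_compl.nonempty
    have hN0 : N ≠ 0 := fun h0 => hN (Or.inl (by simpa using h0))
    have hNk : ∀ k ∈ s, 1 < v k a → v k a ^ N ≠ v k x := fun k hk h1 h2 =>
      hN (Or.inr (Set.mem_biUnion hk ⟨h1, h2⟩))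
    have hjy : v j (x + a ^ N) = v j a ^ N := by
      rw [← map_pow]
      refine Valuation.map_add_eq_of_lt_right _ ?_
      rw [map_pow]
      exact lt_of_le_of_lt hjx (one_lt_pow₀ ha hN0)
    refine ⟨x + a ^ N, A.add_mem hxA (A.pow_mem haA N), ?_, fun k hk => ?_⟩
    · intro h0
      rw [h0, map_zero] at hjy
      exact (pow_ne_zero N (zero_lt_one.trans ha).ne') hjy.symm
    rcases Finset.mem_insert.1 hk with rfl | hk
    · rw [hjy]; exact one_lt_pow₀ ha hN0
    · by_cases hka : 1 < v k a
      · have hne : v k x ≠ v k (a ^ N) := by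
          rw [map_pow]; exact (hNk k hk hka).symm
        rw [Valuation.map_add_of_distinct_val _ hne]
        exact lt_max_of_lt_left (hx k hk)
      · push Not at hka
        have : v k (a ^ N) < v k x := by
          rw [map_pow]
          exact lt_of_le_of_lt (pow_le_one₀ zero_le hka) (hx k hk)
        rw [Valuation.map_add_eq_of_lt_left _ this]
        exact hx k hk

variable {B : Type u} [CommRing B] [IsDomain B] [IsNoetherianRing B]
  {K : Type u} [Field K] [Algebra B K] [IsFractionRing B K]

theorem not_isField_integralClosure (hB : ¬ IsField B) : ¬ IsField (integralClosure B K) := by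
  intro h
  apply hB
  have hinj : Function.Injective (algebraMap B (integralClosure B K)) := by
    intro a b hab
    apply IsFractionRing.injective B K
    exact congrArg Subtype.val hab
  exact isField_of_isIntegral_of_isField hinj h

/-- If all adic valuations of the integral closure are `> 1` at `x`, then `x⁻¹` lies in the
Jacobson radical of the integral closure. -/
theorem exists_inv_mem_jacobson [Ring.KrullDimLE 1 B] (hB : ¬ IsField B)
    [hD : IsDedekindDomain (integralClosure B K)] [IsFractionRing (integralClosure B K) K]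
    (x : K)
    (hx : ∀ v : HeightOneSpectrum (integralClosure B K), 1 < v.valuation K x) :
    ∃ z : integralClosure B K, (z : K) = x⁻¹ ∧
      z ∈ (⊥ : Ideal (integralClosure B K)).jacobson := by
  have hinv : ∀ v : HeightOneSpectrum (integralClosure B K), v.valuation K x⁻¹ < 1 := by
    intro v
    rw [map_inv₀]
    exact inv_lt_one_of_one_lt₀ (hx v)
  obtain ⟨z, hz⟩ := HeightOneSpectrum.mem_integers_of_valuation_le_one K x⁻¹
    (fun v => (hinv v).le)
  refine ⟨z, hz, ?_⟩
  rw [Ideal.jacobson, Ideal.mem_sInf]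
  rintro M ⟨-, hM⟩
  have hM0 : M ≠ ⊥ := by
    rintro rfl
    exact not_isField_integralClosure hB (Ring.isField_iff_maximal_bot.2 hM)
  let v : HeightOneSpectrum (integralClosure B K) := ⟨M, hM.isPrime, hM0⟩
  have := hinv v
  rw [← hz] at this
  exact (v.valuation_lt_one_iff_mem z).1 this

/-- If `z` in the Jacobson radical of the integral closure lies in `B`, it lies in the Jacobson
radical of `B`. -/
theorem mem_jacobson_of_mem_jacobson_integralClosure
    (z : integralClosure B K) (hz : z ∈ (⊥ : Ideal (integralClosure B K)).jacobson)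
    (b : B) (hb : algebraMap B K b = z) : b ∈ (⊥ : Ideal B).jacobson := by
  rw [Ideal.jacobson, Ideal.mem_sInf]
  rintro m ⟨-, hm⟩
  have hker : RingHom.ker (algebraMap B (integralClosure B K)) ≤ m := by
    intro a ha
    have : algebraMap B K a = 0 := congrArg Subtype.val (RingHom.mem_ker.1 ha)
    rw [(map_eq_zero_iff _ (IsFractionRing.injective B K)).1 this]
    exact m.zero_mem
  obtain ⟨M, hM, hMm⟩ := Ideal.exists_ideal_over_maximal_of_isIntegral
    (S := integralClosure B K) m hker
  rw [← hMm, Ideal.mem_comap]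
  have hzM : z ∈ M := by
    rw [Ideal.jacobson, Ideal.mem_sInf] at hz
    exact hz ⟨bot_le, hM⟩
  convert hzM
  exact Subtype.ext hb

theorem exists_pos_pow_mem_range [Ring.KrullDimLE 1 B] (hB : ¬ IsField B)
    [hD : IsDedekindDomain (integralClosure B K)] [IsFractionRing (integralClosure B K) K]
    (x : K)
    (hx : ∀ v : HeightOneSpectrum (integralClosure B K), 1 < v.valuation K x) :
    ∃ m : ℕ, 0 < m ∧ ∀ k : ℕ, 0 < k → ∃ b : B, algebraMap B K b = (x⁻¹) ^ (m * k) ∧
      b ∈ (⊥ : Ideal B).jacobson := by
  obtain ⟨z, hz, hzJ⟩ := exists_inv_mem_jacobson hB x hx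
  obtain ⟨n, b, hb⟩ := exists_pow_mul_mem_range z hzJ z
  refine ⟨n + 1, Nat.succ_pos n, fun k hk => ?_⟩
  have hb' : algebraMap B K b = (x⁻¹) ^ (n + 1) := by
    rw [hb]
    simp only [MulMemClass.coe_mul, SubmonoidClass.coe_pow, hz]
    rw [pow_succ]
  refine ⟨b ^ k, by rw [map_pow, hb', pow_mul], ?_⟩
  have hzk : z ^ ((n + 1) * k) ∈ (⊥ : Ideal (integralClosure B K)).jacobson := by
    have hpos : (n + 1) * k ≠ 0 := Nat.mul_ne_zero (Nat.succ_ne_zero n) hk.ne'
    exact Ideal.pow_mem_of_mem _ hzJ _ (Nat.pos_of_ne_zero hpos)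
  refine mem_jacobson_of_mem_jacobson_integralClosure _ hzk (b ^ k) ?_
  rw [map_pow, hb']
  simp only [SubmonoidClass.coe_pow, hz, pow_mul]

end Groth.Agent.H8.SL1
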