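import Mathlib

/-!
# Smooth over a field implies normal

* `isIntegrallyClosed_of_etale`: an étale domain over an integrally closed domain is integrally closed.
* `isIntegrallyClosed_atPrime_of_smooth_field`, `isIntegrallyClosed_of_smooth_field`.
* `isIntegrallyClosed_stalk_of_smooth_field`: stalks of an integral scheme smooth over a field are
  integrally closed.
-/

open TensorProduct

namespace Groth.Agent.H8.SmoothNormal

universe u

/-- An étale domain over an integrally closed domain is integrally closed. -/
theorem isIntegrallyClosed_of_etale (P T : Type u) [CommRing P] [IsDomain P] [IsIntegrallyClosed P]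
    [CommRing T] [IsDomain T] [Algebra P T] [Algebra.Etale P T] : IsIntegrallyClosed T := by
  classical
  let L := FractionRing P
  -- injectivity of P → T
  have hflat : Module.Flat P T := inferInstance
  have : FaithfulSMul P T := inferInstance
  have hinj : Function.Injective (algebraMap P T) := FaithfulSMul.algebraMap_injective P T
  let TL := T ⊗[P] L
  have hloc : IsLocalization (Algebra.algebraMapSubmonoid T (nonZeroDivisors P)) TL :=
    inferInstance
  have hle : Algebra.algebraMapSubmonoid T (nonZeroDivisors P) ≤ nonZeroDivisors T := by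
    rintro _ ⟨p, hp, rfl⟩
    exact mem_nonZeroDivisors_of_ne_zero
      (by rw [Ne, map_eq_zero_iff _ hinj]; exact nonZeroDivisors.ne_zero hp)
  have hdom : IsDomain TL := IsLocalization.isDomain_of_le_nonZeroDivisors TL hle
  -- `L ⊗ T` is étale over `L`, hence finite
  have hfin : Module.Finite L (L ⊗[P] T) := Algebra.FormallyUnramified.finite_of_free L (L ⊗[P] T)
  have hdom' : IsDomain (L ⊗[P] T) :=
    (Algebra.TensorProduct.comm P L T).toRingEquiv.toMulEquiv.isDomain TL
  have hfield' : IsField (L ⊗[P] T) :=
    isField_of_isIntegral_of_isField' (R := L) (Field.toIsField L)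
  have hfield : IsField TL :=
    (Algebra.TensorProduct.comm P T L).toRingEquiv.toMulEquiv.isField hfield'
  have hTinj : Function.Injective (algebraMap T TL) :=
    IsLocalization.injective TL hle
  have hfrac : IsFractionRing T TL := by
    refine IsLocalization.of_le (Algebra.algebraMapSubmonoid T (nonZeroDivisors P)) _ hle ?_
    intro r hr
    have : algebraMap T TL r ≠ 0 := by
      rw [Ne, map_eq_zero_iff _ hTinj]; exact nonZeroDivisors.ne_zero hr
    obtain ⟨b, hb⟩ := hfield.mul_inv_cancel this
    exact IsUnit.of_mul_eq_one _ hb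
  rw [isIntegrallyClosed_iff TL]
  intro x hx
  have hbij := TensorProduct.toIntegralClosure_bijective_of_smooth (R := P) (S := T) (B := L)
  obtain ⟨z, hz⟩ := hbij.2 ⟨x, hx⟩
  have key : ∀ z : T ⊗[P] integralClosure P L,
      ∃ y, algebraMap T TL y = (TensorProduct.toIntegralClosure P T L z : TL) := by
    intro z
    induction z with
    | zero => exact ⟨0, by simp⟩
    | add a b ha hb =>
      obtain ⟨ya, hya⟩ := ha
      obtain ⟨yb, hyb⟩ := hb
      exact ⟨ya + yb, by simp [hya, hyb]⟩
    | tmul t l =>
      obtain ⟨l, hl⟩ := l
      obtain ⟨p, rfl⟩ := IsIntegrallyClosed.isIntegral_iff.mp hl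
      refine ⟨p • t, ?_⟩
      simp [TensorProduct.toIntegralClosure]
      rw [Algebra.TensorProduct.algebraMap_apply, Algebra.algebraMap_self, RingHom.id_apply,
        Algebra.algebraMap_eq_smul_one, ← TensorProduct.smul_tmul]
  obtain ⟨y, hy⟩ := key z
  exact ⟨y, by rw [hy, hz]⟩

end Groth.Agent.H8.SmoothNormal

namespace Groth.Agent.H8.SmoothNormal

universe u

/-- If `S_f` is integrally closed and `f ∉ p`, then any localization of `S` at `p` is integrally
closed. -/
theorem isIntegrallyClosed_atPrime_of_away (S : Type u) [CommRing S] [IsDomain S] (f : S)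
    (p : Ideal S) [p.IsPrime] (hf : f ∉ p) [IsIntegrallyClosed (Localization.Away f)]
    (A : Type u) [CommRing A] [Algebra S A] [IsLocalization.AtPrime A p] :
    IsIntegrallyClosed A := by
  have hf0 : f ≠ 0 := fun h => hf (h ▸ p.zero_mem)
  have hle : Submonoid.powers f ≤ nonZeroDivisors S :=
    powers_le_nonZeroDivisors_of_noZeroDivisors hf0
  have : IsDomain (Localization.Away f) :=
    IsLocalization.isDomain_of_le_nonZeroDivisors _ hle
  let q : Ideal (Localization.Away f) := p.map (algebraMap S (Localization.Away f))
  have hdisj : Disjoint (Submonoid.powers f : Set S) (p : Set S) :=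
    (Ideal.disjoint_powers_iff_notMem_of_isPrime _).mpr hf
  have hq : q.IsPrime :=
    IsLocalization.isPrime_of_isPrime_disjoint (.powers f) _ _ ‹_› hdisj
  have hqc : q.comap (algebraMap S (Localization.Away f)) = p :=
    IsLocalization.under_map_of_isPrime_disjoint (.powers f) _ ‹_› hdisj
  have h1 : IsIntegrallyClosed (Localization.AtPrime q) :=
    isIntegrallyClosed_of_isLocalization _ q.primeCompl q.primeCompl_le_nonZeroDivisors
  have h2 : IsLocalization.AtPrime (Localization.AtPrime q) p := by
    have := IsLocalization.isLocalization_isLocalization_atPrime_isLocalization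
      (Submonoid.powers f) (Localization.AtPrime q) q
    have hpc : (q.comap (algebraMap S (Localization.Away f))).primeCompl = p.primeCompl := by
      ext x
      simp only [Ideal.primeCompl, Submonoid.mem_mk, Subsemigroup.mem_mk, Set.mem_compl_iff,
        SetLike.mem_coe, hqc]
    change IsLocalization p.primeCompl _
    rw [← hpc]
    exact this
  exact IsIntegrallyClosed.of_equiv
    (IsLocalization.algEquiv p.primeCompl (Localization.AtPrime q) A).toRingEquiv

/-- A localization at a prime of a smooth domain over a field is integrally closed. -/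
theorem isIntegrallyClosed_atPrime_of_smooth_field (k S : Type u) [Field k] [CommRing S]
    [IsDomain S] [Algebra k S] [Algebra.Smooth k S] (p : Ideal S) [p.IsPrime]
    (A : Type u) [CommRing A] [Algebra S A] [IsLocalization.AtPrime A p] :
    IsIntegrallyClosed A := by
  obtain ⟨f, hfp, n, _, _, _⟩ :=
    Algebra.IsSmoothAt.exists_isStandardEtale_mvPolynomial (R := k) (p := p)
  have hf0 : f ≠ 0 := fun h => hfp (h ▸ p.zero_mem)
  have : IsDomain (Localization.Away f) :=
    IsLocalization.isDomain_of_le_nonZeroDivisors _
      (powers_le_nonZeroDivisors_of_noZeroDivisors hf0)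
  have : IsIntegrallyClosed (Localization.Away f) :=
    isIntegrallyClosed_of_etale (MvPolynomial (Fin n) k) (Localization.Away f)
  exact isIntegrallyClosed_atPrime_of_away S f p hfp A

/-- A smooth domain over a field is integrally closed. -/
theorem isIntegrallyClosed_of_smooth_field (k S : Type u) [Field k] [CommRing S]
    [IsDomain S] [Algebra k S] [Algebra.Smooth k S] : IsIntegrallyClosed S :=
  IsIntegrallyClosed.of_localization_maximal fun p _ _ =>
    isIntegrallyClosed_atPrime_of_smooth_field k S p _

end Groth.Agent.H8.SmoothNormal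

namespace Groth.Agent.H8.SmoothNormal

open AlgebraicGeometry CategoryTheory

universe u

/-- The stalks of an integral scheme smooth over a field are integrally closed domains. -/
theorem isIntegrallyClosed_stalk_of_smooth_field (k : Type u) [Field k] (Y : Scheme.{u})
    [IsIntegral Y] (g : Y ⟶ Spec (CommRingCat.of k)) [Smooth g] (y : Y) :
    IsIntegrallyClosed (Y.presheaf.stalk y) := by
  obtain ⟨_, ⟨V, hV, rfl⟩, hyV, -⟩ :=
    Y.isBasis_affineOpens.exists_subset_of_mem_open (Set.mem_univ y) isOpen_univ
  have hsm : (g.appLE ⊤ V le_top).hom.Smooth := g.smooth_appLE (isAffineOpen_top _) hV le_top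
  let φ : k →+* Γ(Y, V) :=
    (g.appLE ⊤ V le_top).hom.comp (Scheme.ΓSpecIso (CommRingCat.of k)).inv.hom
  have hφ : φ.Smooth := by
    refine RingHom.Smooth.comp (RingHom.Smooth.of_bijective ?_) hsm
    exact (ConcreteCategory.isIso_iff_bijective (Scheme.ΓSpecIso (CommRingCat.of k)).inv).mp
      inferInstance
  algebraize [φ]
  have : Algebra.Smooth k Γ(Y, V) := hφ
  have : Nonempty V := ⟨⟨y, hyV⟩⟩
  have : IsDomain Γ(Y, V) := inferInstance
  let _ := Y.presheaf.algebra_section_stalk ⟨y, hyV⟩
  have := hV.isLocalization_stalk ⟨y, hyV⟩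
  exact isIntegrallyClosed_atPrime_of_smooth_field k Γ(Y, V) (hV.primeIdealOf ⟨y, hyV⟩).asIdeal
    (Y.presheaf.stalk y)

end Groth.Agent.H8.SmoothNormal
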