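import Mathlib
import Groth.Agent.Lib.Helper8.DVRSch2
import Groth.Agent.Lib.Helper8.QCClosure

/-!
# Refined Noetherian valuative criteria of separatedness
-/

set_option autoImplicit false

universe u

open AlgebraicGeometry CategoryTheory CategoryTheory.Limits IsLocalRing TopologicalSpace

namespace Groth.Agent.H8.DVRSch

/-- Separatedness tested on discrete valuation rings whose generic point factors through a given
dense `U ⟶ X` of finite type. -/
theorem isSeparated_of_dense_dvrUniqueness {X S U : Scheme.{u}} [IsLocallyNoetherian S]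
    (f : X ⟶ S) [LocallyOfFiniteType f] (h : U ⟶ X) [LocallyOfFiniteType h] [QuasiCompact h]
    (hd : DenseRange h.base)
    (H : ∀ (A : Type u) [CommRing A] [IsDomain A] [IsDiscreteValuationRing A]
      (u : Spec (CommRingCat.of (FractionRing A)) ⟶ U) (y : Spec (CommRingCat.of A) ⟶ S),
      u ≫ h ≫ f = Spec.map (CommRingCat.ofHom (algebraMap A (FractionRing A))) ≫ y →
        ∀ l₁ l₂ : Spec (CommRingCat.of A) ⟶ X, l₁ ≫ f = y →
          Spec.map (CommRingCat.ofHom (algebraMap A (FractionRing A))) ≫ l₁ = u ≫ h →
          l₂ ≫ f = y →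
          Spec.map (CommRingCat.ofHom (algebraMap A (FractionRing A))) ≫ l₂ = u ≫ h → l₁ = l₂) :
    IsSeparated f := by
  have hX : IsLocallyNoetherian X := LocallyOfFiniteType.isLocallyNoetherian f
  have hW : IsLocallyNoetherian (pullback f f) :=
    LocallyOfFiniteType.isLocallyNoetherian (pullback.fst f f)
  constructor
  refine IsClosedImmersion.of_isPreimmersion _ ?_
  rw [← closure_subset_iff_isClosed]
  intro z' hz'
  have hsub : closure (Set.range (pullback.diagonal f)) ⊆
      closure (Set.range (h ≫ pullback.diagonal f)) := by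
    apply closure_minimal _ isClosed_closure
    rintro _ ⟨x, rfl⟩
    have hx : x ∈ closure (Set.range h) := hd x
    have := image_closure_subset_closure_image (pullback.diagonal f).continuous
      (Set.mem_image_of_mem (pullback.diagonal f) hx)
    rw [← Set.range_comp] at this
    exact this
  obtain ⟨u, hu⟩ := QCClosure.exists_specializes_of_mem_closure_range
    (h ≫ pullback.diagonal f) z' (hsub hz')
  by_cases hne : (h ≫ pullback.diagonal f) u = z'
  · exact ⟨h u, by rw [← hne, Scheme.Hom.comp_apply]⟩
  obtain ⟨B, _, _, _, u', h', hcomm, hcl, -⟩ :=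
    exists_dvr_of_specializes_of_locallyOfFiniteType (h ≫ pullback.diagonal f) u hu hne
  have hfst : Spec.map (CommRingCat.ofHom (algebraMap B (FractionRing B))) ≫
      h' ≫ pullback.fst f f = u' ≫ h := by
    rw [← Category.assoc, hcomm, Category.assoc, Category.assoc, pullback.diagonal_fst,
      Category.comp_id]
  have hsnd : Spec.map (CommRingCat.ofHom (algebraMap B (FractionRing B))) ≫
      h' ≫ pullback.snd f f = u' ≫ h := by
    rw [← Category.assoc, hcomm, Category.assoc, Category.assoc, pullback.diagonal_snd,
      Category.comp_id]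
  have h12 : h' ≫ pullback.fst f f = h' ≫ pullback.snd f f := by
    apply H B u' (h' ≫ pullback.fst f f ≫ f)
    · rw [← Category.assoc, ← hfst, Category.assoc, Category.assoc]
    · rw [Category.assoc]
    · exact hfst
    · rw [Category.assoc, pullback.condition]
    · exact hsnd
  have hh : h' = (h' ≫ pullback.fst f f) ≫ pullback.diagonal f := by
    apply pullback.hom_ext
    · rw [Category.assoc, pullback.diagonal_fst, Category.comp_id]
    · rw [Category.assoc, pullback.diagonal_snd, Category.comp_id, h12]
  exact ⟨(h' ≫ pullback.fst f f) (closedPoint B), by rw [← Scheme.Hom.comp_apply, ← hh, hcl]⟩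

/-- Every point of a scheme is a specialization of the generic point of an irreducible component. -/
lemma exists_generic_specializes {X : Scheme.{u}} (x : X) :
    ∃ η : X, closure {η} ∈ irreducibleComponents (X : Type u) ∧ η ⤳ x := by
  obtain ⟨η, hη⟩ := QuasiSober.sober (isIrreducible_irreducibleComponent (x := x))
    isClosed_irreducibleComponent
  refine ⟨η, ?_, ?_⟩
  · rw [hη.def]
    exact irreducibleComponent_mem_irreducibleComponents x
  · rw [specializes_iff_mem_closure, hη.def]
    exact mem_irreducibleComponent

/-- Separatedness tested on discrete valuation rings of the residue fields of the generic points of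
the irreducible components. -/
theorem isSeparated_of_generic_dvrUniqueness {X S : Scheme.{u}} [IsLocallyNoetherian S]
    (f : X ⟶ S) [LocallyOfFiniteType f]
    (H : ∀ (η : X), closure {η} ∈ irreducibleComponents (X : Type u) →
      ∀ (A : ValuationSubring (X.residueField η)), IsDiscreteValuationRing A →
        ∀ l₁ l₂ : Spec (CommRingCat.of A) ⟶ X, l₁ ≫ f = l₂ ≫ f →
          Spec.map (CommRingCat.ofHom A.subtype) ≫ l₁ = X.fromSpecResidueField η →
          Spec.map (CommRingCat.ofHom A.subtype) ≫ l₂ = X.fromSpecResidueField η → l₁ = l₂) :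
    IsSeparated f := by
  have hX : IsLocallyNoetherian X := LocallyOfFiniteType.isLocallyNoetherian f
  have hW : IsLocallyNoetherian (pullback f f) :=
    LocallyOfFiniteType.isLocallyNoetherian (pullback.fst f f)
  constructor
  refine IsClosedImmersion.of_isPreimmersion _ (IsClosedMap.isClosed_range ?_)
  rw [isClosedMap_iff_specializingMap]
  intro x z' hspec
  have hind := (pullback.diagonal f).isEmbedding.isInducing
  suffices hz' : z' ∈ Set.range (pullback.diagonal f) by
    obtain ⟨x', rfl⟩ := hz'
    exact ⟨x', hind.specializes_iff.1 hspec, rfl⟩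
  obtain ⟨η, hη, hηx⟩ := exists_generic_specializes x
  have hηz' : (pullback.diagonal f) η ⤳ z' :=
    (hηx.map (pullback.diagonal f).continuous).trans hspec
  by_cases hne : (pullback.diagonal f) η = z'
  · exact ⟨η, hne⟩
  obtain ⟨B, hBdvr, h', hcomm, hcl⟩ :=
    exists_dvr_valuationSubring_residueField (pullback.diagonal f) η hηz' hne
  have h12 : h' ≫ pullback.fst f f = h' ≫ pullback.snd f f := by
    apply H η hη B hBdvr
    · rw [Category.assoc, Category.assoc, pullback.condition]
    · rw [← Category.assoc, hcomm, Category.assoc, pullback.diagonal_fst, Category.comp_id]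
    · rw [← Category.assoc, hcomm, Category.assoc, pullback.diagonal_snd, Category.comp_id]
  have hh : h' = (h' ≫ pullback.fst f f) ≫ pullback.diagonal f := by
    apply pullback.hom_ext
    · rw [Category.assoc, pullback.diagonal_fst, Category.comp_id]
    · rw [Category.assoc, pullback.diagonal_snd, Category.comp_id, h12]
  exact ⟨(h' ≫ pullback.fst f f) (closedPoint B), by rw [← Scheme.Hom.comp_apply, ← hh, hcl]⟩

/-- The easy direction for valuation subrings of residue fields. -/
theorem generic_dvrUniqueness_of_isSeparated {X S : Scheme.{u}} (f : X ⟶ S) [IsSeparated f]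
    (η : X) (A : ValuationSubring (X.residueField η))
    (l₁ l₂ : Spec (CommRingCat.of A) ⟶ X) (hl : l₁ ≫ f = l₂ ≫ f)
    (h1 : Spec.map (CommRingCat.ofHom A.subtype) ≫ l₁ = X.fromSpecResidueField η)
    (h2 : Spec.map (CommRingCat.ofHom A.subtype) ≫ l₂ = X.fromSpecResidueField η) : l₁ = l₂ := by
  have hu := IsSeparated.valuativeCriterion f
  let S' : ValuativeCommSq f :=
    { R := A
      K := X.residueField η
      i₁ := X.fromSpecResidueField η
      i₂ := l₁ ≫ f
      commSq := ⟨by rw [← h1, Category.assoc]; rfl⟩ }
  have hs : Subsingleton S'.commSq.LiftStruct := hu S'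
  let m₁ : S'.commSq.LiftStruct := ⟨l₁, h1, rfl⟩
  let m₂ : S'.commSq.LiftStruct := ⟨l₂, h2, hl.symm⟩
  exact congrArg CommSq.LiftStruct.l (Subsingleton.elim m₁ m₂)

end Groth.Agent.H8.DVRSch
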