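import Mathlib

/-!
# Algebra for: universally closed can be tested on affine spaces (Stacks 05JX)
-/

set_option autoImplicit false

universe u

namespace Groth.Agent.H8.UC

open MvPolynomial

/-- If no prime of `C` containing `I` lies over `𝔭`, then some `g ∉ 𝔭` maps into `I ⊔ 𝔭 C`. -/
lemma exists_notMem_map_mem_sup {B C : Type*} [CommRing B] [CommRing C] (f : B →+* C)
    (I : Ideal C) (𝔭 : Ideal B) [𝔭.IsPrime]
    (h : ∀ 𝔮 : Ideal C, 𝔮.IsPrime → I ≤ 𝔮 → 𝔮.comap f ≠ 𝔭) :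
    ∃ g, g ∉ 𝔭 ∧ f g ∈ I ⊔ 𝔭.map f := by
  by_contra hcon
  push Not at hcon
  have hle : (I ⊔ 𝔭.map f).comap f ≤ 𝔭 := by
    intro g hg
    by_contra hg'
    exact hcon g hg' hg
  obtain ⟨Q, hQ, hQp, hQle⟩ := Ideal.exists_ideal_comap_le_prime 𝔭 (I ⊔ 𝔭.map f) hle
  refine h Q hQp (le_sup_left.trans hQ) (le_antisymm hQle ?_)
  rw [← Ideal.map_le_iff_le_comap]
  exact le_sup_right.trans hQ

variable {R A : Type u} [CommRing R] [CommRing A] (φ : R →+* A) {J : Type u}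

/-- The finite-variable reduction: if no prime of `A[x_J]` containing `I` lies over the prime `𝔭` of
`R[x_J]`, then there are finitely many variables `ι : ULift (Fin n) ↪ J` and polynomials in those
variables witnessing this. -/
theorem exists_finite_witness (I : Ideal (MvPolynomial J A)) (𝔭 : Ideal (MvPolynomial J R))
    [𝔭.IsPrime]
    (h : ∀ 𝔮 : Ideal (MvPolynomial J A), 𝔮.IsPrime → I ≤ 𝔮 → 𝔮.comap (map φ) ≠ 𝔭) :
    ∃ (n : ℕ) (ι : ULift.{u} (Fin n) → J) (_ : Function.Injective ι)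
      (g₀ : MvPolynomial (ULift.{u} (Fin n)) R),
      rename ι g₀ ∉ 𝔭 ∧
      ∀ 𝔮₀ : Ideal (MvPolynomial (ULift.{u} (Fin n)) A), 𝔮₀.IsPrime →
        I.comap (rename ι : MvPolynomial (ULift.{u} (Fin n)) A →ₐ[A] MvPolynomial J A) ≤ 𝔮₀ →
        𝔮₀.comap (map φ) = 𝔭.comap
          (rename ι : MvPolynomial (ULift.{u} (Fin n)) R →ₐ[R] MvPolynomial J R) →
        map φ g₀ ∈ 𝔮₀ := by
  classical
  obtain ⟨g, hg𝔭, hg⟩ := exists_notMem_map_mem_sup (map φ) I 𝔭 h
  obtain ⟨a, ha, e, he, hae⟩ := Submodule.mem_sup.1 hg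
  rw [Ideal.map, Ideal.span, Submodule.mem_span_set'] at he
  obtain ⟨m, c, p, hsum⟩ := he
  choose p' hp'𝔭 hp' using fun k => (p k).2
  -- the finite set of variables
  let s : Finset J := g.vars ∪ (Finset.univ.biUnion fun k => (c k).vars ∪ (p' k).vars)
  let n := s.card
  let ι : ULift.{u} (Fin n) → J := fun i => (s.equivFin.symm i.down : J)
  have hι : Function.Injective ι := by
    intro i j hij
    have := Subtype.ext hij
    have := s.equivFin.symm.injective this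
    exact ULift.ext _ _ this
  have hrange : (s : Set J) ⊆ Set.range ι := by
    intro x hx
    refine ⟨⟨s.equivFin ⟨x, hx⟩⟩, ?_⟩
    change ((s.equivFin.symm (s.equivFin ⟨x, hx⟩) : s) : J) = x
    rw [Equiv.symm_apply_apply]
  have hgv : (g.vars : Set J) ⊆ Set.range ι := by
    refine subset_trans ?_ hrange
    intro x hx
    exact Finset.mem_union_left _ hx
  have hcv : ∀ k, ((c k).vars : Set J) ⊆ Set.range ι := by
    intro k
    refine subset_trans ?_ hrange
    intro x hx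
    refine Finset.mem_union_right _ (Finset.mem_biUnion.2 ⟨k, Finset.mem_univ _, ?_⟩)
    exact Finset.mem_union_left _ hx
  have hpv : ∀ k, ((p' k).vars : Set J) ⊆ Set.range ι := by
    intro k
    refine subset_trans ?_ hrange
    intro x hx
    refine Finset.mem_union_right _ (Finset.mem_biUnion.2 ⟨k, Finset.mem_univ _, ?_⟩)
    exact Finset.mem_union_right _ hx
  obtain ⟨g₀, hg₀⟩ := exists_rename_eq_of_vars_subset_range g ι hι hgv
  choose c₀ hc₀ using fun k => exists_rename_eq_of_vars_subset_range (c k) ι hι (hcv k)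
  choose p₀ hp₀ using fun k => exists_rename_eq_of_vars_subset_range (p' k) ι hι (hpv k)
  refine ⟨n, ι, hι, g₀, hg₀ ▸ hg𝔭, ?_⟩
  intro 𝔮₀ h𝔮₀ hI𝔮₀ hcomap
  -- a₀ := map φ g₀ - ∑ c₀ k * map φ (p₀ k)
  let a₀ : MvPolynomial (ULift.{u} (Fin n)) A := map φ g₀ - ∑ k, c₀ k * map φ (p₀ k)
  have hrename_map : ∀ q : MvPolynomial (ULift.{u} (Fin n)) R,
      rename ι (map φ q) = map φ (rename ι q) := fun q => (map_rename φ ι q).symm
  have ha₀ : rename ι a₀ = a := by
    have h1 : rename ι a₀ = map φ g - ∑ k, c k * map φ (p' k) := by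
      simp only [a₀, map_sub, map_sum, map_mul, hrename_map, hg₀, hc₀, hp₀]
    have h2 : ∑ k, c k * map φ (p' k) = e := by
      rw [← hsum]
      refine Finset.sum_congr rfl fun k _ => ?_
      rw [smul_eq_mul, ← hp' k]
    rw [h1, h2, ← hae]
    ring
  have ha₀𝔮 : a₀ ∈ 𝔮₀ := hI𝔮₀ (by rw [Ideal.mem_comap, ha₀]; exact ha)
  have hp₀𝔮 : ∀ k, map φ (p₀ k) ∈ 𝔮₀ := by
    intro k
    have : p₀ k ∈ 𝔮₀.comap (map φ) := by
      rw [hcomap, Ideal.mem_comap, hp₀]
      exact hp'𝔭 k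
    exact this
  have : map φ g₀ = a₀ + ∑ k, c₀ k * map φ (p₀ k) := by
    simp only [a₀]; ring
  rw [this]
  exact 𝔮₀.add_mem ha₀𝔮 (𝔮₀.sum_mem fun k _ => 𝔮₀.mul_mem_left _ (hp₀𝔮 k))

end Groth.Agent.H8.UC
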