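import Mathlib
import Groth.Agent.Lib.Helper8.UCAlg

/-!
# Universally closed can be tested on affine spaces (Stacks 05JX): the geometric core
-/

set_option autoImplicit false

universe u

open AlgebraicGeometry CategoryTheory CategoryTheory.Limits TopologicalSpace MvPolynomial

namespace Groth.Agent.H8.UC

section Top

/-- The base change of a closed map along a preimmersion is a closed map. -/
lemma isClosedMap_of_isPullback_of_isPreimmersion {X Y X' Y' : Scheme.{u}} {g : X ⟶ Y}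
    {g' : X' ⟶ Y'} {j' : X' ⟶ X} {j : Y' ⟶ Y} (h : IsPullback j' g' g j) [IsPreimmersion j]
    (hg : IsClosedMap g) : IsClosedMap g' := by
  have hj' : IsPreimmersion j' := MorphismProperty.of_isPullback h.flip inferInstance
  intro Z hZ
  have hcl : IsClosed (j ⁻¹' (g '' closure (j' '' Z))) :=
    (hg _ isClosed_closure).preimage j.continuous
  convert hcl using 1
  ext y'
  constructor
  · rintro ⟨z, hz, rfl⟩
    refine ⟨j' z, subset_closure ⟨z, hz, rfl⟩, ?_⟩
    rw [← Scheme.Hom.comp_apply, ← Scheme.Hom.comp_apply, h.w]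
  · rintro ⟨x, hx, hxy⟩
    obtain ⟨o, ho1, ho2⟩ := Scheme.exists_preimage_of_isPullback h x y' hxy
    refine ⟨o, ?_, ho2⟩
    have : o ∈ j' ⁻¹' closure (j' '' Z) := by
      change j' o ∈ closure (j' '' Z)
      rw [ho1]; exact hx
    rw [← j'.isEmbedding.isInducing.closure_eq_preimage_closure_image, hZ.closure_eq] at this
    exact this

end Top

section Cover

/-- A quasi-compact scheme admits a surjective, flat, locally finitely presented morphism from an
affine scheme (the disjoint union of a finite affine cover). -/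
lemma exists_surjective_flat_lofp (X : Scheme.{u}) [CompactSpace X] :
    ∃ (A : CommRingCat.{u}) (ρ : Spec A ⟶ X), Surjective ρ ∧ Flat ρ ∧
      LocallyOfFinitePresentation ρ := by
  let 𝒰 : X.OpenCover := X.affineCover.finiteSubcover
  have h1 : Flat (Sigma.desc 𝒰.f) := IsZariskiLocalAtSource.sigmaDesc (fun _ => inferInstance)
  have h2 : LocallyOfFinitePresentation (Sigma.desc 𝒰.f) :=
    IsZariskiLocalAtSource.sigmaDesc (fun _ => inferInstance)
  have h3 : Surjective (Sigma.desc 𝒰.f) := inferInstance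
  exact ⟨Γ(∐ 𝒰.X, ⊤), (∐ 𝒰.X).isoSpec.inv ≫ Sigma.desc 𝒰.f, inferInstance, inferInstance,
    inferInstance⟩

end Cover

section Poly

/-- The polynomial ring as an object of `CommRingCat`. -/
noncomputable abbrev PR (J : Type u) (R : CommRingCat.{u}) : CommRingCat.{u} :=
  CommRingCat.of (MvPolynomial J R)

/-- The structure map `R → R[x_J]`. -/
noncomputable abbrev cR (J : Type u) (R : CommRingCat.{u}) : R ⟶ PR J R :=
  CommRingCat.ofHom (C : R →+* MvPolynomial J R)

/-- The map `R[x_J] → A[x_J]`. -/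
noncomputable abbrev mφ (J : Type u) {R A : CommRingCat.{u}} (φ : R ⟶ A) : PR J R ⟶ PR J A :=
  CommRingCat.ofHom (MvPolynomial.map φ.hom)

/-- The map `R[x_J₀] → R[x_J]`. -/
noncomputable abbrev rn {J₀ J : Type u} (ι : J₀ → J) (R : CommRingCat.{u}) : PR J₀ R ⟶ PR J R :=
  CommRingCat.ofHom (rename ι : MvPolynomial J₀ R →ₐ[R] MvPolynomial J R).toRingHom

attribute [local instance] MvPolynomial.algebraMvPolynomial in
lemma isPushout_poly (J : Type u) {R A : CommRingCat.{u}} (φ : R ⟶ A) :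
    IsPushout φ (cR J R) (cR J A) (mφ J φ) := by
  let _ : Algebra R A := φ.hom.toAlgebra
  have := CommRingCat.isPushout_of_isPushout R A (MvPolynomial J R) (MvPolynomial J A)
  exact this

lemma isPullback_poly (J : Type u) {R A : CommRingCat.{u}} (φ : R ⟶ A) :
    IsPullback (Spec.map (cR J A)) (Spec.map (mφ J φ)) (Spec.map φ) (Spec.map (cR J R)) :=
  isPullback_SpecMap_of_isPushout _ _ _ _ (isPushout_poly J φ)

lemma cR_rn {J₀ J : Type u} (ι : J₀ → J) (R : CommRingCat.{u}) : cR J₀ R ≫ rn ι R = cR J R :=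
  CommRingCat.hom_ext (RingHom.ext fun x => rename_C ι x)

lemma mφ_rn {J₀ J : Type u} (ι : J₀ → J) {R A : CommRingCat.{u}} (φ : R ⟶ A) :
    mφ J₀ φ ≫ rn ι A = rn ι R ≫ mφ J φ :=
  CommRingCat.hom_ext (RingHom.ext fun x => (map_rename φ.hom ι x).symm)

end Poly

section Core

variable {R A : CommRingCat.{u}} {X : Scheme.{u}} (f : X ⟶ Spec R) (ρ : Spec A ⟶ X) (φ : R ⟶ A)
  (hρ : ρ ≫ f = Spec.map φ)

/-- The chart `Spec A[x_J] ⟶ X ×_{Spec R} Spec R[x_J]`. -/
noncomputable def σ (J : Type u) : Spec (PR J A) ⟶ pullback f (Spec.map (cR J R)) :=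
  pullback.lift (Spec.map (cR J A) ≫ ρ) (Spec.map (mφ J φ)) (by
    rw [Category.assoc, hρ, ← Spec.map_comp, ← Spec.map_comp, (isPushout_poly J φ).w])

@[reassoc]
lemma σ_fst (J : Type u) : σ f ρ φ hρ J ≫ pullback.fst _ _ = Spec.map (cR J A) ≫ ρ :=
  pullback.lift_fst _ _ _

@[reassoc]
lemma σ_snd (J : Type u) : σ f ρ φ hρ J ≫ pullback.snd _ _ = Spec.map (mφ J φ) :=
  pullback.lift_snd _ _ _

lemma isPullback_σ (J : Type u) :
    IsPullback (σ f ρ φ hρ J) (Spec.map (cR J A)) (pullback.fst f (Spec.map (cR J R))) ρ := by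
  refine IsPullback.of_right ?_ (σ_fst f ρ φ hρ J)
    (IsPullback.of_hasPullback f (Spec.map (cR J R))).flip
  rw [σ_snd, hρ]
  exact (isPullback_poly J φ).flip

/-- The projection forgetting variables. -/
noncomputable def π {J₀ J : Type u} (ι : J₀ → J) :
    pullback f (Spec.map (cR J R)) ⟶ pullback f (Spec.map (cR J₀ R)) :=
  pullback.lift (pullback.fst _ _) (pullback.snd _ _ ≫ Spec.map (rn ι R)) (by
    rw [Category.assoc, ← Spec.map_comp, cR_rn, pullback.condition])

@[reassoc]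
lemma π_fst {J₀ J : Type u} (ι : J₀ → J) : π f ι ≫ pullback.fst _ _ = pullback.fst _ _ :=
  pullback.lift_fst _ _ _

@[reassoc]
lemma π_snd {J₀ J : Type u} (ι : J₀ → J) :
    π f ι ≫ pullback.snd _ _ = pullback.snd _ _ ≫ Spec.map (rn ι R) :=
  pullback.lift_snd _ _ _

lemma σ_π {J₀ J : Type u} (ι : J₀ → J) :
    σ f ρ φ hρ J ≫ π f ι = Spec.map (rn ι A) ≫ σ f ρ φ hρ J₀ := by
  apply pullback.hom_ext
  · rw [Category.assoc, π_fst, σ_fst, Category.assoc, σ_fst, ← Spec.map_comp_assoc, cR_rn]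
  · rw [Category.assoc, π_snd, σ_snd_assoc, Category.assoc, σ_snd, ← Spec.map_comp,
      ← Spec.map_comp, mφ_rn]

lemma isPullback_σ_π {J₀ J : Type u} (ι : J₀ → J) :
    IsPullback (σ f ρ φ hρ J) (Spec.map (rn ι A)) (π f ι) (σ f ρ φ hρ J₀) := by
  refine IsPullback.of_bot ?_ (σ_π f ρ φ hρ ι) (isPullback_σ f ρ φ hρ J₀)
  rw [π_fst, ← Spec.map_comp, cR_rn]
  exact isPullback_σ f ρ φ hρ J

end Core

section Main

variable {R A : CommRingCat.{u}} {X : Scheme.{u}} (f : X ⟶ Spec R) (ρ : Spec A ⟶ X) (φ : R ⟶ A)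
  (hρ : ρ ≫ f = Spec.map φ)

include hρ in
/-- The finite-variable reduction: if all base changes of `f` to finite-dimensional affine spaces
are closed, so are the base changes to arbitrary polynomial rings. -/
theorem isClosedMap_snd_poly [Surjective ρ] [Flat ρ] [LocallyOfFinitePresentation ρ]
    (hfin : ∀ n : ℕ, IsClosedMap (pullback.snd f (Spec.map (cR (ULift.{u} (Fin n)) R))))
    (J : Type u) : IsClosedMap (pullback.snd f (Spec.map (cR J R))) := by
  intro Z hZ
  rw [← isOpen_compl_iff, isOpen_iff_forall_mem_open]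
  intro y hy
  let Z' : Set (PrimeSpectrum (MvPolynomial J A)) := (σ f ρ φ hρ J) ⁻¹' Z
  have hZ' : IsClosed Z' := hZ.preimage (σ f ρ φ hρ J).continuous
  let I := PrimeSpectrum.vanishingIdeal Z'
  have hI : PrimeSpectrum.zeroLocus (I : Set (MvPolynomial J A)) = Z' := by
    rw [PrimeSpectrum.zeroLocus_vanishingIdeal_eq_closure, hZ'.closure_eq]
  let y' : PrimeSpectrum (MvPolynomial J R) := y
  have h : ∀ 𝔮 : Ideal (MvPolynomial J A), 𝔮.IsPrime → I ≤ 𝔮 →
      𝔮.comap (MvPolynomial.map φ.hom) ≠ y'.asIdeal := by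
    intro 𝔮 h𝔮 hI𝔮 hcomap
    apply hy
    let w : PrimeSpectrum (MvPolynomial J A) := ⟨𝔮, h𝔮⟩
    have hw : w ∈ Z' := by
      rw [← hI]; exact hI𝔮
    refine ⟨(σ f ρ φ hρ J) w, hw, ?_⟩
    rw [← Scheme.Hom.comp_apply, σ_snd]
    exact PrimeSpectrum.ext hcomap
  obtain ⟨n, ι, hι, g₀, hg₀, hkey⟩ := exists_finite_witness φ.hom I y'.asIdeal h
  let Z₀ : Set ↥(pullback f (Spec.map (cR (ULift.{u} (Fin n)) R))) := closure ((π f ι) '' Z)
  have hF : IsClosed ((pullback.snd f (Spec.map (cR (ULift.{u} (Fin n)) R))) '' Z₀) :=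
    hfin n _ isClosed_closure
  refine ⟨(Spec.map (rn ι R)) ⁻¹'
    ((pullback.snd f (Spec.map (cR (ULift.{u} (Fin n)) R))) '' Z₀)ᶜ, ?_,
    hF.isOpen_compl.preimage (Spec.map (rn ι R)).continuous, ?_⟩
  · rintro y'' hy'' ⟨z, hz, rfl⟩
    apply hy''
    refine ⟨(π f ι) z, subset_closure ⟨z, hz, rfl⟩, ?_⟩
    rw [← Scheme.Hom.comp_apply, ← Scheme.Hom.comp_apply, π_snd]
  · rintro ⟨z₀, hz₀, hz₀y⟩
    have hsurj : Surjective (σ f ρ φ hρ (ULift.{u} (Fin n))) :=
      MorphismProperty.of_isPullback (P := @Surjective)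
        (isPullback_σ f ρ φ hρ (ULift.{u} (Fin n))).flip inferInstance
    have hopen : UniversallyOpen (σ f ρ φ hρ (ULift.{u} (Fin n))) :=
      MorphismProperty.of_isPullback (P := @UniversallyOpen)
        (isPullback_σ f ρ φ hρ (ULift.{u} (Fin n))).flip inferInstance
    obtain ⟨w, rfl⟩ := (σ f ρ φ hρ (ULift.{u} (Fin n))).surjective z₀
    have hw : w ∈ (σ f ρ φ hρ (ULift.{u} (Fin n))) ⁻¹' closure ((π f ι) '' Z) := hz₀
    rw [(σ f ρ φ hρ (ULift.{u} (Fin n))).isOpenMap.preimage_closure_eq_closure_preimage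
      (σ f ρ φ hρ (ULift.{u} (Fin n))).continuous] at hw
    have himg := Scheme.image_preimage_eq_of_isPullback (isPullback_σ_π f ρ φ hρ ι) Z
    have hw2 : w ∈ closure ((Spec.map (rn ι A)) '' Z') := by
      have : ((Spec.map (rn ι A)) '' Z') =
          (σ f ρ φ hρ (ULift.{u} (Fin n))) ⁻¹' ((π f ι) '' Z) := himg
      rw [this]; exact hw
    let w' : PrimeSpectrum (MvPolynomial (ULift.{u} (Fin n)) A) := w
    have hw3 : w' ∈ PrimeSpectrum.zeroLocus
        ((I.comap (rename ι : MvPolynomial (ULift.{u} (Fin n)) A →ₐ[A] MvPolynomial J A) :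
          Ideal _) : Set (MvPolynomial (ULift.{u} (Fin n)) A)) := by
      have := PrimeSpectrum.closure_image_comap_zeroLocus
        (rename ι : MvPolynomial (ULift.{u} (Fin n)) A →ₐ[A] MvPolynomial J A).toRingHom I
      rw [hI] at this
      change w' ∈ PrimeSpectrum.zeroLocus ((Ideal.comap (rename ι :
        MvPolynomial (ULift.{u} (Fin n)) A →ₐ[A] MvPolynomial J A).toRingHom I : Ideal _) : Set _)
      rw [← this]
      exact hw2
    have hcomapw : w'.asIdeal.comap (MvPolynomial.map φ.hom) = y'.asIdeal.comap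
        (rename ι : MvPolynomial (ULift.{u} (Fin n)) R →ₐ[R] MvPolynomial J R) := by
      have h1 : (σ f ρ φ hρ (ULift.{u} (Fin n)) ≫
          pullback.snd f (Spec.map (cR (ULift.{u} (Fin n)) R))) w = (Spec.map (rn ι R)) y := by
        rw [Scheme.Hom.comp_apply]; exact hz₀y
      rw [σ_snd] at h1
      exact congrArg PrimeSpectrum.asIdeal h1
    have h1 : MvPolynomial.map φ.hom g₀ ∈ w'.asIdeal :=
      hkey w'.asIdeal w'.isPrime hw3 hcomapw
    have h2 : g₀ ∈ w'.asIdeal.comap (MvPolynomial.map φ.hom) := h1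
    rw [hcomapw] at h2
    exact hg₀ h2

end Main

end Groth.Agent.H8.UC
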