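import Mathlib
import Groth.Agent.Lib.Helper8.UCCore

/-!
# Universally closed can be tested on affine spaces (Stacks 05JX)
-/

set_option autoImplicit false

universe u

open AlgebraicGeometry CategoryTheory CategoryTheory.Limits TopologicalSpace MvPolynomial

namespace Groth.Agent.H8.UC

section BaseChange

variable {X S P T : Scheme.{u}} (f : X ⟶ S) (c : P ⟶ S) (θ : T ⟶ P)

/-- The comparison map `X ×_S T ⟶ X ×_S P`. -/
noncomputable def bcMap : pullback f (θ ≫ c) ⟶ pullback f c :=
  pullback.lift (pullback.fst _ _) (pullback.snd _ _ ≫ θ) (by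
    rw [Category.assoc, pullback.condition])

lemma isPullback_bcMap :
    IsPullback (bcMap f c θ) (pullback.snd f (θ ≫ c)) (pullback.snd f c) θ := by
  refine IsPullback.of_right ?_ (pullback.lift_snd _ _ _) (IsPullback.of_hasPullback f c)
  have : bcMap f c θ ≫ pullback.fst f c = pullback.fst f (θ ≫ c) := pullback.lift_fst _ _ _
  rw [this]
  exact IsPullback.of_hasPullback f (θ ≫ c)

lemma isClosedMap_snd_congr {X S T : Scheme.{u}} (f : X ⟶ S) {g g' : T ⟶ S} (h : g = g')
    (hg : IsClosedMap (pullback.snd f g)) : IsClosedMap (pullback.snd f g') := by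
  subst h; exact hg

/-- Closedness of a base change passes to further base changes along preimmersions. -/
lemma isClosedMap_snd_comp_of_isPreimmersion [IsPreimmersion θ]
    (h : IsClosedMap (pullback.snd f c)) : IsClosedMap (pullback.snd f (θ ≫ c)) :=
  isClosedMap_of_isPullback_of_isPreimmersion (isPullback_bcMap f c θ) h

end BaseChange

section AffineBase

variable {R : CommRingCat.{u}} {X : Scheme.{u}} (f : X ⟶ Spec R) [QuasiCompact f]

/-- Over an affine base: closedness after base change to all finite-dimensional affine spaces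
implies closedness after every affine base change. -/
theorem isClosedMap_snd_specMap
    (hfin : ∀ n : ℕ, IsClosedMap (pullback.snd f (Spec.map (cR (ULift.{u} (Fin n)) R))))
    {R' : CommRingCat.{u}} (ψ : R ⟶ R') : IsClosedMap (pullback.snd f (Spec.map ψ)) := by
  have hX : CompactSpace X := QuasiCompact.compactSpace_of_compactSpace f
  obtain ⟨A, ρ, hρ1, hρ2, hρ3⟩ := exists_surjective_flat_lofp X
  let φ : R ⟶ A := Spec.preimage (ρ ≫ f)
  have hρ : ρ ≫ f = Spec.map φ := (Spec.map_preimage _).symm
  have hJ := isClosedMap_snd_poly f ρ φ hρ hfin R'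
  let θ : PR R' R ⟶ R' := CommRingCat.ofHom (eval₂Hom ψ.hom (id : R' → R'))
  have hθ : cR R' R ≫ θ = ψ := CommRingCat.hom_ext (RingHom.ext fun x => eval₂Hom_C _ _ x)
  have hsurj : Function.Surjective θ.hom := fun x => ⟨MvPolynomial.X x, eval₂Hom_X' _ _ x⟩
  have hcl : IsClosedImmersion (Spec.map θ) := IsClosedImmersion.spec_of_surjective θ hsurj
  have := isClosedMap_snd_comp_of_isPreimmersion f (Spec.map (cR R' R)) (Spec.map θ) hJ
  exact isClosedMap_snd_congr f (by rw [← Spec.map_comp, hθ]) this

/-- Over an affine base: closedness after base change to all finite-dimensional affine spaces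
implies universal closedness. -/
theorem universallyClosed_of_affine
    (hfin : ∀ n : ℕ, IsClosedMap (pullback.snd f (Spec.map (cR (ULift.{u} (Fin n)) R)))) :
    UniversallyClosed f := by
  refine ⟨MorphismProperty.universally_mk' _ _ fun {T} g _ ↦ ?_⟩
  wlog hT : ∃ R', T = Spec R' generalizing T
  · refine (IsZariskiLocalAtTarget.iff_of_openCover (P := topologically @IsClosedMap)
      T.affineCover).mpr fun i ↦ ?_
    refine (MorphismProperty.cancel_left_of_respectsIso _
      ((pullbackRightPullbackFstIso ..).inv ≫ (pullbackSymmetry ..).hom) _).mp ?_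
    simpa [Scheme.Cover.pullbackHom] using! this _ _ ⟨_, rfl⟩
  obtain ⟨R', rfl⟩ := hT
  obtain ⟨ψ, rfl⟩ := Spec.map_surjective g
  have h1 := isClosedMap_snd_specMap f hfin ψ
  have h2 : pullback.fst (Spec.map ψ) f =
      (pullbackSymmetry (Spec.map ψ) f).hom ≫ pullback.snd f (Spec.map ψ) :=
    (pullbackSymmetry_hom_comp_snd _ _).symm
  change IsClosedMap (pullback.fst (Spec.map ψ) f)
  rw [h2, Scheme.Hom.comp_base, TopCat.coe_comp]
  exact h1.comp (Scheme.Hom.homeomorph (pullbackSymmetry (Spec.map ψ) f).hom).isClosedMap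

end AffineBase

section General

variable {X S : Scheme.{u}} (f : X ⟶ S) [QuasiCompact f]

/-- [Stacks 05JX] A quasi-compact morphism is universally closed as soon as its base changes to
the affine spaces `𝔸ⁿ_S` are closed maps. -/
theorem universallyClosed_of_affineSpace
    (H : ∀ n : ℕ, IsClosedMap (pullback.snd f (𝔸(ULift.{u} (Fin n); S) ↘ S))) :
    UniversallyClosed f := by
  rw [IsZariskiLocalAtTarget.iff_of_openCover (P := @UniversallyClosed) S.affineCover]
  intro i
  let Ri : CommRingCat.{u} := S.affineOpenCover.X i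
  let w : Spec Ri ⟶ S := S.affineCover.f i
  change UniversallyClosed (pullback.snd f w)
  have hqc : QuasiCompact (pullback.snd f w) := MorphismProperty.pullback_snd _ _ inferInstance
  apply universallyClosed_of_affine
  intro n
  let c : Spec (PR (ULift.{u} (Fin n)) Ri) ⟶ Spec Ri := Spec.map (cR (ULift.{u} (Fin n)) Ri)
  have he : pullback.snd (pullback.snd f w) c =
      (pullbackLeftPullbackSndIso f w c).hom ≫ pullback.snd f (c ≫ w) :=
    (pullbackLeftPullbackSndIso_hom_snd f w c).symm
  rw [he, Scheme.Hom.comp_base, TopCat.coe_comp]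
  refine IsClosedMap.comp ?_ (Scheme.Hom.homeomorph (pullbackLeftPullbackSndIso f w c).hom).isClosedMap
  let j : Spec (PR (ULift.{u} (Fin n)) Ri) ⟶ 𝔸(ULift.{u} (Fin n); S) :=
    (AffineSpace.SpecIso (ULift.{u} (Fin n)) Ri).inv ≫ AffineSpace.map (ULift.{u} (Fin n)) w
  have hj : j ≫ (𝔸(ULift.{u} (Fin n); S) ↘ S) = c ≫ w := by
    rw [Category.assoc, AffineSpace.map_over, ← Category.assoc, AffineSpace.SpecIso_inv_over]
  have hw : IsOpenImmersion w := inferInstanceAs (IsOpenImmersion (S.affineCover.f i))
  have hopen : IsOpenImmersion (AffineSpace.map (ULift.{u} (Fin n)) w) :=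
    MorphismProperty.of_isPullback (P := @IsOpenImmersion)
      (AffineSpace.isPullback_map (n := ULift.{u} (Fin n)) w).flip hw
  exact isClosedMap_snd_congr f hj (isClosedMap_snd_comp_of_isPreimmersion f _ j (H n))

/-- [Stacks 05JX], both forms. -/
theorem universallyClosed_iff_affineSpace :
    (UniversallyClosed f ↔ ∀ (S' : Scheme.{u}) (g : S' ⟶ S), LocallyOfFinitePresentation g →
        IsClosedMap (pullback.snd f g).base) ∧
      (UniversallyClosed f ↔ ∀ n : ℕ,
        IsClosedMap (pullback.snd f (𝔸(ULift.{u} (Fin n); S) ↘ S)).base) := by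
  have h2 : (∀ n : ℕ, IsClosedMap (pullback.snd f (𝔸(ULift.{u} (Fin n); S) ↘ S)).base) →
      UniversallyClosed f := fun H => universallyClosed_of_affineSpace f H
  refine ⟨⟨fun h S' g _ => ?_, fun H => h2 fun n => H _ _ inferInstance⟩,
    ⟨fun h n => ?_, h2⟩⟩
  · exact (pullback.snd f g).isClosedMap
  · exact (pullback.snd f (𝔸(ULift.{u} (Fin n); S) ↘ S)).isClosedMap

end General

end Groth.Agent.H8.UC
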