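import Mathlib
import Groth.Agent.Lib.Helper8.DVRSep
import Groth.Agent.Lib.Helper8.UCMain

/-!
# Noetherian valuative criteria for universally closed and proper morphisms
-/

set_option autoImplicit false

universe u

open AlgebraicGeometry CategoryTheory CategoryTheory.Limits IsLocalRing TopologicalSpace

namespace Groth.Agent.H8.DVRSch

/-- Existence part of the valuative criterion with discrete valuation rings. -/
def DVRExistence {X Y : Scheme.{u}} (f : X ⟶ Y) : Prop :=
  ∀ (A : Type u) [CommRing A] [IsDomain A] [IsDiscreteValuationRing A]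
    (x : Spec (CommRingCat.of (FractionRing A)) ⟶ X) (y : Spec (CommRingCat.of A) ⟶ Y),
    x ≫ f = Spec.map (CommRingCat.ofHom (algebraMap A (FractionRing A))) ≫ y →
      ∃ l : Spec (CommRingCat.of A) ⟶ X, l ≫ f = y ∧
        Spec.map (CommRingCat.ofHom (algebraMap A (FractionRing A))) ≫ l = x

/-- The existence part is stable under base change. -/
lemma DVRExistence.snd {X S T : Scheme.{u}} {f : X ⟶ S} (H : DVRExistence f) (g : T ⟶ S) :
    DVRExistence (pullback.snd f g) := by
  intro A _ _ _ x y hxy
  obtain ⟨l, hl1, hl2⟩ := H A (x ≫ pullback.fst f g) (y ≫ g) (by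
    rw [Category.assoc, pullback.condition, ← Category.assoc, hxy, Category.assoc])
  refine ⟨pullback.lift l y hl1, pullback.lift_snd _ _ _, ?_⟩
  apply pullback.hom_ext
  · rw [Category.assoc, pullback.lift_fst, hl2]
  · rw [Category.assoc, pullback.lift_snd, hxy]

/-- Over a locally Noetherian base, a morphism locally of finite type satisfying the existence
part of the valuative criterion for discrete valuation rings lifts specializations. -/
lemma DVRExistence.specializingMap {U W : Scheme.{u}} [IsLocallyNoetherian W] {g : U ⟶ W}
    [LocallyOfFiniteType g] (H : DVRExistence g) : SpecializingMap g := by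
  intro u z' hspec
  by_cases hne : g u = z'
  · exact ⟨u, specializes_rfl, hne⟩
  obtain ⟨B, _, _, _, u', h', hcomm, hcl, hu'⟩ :=
    exists_dvr_of_specializes_of_locallyOfFiniteType g u hspec hne
  obtain ⟨l, hl1, hl2⟩ := H B u' h' hcomm.symm
  refine ⟨l (closedPoint B), ?_, ?_⟩
  · have h1 : u = l (⊥ : PrimeSpectrum B) := by
      rw [← hu', ← hl2, Scheme.Hom.comp_apply, specMap_fractionRing_apply]
    rw [h1]
    have hsp : (⊥ : PrimeSpectrum B) ⤳ closedPoint B := IsLocalRing.specializes_closedPoint _
    exact hsp.map l.continuous
  · rw [← Scheme.Hom.comp_apply, hl1, hcl]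

/-- Noetherian valuative criterion: existence for discrete valuation rings implies universally
closed (for quasi-compact morphisms locally of finite type over a locally Noetherian base). -/
theorem universallyClosed_of_dvrExistence {X S : Scheme.{u}} [IsLocallyNoetherian S] (f : X ⟶ S)
    [LocallyOfFiniteType f] [QuasiCompact f] (H : DVRExistence f) : UniversallyClosed f := by
  apply UC.universallyClosed_of_affineSpace
  intro n
  have hS' : IsLocallyNoetherian 𝔸(ULift.{u} (Fin n); S) :=
    LocallyOfFiniteType.isLocallyNoetherian (𝔸(ULift.{u} (Fin n); S) ↘ S)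
  have hqc : QuasiCompact (pullback.snd f (𝔸(ULift.{u} (Fin n); S) ↘ S)) :=
    MorphismProperty.pullback_snd _ _ inferInstance
  rw [isClosedMap_iff_specializingMap]
  exact (H.snd _).specializingMap

/-- The converse: universally closed morphisms satisfy the existence part. -/
theorem dvrExistence_of_universallyClosed {X S : Scheme.{u}} (f : X ⟶ S) [UniversallyClosed f] :
    DVRExistence f := by
  intro A _ _ _ x y hxy
  have hE : ValuativeCriterion.Existence f := by
    have := UniversallyClosed.eq_valuativeCriterion
    have h2 : (ValuativeCriterion.Existence ⊓ @QuasiCompact) f := this ▸ ‹UniversallyClosed f›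
    exact h2.1
  let Sq : ValuativeCommSq f :=
    { R := A
      K := FractionRing A
      i₁ := x
      i₂ := y
      commSq := ⟨hxy⟩ }
  obtain ⟨l, hl1, hl2⟩ := (hE Sq).exists_lift
  exact ⟨l, hl2, hl1⟩

end Groth.Agent.H8.DVRSch
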