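import Mathlib

/-!
# A freeness criterion over a Noetherian local ring via Artinian quotients

If `W ⊗ (𝔪/𝔪^{n+1}) → W ⊗ (A/𝔪^{n+1})` is injective for all large `n`, then `W` is free.
-/

set_option autoImplicit false

universe u

open TensorProduct

namespace Groth.Agent.H8.KrullFree

variable {A : Type u} [CommRing A] [IsLocalRing A]

local notation "𝔪" => IsLocalRing.maximalIdeal A

/-- The projection `A/𝔪^{n+1} → A/𝔪`, as a linear map. -/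
noncomputable abbrev gn (n : ℕ) : (A ⧸ 𝔪 ^ (n + 1)) →ₗ[A] (A ⧸ 𝔪) :=
  (Ideal.Quotient.factorₐ A (Ideal.pow_le_self (I := 𝔪) (Nat.succ_ne_zero n))).toLinearMap

lemma gn_mk (n : ℕ) (a : A) : gn (A := A) n (Ideal.Quotient.mk _ a) = Ideal.Quotient.mk _ a := rfl

lemma gn_surjective (n : ℕ) : Function.Surjective (gn (A := A) n) := by
  intro y
  obtain ⟨a, rfl⟩ := Ideal.Quotient.mk_surjective y
  exact ⟨Ideal.Quotient.mk _ a, rfl⟩

/-- `𝔪 → ker (A/𝔪^{n+1} → A/𝔪)`. -/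
noncomputable def β (n : ℕ) : 𝔪 →ₗ[A] LinearMap.ker (gn (A := A) n) :=
  ((Ideal.Quotient.mkₐ A (𝔪 ^ (n + 1))).toLinearMap ∘ₗ (𝔪).subtype).codRestrict _ (fun b => by
    rw [LinearMap.mem_ker]
    change gn n (Ideal.Quotient.mk _ (b : A)) = 0
    rw [gn_mk]
    exact Ideal.Quotient.eq_zero_iff_mem.2 b.2)

lemma β_coe (n : ℕ) (b : 𝔪) : ((β n b : LinearMap.ker (gn (A := A) n)) : A ⧸ 𝔪 ^ (n + 1)) =
    Ideal.Quotient.mk _ (b : A) := rfl

lemma β_surjective (n : ℕ) : Function.Surjective (β (A := A) n) := by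
  rintro ⟨y, hy⟩
  obtain ⟨a, rfl⟩ := Ideal.Quotient.mk_surjective y
  rw [LinearMap.mem_ker, gn_mk] at hy
  exact ⟨⟨a, Ideal.Quotient.eq_zero_iff_mem.1 hy⟩, rfl⟩

lemma β_eq_zero_iff (n : ℕ) (b : 𝔪) : β (A := A) n b = 0 ↔ (b : A) ∈ 𝔪 ^ (n + 1) := by
  rw [← Subtype.coe_inj, β_coe]
  exact Ideal.Quotient.eq_zero_iff_mem

variable (W : Type u) [AddCommGroup W] [Module A W]

/-- pure tensors with second factor in `𝔪^n * 𝔪` lie in `𝔪^n • ⊤`. -/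
lemma tmul_mem_pow_smul_top (n : ℕ) (w : W) (b : A) (hb : b ∈ 𝔪 ^ n * 𝔪) (hbm : b ∈ 𝔪) :
    w ⊗ₜ[A] (⟨b, hbm⟩ : 𝔪) ∈ (𝔪 ^ n • ⊤ : Submodule A (W ⊗[A] 𝔪)) := by
  suffices h : ∃ hbm' : b ∈ 𝔪, w ⊗ₜ[A] (⟨b, hbm'⟩ : 𝔪) ∈ (𝔪 ^ n • ⊤ : Submodule A (W ⊗[A] 𝔪)) by
    obtain ⟨_, h'⟩ := h
    exact h'
  refine Submodule.mul_induction_on hb ?_ ?_
  · intro a ha c hc
    refine ⟨Ideal.mul_mem_left _ _ hc, ?_⟩
    have : (⟨a * c, Ideal.mul_mem_left _ _ hc⟩ : 𝔪) = a • (⟨c, hc⟩ : 𝔪) := rfl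
    rw [this, tmul_smul]
    exact Submodule.smul_mem_smul ha Submodule.mem_top
  · rintro x y ⟨hx, hx'⟩ ⟨hy, hy'⟩
    refine ⟨Ideal.add_mem _ hx hy, ?_⟩
    have : (⟨x + y, Ideal.add_mem _ hx hy⟩ : 𝔪) = (⟨x, hx⟩ : 𝔪) + ⟨y, hy⟩ := rfl
    rw [this, tmul_add]
    exact Submodule.add_mem _ hx' hy'

/-- Key step: an element of `ker (W ⊗ 𝔪 → W)` lies in `𝔪^n (W ⊗ 𝔪)` if
`W ⊗ ker g_n → W ⊗ A/𝔪^{n+1}` is injective. -/
lemma mem_pow_smul_top_of_injective (n : ℕ)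
    (hinj : Function.Injective ((LinearMap.ker (gn (A := A) n)).subtype.lTensor W))
    (ξ : W ⊗[A] 𝔪) (hξ : (𝔪).subtype.lTensor W ξ = 0) :
    ξ ∈ (𝔪 ^ n • ⊤ : Submodule A (W ⊗[A] 𝔪)) := by
  -- the image of `ξ` in `W ⊗ ker g_n` vanishes
  have hcomm : (LinearMap.ker (gn (A := A) n)).subtype ∘ₗ β n =
      (Ideal.Quotient.mkₐ A (𝔪 ^ (n + 1))).toLinearMap ∘ₗ (𝔪).subtype := rfl
  have h0 : (β (A := A) n).lTensor W ξ = 0 := by
    apply hinj
    rw [map_zero, ← LinearMap.comp_apply, ← LinearMap.lTensor_comp, hcomm, LinearMap.lTensor_comp,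
      LinearMap.comp_apply, hξ, map_zero]
  -- exactness of `J' → 𝔪 → ker g_n → 0`
  let J' : Submodule A 𝔪 := Submodule.comap (𝔪).subtype (𝔪 ^ (n + 1))
  have hex : Function.Exact J'.subtype (β (A := A) n) := by
    intro b
    rw [β_eq_zero_iff]
    constructor
    · intro hb
      exact ⟨⟨b, hb⟩, rfl⟩
    · rintro ⟨⟨b', hb'⟩, rfl⟩
      exact hb'
  have hex' := lTensor_exact W hex (β_surjective n)
  have hrange : ∀ ζ : W ⊗[A] J', J'.subtype.lTensor W ζ ∈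
      (𝔪 ^ n • ⊤ : Submodule A (W ⊗[A] 𝔪)) := by
    intro ζ
    induction ζ using TensorProduct.induction_on with
    | zero => rw [map_zero]; exact Submodule.zero_mem _
    | tmul w b' =>
      rw [LinearMap.lTensor_tmul]
      obtain ⟨⟨b, hbm⟩, hb⟩ := b'
      have hb2 : b ∈ 𝔪 ^ n * 𝔪 := by
        have : b ∈ 𝔪 ^ (n + 1) := hb
        rwa [pow_succ] at this
      exact tmul_mem_pow_smul_top W n w b hb2 hbm
    | add x y hx hy =>
      rw [map_add]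
      exact Submodule.add_mem _ hx hy
  obtain ⟨ζ, hζ⟩ := (hex' ξ).1 h0
  rw [← hζ]
  exact hrange ζ

/-- If `W ⊗ ker (A/𝔪^{n+1} → A/𝔪) → W ⊗ A/𝔪^{n+1}` is injective for all large `n`,
then the finite module `W` is free. -/
theorem free_of_forall_injective [IsNoetherianRing A] [Module.Finite A W] (n₀ : ℕ)
    (h : ∀ n, n₀ ≤ n →
      Function.Injective ((LinearMap.ker (gn (A := A) n)).subtype.lTensor W)) :
    Module.Free A W := by
  have : Module.FinitePresentation A W := Module.finitePresentation_of_finite A W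
  apply Module.free_of_maximalIdeal_rTensor_injective
  rw [← LinearMap.lTensor_inj_iff_rTensor_inj, injective_iff_map_eq_zero]
  intro ξ hξ
  have hbot := Ideal.iInf_pow_smul_eq_bot_of_isLocalRing (M := W ⊗[A] 𝔪) (I := 𝔪)
    (IsLocalRing.maximalIdeal.isMaximal A).ne_top
  have hmem : ξ ∈ (⨅ i : ℕ, 𝔪 ^ i • ⊤ : Submodule A (W ⊗[A] 𝔪)) := by
    rw [Submodule.mem_iInf]
    intro i
    have h1 := mem_pow_smul_top_of_injective W (max i n₀) (h _ (le_max_right _ _)) ξ hξ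
    exact Submodule.smul_mono_left (Ideal.pow_le_pow_right (le_max_left i n₀)) h1
  rw [hbot] at hmem
  exact (Submodule.mem_bot A).1 hmem

end Groth.Agent.H8.KrullFree
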