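import Groth.Agent.Lib.Helper8.TFunLocal
import Groth.Agent.Lib.Helper8.KrullFree

/-!
# `T_p` right exact iff `T_p(A/𝔪^{n+1}) → T_p(A/𝔪)` surjective for all large `n`
-/

set_option autoImplicit false

universe u

open CategoryTheory CategoryTheory.Limits MonoidalCategory TensorProduct

namespace Groth.Agent.H8.TFun

section General

variable {A : Type u} [CommRing A] (P : ChainComplex (ModuleCat.{u} A) ℤ)

/-- For a single short exact sequence: `T_p(g)` is epi iff `T_{p-1}(f)` is mono. -/
theorem epi_map_g_iff_mono_map_f (hP : ∀ i, Module.Flat A (P.X i))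
    (S : ShortComplex (ModuleCat.{u} A)) (hS : S.ShortExact) (p q : ℤ) (hpq : q + 1 = p) :
    Epi ((CohIII.TFun P p).map S.g) ↔ Mono ((CohIII.TFun P q).map S.f) := by
  have hT := tensorSC_shortExact P hP S hS
  have hrel : (ComplexShape.down ℤ).Rel p q := hpq
  have hex3 := hT.homology_exact₃ p q hrel
  have hex1 := hT.homology_exact₁ p q hrel
  have h1 : Epi (HomologicalComplex.homologyMap (tensorSC P S).g p) ↔ hT.δ p q hrel = 0 :=
    hex3.epi_f_iff
  have h2 : Mono (HomologicalComplex.homologyMap (tensorSC P S).f q) ↔ hT.δ p q hrel = 0 :=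
    hex1.mono_g_iff
  exact h1.trans h2.symm

end General

section Modules

variable {A : Type u} [CommRing A] {P₁ P₂ P₃ : Type u} [AddCommGroup P₁] [Module A P₁]
  [AddCommGroup P₂] [Module A P₂] [AddCommGroup P₃] [Module A P₃]
  (d₁ : P₁ →ₗ[A] P₂) (d₂ : P₂ →ₗ[A] P₃)

/-- The single-map version of `flat_of_monoCond`. -/
lemma lTensor_coker_injective_of_monoCond [Module.Flat A P₃] (hd : d₂ ∘ₗ d₁ = 0)
    {M' M : Type u} [AddCommGroup M'] [Module A M'] [AddCommGroup M] [Module A M]
    (f : M' →ₗ[A] M) (hf : Function.Injective f) (H : MonoCond d₁ d₂ f) :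
    Function.Injective (f.lTensor (P₂ ⧸ LinearMap.range d₁)) := by
  rw [injective_iff_map_eq_zero]
  intro w' hw'
  obtain ⟨z', rfl⟩ := LinearMap.rTensor_surjective M' (LinearMap.range d₁).mkQ_surjective w'
  have hz : f.lTensor P₂ z' ∈ LinearMap.range (d₁.rTensor M) := by
    rw [mem_range_rTensor_iff, ← hw', ← LinearMap.comp_apply, ← LinearMap.comp_apply,
      LinearMap.lTensor_comp_rTensor, LinearMap.rTensor_comp_lTensor]
  have hcyc : d₂.rTensor M' z' = 0 := by
    have hinj : Function.Injective (f.lTensor P₃) :=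
      Module.Flat.lTensor_preserves_injective_linearMap f hf
    apply hinj
    rw [map_zero, ← LinearMap.comp_apply, LinearMap.lTensor_comp_rTensor,
      ← LinearMap.rTensor_comp_lTensor, LinearMap.comp_apply]
    obtain ⟨y, hy⟩ := hz
    rw [← hy, ← LinearMap.comp_apply, ← LinearMap.rTensor_comp, hd, LinearMap.rTensor_zero,
      LinearMap.zero_apply]
  have := H z' hcyc hz
  rwa [mem_range_rTensor_iff] at this

end Modules

section Local

variable {A : Type u} [CommRing A] [IsLocalRing A] [IsNoetherianRing A]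
  (P : ChainComplex (ModuleCat.{u} A) ℤ)

open KrullFree

/-- `T_p` preserves epimorphisms iff `T_p(A/𝔪^{n+1}) → T_p(A/𝔪)` is surjective for all large `n`. -/
theorem preservesEpi_iff_surjective_pow
    (hP : ∀ i, Module.Finite A (P.X i) ∧ Module.Flat A (P.X i)) (p : ℤ) :
    (CohIII.TFun P p).PreservesEpimorphisms ↔
      ∃ n₀ : ℕ, ∀ n : ℕ, n₀ ≤ n → Function.Surjective ((CohIII.TFun P p).map (ModuleCat.ofHom
        (Ideal.Quotient.factorₐ A (Ideal.pow_le_self (I := IsLocalRing.maximalIdeal A)
          (Nat.succ_ne_zero n))).toLinearMap :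
        ModuleCat.of A (A ⧸ IsLocalRing.maximalIdeal A ^ (n + 1)) ⟶
          ModuleCat.of A (A ⧸ IsLocalRing.maximalIdeal A))).hom := by
  have hfl := fun i => (hP i).2
  have hfin := fun i => (hP i).1
  constructor
  · intro h
    refine ⟨0, fun n _ => ?_⟩
    have : Epi (ModuleCat.ofHom (gn (A := A) n)) :=
      (ModuleCat.epi_iff_surjective _).2 (gn_surjective n)
    exact (ModuleCat.epi_iff_surjective _).1 (h.preserves (ModuleCat.ofHom (gn (A := A) n)))
  · rintro ⟨n₀, h⟩
    have hfree : Module.Free A (P.X (p - 1) ⧸ LinearMap.range (P.d p (p - 1)).hom) := by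
      refine free_of_forall_injective _ n₀ fun n hn => ?_
      have hsurj := h n hn
      -- the kernel short exact sequence
      have hS := LinearMap.shortExact_shortComplexKer (gn_surjective (A := A) n)
      have hepi : Epi ((CohIII.TFun P p).map (gn (A := A) n).shortComplexKer.g) :=
        (ModuleCat.epi_iff_surjective _).2 hsurj
      have hmono := (epi_map_g_iff_mono_map_f P hfl _ hS p (p - 1) (by ring)).1 hepi
      rw [mono_TFun_map_iff P _ p (p - 1) (p - 1 - 1) (by simp) (by simp)] at hmono
      have := hfl (p - 1 - 1)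
      refine lTensor_coker_injective_of_monoCond (P.d p (p - 1)).hom (P.d (p - 1) (p - 1 - 1)).hom
        (congrArg ModuleCat.Hom.hom (P.d_comp_d p (p - 1) (p - 1 - 1))) _ ?_ hmono
      exact Subtype.val_injective
    rw [preservesEpi_iff_flat P hfl p (p - 1) (by ring)]
    infer_instance

end Local

end Groth.Agent.H8.TFun
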