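import Groth.Agent.Lib.Helper8.TFunFlat
import Groth.Agent.Lib.Helper8.ExtScalarsBridge

/-!
# `T_p` exactness conditions and base change
-/

set_option autoImplicit false

universe u

open CategoryTheory CategoryTheory.Limits MonoidalCategory TensorProduct

namespace Groth.Agent.H8.TFun

open Groth.Agent.H8.ExtBridge

variable {A B : Type u} [CommRing A] [CommRing B] [Algebra A B]

/-- The cokernel of a base-changed map is the base change of the cokernel. -/
noncomputable def cokerBaseChangeEquiv {M N : Type u} [AddCommGroup M] [Module A M]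
    [AddCommGroup N] [Module A N] (d : M →ₗ[A] N) :
    ((B ⊗[A] N) ⧸ LinearMap.range (d.baseChange B)) ≃ₗ[B] B ⊗[A] (N ⧸ LinearMap.range d) := by
  have hex' := lTensor_exact B d.exact_map_mkQ_range (LinearMap.range d).mkQ_surjective
  have hs : Function.Surjective ((LinearMap.range d).mkQ.baseChange B) := by
    rw [LinearMap.baseChange_eq_ltensor]
    exact LinearMap.lTensor_surjective B (LinearMap.range d).mkQ_surjective
  have hker : LinearMap.ker ((LinearMap.range d).mkQ.baseChange B) =
      LinearMap.range (d.baseChange B) := by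
    ext z
    rw [LinearMap.mem_ker, LinearMap.mem_range]
    have := hex' z
    rw [← LinearMap.baseChange_eq_ltensor, ← LinearMap.baseChange_eq_ltensor] at this
    exact this
  exact (Submodule.quotEquivOfEq _ _ hker.symm).trans
    (LinearMap.quotKerEquivOfSurjective _ hs)

/-- The cokernel of an extended map is the base change of the cokernel. -/
noncomputable def cokerExtEquiv {M N : ModuleCat.{u} A} (d : M ⟶ N) :
    (((ModuleCat.extendScalars (algebraMap A B)).obj N) ⧸
      LinearMap.range ((ModuleCat.extendScalars (algebraMap A B)).map d).hom) ≃ₗ[B]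
      B ⊗[A] (N ⧸ LinearMap.range d.hom) := by
  refine (Submodule.Quotient.equiv _ (LinearMap.range (d.hom.baseChange B)) (extEquiv N) ?_).trans
    (cokerBaseChangeEquiv d.hom)
  ext w
  constructor
  · rintro ⟨_, ⟨v, rfl⟩, rfl⟩
    exact ⟨extEquiv M v, (extEquiv_map d v).symm⟩
  · rintro ⟨v', rfl⟩
    refine ⟨((ModuleCat.extendScalars (algebraMap A B)).map d).hom ((extEquiv M).symm v'),
      ⟨_, rfl⟩, ?_⟩
    change extEquiv N (((ModuleCat.extendScalars (algebraMap A B)).map d).hom
      ((extEquiv M).symm v')) = _
    have := extEquiv_map (B := B) d ((extEquiv M).symm v')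
    rw [LinearEquiv.apply_symm_apply] at this
    exact this

variable (P : ChainComplex (ModuleCat.{u} A) ℤ)

lemma flat_bcCx_X (i : ℤ) [Module.Flat A (P.X i)] :
    Module.Flat B ((CohIII.bcCx (algebraMap A B) P).X i) :=
  Module.Flat.of_linearEquiv (extEquiv (B := B) (P.X i))

lemma flat_coker_bcCx_iff (i j : ℤ) :
    Module.Flat B ((CohIII.bcCx (algebraMap A B) P).X j ⧸
      LinearMap.range ((CohIII.bcCx (algebraMap A B) P).d i j).hom) ↔
    Module.Flat B (B ⊗[A] (P.X j ⧸ LinearMap.range (P.d i j).hom)) :=
  Module.Flat.equiv_iff (cokerExtEquiv (B := B) (P.d i j))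

/-- Exactness properties of `T_p` pass to the base change. -/
theorem preservesEpi_bcCx (hP : ∀ i, Module.Flat A (P.X i)) (p : ℤ)
    (h : (CohIII.TFun P p).PreservesEpimorphisms) :
    (CohIII.TFun (CohIII.bcCx (algebraMap A B) P) p).PreservesEpimorphisms := by
  have hP' : ∀ i, Module.Flat B ((CohIII.bcCx (algebraMap A B) P).X i) := fun i => by
    have := hP i
    exact flat_bcCx_X P i
  rw [preservesEpi_iff_flat P hP p (p - 1) (by ring)] at h
  rw [preservesEpi_iff_flat _ hP' p (p - 1) (by ring), flat_coker_bcCx_iff]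
  infer_instance

theorem preservesMono_bcCx (hP : ∀ i, Module.Flat A (P.X i)) (p : ℤ)
    (h : (CohIII.TFun P p).PreservesMonomorphisms) :
    (CohIII.TFun (CohIII.bcCx (algebraMap A B) P) p).PreservesMonomorphisms := by
  have hP' : ∀ i, Module.Flat B ((CohIII.bcCx (algebraMap A B) P).X i) := fun i => by
    have := hP i
    exact flat_bcCx_X P i
  rw [preservesMono_iff_flat P hP (p + 1) p rfl] at h
  rw [preservesMono_iff_flat _ hP' (p + 1) p rfl, flat_coker_bcCx_iff]
  infer_instance

/-- ... and descend along faithfully flat base change. -/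
theorem preservesEpi_bcCx_iff [Module.FaithfullyFlat A B] (hP : ∀ i, Module.Flat A (P.X i))
    (p : ℤ) :
    (CohIII.TFun (CohIII.bcCx (algebraMap A B) P) p).PreservesEpimorphisms ↔
      (CohIII.TFun P p).PreservesEpimorphisms := by
  have hP' : ∀ i, Module.Flat B ((CohIII.bcCx (algebraMap A B) P).X i) := fun i => by
    have := hP i
    exact flat_bcCx_X P i
  rw [preservesEpi_iff_flat P hP p (p - 1) (by ring),
    preservesEpi_iff_flat _ hP' p (p - 1) (by ring), flat_coker_bcCx_iff,
    Module.Flat.iff_flat_tensorProduct]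

theorem preservesMono_bcCx_iff [Module.FaithfullyFlat A B] (hP : ∀ i, Module.Flat A (P.X i))
    (p : ℤ) :
    (CohIII.TFun (CohIII.bcCx (algebraMap A B) P) p).PreservesMonomorphisms ↔
      (CohIII.TFun P p).PreservesMonomorphisms := by
  have hP' : ∀ i, Module.Flat B ((CohIII.bcCx (algebraMap A B) P).X i) := fun i => by
    have := hP i
    exact flat_bcCx_X P i
  rw [preservesMono_iff_flat P hP (p + 1) p rfl,
    preservesMono_iff_flat _ hP' (p + 1) p rfl, flat_coker_bcCx_iff,
    Module.Flat.iff_flat_tensorProduct]

/-- The locus where `T_i` of the localized complex preserves epimorphisms is the free locus of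
`coker (d : P_i → P_j)`, `i = j + 1`. -/
theorem preservesEpi_localization_eq_freeLocus (P : ChainComplex (ModuleCat.{u} A) ℤ)
    (hP : ∀ i, Module.Finite A (P.X i) ∧ Module.Flat A (P.X i)) (i j : ℤ) (hij : j + 1 = i) :
    {y : PrimeSpectrum A | (CohIII.TFun (CohIII.bcCx (algebraMap A
      (Localization.AtPrime y.asIdeal)) P) i).PreservesEpimorphisms} =
    Module.freeLocus A (P.X j ⧸ LinearMap.range (P.d i j).hom) := by
  have hfl := fun i => (hP i).2
  have hfin := fun i => (hP i).1
  ext y
  have hP' : ∀ i, Module.Flat (Localization.AtPrime y.asIdeal)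
      ((CohIII.bcCx (algebraMap A (Localization.AtPrime y.asIdeal)) P).X i) := fun i =>
    flat_bcCx_X P i
  rw [Set.mem_ofPred_eq, preservesEpi_iff_flat _ hP' i j hij, flat_coker_bcCx_iff,
    Module.mem_freeLocus_iff_tensor y (Localization.AtPrime y.asIdeal)]
  constructor
  · intro h
    exact Module.free_of_flat_of_isLocalRing
  · intro h
    infer_instance

end Groth.Agent.H8.TFun
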