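import Mathlib

/-!
# Splitting off the homology: if `coker g` is projective, `coker f ≅ H ⊕ im g`
-/

set_option autoImplicit false

universe u

namespace Groth.Agent.H8.SplitH

variable {A : Type u} [CommRing A] {X₁ X₂ X₃ : Type u} [AddCommGroup X₁] [Module A X₁]
  [AddCommGroup X₂] [Module A X₂] [AddCommGroup X₃] [Module A X₃]
  (f : X₁ →ₗ[A] X₂) (g : X₂ →ₗ[A] X₃) (hfg : g ∘ₗ f = 0)

/-- The image of `g` is projective if the target and the cokernel are. -/
lemma projective_range [Module.Projective A X₃] [Module.Projective A (X₃ ⧸ LinearMap.range g)] :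
    Module.Projective A (LinearMap.range g) := by
  obtain ⟨τ, hτ⟩ := LinearMap.exists_rightInverse_of_surjective (LinearMap.range g).mkQ
    (Submodule.range_mkQ _)
  have hmem : ∀ x : X₃, x - τ ((LinearMap.range g).mkQ x) ∈ LinearMap.range g := by
    intro x
    have h0 : (LinearMap.range g).mkQ (x - τ ((LinearMap.range g).mkQ x)) = 0 := by
      rw [map_sub]
      have := LinearMap.congr_fun hτ ((LinearMap.range g).mkQ x)
      rw [LinearMap.comp_apply, LinearMap.id_apply] at this
      rw [this, sub_self]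
    rwa [Submodule.mkQ_apply, Submodule.Quotient.mk_eq_zero] at h0
  let r : X₃ →ₗ[A] LinearMap.range g :=
    (LinearMap.id - τ ∘ₗ (LinearMap.range g).mkQ).codRestrict (LinearMap.range g) hmem
  refine Module.Projective.of_split (LinearMap.range g).subtype r ?_
  ext ⟨b, hb⟩
  have h0 : (LinearMap.range g).mkQ b = 0 := (Submodule.Quotient.mk_eq_zero _).2 hb
  simp [r, h0]

include hfg in
lemma range_le_ker : LinearMap.range f ≤ LinearMap.ker g := by
  rintro _ ⟨y, rfl⟩
  exact LinearMap.congr_fun hfg y

/-- The induced map `coker f → X₃`. -/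
noncomputable def gbar : (X₂ ⧸ LinearMap.range f) →ₗ[A] X₃ :=
  (LinearMap.range f).liftQ g (range_le_ker f g hfg)

lemma gbar_mk (x : X₂) : gbar f g hfg (Submodule.Quotient.mk x) = g x := rfl

/-- `coker f` is projective iff `ker (coker f → X₃)` is, when `X₃` and `coker g` are projective. -/
lemma projective_coker_iff [Module.Projective A X₃]
    [Module.Projective A (X₃ ⧸ LinearMap.range g)] :
    Module.Projective A (X₂ ⧸ LinearMap.range f) ↔
      Module.Projective A (LinearMap.ker (gbar f g hfg)) := by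
  have hB := projective_range g
  have hmemB : ∀ w, gbar f g hfg w ∈ LinearMap.range g := by
    intro w
    obtain ⟨x, rfl⟩ := Submodule.Quotient.mk_surjective _ w
    exact ⟨x, rfl⟩
  let g' : (X₂ ⧸ LinearMap.range f) →ₗ[A] LinearMap.range g :=
    (gbar f g hfg).codRestrict _ hmemB
  have hg's : LinearMap.range g' = ⊤ := by
    rw [LinearMap.range_eq_top]
    rintro ⟨_, x, rfl⟩
    exact ⟨Submodule.Quotient.mk x, rfl⟩
  obtain ⟨σ, hσ⟩ := LinearMap.exists_rightInverse_of_surjective g' hg's
  have hσ' : ∀ b, g' (σ b) = b := fun b => LinearMap.congr_fun hσ b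
  have hmemK : ∀ w, w - σ (g' w) ∈ LinearMap.ker (gbar f g hfg) := by
    intro w
    rw [LinearMap.mem_ker, map_sub]
    have : gbar f g hfg (σ (g' w)) = ((g' (σ (g' w)) : LinearMap.range g) : X₃) := rfl
    rw [this, hσ']
    exact sub_self _
  let rK : (X₂ ⧸ LinearMap.range f) →ₗ[A] LinearMap.ker (gbar f g hfg) :=
    (LinearMap.id - σ ∘ₗ g').codRestrict _ hmemK
  constructor
  · intro _
    refine Module.Projective.of_split (LinearMap.ker (gbar f g hfg)).subtype rK ?_
    ext ⟨c, hc⟩
    have h0 : g' c = 0 := Subtype.ext hc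
    simp [rK, h0]
  · intro _
    refine Module.Projective.of_split (rK.prod g')
      ((LinearMap.ker (gbar f g hfg)).subtype.coprod σ) ?_
    ext w
    simp [rK]

/-- `ker (coker f → X₃)` is `ker g / im f`. -/
noncomputable def kerGbarEquiv :
    (LinearMap.ker g ⧸ LinearMap.range (f.codRestrict (LinearMap.ker g)
      (fun y => LinearMap.congr_fun hfg y))) ≃ₗ[A] LinearMap.ker (gbar f g hfg) := by
  let φ : LinearMap.ker g →ₗ[A] LinearMap.ker (gbar f g hfg) :=
    ((LinearMap.range f).mkQ ∘ₗ (LinearMap.ker g).subtype).codRestrict _ (fun c => c.2)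
  have hφs : Function.Surjective φ := by
    rintro ⟨w, hw⟩
    obtain ⟨x, rfl⟩ := Submodule.Quotient.mk_surjective _ w
    exact ⟨⟨x, hw⟩, rfl⟩
  have hker : LinearMap.ker φ = LinearMap.range (f.codRestrict (LinearMap.ker g)
      (fun y => LinearMap.congr_fun hfg y)) := by
    ext c
    rw [LinearMap.mem_ker, LinearMap.mem_range]
    constructor
    · intro h
      have h' : (LinearMap.range f).mkQ (c : X₂) = 0 := congrArg Subtype.val h
      rw [Submodule.mkQ_apply, Submodule.Quotient.mk_eq_zero] at h'
      obtain ⟨y, hy⟩ := h'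
      exact ⟨y, Subtype.ext hy⟩
    · rintro ⟨y, rfl⟩
      apply Subtype.ext
      change (LinearMap.range f).mkQ (f y) = 0
      rw [Submodule.mkQ_apply, Submodule.Quotient.mk_eq_zero]
      exact ⟨y, rfl⟩
  exact (Submodule.quotEquivOfEq _ _ hker.symm).trans (LinearMap.quotKerEquivOfSurjective φ hφs)

end Groth.Agent.H8.SplitH
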