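import Groth.Agent.Lib.Helper8.TFunLocal
import Groth.Agent.Lib.Helper8.SplitHomology
set_option autoImplicit false
universe u
open CategoryTheory CategoryTheory.Limits MonoidalCategory TensorProduct
/-!
# `T_p` over a Noetherian local ring: freeness of `T_p(A)`
-/

namespace Groth.Agent.H8.TFun

variable {A : Type u} [CommRing A] (P : ChainComplex (ModuleCat.{u} A) ℤ)

/-- `P ⊗ A ≅ P`. -/
noncomputable def tensorObjUnitIso : CohIII.tensorObj P (ModuleCat.of A A) ≅ P :=
  (NatIso.mapHomologicalComplex (rightUnitorNatIso (ModuleCat.{u} A)) (ComplexShape.down ℤ)).app P ≪≫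
    (Functor.mapHomologicalComplexIdIso (ModuleCat.{u} A) (ComplexShape.down ℤ)).app P

/-- `T_p(A) ≅ H_p(P)`. -/
noncomputable def TObjUnitIso (p : ℤ) : (CohIII.TFun P p).obj (ModuleCat.of A A) ≅ P.homology p :=
  (HomologicalComplex.homologyFunctor _ _ p).mapIso (tensorObjUnitIso P)

/-- If `P_l` and `coker (P_j → P_l)` are projective then `coker (P_i → P_j)` is projective iff
`H_j(P)` is. -/
theorem projective_coker_iff_projective_homology (i j l : ℤ)
    (hi : (ComplexShape.down ℤ).prev j = i) (hl : (ComplexShape.down ℤ).next j = l)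
    [Module.Projective A (P.X l)]
    [Module.Projective A (P.X l ⧸ LinearMap.range (P.d j l).hom)] :
    Module.Projective A (P.X j ⧸ LinearMap.range (P.d i j).hom) ↔
      Module.Projective A (P.homology j) := by
  subst hi hl
  have hfg : (P.sc j).g.hom ∘ₗ (P.sc j).f.hom = 0 := congrArg ModuleCat.Hom.hom (P.sc j).zero
  have : Module.Projective A (P.sc j).X₃ :=
    inferInstanceAs (Module.Projective A (P.X ((ComplexShape.down ℤ).next j)))
  have : Module.Projective A ((P.sc j).X₃ ⧸ LinearMap.range (P.sc j).g.hom) :=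
    inferInstanceAs (Module.Projective A (P.X ((ComplexShape.down ℤ).next j) ⧸
      LinearMap.range (P.d j ((ComplexShape.down ℤ).next j)).hom))
  have h1 := SplitH.projective_coker_iff (P.sc j).f.hom (P.sc j).g.hom hfg
  have e1 := SplitH.kerGbarEquiv (P.sc j).f.hom (P.sc j).g.hom hfg
  have e2 : (P.sc j).homology ≃ₗ[A] (LinearMap.ker (P.sc j).g.hom ⧸
      LinearMap.range ((P.sc j).f.hom.codRestrict (LinearMap.ker (P.sc j).g.hom)
        (fun y => LinearMap.congr_fun hfg y))) := (P.sc j).moduleCatHomologyIso.toLinearEquiv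
  change Module.Projective A ((P.sc j).X₂ ⧸ LinearMap.range (P.sc j).f.hom) ↔
    Module.Projective A (P.sc j).homology
  refine h1.trans ?_
  constructor
  · intro _
    exact Module.Projective.of_equiv (e1.symm.trans e2.symm)
  · intro _
    exact Module.Projective.of_equiv (e2.trans e1)

lemma finite_homology [IsNoetherianRing A] (j : ℤ) [Module.Finite A (P.X j)] :
    Module.Finite A (P.homology j) := by
  have : Module.Finite A (P.sc j).X₂ := inferInstanceAs (Module.Finite A (P.X j))
  have : IsNoetherian A (P.sc j).X₂ := isNoetherian_of_isNoetherianRing_of_finite A _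
  have : Module.Finite A (P.sc j).moduleCatLeftHomologyData.H :=
    inferInstanceAs (Module.Finite A (LinearMap.ker (P.sc j).g.hom ⧸
      LinearMap.range (P.sc j).moduleCatToCycles))
  exact Module.Finite.equiv (P.sc j).moduleCatHomologyIso.toLinearEquiv.symm

section LocalMain

variable [IsLocalRing A]

/-- Over a Noetherian local ring: `T_p` is exact iff it is right exact and `T_p(A)` is free. -/
theorem exact_iff_epi_and_free [IsNoetherianRing A]
    (hP : ∀ i, Module.Finite A (P.X i) ∧ Module.Flat A (P.X i)) (p : ℤ) :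
    ((CohIII.TFun P p).PreservesMonomorphisms ∧ (CohIII.TFun P p).PreservesEpimorphisms) ↔
      ((CohIII.TFun P p).PreservesEpimorphisms ∧
        Module.Free A ((CohIII.TFun P p).obj (ModuleCat.of A A))) := by
  have hfl := fun i => (hP i).2
  have hfin := fun i => (hP i).1
  suffices h : (CohIII.TFun P p).PreservesEpimorphisms →
      ((CohIII.TFun P p).PreservesMonomorphisms ↔
        Module.Free A ((CohIII.TFun P p).obj (ModuleCat.of A A))) by
    constructor
    · rintro ⟨hm, he⟩
      exact ⟨he, (h he).1 hm⟩
    · rintro ⟨he, hf⟩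
      exact ⟨(h he).2 hf, he⟩
  intro he
  rw [preservesEpi_iff_flat P hfl p (p - 1) (by ring)] at he
  have : Module.Free A (P.X (p - 1)) := Module.free_of_flat_of_isLocalRing
  have : Module.Free A (P.X (p - 1) ⧸ LinearMap.range (P.d p (p - 1)).hom) :=
    Module.free_of_flat_of_isLocalRing
  have hfinH : Module.Finite A (P.homology p) := finite_homology P p
  rw [preservesMono_iff_flat P hfl (p + 1) p rfl]
  have e := (TObjUnitIso P p).toLinearEquiv
  have hkey := projective_coker_iff_projective_homology P (p + 1) p (p - 1) (by simp) (by simp)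
  constructor
  · intro hW
    have : Module.Free A (P.X p ⧸ LinearMap.range (P.d (p + 1) p).hom) :=
      Module.free_of_flat_of_isLocalRing
    have hH : Module.Projective A (P.homology p) := hkey.1 inferInstance
    have : Module.Free A (P.homology p) := Module.free_of_flat_of_isLocalRing
    exact Module.Free.of_equiv e.symm
  · intro hF
    have : Module.Free A (P.homology p) := Module.Free.of_equiv e
    have : Module.Projective A (P.X p ⧸ LinearMap.range (P.d (p + 1) p).hom) :=
      hkey.2 inferInstance
    infer_instance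

/-- If `T_q(k) = 0 = T_r(k)` (`q = p - 1`, `r = p + 1`) then `T_p` is exact and `T_p(A)` is free. -/
theorem exact_and_free_of_isZero [IsNoetherianRing A]
    (hP : ∀ i, Module.Finite A (P.X i) ∧ Module.Flat A (P.X i)) (p q r : ℤ)
    (hqp : q + 1 = p) (hpr : p + 1 = r)
    (hq : IsZero ((CohIII.TFun P q).obj (ModuleCat.of A (IsLocalRing.ResidueField A))))
    (hr : IsZero ((CohIII.TFun P r).obj (ModuleCat.of A (IsLocalRing.ResidueField A)))) :
    ((CohIII.TFun P p).PreservesMonomorphisms ∧ (CohIII.TFun P p).PreservesEpimorphisms) ∧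
      Module.Free A ((CohIII.TFun P p).obj (ModuleCat.of A A)) := by
  have hfl := fun i => (hP i).2
  have hq' := isZero_TFun_obj_of_residue P hP q hq
  have hr' := isZero_TFun_obj_of_residue P hP r hr
  have hqm : (CohIII.TFun P q).PreservesMonomorphisms :=
    ⟨fun {M' M} f _ => ⟨fun g h _ => (hq' M').eq_of_tgt _ _⟩⟩
  have hre : (CohIII.TFun P r).PreservesEpimorphisms :=
    ⟨fun {M M''} f _ => ⟨fun g h _ => (hr' M'').eq_of_src _ _⟩⟩
  have he : (CohIII.TFun P p).PreservesEpimorphisms :=
    preservesEpi_of_preservesMono P hfl p q hqp hqm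
  have hm : (CohIII.TFun P p).PreservesMonomorphisms :=
    preservesMono_of_preservesEpi P hfl r p hpr hre
  exact ⟨⟨hm, he⟩, ((exact_iff_epi_and_free P hP p).1 ⟨hm, he⟩).2⟩

end LocalMain

end Groth.Agent.H8.TFun
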