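import Groth.Agent.Lib.Helper8.TFunTensorIso
import Groth.Agent.Lib.Helper8.TFunLocal2
import Groth.Agent.Lib.Helper8.DRankMod

/-!
# Flatness of homology and the fibre dimension of `T_p`
-/

set_option autoImplicit false

universe u

open CategoryTheory CategoryTheory.Limits MonoidalCategory TensorProduct Function

namespace Groth.Agent.H8.TFun

section ModuleLevel

variable {A : Type u} [CommRing A] {X₁ X₂ X₃ : Type u} [AddCommGroup X₁] [Module A X₁]
  [AddCommGroup X₂] [Module A X₂] [AddCommGroup X₃] [Module A X₃]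
  (f : X₁ →ₗ[A] X₂) (g : X₂ →ₗ[A] X₃) (hfg : g ∘ₗ f = 0)

lemma range_gbar : LinearMap.range (SplitH.gbar f g hfg) = LinearMap.range g :=
  Submodule.range_liftQ _ _ _

/-- If `X₃` and `coker g` are flat, `coker f` is flat iff `ker (coker f → X₃)` is. -/
lemma flat_coker_iff_flat_ker_gbar [Module.Flat A X₃]
    [Module.Flat A (X₃ ⧸ LinearMap.range g)] :
    Module.Flat A (X₂ ⧸ LinearMap.range f) ↔
      Module.Flat A (LinearMap.ker (SplitH.gbar f g hfg)) := by
  have hC : Module.Flat A (X₃ ⧸ LinearMap.range (SplitH.gbar f g hfg)) := by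
    rw [range_gbar]
    infer_instance
  have hB := HTensor.flat_range (SplitH.gbar f g hfg)
  constructor
  · intro _
    exact FlatSES.flat_left (LinearMap.ker (SplitH.gbar f g hfg)).subtype
      (SplitH.gbar f g hfg).rangeRestrict (Submodule.injective_subtype _)
      (HTensor.exact_ker_rangeRestrict _) (LinearMap.surjective_rangeRestrict _)
  · intro _
    exact FlatSES.flat_middle (LinearMap.ker (SplitH.gbar f g hfg)).subtype
      (SplitH.gbar f g hfg).rangeRestrict (Submodule.injective_subtype _)
      (HTensor.exact_ker_rangeRestrict _) (LinearMap.surjective_rangeRestrict _)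

end ModuleLevel

variable {A : Type u} [CommRing A] (P : ChainComplex (ModuleCat.{u} A) ℤ)

/-- If `P_l` and `coker (P_j → P_l)` are flat then `coker (P_i → P_j)` is flat iff `H_j(P)` is. -/
theorem flat_coker_iff_flat_homology' (i j l : ℤ)
    (hi : (ComplexShape.down ℤ).prev j = i) (hl : (ComplexShape.down ℤ).next j = l)
    [Module.Flat A (P.X l)]
    [Module.Flat A (P.X l ⧸ LinearMap.range (P.d j l).hom)] :
    Module.Flat A (P.X j ⧸ LinearMap.range (P.d i j).hom) ↔
      Module.Flat A (P.homology j) := by
  subst hi hl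
  have hfg : (P.sc j).g.hom ∘ₗ (P.sc j).f.hom = 0 := congrArg ModuleCat.Hom.hom (P.sc j).zero
  have : Module.Flat A (P.sc j).X₃ :=
    inferInstanceAs (Module.Flat A (P.X ((ComplexShape.down ℤ).next j)))
  have : Module.Flat A ((P.sc j).X₃ ⧸ LinearMap.range (P.sc j).g.hom) :=
    inferInstanceAs (Module.Flat A (P.X ((ComplexShape.down ℤ).next j) ⧸
      LinearMap.range (P.d j ((ComplexShape.down ℤ).next j)).hom))
  have h1 := flat_coker_iff_flat_ker_gbar (P.sc j).f.hom (P.sc j).g.hom hfg
  have e1 := SplitH.kerGbarEquiv (P.sc j).f.hom (P.sc j).g.hom hfg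
  have e2 : (P.sc j).homology ≃ₗ[A] (LinearMap.ker (P.sc j).g.hom ⧸
      LinearMap.range ((P.sc j).f.hom.codRestrict (LinearMap.ker (P.sc j).g.hom)
        (fun y => LinearMap.congr_fun hfg y))) := (P.sc j).moduleCatHomologyIso.toLinearEquiv
  change Module.Flat A ((P.sc j).X₂ ⧸ LinearMap.range (P.sc j).f.hom) ↔
    Module.Flat A (P.sc j).homology
  refine h1.trans ?_
  constructor
  · intro _
    exact Module.Flat.of_linearEquiv (e2.trans e1)
  · intro _
    exact Module.Flat.of_linearEquiv (e1.symm.trans e2.symm)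

open DRank ExtBridge in
/-- `d_i(x) = dim κ(x) ⊗ H_i(P)` when `P_{i-1}` and `coker d_i` are flat. -/
theorem dRank_eq_fibDim_homology (i j : ℤ) (hij : j + 1 = i)
    [Module.Flat A (P.X j)] [Module.Flat A (P.X j ⧸ LinearMap.range (P.d i j).hom)]
    (x : PrimeSpectrum A) :
    CohIII.dRank P i x = fibDim (P.homology i) x := by
  unfold CohIII.dRank fibDim
  rw [(homologyBcIsoOfFlatCoker P i j hij x.asIdeal.ResidueField).toLinearEquiv.finrank_eq]
  exact (extEquiv (B := x.asIdeal.ResidueField) (P.homology i)).finrank_eq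

/-- `H_p(P)` is finitely presented iff `T_p(A)` is. -/
lemma finitePresentation_homology_of_T (p : ℤ)
    (hfp : Module.FinitePresentation A (CohIII.T P p (ModuleCat.of A A))) :
    Module.FinitePresentation A (P.homology p) := by
  have : Module.FinitePresentation A ((CohIII.TFun P p).obj (ModuleCat.of A A)) := hfp
  exact Module.FinitePresentation.of_equiv (TObjUnitIso P p).toLinearEquiv

/-- If `T_p` is exact then `H_p(P)` is flat. -/
lemma flat_homology_of_exact (hP : ∀ i, Module.Flat A (P.X i)) (p : ℤ)
    (hex : (CohIII.TFun P p).PreservesMonomorphisms ∧ (CohIII.TFun P p).PreservesEpimorphisms) :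
    Module.Flat A (P.homology p) := by
  obtain ⟨hm, he⟩ := hex
  have hW1 := (preservesEpi_iff_flat P hP p (p - 1) (by ring)).1 he
  have hW2 := (preservesMono_iff_flat P hP (p + 1) p rfl).1 hm
  have := hP (p - 1)
  exact (flat_coker_iff_flat_homology' P (p + 1) p (p - 1) (by simp) (by simp)).1 hW2

/-- If `T_p` is exact and `H_p(P)` is finitely presented, `d_p` is locally constant. -/
theorem dRank_isLocallyConstant_of_exact (hP : ∀ i, Module.Flat A (P.X i)) (p : ℤ)
    (hex : (CohIII.TFun P p).PreservesMonomorphisms ∧ (CohIII.TFun P p).PreservesEpimorphisms)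
    (hfp : Module.FinitePresentation A (CohIII.T P p (ModuleCat.of A A))) :
    IsLocallyConstant (CohIII.dRank P p) := by
  have hH := flat_homology_of_exact P hP p hex
  have hfpH := finitePresentation_homology_of_T P p hfp
  have hW1 := (preservesEpi_iff_flat P hP p (p - 1) (by ring)).1 hex.2
  have := hP (p - 1)
  have hproj : Module.Projective A (P.homology p) := Module.Flat.projective_of_finitePresentation
  rw [IsLocallyConstant.iff_eventually_eq]
  intro x
  filter_upwards [DRank.fibDim_eventually_eq (P.homology p) x] with y hy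
  rw [dRank_eq_fibDim_homology P p (p - 1) (by ring) y,
    dRank_eq_fibDim_homology P p (p - 1) (by ring) x, hy]

end Groth.Agent.H8.TFun
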