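import Mathlib
import Groth.Prelude
import Groth.Agent.Lib.Helper8.TFunFlatHomology
import Groth.Agent.Lib.Helper8.TFunLocal2

/-! Helper8: S2446 -- for bounded below flat complexes: `T_q` exact for `q ≤ p` iff `H_q` flat for `q ≤ p`. -/

set_option autoImplicit false
universe u

open CategoryTheory

namespace Groth.Agent.H8.TFun

variable {A : Type u} [CommRing A] (P : ChainComplex (ModuleCat.{u} A) ℤ)

theorem flat_coker_of_flat_homology_le (hP : ∀ i, Module.Flat A (P.X i)) (i₀ : ℤ)
    (hb : ∀ i < i₀, Limits.IsZero (P.X i)) (p : ℤ)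
    (hH : ∀ q ≤ p, Module.Flat A (P.homology q)) :
    ∀ n : ℕ, ∀ i j : ℤ, j + 1 = i → j < i₀ + n → j ≤ p →
      Module.Flat A (P.X j ⧸ LinearMap.range (P.d i j).hom) := by
  intro n
  induction n with
  | zero =>
    intro i j hij hj _
    have hz : Limits.IsZero (P.X j) := hb j (by simpa using hj)
    haveI : Subsingleton (P.X j) := ModuleCat.subsingleton_of_isZero hz
    infer_instance
  | succ n ih =>
    intro i j hij hj hjp
    haveI := hP (j - 1)
    haveI := ih j (j - 1) (by ring) (by push_cast at hj; omega) (by omega)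
    exact (flat_coker_iff_flat_homology' P i j (j - 1) (by simp [← hij]) (by simp)).2 (hH j hjp)

theorem exact_le_iff_flat_le (hP : ∀ i, Module.Flat A (P.X i)) (i₀ : ℤ)
    (hb : ∀ i < i₀, Limits.IsZero (P.X i)) (p : ℤ) :
    (∀ q ≤ p, (CohIII.TFun P q).PreservesMonomorphisms ∧ (CohIII.TFun P q).PreservesEpimorphisms) ↔
      ∀ q ≤ p, Module.Flat A ((CohIII.TFun P q).obj (ModuleCat.of A A)) := by
  constructor
  · intro h q hq
    have := flat_homology_of_exact P hP q (h q hq)
    exact Module.Flat.of_linearEquiv (TObjUnitIso P q).toLinearEquiv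
  · intro h q hq
    have hH : ∀ q ≤ p, Module.Flat A (P.homology q) := by
      intro q hq
      have := h q hq
      exact Module.Flat.of_linearEquiv (TObjUnitIso P q).toLinearEquiv.symm
    have key := flat_coker_of_flat_homology_le P hP i₀ hb p hH
    have hW : ∀ i j : ℤ, j + 1 = i → j ≤ p →
        Module.Flat A (P.X j ⧸ LinearMap.range (P.d i j).hom) := by
      intro i j hij hj
      exact key (j - i₀ + 1).toNat i j hij (by omega) hj
    refine ⟨?_, ?_⟩
    · rw [preservesMono_iff_flat P hP (q + 1) q rfl]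
      exact hW (q + 1) q rfl hq
    · rw [preservesEpi_iff_flat P hP q (q - 1) (by ring)]
      exact hW q (q - 1) (by ring) (by omega)

end Groth.Agent.H8.TFun
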