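import Groth.Prelude.Def_ega3

/-!
# The functors `T_p(M) = H_p(P ⊗ M)`: the long exact sequence

For a complex `P` of flat modules: `T_p` preserves epimorphisms iff `T_{p-1}` preserves
monomorphisms.
-/

set_option autoImplicit false

universe u

open CategoryTheory CategoryTheory.Limits MonoidalCategory

namespace Groth.Agent.H8.TFun

variable {A : Type u} [CommRing A] (P : ChainComplex (ModuleCat.{u} A) ℤ)

lemma tensorMap_f {M N : ModuleCat.{u} A} (g : M ⟶ N) (i : ℤ) :
    (CohIII.tensorMap P g).f i = P.X i ◁ g := rfl

lemma tensorObj_d (M : ModuleCat.{u} A) (i j : ℤ) :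
    (CohIII.tensorObj P M).d i j = P.d i j ▷ M := rfl

/-- The short complex of complexes `P ⊗ S`. -/
noncomputable def tensorSC (S : ShortComplex (ModuleCat.{u} A)) :
    ShortComplex (ChainComplex (ModuleCat.{u} A) ℤ) :=
  ShortComplex.mk (CohIII.tensorMap P S.f) (CohIII.tensorMap P S.g) (by
    ext i : 1
    change P.X i ◁ S.f ≫ P.X i ◁ S.g = 0
    rw [← MonoidalCategory.whiskerLeft_comp, S.zero, MonoidalPreadditive.whiskerLeft_zero])

lemma tensorSC_shortExact (hP : ∀ i, Module.Flat A (P.X i)) (S : ShortComplex (ModuleCat.{u} A))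
    (hS : S.ShortExact) : (tensorSC P S).ShortExact := by
  refine HomologicalComplex.shortExact_of_degreewise_shortExact _ fun i => ?_
  have := hP i
  refine ModuleCat.shortComplex_shortExact _ ?_ ?_ ?_
  · change Function.Exact (S.f.hom.lTensor (P.X i)) (S.g.hom.lTensor (P.X i))
    exact lTensor_exact (P.X i)
      ((ShortComplex.ShortExact.moduleCat_exact_iff_function_exact S).1 hS.exact)
      hS.moduleCat_surjective_g
  · change Function.Injective (S.f.hom.lTensor (P.X i))
    exact Module.Flat.lTensor_preserves_injective_linearMap _ hS.moduleCat_injective_f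
  · change Function.Surjective (S.g.hom.lTensor (P.X i))
    exact LinearMap.lTensor_surjective _ hS.moduleCat_surjective_g

lemma TFun_map {M N : ModuleCat.{u} A} (g : M ⟶ N) (p : ℤ) :
    (CohIII.TFun P p).map g = HomologicalComplex.homologyMap (CohIII.tensorMap P g) p := rfl

/-- If `T_{p-1}` preserves monomorphisms, then `T_p` preserves epimorphisms. -/
theorem preservesEpi_of_preservesMono (hP : ∀ i, Module.Flat A (P.X i)) (p q : ℤ) (hpq : q + 1 = p)
    (h : (CohIII.TFun P q).PreservesMonomorphisms) : (CohIII.TFun P p).PreservesEpimorphisms := by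
  constructor
  intro M M'' g hg
  -- the kernel short exact sequence
  let S : ShortComplex (ModuleCat.{u} A) := ShortComplex.mk (kernel.ι g) g (kernel.condition g)
  have hS : S.ShortExact :=
    { exact := ShortComplex.exact_of_f_is_kernel _ (kernelIsKernel g)
      mono_f := inferInstanceAs (Mono (kernel.ι g))
      epi_g := hg }
  have hT := tensorSC_shortExact P hP S hS
  have hrel : (ComplexShape.down ℤ).Rel p q := hpq
  have hex := hT.homology_exact₃ p q hrel
  have hδ : hT.δ p q hrel = 0 := by
    have hm : Mono (HomologicalComplex.homologyMap (tensorSC P S).f q) := h.preserves S.f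
    rw [← cancel_mono (HomologicalComplex.homologyMap (tensorSC P S).f q), zero_comp]
    exact hT.δ_comp p q hrel
  have : Epi (HomologicalComplex.homologyMap (tensorSC P S).g p) :=
    hex.epi_f hδ
  exact this

/-- If `T_p` preserves epimorphisms, then `T_{p-1}` preserves monomorphisms. -/
theorem preservesMono_of_preservesEpi (hP : ∀ i, Module.Flat A (P.X i)) (p q : ℤ) (hpq : q + 1 = p)
    (h : (CohIII.TFun P p).PreservesEpimorphisms) : (CohIII.TFun P q).PreservesMonomorphisms := by
  constructor
  intro M' M f hf
  let S : ShortComplex (ModuleCat.{u} A) := ShortComplex.mk f (cokernel.π f) (cokernel.condition f)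
  have hS : S.ShortExact :=
    { exact := ShortComplex.exact_of_g_is_cokernel _ (cokernelIsCokernel f)
      mono_f := hf
      epi_g := inferInstanceAs (Epi (cokernel.π f)) }
  have hT := tensorSC_shortExact P hP S hS
  have hrel : (ComplexShape.down ℤ).Rel p q := hpq
  have hex := hT.homology_exact₁ p q hrel
  have hδ : hT.δ p q hrel = 0 := by
    have hm : Epi (HomologicalComplex.homologyMap (tensorSC P S).g p) := h.preserves S.g
    rw [← cancel_epi (HomologicalComplex.homologyMap (tensorSC P S).g p), comp_zero]
    exact hT.comp_δ p q hrel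
  have : Mono (HomologicalComplex.homologyMap (tensorSC P S).f q) :=
    hex.mono_g hδ
  exact this

theorem preservesEpi_iff_preservesMono (hP : ∀ i, Module.Flat A (P.X i)) (p q : ℤ)
    (hpq : q + 1 = p) :
    (CohIII.TFun P p).PreservesEpimorphisms ↔ (CohIII.TFun P q).PreservesMonomorphisms :=
  ⟨preservesMono_of_preservesEpi P hP p q hpq, preservesEpi_of_preservesMono P hP p q hpq⟩

end Groth.Agent.H8.TFun
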