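import Mathlib
import Groth.Prelude
import Groth.Agent.Lib.Helper8.ExtScalarsBridge
import Groth.Agent.Lib.Helper8.TFunLES

/-! Helper8: `T_n(B)` (as `A`-module) is the restriction of scalars of `H_n(P ⊗_A B)`. -/

set_option autoImplicit false
universe u

open CategoryTheory CategoryTheory.Limits TensorProduct MonoidalCategory

namespace Groth.Agent.H8.TFun

open Groth.Agent.H8.ExtBridge

variable {A B : Type u} [CommRing A] [CommRing B] [Algebra A B]

/-- `M ⊗_A B ≃ restrict (extend M)`. -/
noncomputable def tauEquiv (M : ModuleCat.{u} A) : (M ⊗[A] B) ≃ₗ[A]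
    ((ModuleCat.restrictScalars (algebraMap A B)).obj
      ((ModuleCat.extendScalars (algebraMap A B)).obj M)) where
  toFun z := (extEquiv (B := B) M).symm (TensorProduct.comm A M B z)
  map_add' x y := by rw [map_add, map_add]; rfl
  map_smul' a z := by
    rw [RingHom.id_apply, map_smul, ← algebraMap_smul B a (TensorProduct.comm A M B z), map_smul]
    rfl
  invFun w := (TensorProduct.comm A M B).symm (extEquiv (B := B) M w)
  left_inv z := by
    simp only [LinearEquiv.apply_symm_apply, LinearEquiv.symm_apply_apply]
  right_inv w := by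
    simp only [LinearEquiv.apply_symm_apply]
    exact LinearEquiv.symm_apply_apply _ _

open ChangeOfRings in
lemma tauEquiv_tmul (M : ModuleCat.{u} A) (m : M) (b : B) :
    tauEquiv (B := B) M (m ⊗ₜ[A] b) = (b ⊗ₜ[A,algebraMap A B] m :
      (ModuleCat.extendScalars (algebraMap A B)).obj M) := rfl

lemma tauEquiv_naturality {M N : ModuleCat.{u} A} (g : M ⟶ N) (z : M ⊗[A] B) :
    tauEquiv (B := B) N (g.hom.rTensor B z) =
      (ModuleCat.extendScalars (algebraMap A B)).map g (tauEquiv (B := B) M z) := by
  induction z using TensorProduct.induction_on with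
  | zero => rw [map_zero, map_zero, map_zero]; rfl
  | tmul m b => rfl
  | add x y hx hy =>
    rw [map_add, map_add, hx, hy, map_add]
    exact (map_add _ _ _).symm

variable (P : ChainComplex (ModuleCat.{u} A) ℤ)

/-- the iso of complexes of `A`-modules `P ⊗_A B ≅ restrict (bcCx P)`. -/
noncomputable def tensorObjIsoRestrict :
    CohIII.tensorObj P (ModuleCat.of A B) ≅
      ((ModuleCat.restrictScalars (algebraMap A B)).mapHomologicalComplex (ComplexShape.down ℤ)).obj
        (CohIII.bcCx (algebraMap A B) P) :=
  HomologicalComplex.Hom.isoOfComponents (fun i => (tauEquiv (B := B) (P.X i)).toModuleIso)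
    (fun i j _ => by
      ext z
      exact (tauEquiv_naturality (B := B) (P.d i j) z).symm)

/-- `T_n(B) ≅ restrict H_n(bcCx P)`. -/
noncomputable def TObjIsoRestrict (n : ℤ) :
    (CohIII.TFun P n).obj (ModuleCat.of A B) ≅
      (ModuleCat.restrictScalars (algebraMap A B)).obj
        ((CohIII.bcCx (algebraMap A B) P).homology n) :=
  (HomologicalComplex.homologyFunctor _ _ n).mapIso (tensorObjIsoRestrict (B := B) P) ≪≫
    ((CohIII.bcCx (algebraMap A B) P).sc n).mapHomologyIso
      (ModuleCat.restrictScalars (algebraMap A B))

theorem finite_of_finite_restrictScalars (H : ModuleCat.{u} B)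
    (h : Module.Finite A ((ModuleCat.restrictScalars (algebraMap A B)).obj H)) :
    Module.Finite B H := by
  obtain ⟨s, hs⟩ := h.fg_top
  have key : ∀ y : ((ModuleCat.restrictScalars (algebraMap A B)).obj H),
      y ∈ Submodule.span A (s : Set ((ModuleCat.restrictScalars (algebraMap A B)).obj H)) →
      (show H from y) ∈ Submodule.span B
        (show Set H from (s : Set ((ModuleCat.restrictScalars (algebraMap A B)).obj H))) := by
    intro y hy
    induction hy using Submodule.span_induction with
    | mem y hy => exact Submodule.subset_span hy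
    | zero => exact Submodule.zero_mem _
    | add y z _ _ hy hz => exact Submodule.add_mem _ hy hz
    | smul a y _ hy =>
      have : a • y = (algebraMap A B a) • (show H from y) := rfl
      rw [this]
      exact Submodule.smul_mem _ _ hy
  refine ⟨⟨(show Finset H from s), ?_⟩⟩
  rw [eq_top_iff]
  intro x _
  exact key x (by rw [hs]; trivial)

theorem finite_homology_bcCx (n : ℤ)
    (h : Module.Finite A ((CohIII.TFun P n).obj (ModuleCat.of A B))) :
    Module.Finite B ((CohIII.bcCx (algebraMap A B) P).homology n) := by
  apply finite_of_finite_restrictScalars (A := A)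
  exact Module.Finite.equiv (TObjIsoRestrict (B := B) P n).toLinearEquiv

end Groth.Agent.H8.TFun
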