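import Mathlib
import Groth.Agent.Lib.Helper8.TFunFlat

/-!
# `T_p` over a local ring, finitely generated flat terms
-/

set_option autoImplicit false

universe u

open CategoryTheory CategoryTheory.Limits MonoidalCategory TensorProduct

namespace Groth.Agent.H8.TFun

section LocalLemma

variable {A : Type u} [CommRing A] [IsLocalRing A]

local notation "k" => IsLocalRing.ResidueField A

/-- Every element of `L ⊗ k` is of the form `x ⊗ 1`. -/
lemma exists_tmul_one {L : Type u} [AddCommGroup L] [Module A L] (z : L ⊗[A] k) :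
    ∃ x : L, z = x ⊗ₜ[A] (1 : k) := by
  obtain ⟨w, hw⟩ :=
    (TensorProduct.tensorQuotEquivQuotSMul L (IsLocalRing.maximalIdeal A)).symm.surjective z
  obtain ⟨x, rfl⟩ := Submodule.Quotient.mk_surjective _ w
  exact ⟨x, by rw [← hw, TensorProduct.tensorQuotEquivQuotSMul_symm_mk]; rfl⟩

/-- If every element of `ker (u ⊗ k)` lifts to `ker u`, then `coker u` is free
(`u : L → L'`, `L` finite, `L'` finite free over a local ring). -/
theorem free_coker_of_ker_lifts {L L' : Type u} [AddCommGroup L] [Module A L] [AddCommGroup L']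
    [Module A L'] [Module.Finite A L] [Module.Finite A L'] [Module.Free A L'] (u : L →ₗ[A] L')
    (h : ∀ z : L ⊗[A] k, u.rTensor k z = 0 → ∃ x : L, u x = 0 ∧ z = x ⊗ₜ[A] (1 : k)) :
    Module.Free A (L' ⧸ LinearMap.range u) := by
  let f : (L ⧸ LinearMap.ker u) →ₗ[A] L' := (LinearMap.ker u).liftQ u le_rfl
  have hfu : f ∘ₗ (LinearMap.ker u).mkQ = u := Submodule.liftQ_mkQ _ _ _
  have hex : Function.Exact f (LinearMap.range u).mkQ := by
    have hr : LinearMap.range f = LinearMap.range u := Submodule.range_liftQ _ _ _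
    rw [LinearMap.exact_iff, Submodule.ker_mkQ, hr]
  refine Module.free_of_lTensor_residueField_injective f (LinearMap.range u).mkQ
    (Submodule.mkQ_surjective _) hex ?_
  rw [LinearMap.lTensor_inj_iff_rTensor_inj, injective_iff_map_eq_zero]
  intro w hw
  obtain ⟨z, rfl⟩ := LinearMap.rTensor_surjective k (Submodule.mkQ_surjective (LinearMap.ker u)) w
  rw [← LinearMap.comp_apply, ← LinearMap.rTensor_comp, hfu] at hw
  obtain ⟨x, hx, rfl⟩ := h z hw
  rw [LinearMap.rTensor_tmul, Submodule.mkQ_apply, (Submodule.Quotient.mk_eq_zero _).2 hx,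
    zero_tmul]

end LocalLemma

section Complex

variable {A : Type u} [CommRing A] (P : ChainComplex (ModuleCat.{u} A) ℤ)

/-- Elementwise criterion for `T_j(f)` to be an epimorphism. -/
lemma epi_TFun_map_iff {M' M : ModuleCat.{u} A} (f : M' ⟶ M) (i j l : ℤ)
    (hi : (ComplexShape.down ℤ).prev j = i) (hl : (ComplexShape.down ℤ).next j = l) :
    Epi ((CohIII.TFun P j).map f) ↔
      ∀ z₂ : P.X j ⊗[A] M, (P.d j l).hom.rTensor M z₂ = 0 →
        ∃ z₁ : P.X j ⊗[A] M', (P.d j l).hom.rTensor M' z₁ = 0 ∧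
          z₂ - f.hom.lTensor (P.X j) z₁ ∈ LinearMap.range ((P.d i j).hom.rTensor M) := by
  subst hi hl
  exact epi_homologyMap_iff _

variable [IsLocalRing A]

local notation "k" => IsLocalRing.ResidueField A

/-- The residue map `A → k` as a morphism of `A`-modules. -/
noncomputable abbrev πk : ModuleCat.of A A ⟶ ModuleCat.of A k :=
  ModuleCat.ofHom (Algebra.linearMap A k)

/-- `T_j(A) → T_j(k)` is surjective iff cycles modulo `𝔪` lift to cycles. -/
theorem surjective_TFun_map_residue_iff (i j l : ℤ) (hij : j + 1 = i) (hjl : l + 1 = j) :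
    Function.Surjective ((CohIII.TFun P j).map (πk (A := A))).hom ↔
      ∀ z : P.X j ⊗[A] k, (P.d j l).hom.rTensor k z = 0 →
        ∃ x : P.X j, (P.d j l).hom x = 0 ∧ z = x ⊗ₜ[A] (1 : k) := by
  rw [← ModuleCat.epi_iff_surjective,
    epi_TFun_map_iff P _ i j l (by simp [← hij]) (by simp [← hjl])]
  constructor
  · intro H z hz
    obtain ⟨z₁, hz₁, w, hw⟩ := H z hz
    obtain ⟨y, rfl⟩ := exists_tmul_one w
    -- `z₁ = x₁ ⊗ 1`
    obtain ⟨x₁, rfl⟩ : ∃ x₁ : P.X j, z₁ = x₁ ⊗ₜ[A] (1 : A) :=
      ⟨TensorProduct.rid A (P.X j) z₁,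
        ((TensorProduct.rid A (P.X j)).symm_apply_apply z₁).symm.trans
          (TensorProduct.rid_symm_apply _)⟩
    refine ⟨x₁ + (P.d i j).hom y, ?_, ?_⟩
    · have h1 : (P.d j l).hom x₁ = 0 := by
        have := congrArg (TensorProduct.rid A (P.X l)) hz₁
        simpa using this
      have h2 : (P.d j l).hom ((P.d i j).hom y) = 0 :=
        congrArg (fun f => f.hom y) (P.d_comp_d i j l)
      rw [map_add, h1, h2, add_zero]
    · rw [LinearMap.rTensor_tmul] at hw
      rw [LinearMap.lTensor_tmul] at hw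
      have h3 : (Algebra.linearMap A k) (1 : A) = 1 := by
        rw [Algebra.linearMap_apply, map_one]
      change _ = z - x₁ ⊗ₜ[A] ((Algebra.linearMap A k) 1) at hw
      rw [h3] at hw
      rw [add_tmul, hw]
      abel
  · intro H z₂ hz₂
    obtain ⟨x, hx, rfl⟩ := H z₂ hz₂
    refine ⟨x ⊗ₜ[A] (1 : A), ?_, ?_⟩
    · rw [LinearMap.rTensor_tmul, hx, zero_tmul]
    · have h3 : (Algebra.linearMap A k) (1 : A) = 1 := by
        rw [Algebra.linearMap_apply, map_one]
      have : (πk (A := A)).hom.lTensor (P.X j) (x ⊗ₜ[A] (1 : A)) = x ⊗ₜ[A] (1 : k) := by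
        rw [LinearMap.lTensor_tmul]
        change x ⊗ₜ[A] ((Algebra.linearMap A k) 1) = _
        rw [h3]
      rw [this, sub_self]
      exact Submodule.zero_mem _

end Complex

section Main

variable {A : Type u} [CommRing A] [IsLocalRing A] (P : ChainComplex (ModuleCat.{u} A) ℤ)

local notation "k" => IsLocalRing.ResidueField A

lemma epi_πk : Epi (πk (A := A)) := by
  rw [ModuleCat.epi_iff_surjective]
  exact IsLocalRing.residue_surjective

/-- `T_p` preserves epimorphisms iff `T_p(A) → T_p(k)` is surjective. -/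
theorem preservesEpi_iff_surjective_residue
    (hP : ∀ i, Module.Finite A (P.X i) ∧ Module.Flat A (P.X i)) (p : ℤ) :
    (CohIII.TFun P p).PreservesEpimorphisms ↔
      Function.Surjective ((CohIII.TFun P p).map (πk (A := A))).hom := by
  have hfl := fun i => (hP i).2
  have hfin := fun i => (hP i).1
  constructor
  · intro h
    have := epi_πk (A := A)
    exact (ModuleCat.epi_iff_surjective _).1 (h.preserves (πk (A := A)))
  · intro h
    rw [surjective_TFun_map_residue_iff P (p + 1) p (p - 1) rfl (by ring)] at h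
    have : Module.Free A (P.X (p - 1)) := Module.free_of_flat_of_isLocalRing
    have hfree := free_coker_of_ker_lifts (P.d p (p - 1)).hom h
    rw [preservesEpi_iff_flat P hfl p (p - 1) (by ring)]
    infer_instance

/-- `T_p` is exact iff `T_q(A) → T_q(k)` and `T_p(A) → T_p(k)` are surjective (`q = p + 1`). -/
theorem exact_iff_surjective_residue
    (hP : ∀ i, Module.Finite A (P.X i) ∧ Module.Flat A (P.X i)) (p q : ℤ) (hpq : p + 1 = q) :
    ((CohIII.TFun P p).PreservesMonomorphisms ∧ (CohIII.TFun P p).PreservesEpimorphisms) ↔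
      Function.Surjective ((CohIII.TFun P q).map (πk (A := A))).hom ∧
        Function.Surjective ((CohIII.TFun P p).map (πk (A := A))).hom := by
  have hfl := fun i => (hP i).2
  rw [← preservesEpi_iff_surjective_residue P hP q, ← preservesEpi_iff_surjective_residue P hP p,
    preservesEpi_iff_preservesMono P hfl q p hpq]

end Main

section Vanishing

variable {A : Type u} [CommRing A] (P : ChainComplex (ModuleCat.{u} A) ℤ)

/-- Elementwise criterion for `T_j(M) = 0`. -/
lemma isZero_TFun_obj_iff (M : ModuleCat.{u} A) (i j l : ℤ)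
    (hi : (ComplexShape.down ℤ).prev j = i) (hl : (ComplexShape.down ℤ).next j = l) :
    IsZero ((CohIII.TFun P j).obj M) ↔
      ∀ z : P.X j ⊗[A] M, (P.d j l).hom.rTensor M z = 0 →
        z ∈ LinearMap.range ((P.d i j).hom.rTensor M) := by
  subst hi hl
  change IsZero ((CohIII.tensorObj P M).homology j) ↔ _
  rw [← HomologicalComplex.exactAt_iff_isZero_homology, HomologicalComplex.exactAt_iff,
    ShortComplex.moduleCat_exact_iff]
  rfl

variable [IsLocalRing A]

local notation "k" => IsLocalRing.ResidueField A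

/-- If `T_p(k) = 0` then `T_p(M) = 0` for all `M`. -/
theorem isZero_TFun_obj_of_residue
    (hP : ∀ i, Module.Finite A (P.X i) ∧ Module.Flat A (P.X i)) (p : ℤ)
    (hk : IsZero ((CohIII.TFun P p).obj (ModuleCat.of A k))) (M : ModuleCat.{u} A) :
    IsZero ((CohIII.TFun P p).obj M) := by
  have hfin := fun i => (hP i).1
  have hfl := fun i => (hP i).2
  have hi : (ComplexShape.down ℤ).prev p = p + 1 := by simp
  have hl : (ComplexShape.down ℤ).next p = p - 1 := by simp
  rw [isZero_TFun_obj_iff P _ (p + 1) p (p - 1) hi hl] at hk ⊢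
  have : Module.Free A (P.X (p - 1)) := Module.free_of_flat_of_isLocalRing
  -- the induced map `W_p → P_{p-1}`
  have hle : LinearMap.range (P.d (p + 1) p).hom ≤ LinearMap.ker (P.d p (p - 1)).hom := by
    rintro _ ⟨y, rfl⟩
    exact congrArg (fun f => f.hom y) (P.d_comp_d (p + 1) p (p - 1))
  let dbar : (P.X p ⧸ LinearMap.range (P.d (p + 1) p).hom) →ₗ[A] P.X (p - 1) :=
    (LinearMap.range (P.d (p + 1) p).hom).liftQ (P.d p (p - 1)).hom hle
  have hdbar : dbar ∘ₗ (LinearMap.range (P.d (p + 1) p).hom).mkQ = (P.d p (p - 1)).hom :=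
    Submodule.liftQ_mkQ _ _ _
  have hinj : Function.Injective (dbar.lTensor k) := by
    rw [LinearMap.lTensor_inj_iff_rTensor_inj, injective_iff_map_eq_zero]
    intro w hw
    obtain ⟨z, rfl⟩ := LinearMap.rTensor_surjective k
      (Submodule.mkQ_surjective (LinearMap.range (P.d (p + 1) p).hom)) w
    rw [← LinearMap.comp_apply, ← LinearMap.rTensor_comp, hdbar] at hw
    exact (mem_range_rTensor_iff _ _ z).1 (hk z hw)
  obtain ⟨s, hs⟩ :=
    (IsLocalRing.split_injective_iff_lTensor_residueField_injective dbar).2 hinj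
  intro z hz
  rw [mem_range_rTensor_iff]
  have h1 : (s ∘ₗ dbar ∘ₗ (LinearMap.range (P.d (p + 1) p).hom).mkQ).rTensor M z =
      (LinearMap.range (P.d (p + 1) p).hom).mkQ.rTensor M z := by
    rw [← LinearMap.comp_assoc, hs, LinearMap.id_comp]
  rw [← h1, hdbar, LinearMap.rTensor_comp, LinearMap.comp_apply, hz, map_zero]

end Vanishing

end Groth.Agent.H8.TFun
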