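import Mathlib
import Groth.Agent.Lib.Helper8.TFunFlat

/-!
# `T_p` over a Dedekind domain: exactness in terms of flatness of the homology
-/

set_option autoImplicit false

universe u

open CategoryTheory CategoryTheory.Limits

namespace Groth.Agent.H8.TFun

section Domain

variable {A : Type u} [CommRing A] [IsDomain A]

/-- For a short complex of modules over a domain with torsion-free third term, the cokernel of
the first map is torsion-free iff the homology is. -/
lemma isTorsionFree_coker_iff (S : ShortComplex (ModuleCat.{u} A)) [Module.IsTorsionFree A S.X₃] :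
    Module.IsTorsionFree A (S.X₂ ⧸ LinearMap.range S.f.hom) ↔
      Module.IsTorsionFree A S.homology := by
  let e := S.moduleCatHomologyIso.toLinearEquiv
  have h1 : Module.IsTorsionFree A S.homology ↔
      Module.IsTorsionFree A (LinearMap.ker S.g.hom ⧸ LinearMap.range S.moduleCatToCycles) := by
    constructor
    · intro _
      exact Function.Injective.moduleIsTorsionFree e.symm e.symm.injective (map_smul e.symm)
    · intro h
      have : Module.IsTorsionFree A ↑S.moduleCatLeftHomologyData.H := h
      exact Function.Injective.moduleIsTorsionFree e e.injective (map_smul e)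
  rw [h1, Module.isTorsionFree_iff_smul_eq_zero, Module.isTorsionFree_iff_smul_eq_zero]
  constructor
  · intro H r a hra
    obtain ⟨c, rfl⟩ := Submodule.Quotient.mk_surjective _ a
    rw [← Submodule.Quotient.mk_smul, Submodule.Quotient.mk_eq_zero, mem_range_toCycles_iff] at hra
    rcases H r (Submodule.Quotient.mk (c : S.X₂)) (by
      rw [← Submodule.Quotient.mk_smul, Submodule.Quotient.mk_eq_zero]
      exact hra) with h | h
    · exact Or.inl h
    · right
      rw [Submodule.Quotient.mk_eq_zero] at h
      rw [Submodule.Quotient.mk_eq_zero, mem_range_toCycles_iff]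
      exact h
  · intro H r w hrw
    obtain ⟨x, rfl⟩ := Submodule.Quotient.mk_surjective _ w
    rw [← Submodule.Quotient.mk_smul, Submodule.Quotient.mk_eq_zero] at hrw
    by_cases hr : r = 0
    · exact Or.inl hr
    right
    have hg : S.g.hom x = 0 := by
      have h0 : r • S.g.hom x = 0 := by
        rw [← map_smul]
        obtain ⟨y, hy⟩ := hrw
        rw [← hy]
        exact S.moduleCat_zero_apply y
      exact (smul_eq_zero.1 h0).resolve_left hr
    have hc : x ∈ LinearMap.ker S.g.hom := hg
    rcases H r (Submodule.Quotient.mk ⟨x, hc⟩) (by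
      rw [← Submodule.Quotient.mk_smul, Submodule.Quotient.mk_eq_zero, mem_range_toCycles_iff]
      exact hrw) with h | h
    · exact absurd h hr
    · rw [Submodule.Quotient.mk_eq_zero, mem_range_toCycles_iff] at h
      rw [Submodule.Quotient.mk_eq_zero]
      exact h

end Domain

variable {A : Type u} [CommRing A] [IsDedekindDomain A] (P : ChainComplex (ModuleCat.{u} A) ℤ)

lemma flat_iff_isTorsionFree (M : Type u) [AddCommGroup M] [Module A M] :
    Module.Flat A M ↔ Module.IsTorsionFree A M :=
  ⟨fun _ => inferInstance, fun _ => inferInstance⟩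

/-- Over a Dedekind domain `coker (d : P_i → P_j)` is flat iff `H_j(P)` is flat. -/
lemma flat_coker_iff_flat_homology (hP : ∀ i, Module.Flat A (P.X i)) (i j : ℤ)
    (hi : (ComplexShape.down ℤ).prev j = i) :
    Module.Flat A (P.X j ⧸ LinearMap.range (P.d i j).hom) ↔ Module.Flat A (P.homology j) := by
  subst hi
  have := hP ((ComplexShape.down ℤ).next j)
  have : Module.IsTorsionFree A (P.sc j).X₃ :=
    inferInstanceAs (Module.IsTorsionFree A (P.X ((ComplexShape.down ℤ).next j)))
  rw [flat_iff_isTorsionFree, flat_iff_isTorsionFree]
  exact isTorsionFree_coker_iff (P.sc j)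

theorem preservesMono_iff_flat_homology (hP : ∀ i, Module.Flat A (P.X i)) (p : ℤ) :
    (CohIII.TFun P p).PreservesMonomorphisms ↔ Module.Flat A (P.homology p) := by
  rw [preservesMono_iff_flat P hP (p + 1) p rfl,
    flat_coker_iff_flat_homology P hP (p + 1) p (by simp)]

theorem preservesEpi_iff_flat_homology (hP : ∀ i, Module.Flat A (P.X i)) (p q : ℤ)
    (hpq : q + 1 = p) :
    (CohIII.TFun P p).PreservesEpimorphisms ↔ Module.Flat A (P.homology q) := by
  rw [preservesEpi_iff_flat P hP p q hpq,
    flat_coker_iff_flat_homology P hP p q (by simp [← hpq])]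

end Groth.Agent.H8.TFun
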