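import Mathlib

/-!
# Coset prime avoidance (helper8)
-/

namespace Groth.Agent.H8

open Ideal

/-- Coset prime avoidance: if none of the finitely many primes `p ∈ P` contains `I + (x)`,
then some element of the coset `x + I` avoids all `p ∈ P`. -/
theorem exists_add_notMem_of_primes {R : Type*} [CommRing R] (I : Ideal R) (x : R)
    (P : Finset (Ideal R))
    (hP : ∀ p ∈ P, p.IsPrime ∧ ¬ (I ⊔ Ideal.span {x} ≤ p)) :
    ∃ y ∈ I, ∀ p ∈ P, x + y ∉ p := by
  classical
  induction' h : P.card with n ih generalizing P
  · refine ⟨0, I.zero_mem, ?_⟩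
    have : P = ∅ := Finset.card_eq_zero.mp h
    simp [this]
  · have hne : P.Nonempty := by rw [← Finset.card_pos]; omega
    obtain ⟨q, hqP, hqmin⟩ := P.exists_minimal hne
    have hcard : (P.erase q).card = n := by rw [Finset.card_erase_of_mem hqP]; omega
    obtain ⟨y, hyI, hy⟩ := ih (P.erase q) (fun p hp => hP p (Finset.mem_of_mem_erase hp)) hcard
    by_cases hxq : x + y ∈ q
    · have hqprime : q.IsPrime := (hP q hqP).1
      have hIq : ¬ I ≤ q := by
        intro hIq
        apply (hP q hqP).2
        refine sup_le hIq ?_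
        rw [Ideal.span_singleton_le_iff_mem]
        have : x = (x + y) - y := by ring
        rw [this]
        exact q.sub_mem hxq (hIq hyI)
      have hprod : ¬ (I * ∏ p ∈ P.erase q, p) ≤ q := by
        rw [hqprime.mul_le, hqprime.prod_le]
        rintro (h | ⟨p, hp, hpq⟩)
        · exact hIq h
        · have hpP : p ∈ P := Finset.mem_of_mem_erase hp
          have hne : p ≠ q := Finset.ne_of_mem_erase hp
          exact hne (le_antisymm hpq (hqmin hpP hpq))
      obtain ⟨t, ht, htq⟩ := SetLike.not_le_iff_exists.mp hprod
      have htI : t ∈ I := (Ideal.mul_le_left (I := I) (J := ∏ p ∈ P.erase q, p)) ht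
      have htp : ∀ p ∈ P.erase q, t ∈ p := by
        intro p hp
        have h1 : t ∈ ∏ p ∈ P.erase q, p := (Ideal.mul_le_right (I := I) (J := ∏ p ∈ P.erase q, p)) ht
        exact (Ideal.prod_le_inf.trans (Finset.inf_le hp)) h1
      refine ⟨y + t, I.add_mem hyI htI, ?_⟩
      intro p hp hmem
      by_cases hpq : p = q
      · subst hpq
        apply htq
        have : t = (x + (y + t)) - (x + y) := by ring
        rw [this]
        exact p.sub_mem hmem hxq
      · have hp' : p ∈ P.erase q := Finset.mem_erase.mpr ⟨hpq, hp⟩
        apply hy p hp'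
        have : x + y = (x + (y + t)) - t := by ring
        rw [this]
        exact p.sub_mem hmem (htp p hp')
    · refine ⟨y, hyI, ?_⟩
      intro p hp
      by_cases hpq : p = q
      · subst hpq; exact hxq
      · exact hy p (Finset.mem_erase.mpr ⟨hpq, hp⟩)

end Groth.Agent.H8
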