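import Mathlib
import Groth.Prelude.Def_GrMap

/-!
Criteria for injectivity / surjectivity of `AssocGr.map`, and the formally etale case.
-/

set_option autoImplicit false
universe u v

namespace Groth.Agent.H8.GrMapBij

open Polynomial AssocGr

variable {A : Type u} {B : Type v} [CommRing A] [CommRing B] {φ : A →+* B}
  {𝓕 : FiltBl.IdealFiltration A} {𝓖 : FiltBl.IdealFiltration B}

theorem map_injective (h : IsFiltHom φ 𝓕 𝓖)
    (hinj : ∀ n, ∀ a ∈ 𝓕.F n, φ a ∈ 𝓖.F (n + 1) → a ∈ 𝓕.F (n + 1)) :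
    Function.Injective (AssocGr.map h) := by
  rw [injective_iff_map_eq_zero]
  intro x hx
  obtain ⟨f, rfl⟩ := mkG_surjective 𝓕 x
  rw [map_mkG, mkG_eq_zero_iff, mem_succIdeal_iff] at hx
  rw [mkG_eq_zero_iff, mem_succIdeal_iff]
  intro n
  have := hx n
  rw [coe_reesMap, coeff_map] at this
  exact hinj n _ (f.2 n) this

theorem map_surjective (h : IsFiltHom φ 𝓕 𝓖)
    (hsurj : ∀ n, ∀ b ∈ 𝓖.F n, ∃ a ∈ 𝓕.F n, b - φ a ∈ 𝓖.F (n + 1)) :
    Function.Surjective (AssocGr.map h) := by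
  classical
  intro y
  obtain ⟨g, rfl⟩ := mkG_surjective 𝓖 y
  have hc : ∀ n, ∃ a ∈ 𝓕.F n, (g : B[X]).coeff n - φ a ∈ 𝓖.F (n + 1) :=
    fun n => hsurj n _ (g.2 n)
  choose a ha ha' using hc
  have hcoeff : ∀ m, (∑ n ∈ (g : B[X]).support, monomial n (a n)).coeff m
      = if m ∈ (g : B[X]).support then a m else 0 := by
    intro m
    rw [finsetSum_coeff]
    simp only [coeff_monomial]
    rw [Finset.sum_ite_eq' (g : B[X]).support m]
  have hf : (∑ n ∈ (g : B[X]).support, monomial n (a n)) ∈ 𝓕.rees := by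
    intro m
    rw [hcoeff]
    split_ifs
    · exact ha m
    · exact Ideal.zero_mem _
  refine ⟨mkG 𝓕 ⟨_, hf⟩, ?_⟩
  rw [map_mkG, ← sub_eq_zero, ← map_sub, mkG_eq_zero_iff, mem_succIdeal_iff]
  intro m
  rw [Subalgebra.coe_sub, coe_reesMap, coeff_sub, coeff_map]
  show φ ((∑ n ∈ (g : B[X]).support, monomial n (a n)).coeff m) - (g : B[X]).coeff m ∈ _
  rw [hcoeff]
  split_ifs with hm
  · have := ha' m
    rw [← neg_sub]
    exact Ideal.neg_mem_iff _ |>.2 this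
  · rw [map_zero, zero_sub, notMem_support_iff.1 hm, neg_zero]
    exact Ideal.zero_mem _

theorem map_bijective (h : IsFiltHom φ 𝓕 𝓖)
    (hinj : ∀ n, ∀ a ∈ 𝓕.F n, φ a ∈ 𝓖.F (n + 1) → a ∈ 𝓕.F (n + 1))
    (hsurj : ∀ n, ∀ b ∈ 𝓖.F n, ∃ a ∈ 𝓕.F n, b - φ a ∈ 𝓖.F (n + 1)) :
    Function.Bijective (AssocGr.map h) :=
  ⟨map_injective h hinj, map_surjective h hsurj⟩

/-- Converse: surjectivity of the graded map gives the degreewise approximation. -/
theorem approx_of_map_surjective (h : IsFiltHom φ 𝓕 𝓖)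
    (hs : Function.Surjective (AssocGr.map h)) :
    ∀ n, ∀ b ∈ 𝓖.F n, ∃ a ∈ 𝓕.F n, b - φ a ∈ 𝓖.F (n + 1) := by
  intro n b hb
  obtain ⟨x, hx⟩ := hs (inDeg 𝓖 n ⟨b, hb⟩ : GrRing 𝓖)
  obtain ⟨f, rfl⟩ := mkG_surjective 𝓕 x
  refine ⟨(f : A[X]).coeff n, f.2 n, ?_⟩
  rw [map_mkG, coe_inDeg, ← sub_eq_zero, ← map_sub, mkG_eq_zero_iff, mem_succIdeal_iff] at hx
  have := hx n
  rw [Subalgebra.coe_sub, coe_reesMap, coeff_sub, coeff_map, coe_coe_monom, coeff_monomial,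
    if_pos rfl] at this
  rw [← neg_sub]
  exact Ideal.neg_mem_iff _ |>.2 this

/-- Converse: injectivity of the graded map gives the degreewise statement. -/
theorem of_map_injective (h : IsFiltHom φ 𝓕 𝓖)
    (hi : Function.Injective (AssocGr.map h)) :
    ∀ n, ∀ a ∈ 𝓕.F n, φ a ∈ 𝓖.F (n + 1) → a ∈ 𝓕.F (n + 1) := by
  intro n a ha hφa
  have h1 : AssocGr.map h (inDeg 𝓕 n ⟨a, ha⟩ : GrRing 𝓕) = 0 := by
    rw [map_inDeg, Submodule.coe_eq_zero, inDeg_eq_zero_iff]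
    exact hφa
  have h2 := hi (h1.trans (map_zero _).symm)
  rwa [Submodule.coe_eq_zero, inDeg_eq_zero_iff] at h2

end Groth.Agent.H8.GrMapBij
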