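import Mathlib

set_option autoImplicit false

universe u

namespace Groth.Agent.H8.Split

open Polynomial

lemma adjoinRoot_nontrivial {R : Type*} [CommRing R] [Nontrivial R] (f : R[X]) (hf : f.Monic)
    (hdeg : f.natDegree ≠ 0) : Nontrivial (AdjoinRoot f) := by
  refine Ideal.Quotient.nontrivial_iff.mpr ?_
  rw [Ne, Ideal.span_singleton_eq_top]
  intro hu
  rw [hf.isUnit_iff] at hu
  rw [hu, natDegree_one] at hdeg
  exact hdeg rfl

/-- Existence of a finite free, finitely presented algebra over which a monic polynomial splits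
into linear factors (the universal splitting algebra, constructed by iterated root adjunction). -/
theorem exists_splitting_algebra (n : ℕ) : ∀ (R : Type u) [CommRing R] (f : R[X]), f.Monic →
    f.natDegree = n →
    ∃ (S' : Type u) (_ : CommRing S') (_ : Algebra R S'),
      Module.Finite R S' ∧ Module.Free R S' ∧ Algebra.FinitePresentation R S' ∧
      Function.Injective (algebraMap R S') ∧
      ∃ u : Fin n → S', f.map (algebraMap R S') = ∏ i, (X - C (u i)) := by
  induction n with
  | zero =>
    intro R _ f hf hdeg
    refine ⟨R, inferInstance, inferInstance, inferInstance, inferInstance, inferInstance,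
      Function.injective_id, Fin.elim0, ?_⟩
    rw [hf.natDegree_eq_zero.mp hdeg]
    simp
  | succ n ih =>
    intro R _ f hf hdeg
    rcases subsingleton_or_nontrivial R with hR | hR
    · exact ⟨R, inferInstance, inferInstance, inferInstance, inferInstance, inferInstance,
        Function.injective_id, fun _ => 0, Subsingleton.elim _ _⟩
    -- first adjoin a root
    obtain ⟨S₁, hS₁⟩ : ∃ S₁ : Type u, S₁ = AdjoinRoot f := ⟨_, rfl⟩
    haveI : Nontrivial (AdjoinRoot f) := adjoinRoot_nontrivial f hf (by omega)
    haveI : Module.Free R (AdjoinRoot f) := hf.free_adjoinRoot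
    haveI : Module.Finite R (AdjoinRoot f) := hf.finite_adjoinRoot
    have hinj₁ : Function.Injective (algebraMap R (AdjoinRoot f)) :=
      FaithfulSMul.algebraMap_injective R (AdjoinRoot f)
    set r : AdjoinRoot f := AdjoinRoot.root f with hr
    have hroot : (f.map (algebraMap R (AdjoinRoot f))).IsRoot r := AdjoinRoot.isRoot_root f
    have hfac : (X - C r) * (f.map (algebraMap R (AdjoinRoot f)) /ₘ (X - C r))
        = f.map (algebraMap R (AdjoinRoot f)) :=
      Polynomial.mul_divByMonic_eq_iff_isRoot.mpr hroot
    set f₁ := f.map (algebraMap R (AdjoinRoot f)) /ₘ (X - C r) with hf₁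
    have hmonic₁ : f₁.Monic := by
      have h1 : ((X - C r) * f₁).Monic := by rw [hfac]; exact hf.map _
      exact (monic_X_sub_C r).of_mul_monic_left h1
    have hdeg₁ : f₁.natDegree = n := by
      have h1 := congrArg natDegree hfac
      rw [(monic_X_sub_C r).natDegree_mul hmonic₁, natDegree_X_sub_C,
        hf.natDegree_map, hdeg] at h1
      omega
    obtain ⟨S', _, _, hfin, hfree, hfp, hinj, u, hu⟩ := ih (AdjoinRoot f) f₁ hmonic₁ hdeg₁
    letI : Algebra R S' := ((algebraMap (AdjoinRoot f) S').comp (algebraMap R (AdjoinRoot f))).toAlgebra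
    haveI : IsScalarTower R (AdjoinRoot f) S' := IsScalarTower.of_algebraMap_eq fun x => rfl
    refine ⟨S', inferInstance, inferInstance, Module.Finite.trans (AdjoinRoot f) S',
      Module.Free.trans (R := R) (S := AdjoinRoot f) (M := S'),
      Algebra.FinitePresentation.trans R (AdjoinRoot f) S', hinj.comp hinj₁,
      Fin.cons (algebraMap (AdjoinRoot f) S' r) u, ?_⟩
    rw [IsScalarTower.algebraMap_eq R (AdjoinRoot f) S', ← Polynomial.map_map, ← hfac,
      Polynomial.map_mul, hu, Fin.prod_univ_succ]
    simp


theorem exists_splitting_algebra_list_aux (m : ℕ) : ∀ (R : Type u) [CommRing R] (l : List R[X]),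
    l.length = m → (∀ f ∈ l, f.Monic) →
    ∃ (S' : Type u) (_ : CommRing S') (_ : Algebra R S'),
      Module.Finite R S' ∧ Module.Free R S' ∧ Algebra.FinitePresentation R S' ∧
      Function.Injective (algebraMap R S') ∧
      ∀ f ∈ l, ∃ (n : ℕ) (u : Fin n → S'), f.map (algebraMap R S') = ∏ i, (X - C (u i)) := by
  induction m with
  | zero =>
    intro R _ l hlen _
    rw [List.length_eq_zero_iff] at hlen
    subst hlen
    exact ⟨R, inferInstance, inferInstance, inferInstance, inferInstance, inferInstance,
      Function.injective_id, by simp⟩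
  | succ m ih =>
    intro R _ l hlen hl
    obtain ⟨f, l, rfl⟩ := List.exists_cons_of_length_eq_add_one hlen
    obtain ⟨S₁, _, _, hfin₁, hfree₁, hfp₁, hinj₁, u₁, hu₁⟩ :=
      exists_splitting_algebra f.natDegree R f (hl f (List.mem_cons_self)) rfl
    obtain ⟨S', _, _, hfin, hfree, hfp, hinj, hspl⟩ :=
      ih S₁ (l.map (Polynomial.map (algebraMap R S₁))) (by simpa using hlen) (by
        intro g hg
        obtain ⟨g₀, hg₀, rfl⟩ := List.mem_map.mp hg
        exact (hl g₀ (List.mem_cons_of_mem _ hg₀)).map _)
    letI : Algebra R S' := ((algebraMap S₁ S').comp (algebraMap R S₁)).toAlgebra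
    haveI : IsScalarTower R S₁ S' := IsScalarTower.of_algebraMap_eq fun x => rfl
    refine ⟨S', inferInstance, inferInstance, Module.Finite.trans S₁ S',
      Module.Free.trans (R := R) (S := S₁) (M := S'),
      Algebra.FinitePresentation.trans R S₁ S', hinj.comp hinj₁, ?_⟩
    intro g hg
    rcases List.mem_cons.mp hg with rfl | hg
    · refine ⟨_, fun i => algebraMap S₁ S' (u₁ i), ?_⟩
      rw [IsScalarTower.algebraMap_eq R S₁ S', ← Polynomial.map_map, hu₁, Polynomial.map_prod]
      simp
    · obtain ⟨n, u, hu⟩ := hspl (g.map (algebraMap R S₁)) (List.mem_map_of_mem hg)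
      refine ⟨n, u, ?_⟩
      rw [IsScalarTower.algebraMap_eq R S₁ S', ← Polynomial.map_map, hu]

/-- A finite free finitely presented algebra over which each polynomial in a given list of monic
polynomials splits into linear factors. -/
theorem exists_splitting_algebra_list (R : Type u) [CommRing R] (l : List R[X])
    (hl : ∀ f ∈ l, f.Monic) :
    ∃ (S' : Type u) (_ : CommRing S') (_ : Algebra R S'),
      Module.Finite R S' ∧ Module.Free R S' ∧ Algebra.FinitePresentation R S' ∧
      Function.Injective (algebraMap R S') ∧
      ∀ f ∈ l, ∃ (n : ℕ) (u : Fin n → S'), f.map (algebraMap R S') = ∏ i, (X - C (u i)) :=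
  exists_splitting_algebra_list_aux l.length R l rfl hl

end Groth.Agent.H8.Split
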