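import Mathlib
import Groth.Agent.Lib.Helper8.Split

set_option autoImplicit false

universe u v w

namespace Groth.Agent.H8.Split

open Polynomial TensorProduct

/-- Two primes over the same prime of `R` admit a common field "containing" both residue fields. -/
theorem exists_common_field {R : Type u} {E : Type v} {S' : Type w} [CommRing R] [CommRing E]
    [Algebra R E] [CommRing S']
    [Algebra R S'] (q₁ : Ideal E) [q₁.IsPrime] (q' : Ideal S') [q'.IsPrime]
    (hq : q'.under R = q₁.under R) :
    ∃ (Ω : Type (max v w)) (_ : Field Ω) (a : E →+* Ω) (b : S' →+* Ω),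
      RingHom.ker a = q₁ ∧ RingHom.ker b = q' ∧
      a.comp (algebraMap R E) = b.comp (algebraMap R S') := by
  obtain ⟨p, hp⟩ : ∃ p : Ideal R, p = q₁.under R := ⟨_, rfl⟩
  haveI : p.IsPrime := hp ▸ inferInstance
  let ι₁ : p.ResidueField →ₐ[R] q₁.ResidueField :=
    Ideal.ResidueField.mapₐ p q₁ (Algebra.ofId R E) hp
  let ι' : p.ResidueField →ₐ[R] q'.ResidueField :=
    Ideal.ResidueField.mapₐ p q' (Algebra.ofId R S') (hp.trans hq.symm)
  letI : Algebra p.ResidueField q₁.ResidueField := ι₁.toRingHom.toAlgebra
  letI : Algebra p.ResidueField q'.ResidueField := ι'.toRingHom.toAlgebra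
  obtain ⟨M, hM⟩ := Ideal.exists_maximal (q₁.ResidueField ⊗[p.ResidueField] q'.ResidueField)
  letI : Field ((q₁.ResidueField ⊗[p.ResidueField] q'.ResidueField) ⧸ M) := Ideal.Quotient.field M
  let a₀ : q₁.ResidueField →+* (q₁.ResidueField ⊗[p.ResidueField] q'.ResidueField) ⧸ M :=
    (Ideal.Quotient.mk M).comp
      (Algebra.TensorProduct.includeLeft (R := p.ResidueField) (S := p.ResidueField)
        (A := q₁.ResidueField) (B := q'.ResidueField)).toRingHom
  let b₀ : q'.ResidueField →+* (q₁.ResidueField ⊗[p.ResidueField] q'.ResidueField) ⧸ M :=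
    (Ideal.Quotient.mk M).comp
      (Algebra.TensorProduct.includeRight (R := p.ResidueField)
        (A := q₁.ResidueField) (B := q'.ResidueField)).toRingHom
  refine ⟨_, inferInstance, a₀.comp (algebraMap E q₁.ResidueField),
    b₀.comp (algebraMap S' q'.ResidueField), ?_, ?_, ?_⟩
  · rw [← RingHom.comap_ker, (RingHom.injective_iff_ker_eq_bot a₀).mp a₀.injective,
      ← RingHom.ker_eq_comap_bot, Ideal.ker_algebraMap_residueField]
  · rw [← RingHom.comap_ker, (RingHom.injective_iff_ker_eq_bot b₀).mp b₀.injective,
      ← RingHom.ker_eq_comap_bot, Ideal.ker_algebraMap_residueField]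
  · ext r
    simp only [RingHom.coe_comp, Function.comp_apply]
    have h1 : algebraMap E q₁.ResidueField (algebraMap R E r)
        = algebraMap p.ResidueField q₁.ResidueField (algebraMap R p.ResidueField r) := by
      rw [← IsScalarTower.algebraMap_apply]
      exact (ι₁.commutes r).symm
    have h2 : algebraMap S' q'.ResidueField (algebraMap R S' r)
        = algebraMap p.ResidueField q'.ResidueField (algebraMap R p.ResidueField r) := by
      rw [← IsScalarTower.algebraMap_apply]
      exact (ι'.commutes r).symm
    rw [h1, h2]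
    generalize algebraMap R p.ResidueField r = z
    show Ideal.Quotient.mk M (algebraMap p.ResidueField q₁.ResidueField _ ⊗ₜ 1)
      = Ideal.Quotient.mk M (1 ⊗ₜ algebraMap p.ResidueField q'.ResidueField _)
    congr 1
    rw [Algebra.algebraMap_eq_smul_one, Algebra.algebraMap_eq_smul_one, TensorProduct.smul_tmul]


/-- Pointwise domination of a standard étale algebra by a splitting algebra. -/
theorem exists_hom_away {R : Type u} {E : Type v} {S' : Type w} [CommRing R] [CommRing E]
    [Algebra R E] [CommRing S'] [Algebra R S']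
    (P : StandardEtalePresentation R E) {n : ℕ} (u : Fin n → S')
    (hu : P.f.map (algebraMap R S') = ∏ i, (X - C (u i)))
    (q₁ : Ideal E) [q₁.IsPrime] (q' : Ideal S') [q'.IsPrime] (hq : q'.under R = q₁.under R) :
    ∃ i, aeval (u i) P.g ∉ q' ∧ ∃ ψ : E →ₐ[R] Localization.Away (aeval (u i) P.g),
      (q'.map (algebraMap S' (Localization.Away (aeval (u i) P.g)))).comap ψ.toRingHom = q₁ := by
  obtain ⟨Ω, _, a, b, ha, hb, hab⟩ := exists_common_field q₁ q' hq
  letI : Algebra R Ω := (a.comp (algebraMap R E)).toAlgebra
  let α : E →ₐ[R] Ω := { a with commutes' := fun r => rfl }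
  let β₀ : S' →ₐ[R] Ω := { b with commutes' := fun r => (congrFun (congrArg DFunLike.coe hab) r).symm }
  -- choose `i`
  have hfx : aeval (α P.x) P.f = 0 := by
    rw [aeval_algHom_apply, P.hasMap.1, map_zero]
  have hprod : (P.f.map (algebraMap R Ω)) = ∏ i, (X - C (b (u i))) := by
    have : algebraMap R Ω = b.comp (algebraMap R S') := hab
    rw [this, ← Polynomial.map_map, hu, Polynomial.map_prod]
    simp
  have hev : ∏ i, (α P.x - b (u i)) = 0 := by
    have := congrArg (Polynomial.eval (α P.x)) hprod
    rw [eval_map_algebraMap, hfx, eval_prod] at this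
    simpa using this.symm
  obtain ⟨i, -, hi⟩ := Finset.prod_eq_zero_iff.mp hev
  rw [sub_eq_zero] at hi
  refine ⟨i, ?_, ?_⟩
  · -- `g(u i) ∉ q'`
    rw [← hb, RingHom.mem_ker]
    have h1 : b (aeval (u i) P.g) = aeval (b (u i)) P.g := by
      have := aeval_algHom_apply β₀ (u i) P.g
      exact this.symm
    rw [h1, ← hi, aeval_algHom_apply]
    exact (P.hasMap.2.map α).ne_zero
  · -- the map
    have hgu : b (aeval (u i) P.g) ≠ 0 := by
      have h1 : b (aeval (u i) P.g) = aeval (b (u i)) P.g := by
        have := aeval_algHom_apply β₀ (u i) P.g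
        exact this.symm
      rw [h1, ← hi, aeval_algHom_apply]
      exact (P.hasMap.2.map α).ne_zero
    set g'' := aeval (u i) P.g with hg''
    let y : Localization.Away g'' := algebraMap S' _ (u i)
    have hy : P.P.HasMap y := by
      constructor
      · show aeval (algebraMap S' (Localization.Away g'') (u i)) P.f = 0
        rw [aeval_algebraMap_apply]
        have : aeval (u i) P.f = 0 := by
          have := congrArg (Polynomial.eval (u i)) hu
          rw [eval_map_algebraMap, eval_prod] at this
          rw [this]
          exact Finset.prod_eq_zero (Finset.mem_univ i) (by simp)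
        rw [this, map_zero]
      · show IsUnit (aeval (algebraMap S' (Localization.Away g'') (u i)) P.g)
        rw [aeval_algebraMap_apply]
        exact IsLocalization.Away.algebraMap_isUnit g''
    let ψ : E →ₐ[R] Localization.Away g'' := (P.P.lift y hy).comp P.equivRing.toAlgHom
    have hψx : ψ P.x = y := by
      show P.P.lift y hy (P.equivRing P.x) = y
      rw [P.equivRing_x, StandardEtalePair.lift_X]
    -- the map `Away g'' → Ω`
    let lb₀ : Localization.Away g'' →+* Ω :=
      IsLocalization.Away.lift g'' (g := b) (isUnit_iff_ne_zero.mpr hgu)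
    have hlb₀ : ∀ s : S', lb₀ (algebraMap S' _ s) = b s := fun s =>
      IsLocalization.Away.lift_eq g'' _ s
    let lb : Localization.Away g'' →ₐ[R] Ω :=
      { lb₀ with
        commutes' := by
          intro r
          show lb₀ (algebraMap R _ r) = _
          rw [IsScalarTower.algebraMap_apply R S' (Localization.Away g''), hlb₀]
          exact (congrFun (congrArg DFunLike.coe hab) r).symm }
    have hαβ : α = lb.comp ψ := by
      apply P.hom_ext
      show α P.x = lb₀ (ψ P.x)
      rw [hψx, hlb₀, hi]
    have hker : RingHom.ker lb₀ = q'.map (algebraMap S' (Localization.Away g'')) := by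
      rw [← IsLocalization.map_under (Submonoid.powers g'') (Localization.Away g'')
        (RingHom.ker lb₀)]
      congr 1
      ext s
      rw [Ideal.mem_comap, RingHom.mem_ker, hlb₀, ← hb, RingHom.mem_ker]
    refine ⟨ψ, ?_⟩
    ext c
    rw [Ideal.mem_comap, ← hker, RingHom.mem_ker, ← ha, RingHom.mem_ker]
    show lb₀ (ψ c) = 0 ↔ α c = 0
    rw [hαβ]
    rfl

end Groth.Agent.H8.Split
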