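import Mathlib

/-!
# Normal rings and minimal primes
-/

namespace Groth.Agent.H8.NMP

variable {R : Type*} [CommRing R]

theorem exists_mul_eq_zero_of_mem_minimalPrimes (P : Ideal R) [P.IsPrime]
    [IsDomain (Localization.AtPrime P)] {p : Ideal R} (hp : p ∈ minimalPrimes R) (hpP : p ≤ P)
    {a : R} (ha : a ∈ p) : ∃ s, s ∉ P ∧ s * a = 0 := by
  let K := RingHom.ker (algebraMap R (Localization.AtPrime P))
  have hK : K.IsPrime := RingHom.ker_isPrime _
  have hKp : K ≤ p := by
    intro b hb
    rw [RingHom.mem_ker, IsLocalization.map_eq_zero_iff P.primeCompl] at hb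
    obtain ⟨s, hs⟩ := hb
    have : (s : R) * b ∈ p := by rw [hs]; exact p.zero_mem
    rcases hp.1.1.mem_or_mem this with h | h
    · exact absurd (hpP h) s.2
    · exact h
  have hpK : p ≤ K := hp.2 ⟨hK, bot_le⟩ hKp
  have := hpK ha
  rw [RingHom.mem_ker, IsLocalization.map_eq_zero_iff P.primeCompl] at this
  obtain ⟨s, hs⟩ := this
  exact ⟨s, s.2, hs⟩

theorem isCoprime_of_minimalPrimes
    (hR : ∀ m : Ideal R, ∀ _ : m.IsMaximal, IsDomain (Localization.AtPrime m))
    {p p' : Ideal R} (hp : p ∈ minimalPrimes R) (hp' : p' ∈ minimalPrimes R) (hne : p ≠ p') :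
    IsCoprime p p' := by
  rw [Ideal.isCoprime_iff_sup_eq]
  by_contra h
  obtain ⟨m, hm, hle⟩ := Ideal.exists_le_maximal _ h
  haveI := hR m hm
  apply hne
  have h1 : p ≤ p' := by
    intro a ha
    obtain ⟨s, hs, hsa⟩ := exists_mul_eq_zero_of_mem_minimalPrimes m hp (le_sup_left.trans hle) ha
    have : s * a ∈ p' := by rw [hsa]; exact p'.zero_mem
    rcases hp'.1.1.mem_or_mem this with h | h
    · exact absurd ((le_sup_right.trans hle) h) hs
    · exact h
  exact le_antisymm h1 (hp'.2 ⟨hp.1.1, bot_le⟩ h1)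

theorem isIntegrallyClosed_quotient_minimalPrime
    (hR : ∀ (P : Ideal R) [P.IsPrime],
      IsDomain (Localization.AtPrime P) ∧ IsIntegrallyClosed (Localization.AtPrime P))
    {p : Ideal R} [p.IsPrime] (hp : p ∈ minimalPrimes R) : IsIntegrallyClosed (R ⧸ p) := by
  refine IsIntegrallyClosed.of_localization_maximal fun P' _ _ => ?_
  let π := Ideal.Quotient.mk p
  let P : Ideal R := P'.comap π
  haveI : P.IsPrime := Ideal.comap_isPrime _ _
  obtain ⟨h1, h2⟩ := hR P
  have hpP : p ≤ P := by
    intro a ha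
    show π a ∈ P'
    rw [Ideal.Quotient.eq_zero_iff_mem.mpr ha]
    exact P'.zero_mem
  let φ := Localization.localRingHom P P' π rfl
  have hφ : Function.Bijective φ := by
    constructor
    · rw [injective_iff_map_eq_zero]
      intro y hy
      obtain ⟨a, s, rfl⟩ := IsLocalization.exists_mk'_eq P.primeCompl y
      rw [Localization.localRingHom_mk', IsLocalization.mk'_eq_zero_iff] at hy
      obtain ⟨u', hu'⟩ := hy
      obtain ⟨u, hu⟩ := Ideal.Quotient.mk_surjective (u' : R ⧸ p)
      have huP : u ∉ P := by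
        intro h
        apply u'.2
        rw [← hu]
        exact h
      have hua : u * a ∈ p := by
        rw [← Ideal.Quotient.eq_zero_iff_mem, map_mul, hu]
        exact hu'
      have hap : a ∈ p := by
        rcases ‹p.IsPrime›.mem_or_mem hua with h | h
        · exact absurd (hpP h) huP
        · exact h
      obtain ⟨t, ht, hta⟩ := exists_mul_eq_zero_of_mem_minimalPrimes P hp hpP hap
      rw [IsLocalization.mk'_eq_zero_iff]
      exact ⟨⟨t, ht⟩, hta⟩
    · intro x
      obtain ⟨d', s', rfl⟩ := IsLocalization.exists_mk'_eq P'.primeCompl x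
      obtain ⟨d, rfl⟩ := Ideal.Quotient.mk_surjective d'
      obtain ⟨s, hs⟩ := Ideal.Quotient.mk_surjective (s' : R ⧸ p)
      have hsP : s ∈ P.primeCompl := by
        show s ∉ P
        intro h
        apply s'.2
        rw [← hs]
        exact h
      refine ⟨IsLocalization.mk' _ d ⟨s, hsP⟩, ?_⟩
      rw [Localization.localRingHom_mk']
      congr 1
      exact Subtype.ext hs
  exact IsIntegrallyClosed.of_equiv (RingEquiv.ofBijective φ hφ)

end Groth.Agent.H8.NMP
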