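import Mathlib
import Groth.Agent.Lib.Helper8.SmoothNormalRing
import Groth.Agent.Lib.Helper8.NormalMinPrimes
set_option autoImplicit false
universe u
open scoped nonZeroDivisors

namespace Groth.Agent.H8.FEN

variable (R S : Type u) [CommRing R] [IsDomain R] [CommRing S] [Algebra R S]

/-- A finite flat algebra over a domain has finitely many minimal primes. -/
theorem finite_minimalPrimes_of_finite_flat [Module.Finite R S] [Module.Flat R S] :
    (minimalPrimes S).Finite := by
  classical
  let M := Algebra.algebraMapSubmonoid S R⁰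
  let T := Localization M
  haveI : IsArtinianRing T := IsArtinianRing.of_finite (FractionRing R) T
  have hM : M ≤ S⁰ := by
    rintro _ ⟨r, hr, rfl⟩
    have hr0 : r ≠ 0 := nonZeroDivisors.ne_zero hr
    have hreg : IsSMulRegular S r := Module.Flat.isSMulRegular_of_isRegular (IsRegular.of_ne_zero hr0)
    rw [mem_nonZeroDivisors_iff_right]
    intro x hx
    apply hreg
    simp only [smul_zero]
    rw [Algebra.smul_def, mul_comm]; exact hx
  let e := IsLocalization.orderIsoOfPrime M T
  haveI : Finite {p : Ideal T // p.IsPrime} :=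
    Finite.of_injective (fun p => (⟨p.1, p.2⟩ : PrimeSpectrum T)) (fun p q h => by
      apply Subtype.ext; exact congrArg PrimeSpectrum.asIdeal h)
  haveI : Finite {p : Ideal S // p.IsPrime ∧ Disjoint (M : Set S) p} := Finite.of_equiv _ e.toEquiv
  refine (Set.finite_range (fun x : {p : Ideal S // p.IsPrime ∧ Disjoint (M : Set S) p} => x.1)).subset ?_
  intro p hp
  refine ⟨⟨p, hp.1.1, ?_⟩, rfl⟩
  have := Ideal.disjoint_nonZeroDivisors_of_mem_minimalPrimes hp
  exact (Set.disjoint_of_subset_right (fun x hx => hM hx) this).symm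


omit [IsDomain R] in
/-- In a reduced ring with finitely many minimal primes, all of whose local rings are domains,
each minimal prime is generated by an idempotent. -/
theorem exists_idempotent_of_minimalPrime [IsReduced S] (hfin : (minimalPrimes S).Finite)
    (hloc : ∀ m : Ideal S, ∀ _ : m.IsMaximal, IsDomain (Localization.AtPrime m))
    {P : Ideal S} (hP : P ∈ minimalPrimes S) :
    ∃ e : S, IsIdempotentElem e ∧ P = Ideal.span {1 - e} := by
  classical
  set F := hfin.toFinset.erase P with hF
  set J : Ideal S := ⨅ p ∈ F, p with hJ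
  have h1 : P ⊔ J = ⊤ := by
    apply Ideal.sup_iInf_eq_top
    intro p hp
    rw [hF, Finset.mem_erase, Set.Finite.mem_toFinset] at hp
    exact Ideal.isCoprime_iff_sup_eq.mp
      (Groth.Agent.H8.NMP.isCoprime_of_minimalPrimes hloc hP hp.2 (Ne.symm hp.1))
  have h2 : P ⊓ J = ⊥ := by
    rw [eq_bot_iff]
    intro x hx
    have hx' : x ∈ sInf (minimalPrimes S) := by
      rw [Ideal.mem_sInf]
      intro q hq
      by_cases hqP : q = P
      · rw [hqP]; exact hx.1
      · have : J ≤ q := by
          rw [hJ]
          exact iInf₂_le (f := fun p (_ : p ∈ F) => p) q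
            (by rw [hF, Finset.mem_erase, Set.Finite.mem_toFinset]; exact ⟨hqP, hq⟩)
        exact this hx.2
    have : sInf (minimalPrimes S) = (⊥ : Ideal S).radical := Ideal.sInf_minimalPrimes
    rw [this] at hx'
    have h0 : (⊥ : Ideal S).radical = ⊥ := by
      have := nilradical_eq_zero S
      rwa [nilradical] at this
    rw [h0] at hx'
    exact hx'
  have h3 : (1 : S) ∈ P ⊔ J := by rw [h1]; trivial
  obtain ⟨a, ha, e, he, hae⟩ := Submodule.mem_sup.mp h3
  have hmul : ∀ x ∈ P, x * e = 0 := by
    intro x hx
    have : x * e ∈ P ⊓ J := ⟨P.mul_mem_right _ hx, J.mul_mem_left _ he⟩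
    rw [h2] at this
    exact this
  refine ⟨e, ?_, ?_⟩
  · have : a * e = 0 := hmul a ha
    calc e * e = (a + e) * e - a * e := by ring
      _ = e := by rw [hae, this]; ring
  · have h1e : 1 - e = a := by rw [← hae]; ring
    rw [h1e]
    apply le_antisymm
    · intro x hx
      rw [Ideal.mem_span_singleton']
      refine ⟨x, ?_⟩
      calc x * a = x * (a + e) - x * e := by ring
        _ = x := by rw [hae, hmul x hx]; ring
    · rw [Ideal.span_le, Set.singleton_subset_iff]; exact ha


/-- A prime of a finite étale algebra over a normal domain lying over zero is generated by an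
idempotent, and the quotient is an integrally closed domain. -/
theorem main [IsIntegrallyClosed R] [Module.Finite R S] [Algebra.Etale R S]
    (P : Ideal S) [P.IsPrime] (hP : P.comap (algebraMap R S) = ⊥) :
    (∃ e : S, IsIdempotentElem e ∧ P = Ideal.span {1 - e}) ∧ IsIntegrallyClosed (S ⧸ P) := by
  have hnorm : ∀ (q : Ideal S) [q.IsPrime],
      IsDomain (Localization.AtPrime q) ∧ IsIntegrallyClosed (Localization.AtPrime q) :=
    fun q _ => Groth.Agent.H8.SmNR.normal_localization_of_smooth_domain R S q
  haveI : IsReduced S := isReduced_ofLocalizationMaximal S (fun m hm => by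
    haveI := (hnorm m).1
    infer_instance)
  haveI : Algebra.IsIntegral R S := inferInstance
  have hPmin : P ∈ minimalPrimes S := by
    refine ⟨⟨inferInstance, bot_le⟩, ?_⟩
    rintro q ⟨hq, -⟩ hqP
    by_contra hne
    obtain ⟨x, hxP, hxq⟩ := SetLike.not_le_iff_exists.mp hne
    have := Ideal.comap_lt_comap_of_integral_mem_sdiff (R := R) hqP ⟨hxP, hxq⟩
      (Algebra.IsIntegral.isIntegral x)
    rw [hP] at this
    exact not_lt_bot this
  refine ⟨exists_idempotent_of_minimalPrime S (finite_minimalPrimes_of_finite_flat R S)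
    (fun m hm => (hnorm m).1) hPmin, ?_⟩
  exact Groth.Agent.H8.NMP.isIntegrallyClosed_quotient_minimalPrime (fun q _ => hnorm q) hPmin

end Groth.Agent.H8.FEN
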