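import Mathlib
set_option autoImplicit false
universe u

namespace Groth.Agent.H8.ICR

/-- An integrally closed domain `D` embedded in a field `K₁` that it generates (as a field)
contains every element of `K₁` integral over it. -/
theorem mem_range_of_eval₂_eq_zero (D K₁ : Type u) [CommRing D] [IsDomain D] [IsIntegrallyClosed D]
    [Field K₁] (ι : D →+* K₁) (hι : Function.Injective ι)
    (hgen : Subfield.closure (Set.range ι) = ⊤) (x : K₁) (p : Polynomial D) (hp : p.Monic)
    (hx : p.eval₂ ι x = 0) : x ∈ Set.range ι := by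
  let lft : FractionRing D →+* K₁ := IsFractionRing.lift (A := D) (K := FractionRing D) (g := ι) hι
  have hlft : ∀ d : D, lft (algebraMap D (FractionRing D) d) = ι d :=
    fun d => IsFractionRing.lift_algebraMap (A := D) (K := FractionRing D) (g := ι) hι d
  have hF : lft.fieldRange = ⊤ := by
    rw [eq_top_iff, ← hgen, Subfield.closure_le]
    rintro y ⟨d, rfl⟩
    exact ⟨algebraMap D _ d, hlft d⟩
  have hx' : x ∈ lft.fieldRange := by rw [hF]; trivial
  obtain ⟨y, rfl⟩ := hx'
  have hyint : IsIntegral D y := by
    refine ⟨p, hp, ?_⟩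
    apply lft.injective
    rw [Polynomial.hom_eval₂, map_zero, ← hx]
    congr 1
    ext a
    simp only [RingHom.comp_apply]
    rw [hlft]
  obtain ⟨d, rfl⟩ := IsIntegrallyClosed.algebraMap_eq_of_integral hyint
  exact ⟨d, (hlft d).symm⟩

end Groth.Agent.H8.ICR
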