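import Mathlib
import Groth.Agent.Lib.Helper8.FinEtNormal
import Groth.Agent.Lib.Helper8.ICRange
set_option autoImplicit false
universe u

namespace Groth.Agent.H8.FEIC

/-- Let `R` be a normal domain, `S` a finite étale `R`-algebra and `μ : S → K₁` an `R`-algebra map to
a field extension of `R` generated by the image. Then the image of `μ` is the integral closure of
`R` in `K₁`, and it is étale over `R`. -/
theorem main (R S K₁ : Type u) [CommRing R] [IsDomain R] [IsIntegrallyClosed R] [CommRing S]
    [Algebra R S] [Module.Finite R S] [Algebra.Etale R S] [Field K₁] [Algebra R K₁]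
    (hinj : Function.Injective (algebraMap R K₁)) (μ : S →ₐ[R] K₁)
    (hgen : Subfield.closure (μ.range : Set K₁) = ⊤) :
    integralClosure R K₁ = μ.range ∧ Algebra.Etale R μ.range := by
  classical
  set P : Ideal S := RingHom.ker μ with hP
  haveI : P.IsPrime := RingHom.ker_isPrime μ
  have hPbot : P.comap (algebraMap R S) = ⊥ := by
    rw [eq_bot_iff]
    intro a ha
    rw [Ideal.mem_comap, hP, RingHom.mem_ker, AlgHom.commutes] at ha
    rw [Ideal.mem_bot]
    exact hinj (by rw [ha, map_zero])
  obtain ⟨⟨e, he, hPe⟩, hIC⟩ := Groth.Agent.H8.FEN.main R S P hPbot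
  haveI : Algebra.IsIntegral R S := inferInstance
  have hIC2 : integralClosure R K₁ = μ.range := by
    apply le_antisymm
    · intro x hx
      haveI : IsDomain (S ⧸ P) := Ideal.Quotient.isDomain P
      let ι : S ⧸ P →+* K₁ := Ideal.Quotient.lift P (μ : S →+* K₁) (fun a ha => by
        rw [hP, RingHom.mem_ker] at ha; exact ha)
      have hι : ∀ c : S, ι (Ideal.Quotient.mk P c) = μ c := fun c => Ideal.Quotient.lift_mk _ _ _
      have hιinj : Function.Injective ι := by
        rw [injective_iff_map_eq_zero]
        intro d hd
        obtain ⟨c, rfl⟩ := Ideal.Quotient.mk_surjective d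
        rw [hι] at hd
        rw [Ideal.Quotient.eq_zero_iff_mem, hP, RingHom.mem_ker]
        exact hd
      have hrange : Set.range ι = (μ.range : Set K₁) := by
        ext y
        constructor
        · rintro ⟨d, rfl⟩
          obtain ⟨c, rfl⟩ := Ideal.Quotient.mk_surjective d
          exact ⟨c, (hι c).symm⟩
        · rintro ⟨c, rfl⟩
          exact ⟨Ideal.Quotient.mk P c, hι c⟩
      obtain ⟨p, hpm, hp0⟩ := hx
      have := Groth.Agent.H8.ICR.mem_range_of_eval₂_eq_zero (S ⧸ P) K₁ ι hιinj (by rw [hrange]; exact hgen) x
        (p.map (algebraMap R (S ⧸ P))) (hpm.map _) (by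
          rw [Polynomial.eval₂_map, ← hp0]
          congr 1
          ext a
          simp only [RingHom.comp_apply]
          show ι (Ideal.Quotient.mk P (algebraMap R S a)) = _
          rw [hι, AlgHom.commutes])
      rw [hrange] at this
      exact this
    · rintro _ ⟨y, rfl⟩
      exact (Algebra.IsIntegral.isIntegral (R := R) y).map μ
  refine ⟨hIC2, ?_⟩
  let ρ : S →ₐ[R] μ.range := μ.rangeRestrict
  letI : Algebra S μ.range := ρ.toRingHom.toAlgebra
  haveI : IsScalarTower R S μ.range := IsScalarTower.of_algebraMap_eq (fun a => by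
    show _ = ρ (algebraMap R S a)
    rw [AlgHom.commutes])
  have hsurj : Function.Surjective (algebraMap S μ.range) := μ.rangeRestrict_surjective
  have hker : RingHom.ker (algebraMap S μ.range) = Ideal.span {1 - e} := by
    rw [← hPe, hP]
    ext c
    rw [RingHom.mem_ker, RingHom.mem_ker]
    show ρ c = 0 ↔ _
    rw [← Subtype.coe_inj]
    rfl
  haveI : IsLocalization.Away e μ.range := IsLocalization.away_of_isIdempotentElem he hker hsurj
  haveI : Algebra.Etale S μ.range := Algebra.Etale.of_isLocalizationAway e
  exact Algebra.Etale.comp R S μ.range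

end Groth.Agent.H8.FEIC
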