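import Mathlib

/-!
# The multiplication of a group object is a base change of the structure morphism
-/

set_option autoImplicit false

universe v u

open CategoryTheory CategoryTheory.Limits MonoidalCategory CartesianMonoidalCategory MonObj

namespace Groth.Agent.H8.GrpObjSq

variable {C : Type u} [Category.{v} C] [CartesianMonoidalCategory C] (G : C) [GrpObj G]

/-- The square `μ, pr₂, G → 1, G → 1` is cartesian. -/
theorem isPullback_mul_snd : IsPullback μ[G] (snd G G) (toUnit G) (toUnit G) := by
  refine ⟨⟨toUnit_unique _ _⟩, ⟨PullbackCone.IsLimit.mk _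
    (fun c => lift (c.fst * (c.snd)⁻¹) c.snd) ?_ ?_ ?_⟩⟩
  · intro c
    rw [← Hom.mul_def, inv_mul_cancel_right]
  · intro c
    rw [lift_snd]
  · intro c m h1 h2
    apply CartesianMonoidalCategory.hom_ext
    · rw [lift_fst, ← h1, ← h2, ← lift_comp_fst_snd m, ← Hom.mul_def, lift_snd, lift_fst,
        mul_inv_cancel_right]
    · rw [lift_snd, h2]

end Groth.Agent.H8.GrpObjSq
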