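import Mathlib

/-!
# Homogeneous prime avoidance (helper8)
-/

namespace Groth.Agent.H8

open Ideal DirectSum

variable {R : Type*} {A : Type*} [CommRing R] [CommRing A] [Algebra R A]
  (𝒜 : ℕ → Submodule R A) [GradedRing 𝒜]

theorem isHomogeneous_finset_prod {ι : Type*} (s : Finset ι) (f : ι → Ideal A)
    (h : ∀ i ∈ s, (f i).IsHomogeneous 𝒜) : (∏ i ∈ s, f i).IsHomogeneous 𝒜 := by
  classical
  induction s using Finset.induction_on with
  | empty =>
    simp only [Finset.prod_empty, Ideal.one_eq_top]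
    exact Ideal.IsHomogeneous.top 𝒜
  | insert a s ha ih =>
    rw [Finset.prod_insert ha]
    exact (h a (Finset.mem_insert_self a s)).mul
      (ih fun i hi => h i (Finset.mem_insert_of_mem hi))

/-- A homogeneous ideal not contained in `q` has a homogeneous element not in `q`. -/
theorem exists_homogeneous_notMem {K q : Ideal A} (hK : K.IsHomogeneous 𝒜) (hKq : ¬ K ≤ q) :
    ∃ (t : A) (m : ℕ), t ∈ 𝒜 m ∧ t ∈ K ∧ t ∉ q := by
  classical
  by_contra hcon
  push Not at hcon
  apply hKq
  intro x hx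
  rw [← DirectSum.sum_support_decompose 𝒜 x]
  refine q.sum_mem fun i _ => ?_
  exact hcon _ i (SetLike.coe_mem _) (hK i hx)

/-- Homogeneous prime avoidance for homogeneous primes. -/
theorem exists_homogeneous_avoid_of_homogeneous (K : Ideal A) (hK : K.IsHomogeneous 𝒜)
    (hKirr : K ≤ (HomogeneousIdeal.irrelevant 𝒜).toIdeal) (P : Finset (Ideal A))
    (hP : ∀ p ∈ P, p.IsPrime ∧ p.IsHomogeneous 𝒜 ∧ ¬ K ≤ p) :
    ∃ (z : A) (n : ℕ), 0 < n ∧ z ∈ 𝒜 n ∧ z ∈ K ∧ ∀ p ∈ P, z ∉ p := by
  classical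
  induction' h : P.card with k ih generalizing P
  · refine ⟨0, 1, Nat.one_pos, Submodule.zero_mem _, K.zero_mem, ?_⟩
    have : P = ∅ := Finset.card_eq_zero.mp h
    simp [this]
  · have hne : P.Nonempty := by rw [← Finset.card_pos]; omega
    obtain ⟨q, hqP, hqmin⟩ := P.exists_minimal hne
    have hcard : (P.erase q).card = k := by rw [Finset.card_erase_of_mem hqP]; omega
    obtain ⟨z, n, hn, hzn, hzK, hz⟩ :=
      ih (P.erase q) (fun p hp => hP p (Finset.mem_of_mem_erase hp)) hcard
    by_cases hzq : z ∈ q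
    · have hqprime : q.IsPrime := (hP q hqP).1
      have hKq : ¬ K ≤ q := (hP q hqP).2.2
      have hprod : ¬ (K * ∏ p ∈ P.erase q, p) ≤ q := by
        rw [hqprime.mul_le, hqprime.prod_le]
        rintro (h | ⟨p, hp, hpq⟩)
        · exact hKq h
        · have hpP : p ∈ P := Finset.mem_of_mem_erase hp
          have hne : p ≠ q := Finset.ne_of_mem_erase hp
          exact hne (le_antisymm hpq (hqmin hpP hpq))
      have hLhom : (K * ∏ p ∈ P.erase q, p).IsHomogeneous 𝒜 :=
        hK.mul (isHomogeneous_finset_prod 𝒜 _ _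
          fun p hp => (hP p (Finset.mem_of_mem_erase hp)).2.1)
      obtain ⟨t, m, htm, ht, htq⟩ := exists_homogeneous_notMem 𝒜 hLhom hprod
      have htK : t ∈ K := (Ideal.mul_le_left (I := K) (J := ∏ p ∈ P.erase q, p)) ht
      have htp : ∀ p ∈ P.erase q, t ∈ p := by
        intro p hp
        have h1 : t ∈ ∏ p ∈ P.erase q, p :=
          (Ideal.mul_le_right (I := K) (J := ∏ p ∈ P.erase q, p)) ht
        exact (Ideal.prod_le_inf.trans (Finset.inf_le hp)) h1
      have hm : 0 < m := by
        rcases Nat.eq_zero_or_pos m with rfl | hm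
        · exfalso
          apply htq
          have h0 : t ∈ (HomogeneousIdeal.irrelevant 𝒜).toIdeal := hKirr htK
          rw [HomogeneousIdeal.mem_iff, HomogeneousIdeal.mem_irrelevant_iff,
            GradedRing.proj_apply, DirectSum.decompose_of_mem_same _ htm] at h0
          rw [h0]; exact q.zero_mem
        · exact hm
      refine ⟨z ^ m + t ^ n, n * m, Nat.mul_pos hn hm, ?_, ?_, ?_⟩
      · refine Submodule.add_mem _ ?_ ?_
        · have := SetLike.pow_mem_graded m hzn
          simpa [smul_eq_mul, mul_comm] using this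
        · have := SetLike.pow_mem_graded n htm
          simpa [smul_eq_mul, mul_comm] using this
      · exact K.add_mem (K.pow_mem_of_mem hzK m hm) (K.pow_mem_of_mem htK n hn)
      · intro p hp hmem
        by_cases hpq : p = q
        · subst hpq
          have h1 : t ^ n ∈ p := by
            have : t ^ n = (z ^ m + t ^ n) - z ^ m := by ring
            rw [this]
            exact p.sub_mem hmem (p.pow_mem_of_mem hzq m hm)
          exact htq (hqprime.mem_of_pow_mem n h1)
        · have hp' : p ∈ P.erase q := Finset.mem_erase.mpr ⟨hpq, hp⟩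
          have hpprime : p.IsPrime := (hP p hp).1
          have h1 : z ^ m ∈ p := by
            have : z ^ m = (z ^ m + t ^ n) - t ^ n := by ring
            rw [this]
            exact p.sub_mem hmem (p.pow_mem_of_mem (htp p hp') n hn)
          exact hz p hp' (hpprime.mem_of_pow_mem m h1)
    · refine ⟨z, n, hn, hzn, hzK, ?_⟩
      intro p hp
      by_cases hpq : p = q
      · subst hpq; exact hzq
      · exact hz p (Finset.mem_erase.mpr ⟨hpq, hp⟩)

/-- Homogeneous prime avoidance. -/
theorem exists_homogeneous_avoid (J : Ideal A) (hJ : J.IsHomogeneous 𝒜) (P : Finset (Ideal A))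
    (hP : ∀ p ∈ P, p.IsPrime ∧ ¬ (HomogeneousIdeal.irrelevant 𝒜).toIdeal ≤ p ∧ ¬ J ≤ p) :
    ∃ (z : A) (n : ℕ), 0 < n ∧ z ∈ 𝒜 n ∧ z ∈ J ∧ ∀ p ∈ P, z ∉ p := by
  classical
  set K : Ideal A := J * (HomogeneousIdeal.irrelevant 𝒜).toIdeal with hKdef
  have hK : K.IsHomogeneous 𝒜 := hJ.mul (HomogeneousIdeal.irrelevant 𝒜).isHomogeneous
  have hKirr : K ≤ (HomogeneousIdeal.irrelevant 𝒜).toIdeal := Ideal.mul_le_right
  have hKJ : K ≤ J := Ideal.mul_le_left
  obtain ⟨z, n, hn, hzn, hzK, hz⟩ := exists_homogeneous_avoid_of_homogeneous 𝒜 K hK hKirr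
    (P.image fun p => (p.homogeneousCore 𝒜).toIdeal) (by
      intro p' hp'
      rw [Finset.mem_image] at hp'
      obtain ⟨p, hp, rfl⟩ := hp'
      obtain ⟨hpp, hirr, hJp⟩ := hP p hp
      refine ⟨hpp.homogeneousCore, (p.homogeneousCore 𝒜).isHomogeneous, ?_⟩
      intro hle
      have h2 : K ≤ p := hle.trans (Ideal.toIdeal_homogeneousCore_le 𝒜 p)
      rw [hKdef, hpp.mul_le] at h2
      rcases h2 with h2 | h2
      · exact hJp h2
      · exact hirr h2)
  refine ⟨z, n, hn, hzn, hKJ hzK, ?_⟩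
  intro p hp hzp
  exact hz _ (Finset.mem_image_of_mem _ hp)
    (Ideal.mem_homogeneousCore_of_homogeneous_of_mem ⟨n, hzn⟩ hzp)

end Groth.Agent.H8
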