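import Mathlib

/-! Length sub-additivity lemmas. -/

namespace Groth.Agent.H8

open Module

variable {R : Type*} [CommRing R]

/-- Sub-additivity of length along a (right-)exact sequence. -/
lemma length_le_add_of_exact {M N P : Type*} [AddCommGroup M] [AddCommGroup N] [AddCommGroup P]
    [Module R M] [Module R N] [Module R P]
    (f : N →ₗ[R] M) (g : M →ₗ[R] P) (hg : Function.Surjective g) (H : Function.Exact f g) :
    Module.length R M ≤ Module.length R N + Module.length R P := by
  rw [Module.length_eq_add_of_exact (LinearMap.ker g).subtype g (Submodule.subtype_injective _) hg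
    (LinearMap.exact_subtype_ker_map g)]
  gcongr
  have hker : LinearMap.ker g = LinearMap.range f := (LinearMap.exact_iff.mp H)
  rw [hker]
  exact Module.length_le_of_surjective f.rangeRestrict f.surjective_rangeRestrict

/-- `ℓ(A/(I + (ab))) ≤ ℓ(A/(I + (a))) + ℓ(A/(I + (b)))`. -/
lemma length_quotient_sup_span_mul_le (I : Ideal R) (a b : R) :
    Module.length R (R ⧸ (I ⊔ Ideal.span {a * b})) ≤
      Module.length R (R ⧸ (I ⊔ Ideal.span {a})) + Module.length R (R ⧸ (I ⊔ Ideal.span {b})) := by
  have hle : I ⊔ Ideal.span {a * b} ≤ I ⊔ Ideal.span {a} :=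
    sup_le_sup_left (Ideal.span_singleton_le_span_singleton.mpr (dvd_mul_right a b)) I
  have hmul : I ⊔ Ideal.span {b} ≤ Submodule.comap (LinearMap.mulLeft R a) (I ⊔ Ideal.span {a * b}) := by
    intro x hx
    rw [Submodule.mem_comap, LinearMap.mulLeft_apply]
    obtain ⟨i, hi, y, hy, rfl⟩ := Submodule.mem_sup.mp hx
    obtain ⟨c, rfl⟩ := Ideal.mem_span_singleton.mp hy
    rw [mul_add]
    refine Ideal.add_mem _ (Ideal.mem_sup_left (Ideal.mul_mem_left _ _ hi)) (Ideal.mem_sup_right ?_)
    rw [← mul_assoc]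
    exact Ideal.mul_mem_right _ _ (Ideal.mem_span_singleton_self _)
  let f : (R ⧸ (I ⊔ Ideal.span {b})) →ₗ[R] (R ⧸ (I ⊔ Ideal.span {a * b})) :=
    Submodule.mapQ _ _ (LinearMap.mulLeft R a) hmul
  let g : (R ⧸ (I ⊔ Ideal.span {a * b})) →ₗ[R] (R ⧸ (I ⊔ Ideal.span {a})) :=
    Submodule.mapQ _ _ LinearMap.id hle
  have hg : Function.Surjective g := by
    intro y
    obtain ⟨y, rfl⟩ := Submodule.Quotient.mk_surjective _ y
    exact ⟨Submodule.Quotient.mk y, rfl⟩
  have H : Function.Exact f g := by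
    intro y
    obtain ⟨y, rfl⟩ := Submodule.Quotient.mk_surjective _ y
    constructor
    · intro hy
      have hy' : y ∈ I ⊔ Ideal.span {a} := by
        have : g (Submodule.Quotient.mk y) = Submodule.Quotient.mk y := rfl
        rw [this, Submodule.Quotient.mk_eq_zero] at hy
        exact hy
      obtain ⟨i, hi, z, hz, rfl⟩ := Submodule.mem_sup.mp hy'
      obtain ⟨c, rfl⟩ := Ideal.mem_span_singleton.mp hz
      refine ⟨Submodule.Quotient.mk c, ?_⟩
      have : f (Submodule.Quotient.mk c) = Submodule.Quotient.mk (a * c) := rfl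
      rw [this, eq_comm, ← sub_eq_zero, ← Submodule.Quotient.mk_sub, Submodule.Quotient.mk_eq_zero]
      simpa using Ideal.mem_sup_left hi
    · rintro ⟨c, hc⟩
      obtain ⟨c, rfl⟩ := Submodule.Quotient.mk_surjective _ c
      have h1 : f (Submodule.Quotient.mk c) = Submodule.Quotient.mk (a * c) := rfl
      rw [← hc, h1]
      have : g (Submodule.Quotient.mk (a * c)) = Submodule.Quotient.mk (a * c) := rfl
      rw [this, Submodule.Quotient.mk_eq_zero]
      exact Ideal.mem_sup_right (Ideal.mul_mem_right _ _ (Ideal.mem_span_singleton_self _))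
  rw [add_comm]
  exact length_le_add_of_exact f g hg H

/-- `ℓ(A/(I + (∏ a_σ))) ≤ ∑ ℓ(A/(I + (a_σ)))`. -/
lemma length_quotient_sup_span_prod_le {κ : Type*} (I : Ideal R) (s : Finset κ) (a : κ → R) :
    Module.length R (R ⧸ (I ⊔ Ideal.span {∏ σ ∈ s, a σ})) ≤
      ∑ σ ∈ s, Module.length R (R ⧸ (I ⊔ Ideal.span {a σ})) := by
  classical
  induction s using Finset.induction_on with
  | empty =>
    have h1 : I ⊔ Ideal.span {∏ σ ∈ (∅ : Finset κ), a σ} = ⊤ := by
      rw [Finset.prod_empty, Ideal.span_singleton_one, sup_top_eq]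
    have : Subsingleton (R ⧸ (I ⊔ Ideal.span {∏ σ ∈ (∅ : Finset κ), a σ})) :=
      Ideal.Quotient.subsingleton_iff.mpr h1
    rw [Module.length_eq_zero_iff.mpr this]
    exact zero_le
  | insert x s hx ih =>
    rw [Finset.prod_insert hx, Finset.sum_insert hx]
    exact (length_quotient_sup_span_mul_le I _ _).trans (by gcongr)

end Groth.Agent.H8
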