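import Mathlib

/-!
Successive approximation in an `I`-adically precomplete ring against a `J`-adically separated
target.
-/

set_option autoImplicit false
universe u v

namespace Groth.Agent.H8.AdicLift

variable {A : Type u} {B : Type v} [CommRing A] [CommRing B]

theorem mem_pow_smul_top {R : Type*} [CommRing R] (I : Ideal R) (n : ℕ) (x : R) :
    x ∈ (I ^ n • ⊤ : Submodule R R) ↔ x ∈ I ^ n := by
  have : (I ^ n • ⊤ : Ideal R) = I ^ n := by rw [smul_eq_mul, Ideal.mul_top]
  constructor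
  · intro h
    have h' : x ∈ (I ^ n • ⊤ : Ideal R) := h
    rwa [this] at h'
  · intro h
    have h' : x ∈ (I ^ n • ⊤ : Ideal R) := by rwa [this]
    exact h'

/-- A sequence with `f (k+1) - f k ∈ I^k` converges if the ring is precomplete. -/
theorem exists_limit (I : Ideal A) [IsPrecomplete I A] (f : ℕ → A)
    (hdiff : ∀ k, f (k + 1) - f k ∈ I ^ k) :
    ∃ L : A, ∀ n, f n - L ∈ I ^ n := by
  have hcauchy : ∀ {p q : ℕ}, p ≤ q → f p ≡ f q [SMOD (I ^ p • ⊤ : Submodule A A)] := by
    intro p q hpq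
    induction q, hpq using Nat.le_induction with
    | base => exact SModEq.refl _
    | succ q hpq ih =>
      refine ih.trans ?_
      rw [SModEq.sub_mem, mem_pow_smul_top]
      have := Ideal.pow_le_pow_right hpq (hdiff q)
      rw [← neg_sub]
      exact Ideal.neg_mem_iff _ |>.2 this
  obtain ⟨L, hL⟩ := IsPrecomplete.prec' (I := I) f hcauchy
  refine ⟨L, fun n => ?_⟩
  have := hL n
  rwa [SModEq.sub_mem, mem_pow_smul_top] at this

theorem exact_lift (φ : A →+* B) (I : Ideal A) (J : Ideal B)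
    (hIJ : I.map φ ≤ J) [IsPrecomplete I A] [IsHausdorff J B]
    (happ : ∀ n, ∀ b ∈ J ^ n, ∃ a ∈ I ^ n, b - φ a ∈ J ^ (n + 1)) (m : ℕ) (b : B)
    (hb : b ∈ J ^ m) :
    ∃ a ∈ I ^ m, φ a = b := by
  classical
  have hφpow : ∀ n, ∀ a ∈ I ^ n, φ a ∈ J ^ n := by
    intro n a ha
    have h1 : (I ^ n).map φ ≤ J ^ n := by
      rw [Ideal.map_pow]; exact Ideal.pow_right_mono hIJ n
    exact h1 (Ideal.mem_map_of_mem _ ha)
  have step : ∀ k (s : A), b - φ s ∈ J ^ (m + k) →
      ∃ c ∈ I ^ (m + k), b - φ (s + c) ∈ J ^ (m + k + 1) := by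
    intro k s hs
    obtain ⟨c, hc, hc'⟩ := happ (m + k) _ hs
    exact ⟨c, hc, by rw [map_add, ← sub_sub]; exact hc'⟩
  choose c hc hc' using step
  let next : ℕ → A → A := fun k s => if h : b - φ s ∈ J ^ (m + k) then s + c k s h else s
  let f : ℕ → A := fun k => Nat.rec (motive := fun _ => A) 0 (fun k s => next k s) k
  have hf0 : f 0 = 0 := rfl
  have hfs : ∀ k, f (k + 1) = next k (f k) := fun k => rfl
  have hinv : ∀ k, f k ∈ I ^ m ∧ b - φ (f k) ∈ J ^ (m + k) := by
    intro k
    induction k with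
    | zero =>
      rw [hf0, map_zero, sub_zero]
      exact ⟨zero_mem _, hb⟩
    | succ k ih =>
      rw [hfs]
      simp only [next, dif_pos ih.2]
      refine ⟨add_mem ih.1 (Ideal.pow_le_pow_right (Nat.le_add_right m k) (hc k _ ih.2)), ?_⟩
      exact hc' k _ ih.2
  have hdiff : ∀ k, f (k + 1) - f k ∈ I ^ k := by
    intro k
    rw [hfs]
    simp only [next, dif_pos (hinv k).2, add_sub_cancel_left]
    exact Ideal.pow_le_pow_right (Nat.le_add_left k m) (hc k _ (hinv k).2)
  obtain ⟨L, hL⟩ := exists_limit I f hdiff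
  have hLm : L ∈ I ^ m := by
    have h1 := hL m
    have h2 := (hinv m).1
    have : L = f m - (f m - L) := by ring
    rw [this]
    exact sub_mem h2 h1
  refine ⟨L, hLm, ?_⟩
  have hzero : b - φ L = 0 := by
    apply IsHausdorff.haus' (I := J) (b - φ L)
    intro n
    rw [SModEq.sub_mem, sub_zero, mem_pow_smul_top]
    have h1 : b - φ L = (b - φ (f n)) + φ (f n - L) := by rw [map_sub]; ring
    rw [h1]
    refine add_mem ?_ (hφpow n _ (hL n))
    exact Ideal.pow_le_pow_right (Nat.le_add_left n m) (hinv n).2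
  exact (sub_eq_zero.1 hzero).symm

/-- If every level can be exactly lifted, the target is precomplete. -/
theorem precomplete_of_lift (φ : A →+* B) (I : Ideal A) (J : Ideal B)
    (hIJ : I.map φ ≤ J) [IsPrecomplete I A]
    (hlift : ∀ m, ∀ b ∈ J ^ m, ∃ a ∈ I ^ m, φ a = b) : IsPrecomplete J B := by
  classical
  have hφpow : ∀ n, ∀ a ∈ I ^ n, φ a ∈ J ^ n := by
    intro n a ha
    have h1 : (I ^ n).map φ ≤ J ^ n := by
      rw [Ideal.map_pow]; exact Ideal.pow_right_mono hIJ n
    exact h1 (Ideal.mem_map_of_mem _ ha)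
  refine ⟨fun g hg => ?_⟩
  have hg' : ∀ n, g (n + 1) - g n ∈ J ^ n := by
    intro n
    have := hg (Nat.le_succ n)
    rw [SModEq.sub_mem, mem_pow_smul_top] at this
    rw [← neg_sub]
    exact Ideal.neg_mem_iff _ |>.2 this
  obtain ⟨a0, -, ha0⟩ := hlift 0 (g 0) (by simp)
  have hc : ∀ n, ∃ c ∈ I ^ n, φ c = g (n + 1) - g n := fun n => hlift n _ (hg' n)
  choose c hcI hcφ using hc
  let f : ℕ → A := fun n => a0 + ∑ i ∈ Finset.range n, c i
  have hφf : ∀ n, φ (f n) = g n := by
    intro n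
    simp only [f, map_add, map_sum, hcφ, ha0]
    rw [Finset.sum_range_sub]
    ring
  have hdiff : ∀ k, f (k + 1) - f k ∈ I ^ k := by
    intro k
    simp only [f, Finset.sum_range_succ]
    have : a0 + (∑ x ∈ Finset.range k, c x + c k) - (a0 + ∑ i ∈ Finset.range k, c i) = c k := by
      ring
    rw [this]
    exact hcI k
  obtain ⟨L, hL⟩ := exists_limit I f hdiff
  refine ⟨φ L, fun n => ?_⟩
  rw [SModEq.sub_mem, mem_pow_smul_top, ← hφf n, ← map_sub]
  exact hφpow n _ (hL n)

end Groth.Agent.H8.AdicLift
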