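import Mathlib

/-!
# Big algebraically closed extensions of a field are isomorphic over it
-/

set_option autoImplicit false

universe u

open Cardinal

namespace Groth.Agent.H8.AlgClosedIso

/-- A transcendence basis of a big algebraically closed extension has the cardinality of the
extension. -/
lemma card_basis_eq {k K : Type u} [Field k] [Field K] [Algebra k K] [IsAlgClosed K] {ι : Type u}
    (v : ι → K) (hv : IsTranscendenceBasis k v) (hk : #k < #K) (hK : ℵ₀ < #K) : #ι = #K := by
  apply le_antisymm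
  · exact Cardinal.mk_le_of_injective hv.1.injective
  · have h := IsAlgClosed.cardinal_le_max_transcendence_basis' v hv
    by_contra hlt
    push Not at hlt
    have : max (max #k #ι) ℵ₀ < #K := max_lt (max_lt hk hlt) hK
    exact absurd h (not_le.2 this)

/-- Two algebraically closed extensions of `k` of the same cardinality, bigger than that of `k`
and uncountable, are isomorphic over `k`. -/
theorem exists_ringEquiv {k K L : Type u} [Field k] [Field K] [Field L] [Algebra k K]
    [Algebra k L] [IsAlgClosed K] [IsAlgClosed L] (hKL : #K = #L) (hk : #k < #K) (hK : ℵ₀ < #K) :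
    ∃ e : K ≃+* L, ∀ x : k, e (algebraMap k K x) = algebraMap k L x := by
  obtain ⟨s₁, hs₁⟩ := exists_isTranscendenceBasis k K
  obtain ⟨s₂, hs₂⟩ := exists_isTranscendenceBasis k L
  have c₁ : #s₁ = #K := card_basis_eq _ hs₁ hk hK
  have c₂ : #s₂ = #L := card_basis_eq _ hs₂ (hKL ▸ hk) (hKL ▸ hK)
  obtain ⟨e₀⟩ : Nonempty (s₁ ≃ s₂) := Cardinal.eq.1 (by rw [c₁, c₂, hKL])
  let E : Algebra.adjoin k (Set.range ((↑) : s₁ → K)) ≃ₐ[k]
      Algebra.adjoin k (Set.range ((↑) : s₂ → L)) :=
    hs₁.1.aevalEquiv.symm.trans ((MvPolynomial.renameEquiv k e₀).trans hs₂.1.aevalEquiv)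
  let _ := IsAlgClosed.isAlgClosure_of_transcendence_basis _ hs₁
  let _ := IsAlgClosed.isAlgClosure_of_transcendence_basis _ hs₂
  refine ⟨IsAlgClosure.equivOfEquiv K L E.toRingEquiv, fun x => ?_⟩
  rw [IsScalarTower.algebraMap_apply k (Algebra.adjoin k (Set.range ((↑) : s₁ → K))) K,
    IsAlgClosure.equivOfEquiv_algebraMap]
  change algebraMap _ L (E (algebraMap k _ x)) = _
  rw [E.commutes]
  rfl

/-- For two embeddings `f g` of `k` into a big algebraically closed field `Ω` there is an
automorphism of `Ω` carrying `f` to `g`. -/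
theorem exists_ringEquiv_comp {k Ω : Type u} [Field k] [Field Ω] [IsAlgClosed Ω] (f g : k →+* Ω)
    (hk : #k < #Ω) (hΩ : ℵ₀ < #Ω) : ∃ α : Ω ≃+* Ω, ∀ x, α (f x) = g x := by
  let a₁ : Algebra k Ω := f.toAlgebra
  let a₂ : Algebra k Ω := g.toAlgebra
  exact @exists_ringEquiv k Ω Ω _ _ _ a₁ a₂ _ _ rfl hk hΩ

/-- Every field embeds in an algebraically closed field (in the same universe) of strictly bigger,
uncountable cardinality. -/
theorem exists_big_algClosed (K : Type u) [Field K] :
    ∃ (Ω : Type u) (_ : Field Ω) (_ : IsAlgClosed Ω) (_ : K →+* Ω), #K < #Ω ∧ ℵ₀ < #Ω := by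
  let J : Type u := Set (K × ℕ)
  let F := FractionRing (MvPolynomial J K)
  let Ω := AlgebraicClosure F
  let ι : J → Ω := fun j => algebraMap F Ω (algebraMap (MvPolynomial J K) F (MvPolynomial.X j))
  have hι : Function.Injective ι := by
    intro a b hab
    have h1 := (algebraMap F Ω).injective hab
    have h2 := IsFractionRing.injective (MvPolynomial J K) F h1
    exact MvPolynomial.X_injective h2
  have hJ : #J ≤ #Ω := Cardinal.mk_le_of_injective hι
  have hKN : #(K × ℕ) < #J := Cardinal.cantor _ |>.trans_eq (Cardinal.mk_set).symm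
  have h1 : #K ≤ #(K × ℕ) := Cardinal.mk_le_of_injective (f := fun x => (x, 0))
    (fun a b h => (Prod.mk.inj h).1)
  have h2 : ℵ₀ ≤ #(K × ℕ) := by
    have : Infinite (K × ℕ) := Infinite.of_injective (fun n : ℕ => ((0 : K), n))
      (fun a b h => (Prod.mk.inj h).2)
    exact Cardinal.aleph0_le_mk _
  refine ⟨Ω, inferInstance, inferInstance,
    (algebraMap F Ω).comp ((algebraMap (MvPolynomial J K) F).comp MvPolynomial.C), ?_, ?_⟩
  · exact (h1.trans_lt hKN).trans_le hJ
  · exact (h2.trans_lt hKN).trans_le hJ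

end Groth.Agent.H8.AlgClosedIso
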