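import Groth.Prelude.Def_CartDual2
import Groth.Prelude.Def_AlphaP
import Groth.Prelude.Def_Versch
import Mathlib.Data.Nat.Factorial.NatCast
import Mathlib.Algebra.CharP.Invertible

/-! Helper8: convolution powers of linear forms on the Hopf algebra of α_p. -/

set_option autoImplicit false
universe u
open scoped TensorProduct
open TensorProduct

namespace Groth.Agent.H8.AlphaPDual

variable (p : ℕ) [hp : Fact p.Prime] (R : Type u) [CommRing R] [CharP R p]

include hp in
theorem nontriv : Nontrivial R := CharP.nontrivial_of_char_ne_one (R := R) (v := p) hp.out.ne_one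

theorem comul_x_pow (k : ℕ) :
    Coalgebra.comul (R := R) (AlphaP.x p R ^ k) =
      ∑ m ∈ Finset.range (k + 1),
        (k.choose m : R) • ((AlphaP.x p R ^ m) ⊗ₜ[R] (AlphaP.x p R ^ (k - m))) := by
  rw [Bialgebra.comul_pow, AlphaP.comul_x, (Commute.all _ _).add_pow]
  apply Finset.sum_congr rfl
  intro m hm
  rw [Algebra.TensorProduct.tmul_pow, Algebra.TensorProduct.tmul_pow, one_pow, one_pow,
    Algebra.TensorProduct.tmul_mul_tmul, mul_one, one_mul, ← nsmul_eq_mul', Nat.cast_smul_eq_nsmul]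

theorem conv_x_pow (f g : CartDual.D R (AlphaP.A p R)) (k : ℕ) :
    (f * g) (AlphaP.x p R ^ k) =
      ∑ m ∈ Finset.range (k + 1),
        (k.choose m : R) * (f (AlphaP.x p R ^ m) * g (AlphaP.x p R ^ (k - m))) := by
  rw [LinearMap.convMul_apply, comul_x_pow, map_sum, map_sum]
  apply Finset.sum_congr rfl
  intro m hm
  rw [map_smul, map_smul, TensorProduct.map_tmul, LinearMap.mul'_apply, smul_eq_mul]

theorem pow_apply_x_pow_of_lt (z : CartDual.D R (AlphaP.A p R)) (hz : z 1 = 0) :
    ∀ n k : ℕ, k < n → (z ^ n) (AlphaP.x p R ^ k) = 0 := by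
  intro n
  induction n with
  | zero => intro k hk; omega
  | succ n ih =>
    intro k hk
    rw [pow_succ', conv_x_pow]
    apply Finset.sum_eq_zero
    intro m hm
    rcases Nat.eq_zero_or_pos m with rfl | hm0
    · rw [pow_zero, hz, zero_mul, mul_zero]
    · rw [ih (k - m) (by have := Finset.mem_range.mp hm; omega), mul_zero, mul_zero]

/-- A linear form on `A` vanishing on all `x^k`, `k < p`, is zero. -/
theorem ext_x_pow {f g : CartDual.D R (AlphaP.A p R)}
    (h : ∀ k : ℕ, k < p → f (AlphaP.x p R ^ k) = g (AlphaP.x p R ^ k)) : f = g := by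
  have := nontriv p R
  apply WithConv.ext
  apply (AlphaP.basis p R).ext
  intro i
  rw [AlphaP.basis_apply]
  exact h i i.2

theorem pow_p_eq_zero (z : CartDual.D R (AlphaP.A p R)) (hz : z 1 = 0) : z ^ p = 0 := by
  apply ext_x_pow
  intro k hk
  rw [pow_apply_x_pow_of_lt p R z hz p k hk]
  rfl

/-- `y^p` is the scalar `(y 1)^p` for every linear form `y`. -/
theorem pow_p_apply (y : CartDual.D R (AlphaP.A p R)) (a : AlphaP.A p R) :
    (y ^ p) a = (y 1) ^ p * Coalgebra.counit (R := R) a := by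
  have h1 : y = (y - algebraMap R _ (y 1)) + algebraMap R _ (y 1) := by ring
  have hz : (y - algebraMap R (CartDual.D R (AlphaP.A p R)) (y 1)) 1 = 0 := by
    change y 1 - (algebraMap R (CartDual.D R (AlphaP.A p R)) (y 1)) 1 = 0
    rw [LinearMap.convAlgebraMap_apply]
    simp
  have h2 : y ^ p = algebraMap R _ ((y 1) ^ p) := by
    conv_lhs => rw [h1]
    rw [add_pow_char, pow_p_eq_zero p R _ hz, zero_add, map_pow]
  rw [h2, LinearMap.convAlgebraMap_apply]
  simp


/-- The linear form dual to `x` with respect to the basis of powers. -/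
noncomputable def y : CartDual.D R (AlphaP.A p R) :=
  haveI := nontriv p R
  WithConv.toConv ((AlphaP.basis p R).coord ⟨1, hp.out.one_lt⟩)

theorem y_apply (i : ℕ) (hi : i < p) :
    (y p R) (AlphaP.x p R ^ i) = if i = 1 then 1 else 0 := by
  have := nontriv p R
  have h : AlphaP.x p R ^ i = AlphaP.basis p R ⟨i, hi⟩ := by rw [AlphaP.basis_apply]
  rw [h]
  change (AlphaP.basis p R).coord ⟨1, hp.out.one_lt⟩ (AlphaP.basis p R ⟨i, hi⟩) = _
  rw [Module.Basis.coord_apply, Module.Basis.repr_self, Finsupp.single_apply]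
  simp [Fin.ext_iff]

theorem counit_x_pow (k : ℕ) :
    Coalgebra.counit (R := R) (AlphaP.x p R ^ k) = if k = 0 then 1 else 0 := by
  rw [Bialgebra.counit_pow, AlphaP.counit_x]
  split_ifs with h
  · subst h; simp
  · exact zero_pow h

theorem y_one : (y p R) 1 = 0 := by
  have := y_apply p R 0 hp.out.pos
  rw [pow_zero] at this
  simpa using this

theorem y_pow_apply : ∀ n k : ℕ, k < p →
    ((y p R) ^ n) (AlphaP.x p R ^ k) = if k = n then (n.factorial : R) else 0 := by
  intro n
  induction n with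
  | zero =>
    intro k hk
    rw [pow_zero, LinearMap.convOne_apply, counit_x_pow]
    simp
  | succ n ih =>
    intro k hk
    rw [pow_succ', conv_x_pow]
    rcases Nat.eq_zero_or_pos k with rfl | hk0
    · simp [y_one]
    · rw [Finset.sum_eq_single 1]
      · rw [pow_one, ← pow_one (AlphaP.x p R), y_apply p R 1 hp.out.one_lt, if_pos rfl, one_mul,
          Nat.choose_one_right, pow_one, ih (k-1) (by omega)]
        by_cases h : k = n + 1
        · subst h; simp [Nat.factorial_succ]
        · rw [if_neg h, if_neg (by omega), mul_zero]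
      · intro m hm hm1
        rw [y_apply p R m (by have := Finset.mem_range.mp hm; omega), if_neg hm1, zero_mul, mul_zero]
      · intro h; exfalso; apply h; rw [Finset.mem_range]; omega

theorem y_pow_p : (y p R) ^ p = 0 := pow_p_eq_zero p R _ (y_one p R)


/-- `y^m` reads off `m!` times the `m`-th coordinate. -/
theorem y_pow_apply_eq (m : ℕ) (hm : m < p) (a : AlphaP.A p R) :
    ((y p R) ^ m) a =
      (m.factorial : R) * (haveI := nontriv p R; (AlphaP.basis p R).repr a ⟨m, hm⟩) := by
  have := nontriv p R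
  have h : ((y p R) ^ m).ofConv = (m.factorial : R) • (AlphaP.basis p R).coord ⟨m, hm⟩ := by
    apply (AlphaP.basis p R).ext
    intro i
    rw [AlphaP.basis_apply]
    change ((y p R) ^ m) (AlphaP.x p R ^ (i : ℕ)) = _
    rw [y_pow_apply p R m i i.2, LinearMap.smul_apply, Module.Basis.coord_apply,
      ← AlphaP.basis_apply, Module.Basis.repr_self, Finsupp.single_apply, smul_eq_mul]
    by_cases h : (i : ℕ) = m
    · rw [if_pos h, if_pos (Fin.ext h), mul_one]
    · rw [if_neg h, if_neg (fun h' => h (congrArg Fin.val h')), mul_zero]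
  change ((y p R) ^ m).ofConv a = _
  rw [h]
  rfl


/-- `y` is primitive in the dual Hopf algebra. -/
theorem comul_y :
    Coalgebra.comul (R := R) (y p R) = (y p R) ⊗ₜ[R] 1 + 1 ⊗ₜ[R] (y p R) := by
  have := nontriv p R
  have hp2 : 2 ≤ p := hp.out.two_le
  apply (CartDual.ev₂ R (AlphaP.A p R)).injective
  apply (Module.Basis.tensorProduct (AlphaP.basis p R) (AlphaP.basis p R)).ext
  rintro ⟨i, j⟩
  rw [Module.Basis.tensorProduct_apply, AlphaP.basis_apply, AlphaP.basis_apply, map_add,
    LinearMap.add_apply, CartDual.ev₂_coalgebra_comul_tmul, CartDual.ev₂_tmul, CartDual.ev₂_tmul,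
    LinearMap.convOne_apply, LinearMap.convOne_apply, counit_x_pow, counit_x_pow, ← pow_add,
    y_apply p R i i.2, y_apply p R j j.2]
  rcases Nat.lt_or_ge ((i : ℕ) + j) p with h | h
  · rw [y_apply p R _ h]
    by_cases hi0 : (i : ℕ) = 0
    · by_cases hj1 : (j : ℕ) = 1
      · simp [hi0, hj1]
      · have : ¬ ((i : ℕ) + j = 1) := by omega
        simp [hi0, hj1]
    · by_cases hi1 : (i : ℕ) = 1
      · by_cases hj0 : (j : ℕ) = 0
        · simp [hi1, hj0]
        · have : ¬ ((i : ℕ) + j = 1) := by omega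
          simp [hi1, hj0]
      · have : ¬ ((i : ℕ) + j = 1) := by omega
        simp [hi0, hi1, this]
  · rw [AlphaP.x_pow_of_le p R h, map_zero]
    have h1 : ¬ ((i : ℕ) = 1 ∧ (j : ℕ) = 0) := by omega
    have h2 : ¬ ((i : ℕ) = 0 ∧ (j : ℕ) = 1) := by omega
    by_cases hi0 : (i : ℕ) = 0
    · have hj1 : ¬ (j : ℕ) = 1 := fun h' => h2 ⟨hi0, h'⟩
      simp [hi0, hj1]
    · by_cases hi1 : (i : ℕ) = 1
      · have hj0 : ¬ (j : ℕ) = 0 := fun h' => h1 ⟨hi1, h'⟩
        simp [hi1, hj0]
      · simp [hi0, hi1]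

/-- The bialgebra map `A → D A` sending `x` to `y`. -/
noncomputable def g : AlphaP.A p R →ₐc[R] CartDual.D R (AlphaP.A p R) :=
  BialgHom.ofAlgHom (AlphaP.lift p R (y p R) (y_pow_p p R))
    (by
      apply AlphaP.algHom_ext
      rw [AlgHom.comp_apply, AlphaP.lift_x]
      simp [y_one])
    (by
      apply AlphaP.algHom_ext
      rw [AlgHom.comp_apply, AlgHom.comp_apply, AlphaP.lift_x]
      simp [comul_y])

theorem g_x : g p R (AlphaP.x p R) = y p R := AlphaP.lift_x (p := p) (R := R) _ (y_pow_p p R)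

theorem g_apply (a : AlphaP.A p R) (m : ℕ) (hm : m < p) :
    (g p R a) (AlphaP.x p R ^ m) =
      (m.factorial : R) * (haveI := nontriv p R; (AlphaP.basis p R).repr a ⟨m, hm⟩) := by
  have := nontriv p R
  have h : (LinearMap.applyₗ (AlphaP.x p R ^ m)) ∘ₗ (CartDual.toDual R (AlphaP.A p R)).toLinearMap ∘ₗ
      ((g p R : AlphaP.A p R →ₐc[R] CartDual.D R (AlphaP.A p R)) : AlphaP.A p R →ₗ[R] _) =
      (m.factorial : R) • (AlphaP.basis p R).coord ⟨m, hm⟩ := by
    apply (AlphaP.basis p R).ext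
    intro i
    rw [AlphaP.basis_apply]
    change (g p R (AlphaP.x p R ^ (i : ℕ))) (AlphaP.x p R ^ m) = _
    rw [show g p R (AlphaP.x p R ^ (i : ℕ)) = (g p R (AlphaP.x p R)) ^ (i : ℕ) from map_pow _ _ _,
      g_x, y_pow_apply p R i m hm, LinearMap.smul_apply, Module.Basis.coord_apply,
      ← AlphaP.basis_apply, Module.Basis.repr_self, Finsupp.single_apply, smul_eq_mul]
    by_cases h : m = (i : ℕ)
    · subst h
      rw [if_pos rfl, if_pos rfl, mul_one]
    · rw [if_neg h, if_neg (fun h' => h (congrArg Fin.val h').symm), mul_zero]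
  have h' := congrArg (fun L => L a) h
  exact h'

theorem g_bijective : Function.Bijective (g p R) := by
  have := nontriv p R
  have hu : ∀ m : Fin p, IsUnit (((m : ℕ).factorial : ℕ) : R) := fun m =>
    (IsUnit.natCast_factorial_iff_of_charP p).2 m.2
  constructor
  · rw [injective_iff_map_eq_zero]
    intro a ha
    apply (AlphaP.basis p R).ext_elem
    intro m
    have h1 := g_apply p R a m m.2
    rw [ha] at h1
    have h2 : ((m : ℕ).factorial : R) * (AlphaP.basis p R).repr a m = 0 := h1.symm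
    rw [map_zero, Finsupp.zero_apply]
    exact (hu m).mul_right_eq_zero.mp h2
  · intro φ
    refine ⟨(AlphaP.basis p R).equivFun.symm
      (fun m => ((hu m).unit⁻¹ : Rˣ) * φ (AlphaP.x p R ^ (m : ℕ))), ?_⟩
    apply ext_x_pow
    intro k hk
    rw [g_apply p R _ k hk]
    have : (AlphaP.basis p R).repr ((AlphaP.basis p R).equivFun.symm
      (fun m => ((hu m).unit⁻¹ : Rˣ) * φ (AlphaP.x p R ^ (m : ℕ)))) ⟨k, hk⟩ =
        ((hu ⟨k, hk⟩).unit⁻¹ : Rˣ) * φ (AlphaP.x p R ^ k) := by
      rw [← Module.Basis.equivFun_apply, LinearEquiv.apply_symm_apply]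
    rw [this, ← mul_assoc]
    have h3 : ((k.factorial : ℕ) : R) * ((hu ⟨k, hk⟩).unit⁻¹ : Rˣ) = 1 :=
      (hu ⟨k, hk⟩).mul_val_inv
    rw [h3, one_mul]

theorem exists_equiv_of_bijective {R : Type*} [CommRing R] {A C : Type*} [Semiring A] [Semiring C]
    [Bialgebra R A] [Bialgebra R C] (f : A →ₐc[R] C) (hf : Function.Bijective f) :
    ∃ e : C ≃ₐc[R] A, ∀ a, e.symm a = f a :=
  ⟨(BialgEquiv.ofBijective f hf).symm, fun _ => rfl⟩

end Groth.Agent.H8.AlphaPDual
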