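import Groth.Prelude.Def_Dieu
import Mathlib.RingTheory.Flat.Basic
import Mathlib.RingTheory.TensorProduct.IncludeLeftSubRight
import Mathlib.RingTheory.WittVector.Basic

/-!
Flat descent for twisted scalar extensions `Dieu.BC`: if `A →α B ⇉β₁,β₂ C` is an equalizer diagram
of rings (with `β₁ α = β₂ α`) and `M` is a flat `A`-module then `M → B ⊗ M ⇉ C ⊗ M` is an
equalizer diagram.
-/

set_option autoImplicit false

universe u v w

namespace Groth.Agent.H8.BCDescent

open TensorProduct Dieu

theorem sub_tmul {A : Type u} {B : Type v} [CommRing A] [CommRing B] (g : A →+* B)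
    {P : Type w} [AddCommGroup P] [Module A P] (b c : B) (x : P) :
    BC.tmul g (b - c) x = BC.tmul g b x - BC.tmul g c x := by
  have := BC.add_tmul g (b - c) c x
  rw [sub_add_cancel] at this
  rw [this, add_sub_cancel_right]

theorem bc_descent {A : Type u} {B C : Type v} [CommRing A] [CommRing B] [CommRing C]
    (α : A →+* B) (β₁ β₂ : B →+* C) (e : β₁.comp α = β₂.comp α)
    (hα : Function.Injective α)
    (hex : ∀ b, β₁ b = β₂ b → b ∈ Set.range α)
    (M : Type w) [AddCommGroup M] [Module A M] [Module.Flat A M] :
    Function.Injective (BC.ι α M) ∧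
      ∀ z : BC α M, (BC.castHom e (BC.push α β₁ z) = BC.push α β₂ z ↔
        z ∈ Set.range (BC.ι α M)) := by
  have e' : ∀ a, β₁ (α a) = β₂ (α a) := fun a => RingHom.congr_fun e a
  let j : A →ₗ[A] Res α :=
    { toFun := fun a => Res.mk α (α a)
      map_add' := fun a b => by rw [map_add]; rfl
      map_smul' := fun a b => by
        rw [smul_eq_mul, map_mul, RingHom.id_apply, Res.smul_mk] }
  let δ : Res α →ₗ[A] Res (β₂.comp α) :=
    { toFun := fun b => Res.mk _ (β₁ b.val - β₂ b.val)
      map_add' := fun a b => by
        rw [Res.val_add, map_add, map_add, add_sub_add_comm]; rfl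
      map_smul' := fun a b => by
        rw [Res.val_smul, map_mul, map_mul, RingHom.id_apply, Res.smul_mk, e' a,
          RingHom.comp_apply, mul_sub] }
  have hj : Function.Injective j := fun a b hab => hα hab
  have hex' : Function.Exact j δ := by
    intro b
    constructor
    · intro hb
      have hb' : β₁ b.val - β₂ b.val = 0 := hb
      obtain ⟨a, ha⟩ := hex b.val (sub_eq_zero.mp hb')
      exact ⟨a, ha⟩
    · rintro ⟨a, rfl⟩
      change Res.mk _ (β₁ (α a) - β₂ (α a)) = 0
      rw [e' a, sub_self]; rfl
  have hjM := Module.Flat.rTensor_preserves_injective_linearMap (M := M) j hj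
  have hexM := Module.Flat.rTensor_exact M hex'
  let Jm : A ⊗[A] M →+ BC α M := (j.rTensor M).toAddMonoidHom
  let Dm : BC α M →+ BC (β₂.comp α) M := (δ.rTensor M).toAddMonoidHom
  have hJm : Function.Injective Jm := hjM
  have hexM' : ∀ z : BC α M, Dm z = 0 ↔ z ∈ Set.range Jm := hexM
  have hι : ∀ x : M, BC.ι α M x = Jm ((TensorProduct.lid A M).symm x) := by
    intro x
    rw [TensorProduct.lid_symm_apply, BC.ι_apply]
    change BC.tmul α 1 x = (Res.mk α (α 1)) ⊗ₜ[A] x
    rw [map_one]; rfl
  have hδ : ∀ z : BC α M, Dm z = BC.castHom e (BC.push α β₁ z) - BC.push α β₂ z := by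
    intro z
    induction z using BC.induction_on α with
    | zero => rw [map_zero, map_zero, map_zero, map_zero, sub_zero]
    | tmul b x =>
      rw [BC.push_tmul, BC.push_tmul, BC.castHom_tmul, ← sub_tmul]
      rfl
    | add z₁ z₂ h₁ h₂ =>
      rw [map_add, map_add, map_add, map_add, h₁, h₂, add_sub_add_comm]
  constructor
  · intro x y hxy
    rw [hι, hι] at hxy
    exact (TensorProduct.lid A M).symm.injective (hJm hxy)
  · intro z
    rw [← sub_eq_zero, ← hδ z, hexM' z]
    constructor
    · rintro ⟨y, hy⟩
      refine ⟨TensorProduct.lid A M y, ?_⟩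
      rw [hι, LinearEquiv.symm_apply_apply, hy]
    · rintro ⟨x, hx⟩
      exact ⟨(TensorProduct.lid A M).symm x, by rw [← hι, hx]⟩

section cast
variable {A : Type u} {B : Type v} [CommRing A] [CommRing B] {P : Type w} [AddCommGroup P] [Module A P]

theorem castHom_castHom {g g' g'' : A →+* B} (e : g = g') (e' : g' = g'') (z : BC g P) :
    BC.castHom e' (BC.castHom e z) = BC.castHom (e.trans e') z := by
  subst e; subst e'; rfl

theorem castHom_self {g : A →+* B} (e : g = g) (z : BC g P) : BC.castHom e z = z := rfl

theorem castHom_injective {g g' : A →+* B} (e : g = g') :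
    Function.Injective (BC.castHom (P := P) e) := by
  subst e; exact fun _ _ h => h

theorem eq_of_castHom_eq {g₁ g₂ g' : A →+* B} (e₁ : g₁ = g') (e₂ : g₂ = g') (u : BC g₁ P) (v : BC g₂ P)
    (h : BC.castHom e₁ u = BC.castHom e₂ v) : BC.castHom (e₁.trans e₂.symm) u = v := by
  subst e₂; subst e₁; exact h

end cast

section witt

open WittVector

/-- Witt vectors of a faithfully flat map: the equalizer property. -/
theorem witt_equalizer (p : ℕ) [Fact p.Prime] (S R : Type u) [CommRing S] [CommRing R] [Algebra S R]
    [Module.FaithfullyFlat S R] (b : WittVector p R)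
    (hb : (WittVector.map (Algebra.TensorProduct.includeLeftRingHom : R →+* TensorProduct S R R)
        : WittVector p R →+* WittVector p (TensorProduct S R R)) b =
      (WittVector.map ((Algebra.TensorProduct.includeRight : R →ₐ[S] TensorProduct S R R) :
        R →+* TensorProduct S R R) : WittVector p R →+* WittVector p (TensorProduct S R R)) b) :
    b ∈ Set.range (WittVector.map (algebraMap S R) : WittVector p S →+* WittVector p R) := by
  have heff := Algebra.IsEffective.of_faithfullyFlat S R
  have hcoeff : ∀ n, ∃ a : S, algebraMap S R a = b.coeff n := by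
    intro n
    have h1 := congrArg (fun w => w.coeff n) hb
    simp only [WittVector.map_coeff] at h1
    have h2 : Algebra.TensorProduct.includeLeftSubRight S R (b.coeff n) = 0 := by
      rw [Algebra.TensorProduct.includeLeftSubRight_apply, sub_eq_zero]
      exact h1
    obtain ⟨a, ha⟩ := (heff (b.coeff n)).mp h2
    exact ⟨a, ha⟩
  choose a ha using hcoeff
  refine ⟨WittVector.mk p a, ?_⟩
  ext n
  rw [WittVector.map_coeff, WittVector.coeff_mk, ha]

theorem witt_map_injective (p : ℕ) [Fact p.Prime] (S R : Type u) [CommRing S] [CommRing R]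
    [Algebra S R] [Module.FaithfullyFlat S R] :
    Function.Injective (WittVector.map (algebraMap S R) : WittVector p S →+* WittVector p R) :=
  WittVector.map_injective _ (FaithfulSMul.algebraMap_injective S R)

end witt

end Groth.Agent.H8.BCDescent
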