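import Groth.Prelude.Def_Dieu
import Mathlib.RingTheory.Flat.FaithfullyFlat.Algebra
import Mathlib.Algebra.Module.Torsion.Basic

/-!
Injectivity of `x ↦ 1 ⊗ x : M → B ⊗_{g,A} M` when `g` factors as `A ↠ S → R` with `S → R`
faithfully flat and `M` killed by the kernel of `A ↠ S`.
-/

set_option autoImplicit false

universe u v w

namespace Groth.Agent.H8.BCInj

open TensorProduct

theorem ι_injective_of_factor {A : Type u} {S R : Type v} [CommRing A] [CommRing S] [CommRing R]
    [Algebra S R] [Module.FaithfullyFlat S R]
    (π : A →+* S) (hπ : Function.Surjective π) (M : Type w) [AddCommGroup M] [Module A M]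
    (hM : ∀ a, π a = 0 → ∀ m : M, a • m = 0) (g : A →+* R) (hg : g = (algebraMap S R).comp π) :
    Function.Injective (Dieu.BC.ι g M) := by
  subst hg
  have htors : Module.IsTorsionBySet A M (RingHom.ker π : Set A) := by
    intro m a
    exact hM a.1 a.2 m
  letI m1 : Module (A ⧸ RingHom.ker π) M := htors.module
  letI m2 : Module S M :=
    Module.compHom M ((RingHom.quotientKerEquivOfSurjective hπ).symm : S →+* A ⧸ RingHom.ker π)
  have hsm : ∀ (a : A) (m : M), π a • m = a • m := by
    intro a m
    change ((RingHom.quotientKerEquivOfSurjective hπ).symm (π a)) • m = a • m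
    have : (RingHom.quotientKerEquivOfSurjective hπ).symm (π a) = Ideal.Quotient.mk _ a := by
      rw [RingEquiv.symm_apply_eq]
      rfl
    rw [this]
    rfl
  let φ : M →ₛₗ[(algebraMap S R).comp π] (R ⊗[S] M) :=
    { toFun := fun m => (1 : R) ⊗ₜ[S] m
      map_add' := fun x y => TensorProduct.tmul_add _ _ _
      map_smul' := fun a m => by
        rw [← hsm, TensorProduct.tmul_smul, RingHom.comp_apply, TensorProduct.smul_tmul',
          TensorProduct.smul_tmul', Algebra.smul_def, smul_eq_mul] }
  intro x y hxy
  have := congrArg (Dieu.BC.lift _ φ) hxy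
  rw [Dieu.BC.lift_ι, Dieu.BC.lift_ι] at this
  exact Module.FaithfullyFlat.tensorProduct_mk_injective (A := S) (B := R) M this

end Groth.Agent.H8.BCInj
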