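import Mathlib

/-!
Binary forms: dimension of the space of homogeneous polynomials of degree `n` in two variables.
-/

set_option autoImplicit false
universe u

namespace Groth.Agent.H8.BinForms

open MvPolynomial

/-- exponent vectors of degree `n` in two variables are indexed by `Fin (n+1)`. -/
noncomputable def degEquiv (n : ℕ) : Fin (n + 1) ≃ {d : Fin 2 →₀ ℕ | d.degree = n} where
  toFun i := ⟨Finsupp.equivFunOnFinite.symm ![(i : ℕ), n - i], by
    have hi := i.2
    simp only [Set.mem_ofPred_eq, Finsupp.degree_eq_sum, Fin.sum_univ_two,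
      Finsupp.coe_equivFunOnFinite_symm, Matrix.cons_val_zero, Matrix.cons_val_one]
    omega⟩
  invFun d := ⟨d.1 0, by
    have h := d.2
    simp only [Set.mem_ofPred_eq, Finsupp.degree_eq_sum, Fin.sum_univ_two] at h
    omega⟩
  left_inv i := by
    apply Fin.ext
    simp
  right_inv d := by
    have h := d.2
    simp only [Set.mem_ofPred_eq, Finsupp.degree_eq_sum, Fin.sum_univ_two] at h
    apply Subtype.ext
    ext j
    fin_cases j
    · simp
    · simp only [Finsupp.coe_equivFunOnFinite_symm]
      show n - d.1 0 = d.1 1
      omega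

theorem finrank_homogeneousSubmodule (K : Type u) [Field K] (n : ℕ) :
    Module.finrank K (homogeneousSubmodule (Fin 2) K n) = n + 1 := by
  classical
  rw [homogeneousSubmodule_eq_finsupp_supported]
  haveI : Fintype {d : Fin 2 →₀ ℕ | d.degree = n} := Fintype.ofEquiv _ (degEquiv n)
  rw [(AddMonoidAlgebra.supportedEquivFinsupp (R := K) (S := K)
    {d : Fin 2 →₀ ℕ | d.degree = n}).finrank_eq, Module.finrank_finsupp_self,
    ← Fintype.card_congr (degEquiv n), Fintype.card_fin]

instance finite_homogeneousSubmodule (K : Type u) [Field K] (n : ℕ) :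
    FiniteDimensional K (homogeneousSubmodule (Fin 2) K n) :=
  Module.finite_of_finrank_pos (by rw [finrank_homogeneousSubmodule]; omega)

end Groth.Agent.H8.BinForms
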