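import Mathlib

/-!
# helper8: completion of a ring at a finitely generated ideal; quotients of the completion
-/

set_option autoImplicit false

namespace Groth.Agent.H8.CT

universe u

open AdicCompletion

variable {T : Type u} [CommRing T] (J : Ideal T)

/-- kernel of `evalₐ` for a finitely generated ideal -/
theorem ker_evalₐ (hJ : J.FG) (n : ℕ) :
    RingHom.ker (AdicCompletion.evalₐ J n : AdicCompletion J T →+* T ⧸ J ^ n) =
      (J ^ n).map (algebraMap T (AdicCompletion J T)) := by
  ext x
  trans x ∈ (AdicCompletion.eval J T n).ker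
  · have eq : J ^ n • (⊤ : Ideal T) = J ^ n := by simp
    have hinj : Function.Injective (Ideal.Quotient.factor (le_of_eq eq)) := by
      simpa [RingHom.injective_iff_ker_eq_bot, Ideal.Quotient.factor_ker]
        using Ideal.map_mk_eq_bot_of_le (le_of_eq eq.symm)
    rw [RingHom.mem_ker, LinearMap.mem_ker]
    have h1 := AdicCompletion.factor_eval_eq_evalₐ J x (le_of_eq eq)
    constructor
    · intro h
      apply hinj
      rw [_root_.map_zero]
      rw [← h]
      exact h1
    · intro h
      have h2 : (AdicCompletion.evalₐ J n) x = Ideal.Quotient.factor (le_of_eq eq) (eval J T n x) :=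
        h1.symm
      change (AdicCompletion.evalₐ J n) x = 0
      rw [h2, h, _root_.map_zero]
  · rw [← AdicCompletion.pow_smul_top_eq_ker_eval hJ]
    simp [Ideal.smul_top_eq_map]


/-- every element of the completion is congruent to an element of `T` modulo `J ^ n`. -/
theorem exists_sub_mem (hJ : J.FG) (c : AdicCompletion J T) (n : ℕ) :
    ∃ t : T, c - algebraMap T (AdicCompletion J T) t ∈
      (J ^ n).map (algebraMap T (AdicCompletion J T)) := by
  obtain ⟨t, ht⟩ := Ideal.Quotient.mk_surjective (AdicCompletion.evalₐ J n c)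
  refine ⟨t, ?_⟩
  rw [← ker_evalₐ J hJ n, RingHom.mem_ker, map_sub]
  have : (AdicCompletion.evalₐ J n) (algebraMap T (AdicCompletion J T) t) =
      Ideal.Quotient.mk (J ^ n) t := by
    rw [AlgHom.commutes]; rfl
  change (AdicCompletion.evalₐ J n) c - (AdicCompletion.evalₐ J n) (algebraMap T _ t) = 0
  rw [this, ht, sub_self]

theorem isAdicComplete_map (hJ : J.FG) :
    IsAdicComplete (J.map (algebraMap T (AdicCompletion J T))) (AdicCompletion J T) :=
  (IsAdicComplete.map_algebraMap_iff _ _).mpr (AdicCompletion.isAdicComplete hJ)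

theorem map_le_jacobson (hJ : J.FG) :
    J.map (algebraMap T (AdicCompletion J T)) ≤ Ideal.jacobson ⊥ :=
  haveI := isAdicComplete_map J hJ
  IsAdicComplete.le_jacobson_bot _

/-- Krull: in a Noetherian ring, an ideal contained in the Jacobson radical has closed ideals. -/
theorem mem_of_forall_mem_sup_pow {C : Type u} [CommRing C] [IsNoetherianRing C] (I K : Ideal C)
    (hI : I ≤ Ideal.jacobson ⊥) (x : C) (hx : ∀ n : ℕ, x ∈ K ⊔ I ^ n) : x ∈ K := by
  have hkrull := Ideal.iInf_pow_smul_eq_bot_of_le_jacobson (M := C ⧸ K) I hI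
  have hmem : (Ideal.Quotient.mk K x : C ⧸ K) ∈ (⨅ i : ℕ, I ^ i • ⊤ : Submodule C (C ⧸ K)) := by
    rw [Submodule.mem_iInf]
    intro n
    obtain ⟨a, ha, j, hj, rfl⟩ := Submodule.mem_sup.mp (hx n)
    have h1 : (Ideal.Quotient.mk K (a + j) : C ⧸ K) = j • (Ideal.Quotient.mk K 1 : C ⧸ K) := by
      rw [map_add, Ideal.Quotient.eq_zero_iff_mem.mpr ha, zero_add, Algebra.smul_def,
        map_one, mul_one]
      rfl
    rw [h1]
    exact Submodule.smul_mem_smul hj Submodule.mem_top
  rw [hkrull] at hmem
  exact Ideal.Quotient.eq_zero_iff_mem.mp hmem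


theorem factorPow_evalₐ {m n : ℕ} (hle : m ≤ n) (x : AdicCompletion J T) :
    Ideal.Quotient.factorPow J hle (AdicCompletion.evalₐ J n x) = AdicCompletion.evalₐ J m x := by
  induction x using AdicCompletion.induction_on with
  | _ f =>
    rw [AdicCompletion.evalₐ_mk, AdicCompletion.evalₐ_mk]
    change Ideal.Quotient.mk (J ^ m) (f n) = _
    exact AdicCompletion.Ideal.mk_eq_mk J hle f

section G1

variable (a : Ideal T)

/-- the maps `C → (T ⧸ a) ⧸ (J (T ⧸ a)) ^ n`. -/
noncomputable def psiN (n : ℕ) :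
    AdicCompletion J T →ₐ[T] (T ⧸ a) ⧸ (J.map (Ideal.Quotient.mk a)) ^ n :=
  (Ideal.Quotient.liftₐ (J ^ n) (Algebra.ofId T ((T ⧸ a) ⧸ (J.map (Ideal.Quotient.mk a)) ^ n))
    (by
      intro t ht
      change Ideal.Quotient.mk _ (Ideal.Quotient.mk a t) = 0
      rw [Ideal.Quotient.eq_zero_iff_mem, ← Ideal.map_pow]
      exact Ideal.mem_map_of_mem _ ht)).comp (AdicCompletion.evalₐ J n)

theorem psiN_apply (n : ℕ) (x : AdicCompletion J T) (t : T)
    (ht : AdicCompletion.evalₐ J n x = Ideal.Quotient.mk (J ^ n) t) :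
    psiN J a n x = Ideal.Quotient.mk _ (Ideal.Quotient.mk a t) := by
  unfold psiN
  rw [AlgHom.comp_apply, ht]
  rfl

theorem psiN_compat {m n : ℕ} (hle : m ≤ n) :
    (Ideal.Quotient.factorₐ T (Ideal.pow_le_pow_right hle)).comp (psiN J a n) = psiN J a m := by
  ext x
  obtain ⟨t, ht⟩ := Ideal.Quotient.mk_surjective (AdicCompletion.evalₐ J n x)
  have ht' : AdicCompletion.evalₐ J m x = Ideal.Quotient.mk (J ^ m) t := by
    rw [← factorPow_evalₐ J hle x, ← ht]; rfl
  rw [AlgHom.comp_apply, psiN_apply J a n x t ht.symm, psiN_apply J a m x t ht']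
  rfl

variable [IsAdicComplete (J.map (Ideal.Quotient.mk a)) (T ⧸ a)]

/-- the canonical map from the completion of `T` to a complete quotient of `T`. -/
noncomputable def psi : AdicCompletion J T →ₐ[T] T ⧸ a :=
  IsAdicComplete.liftAlgHom (J.map (Ideal.Quotient.mk a)) (psiN J a)
    (fun hle => psiN_compat J a hle)

theorem mk_psi (n : ℕ) (x : AdicCompletion J T) :
    Ideal.Quotient.mk ((J.map (Ideal.Quotient.mk a)) ^ n) (psi J a x) = psiN J a n x := by
  unfold psi
  exact IsAdicComplete.mk_liftAlgHom _ _ (fun hle => psiN_compat J a hle) n x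

theorem psi_surjective : Function.Surjective (psi J a) := by
  intro y
  obtain ⟨t, rfl⟩ := Ideal.Quotient.mk_surjective y
  exact ⟨algebraMap T _ t, (psi J a).commutes t⟩

theorem ker_psi (hJ : J.FG) [IsNoetherianRing (AdicCompletion J T)] :
    RingHom.ker (psi J a : AdicCompletion J T →+* T ⧸ a) =
      a.map (algebraMap T (AdicCompletion J T)) := by
  apply le_antisymm
  · intro c hc
    rw [RingHom.mem_ker] at hc
    refine mem_of_forall_mem_sup_pow (J.map (algebraMap T (AdicCompletion J T))) _
      (map_le_jacobson J hJ) c fun n => ?_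
    obtain ⟨t, ht⟩ := exists_sub_mem J hJ c n
    have h1 : AdicCompletion.evalₐ J n c = Ideal.Quotient.mk (J ^ n) t := by
      rw [← ker_evalₐ J hJ n, RingHom.mem_ker, map_sub] at ht
      have h2 : (AdicCompletion.evalₐ J n) (algebraMap T (AdicCompletion J T) t) =
          Ideal.Quotient.mk (J ^ n) t := by
        rw [AlgHom.commutes]; rfl
      have h3 : (AdicCompletion.evalₐ J n) c - (AdicCompletion.evalₐ J n) (algebraMap T _ t) = 0 := ht
      rw [h2, sub_eq_zero] at h3
      exact h3
    have h4 := mk_psi J a n c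
    have hc' : (psi J a) c = 0 := hc
    rw [hc', _root_.map_zero, psiN_apply J a n c t h1, eq_comm, Ideal.Quotient.eq_zero_iff_mem,
      ← Ideal.map_pow] at h4
    obtain ⟨j, hj, hjt⟩ := (Ideal.mem_map_iff_of_surjective _ Ideal.Quotient.mk_surjective).mp h4
    have h5 : t - j ∈ a := by
      rw [← Ideal.Quotient.eq, hjt]
    have h6 : c = (c - algebraMap T _ t) + algebraMap T _ (t - j) + algebraMap T _ j := by
      rw [map_sub]; ring
    rw [h6, ← Ideal.map_pow]
    refine Ideal.add_mem _ (Ideal.add_mem _ (Ideal.mem_sup_right ht) (Ideal.mem_sup_left ?_))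
      (Ideal.mem_sup_right ?_)
    · exact Ideal.mem_map_of_mem _ h5
    · exact Ideal.mem_map_of_mem _ hj
  · rw [Ideal.map_le_iff_le_comap]
    intro t ht
    rw [Ideal.mem_comap, RingHom.mem_ker]
    have : (psi J a) (algebraMap T _ t) = algebraMap T (T ⧸ a) t := (psi J a).commutes t
    change (psi J a) (algebraMap T _ t) = 0
    rw [this]
    exact Ideal.Quotient.eq_zero_iff_mem.mpr ht

/-- the quotient of the completion by `a C` is `T ⧸ a` when the latter is complete. -/
noncomputable def quotEquiv (hJ : J.FG) [IsNoetherianRing (AdicCompletion J T)] :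
    (AdicCompletion J T ⧸ a.map (algebraMap T (AdicCompletion J T))) ≃ₐ[T] T ⧸ a :=
  (Ideal.quotientEquivAlgOfEq T (ker_psi J a hJ).symm).trans
    (Ideal.quotientKerAlgEquivOfSurjective (psi_surjective J a))

end G1

end Groth.Agent.H8.CT
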