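import Mathlib
import Groth.Prelude.Def_EGA4c
import Groth.Agent.Lib.Helper8.CTensor1
import Groth.Agent.Lib.Helper8.Japanese.ComplRed2

/-!
# helper8: completed tensor product of local algebras over a field, quotients `T ⧸ m_A^n T`
-/

set_option autoImplicit false

namespace Groth.Agent.H8.CT

universe u

open TensorProduct IsLocalRing

attribute [local instance] Algebra.TensorProduct.rightAlgebra

/-- completeness transfers between ideals defining the same adic topology
(same statement as helper5's `FinCL.isAdicComplete_of_le_of_pow_le`, copied to avoid heavy imports). -/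
theorem isAdicComplete_of_le_of_pow_le {R : Type*} [CommRing R] {M : Type*} [AddCommGroup M]
    [Module R M] (I J : Ideal R) [h : IsAdicComplete I M] (hIJ : I ≤ J) (N : ℕ)
    (hN : J ^ N ≤ I) : IsAdicComplete J M := by
  rcases Nat.eq_zero_or_pos N with rfl | hNpos
  · have hI : I = ⊤ := by rw [pow_zero, Ideal.one_eq_top] at hN; exact top_le_iff.mp hN
    have hJ : J = ⊤ := top_le_iff.mp (hI ▸ hIJ)
    rw [hJ, ← hI]; exact h
  have hJI : ∀ n : ℕ, (J ^ (N * n) • ⊤ : Submodule R M) ≤ I ^ n • ⊤ := fun n => by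
    rw [pow_mul]
    exact Submodule.smul_mono_left (Ideal.pow_right_mono hN n)
  have hIJ' : ∀ n : ℕ, (I ^ n • ⊤ : Submodule R M) ≤ J ^ n • ⊤ := fun n =>
    Submodule.smul_mono_left (Ideal.pow_right_mono hIJ n)
  have hle : ∀ n : ℕ, n ≤ N * n := fun n => Nat.le_mul_of_pos_left n hNpos
  refine { haus' := ?_, prec' := ?_ }
  · intro x hx
    apply h.toIsHausdorff.haus x
    intro n
    rw [SModEq.zero]
    have := hx (N * n)
    rw [SModEq.zero] at this
    exact hJI n this
  · intro f hf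
    let g : ℕ → M := fun n => f (N * n)
    have hg : ∀ {m n : ℕ}, m ≤ n → g m ≡ g n [SMOD (I ^ m • ⊤ : Submodule R M)] := by
      intro m n hmn
      have h1 := hf (Nat.mul_le_mul_left N hmn)
      rw [SModEq.sub_mem] at h1 ⊢
      exact hJI m h1
    obtain ⟨L, hL⟩ := h.toIsPrecomplete.prec hg
    refine ⟨L, fun n => ?_⟩
    have h1 : f n ≡ f (N * n) [SMOD (J ^ n • ⊤ : Submodule R M)] := hf (hle n)
    have h2 : f (N * n) ≡ L [SMOD (J ^ n • ⊤ : Submodule R M)] := by
      have := hL n
      rw [SModEq.sub_mem] at this ⊢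
      exact hIJ' n this
    exact h1.trans h2

/-- `A ⧸ m^n` is finite over `k` when the residue field is. -/
theorem finite_quot_pow (k A : Type u) [Field k] [CommRing A] [Algebra k A] [IsLocalRing A]
    [IsNoetherianRing A] [Module.Finite k (ResidueField A)] (n : ℕ) :
    Module.Finite k (A ⧸ maximalIdeal A ^ n) := by
  rcases Nat.eq_zero_or_pos n with rfl | hn
  · have : Subsingleton (A ⧸ maximalIdeal A ^ 0) := by
      rw [pow_zero, Ideal.one_eq_top]
      exact Ideal.Quotient.subsingleton_iff.mpr rfl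
    infer_instance
  · have hle : maximalIdeal A ^ n ≤ maximalIdeal A := Ideal.pow_le_self hn.ne'
    have hne : maximalIdeal A ^ n ≠ ⊤ := fun h =>
      (maximalIdeal.isMaximal A).ne_top (top_le_iff.mp (h ▸ hle))
    haveI : Nontrivial (A ⧸ maximalIdeal A ^ n) := Ideal.Quotient.nontrivial_iff.2 hne
    haveI : IsLocalRing (A ⧸ maximalIdeal A ^ n) :=
      IsLocalRing.of_surjective' (Ideal.Quotient.mk _) Ideal.Quotient.mk_surjective
    have hmax : maximalIdeal (A ⧸ maximalIdeal A ^ n) =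
        (maximalIdeal A).map (Ideal.Quotient.mk (maximalIdeal A ^ n)) :=
      (IsLocalRing.map_maximalIdeal_of_surjective (Ideal.Quotient.mk _)
        Ideal.Quotient.mk_surjective).symm
    haveI : IsArtinianRing (A ⧸ maximalIdeal A ^ n) := by
      rw [isArtinianRing_iff_isNilpotent_maximalIdeal]
      refine ⟨n, ?_⟩
      rw [hmax, ← Ideal.map_pow, Ideal.zero_eq_bot, Ideal.map_quotient_self]
    haveI : Module.Finite k ((A ⧸ maximalIdeal A ^ n) ⧸ Ring.jacobson (A ⧸ maximalIdeal A ^ n)) := by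
      let f : A →ₐ[k] ((A ⧸ maximalIdeal A ^ n) ⧸ Ring.jacobson (A ⧸ maximalIdeal A ^ n)) :=
        (Ideal.Quotient.mkₐ k _).comp (Ideal.Quotient.mkₐ k _)
      have hf : ∀ a ∈ maximalIdeal A, f a = 0 := by
        intro a ha
        change Ideal.Quotient.mk _ (Ideal.Quotient.mk _ a) = 0
        rw [Ideal.Quotient.eq_zero_iff_mem, IsLocalRing.ringJacobson_eq_maximalIdeal, hmax]
        exact Ideal.mem_map_of_mem _ ha
      let g : (A ⧸ maximalIdeal A) →ₐ[k] _ := Ideal.Quotient.liftₐ (maximalIdeal A) f hf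
      have hg : Function.Surjective g := by
        intro y
        obtain ⟨y', rfl⟩ := Ideal.Quotient.mk_surjective y
        obtain ⟨a, rfl⟩ := Ideal.Quotient.mk_surjective y'
        exact ⟨Ideal.Quotient.mk _ a, rfl⟩
      haveI : Module.Finite k (A ⧸ maximalIdeal A) := ‹Module.Finite k (ResidueField A)›
      exact Module.Finite.of_surjective g.toLinearMap hg
    exact IsSemiprimaryRing.finite_of_isArtinian k (A ⧸ maximalIdeal A ^ n) (A ⧸ maximalIdeal A ^ n)

variable (k A B : Type u) [Field k] [CommRing A] [CommRing B] [Algebra k A] [Algebra k B]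
  [IsLocalRing A] [IsLocalRing B]

/-- the ideal `m_A^n (A ⊗ B)`. -/
abbrev aN (n : ℕ) : Ideal (A ⊗[k] B) := (maximalIdeal A ^ n).map (algebraMap A (A ⊗[k] B))

/-- `(A ⧸ m^n) ⊗ B ≃ (A ⊗ B) ⧸ m^n (A ⊗ B)` as `A`-algebras -/
noncomputable def eA (n : ℕ) : (A ⧸ maximalIdeal A ^ n) ⊗[k] B ≃ₐ[A] (A ⊗[k] B) ⧸ aN k A B n :=
  Algebra.TensorProduct.quotientTensorEquiv (R := k) A B A (maximalIdeal A ^ n)

/-- the same as `B`-algebras -/
noncomputable def eB (n : ℕ) : (A ⧸ maximalIdeal A ^ n) ⊗[k] B ≃ₐ[B] (A ⊗[k] B) ⧸ aN k A B n :=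
  AlgEquiv.ofRingEquiv (f := (eA k A B n).toRingEquiv) (by
    intro b
    change (eA k A B n) ((Ideal.Quotient.mk _ (1 : A)) ⊗ₜ[k] b) = _
    unfold eA
    rfl)


section fin

variable [IsNoetherianRing A] [Module.Finite k (ResidueField A)]

theorem finite_tensor (n : ℕ) : Module.Finite B ((A ⧸ maximalIdeal A ^ n) ⊗[k] B) := by
  haveI := finite_quot_pow k A n
  exact Module.Finite.equiv (Algebra.TensorProduct.commRight k B (A ⧸ maximalIdeal A ^ n)).toLinearEquiv

theorem flat_tensor (n : ℕ) : Module.Flat B ((A ⧸ maximalIdeal A ^ n) ⊗[k] B) :=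
  Module.Flat.of_linearEquiv (Algebra.TensorProduct.commRight k B (A ⧸ maximalIdeal A ^ n)).toLinearEquiv.symm

theorem finite_quot (n : ℕ) : Module.Finite B ((A ⊗[k] B) ⧸ aN k A B n) := by
  haveI := finite_tensor k A B n
  exact Module.Finite.equiv (eB k A B n).toLinearEquiv

theorem flat_quot (n : ℕ) : Module.Flat B ((A ⊗[k] B) ⧸ aN k A B n) := by
  haveI := flat_tensor k A B n
  exact Module.Flat.of_linearEquiv (eB k A B n).toLinearEquiv.symm

end fin

theorem sup_pow_le {R : Type*} [CommRing R] (I K : Ideal R) (n : ℕ) (hn : 0 < n) :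
    (I ⊔ K) ^ n ≤ I ^ n ⊔ K := by
  induction n with
  | zero => exact absurd hn (lt_irrefl 0)
  | succ n ih =>
    rcases Nat.eq_zero_or_pos n with rfl | hn'
    · simp
    · calc (I ⊔ K) ^ (n + 1) = (I ⊔ K) ^ n * (I ⊔ K) := pow_succ _ _
        _ ≤ (I ^ n ⊔ K) * (I ⊔ K) := Ideal.mul_mono_left (ih hn')
        _ ≤ I ^ (n + 1) ⊔ K := by
          rw [Ideal.sup_mul, Ideal.mul_sup, Ideal.mul_sup]
          refine sup_le (sup_le ?_ ?_) (sup_le ?_ ?_)
          · rw [← pow_succ]; exact le_sup_left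
          · exact le_trans Ideal.mul_le_right le_sup_right
          · exact le_trans Ideal.mul_le_left le_sup_right
          · exact le_trans Ideal.mul_le_right le_sup_right

theorem cTensorIdeal_fg [IsNoetherianRing A] [IsNoetherianRing B] :
    (EGA4.cTensorIdeal k A B).FG := by
  unfold EGA4.cTensorIdeal
  exact Submodule.FG.sup (Ideal.FG.map (IsNoetherian.noetherian _) _)
    (Ideal.FG.map (IsNoetherian.noetherian _) _)

section compl

variable [IsNoetherianRing A] [IsNoetherianRing B] [Module.Finite k (ResidueField A)]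
  [IsAdicComplete (maximalIdeal B) B]

/-- `T ⧸ m_A^n T` is complete for the tensor product topology. -/
theorem isAdicComplete_quot (n : ℕ) (hn : 0 < n) :
    IsAdicComplete ((EGA4.cTensorIdeal k A B).map (Ideal.Quotient.mk (aN k A B n)))
      ((A ⊗[k] B) ⧸ aN k A B n) := by
  haveI := finite_quot k A B n
  haveI h1 : IsAdicComplete (maximalIdeal B) ((A ⊗[k] B) ⧸ aN k A B n) :=
    Groth.Agent.H8.Jap.ComplRed.isAdicComplete_of_finite B (maximalIdeal B) _
  haveI h2 : IsAdicComplete ((maximalIdeal B).map (algebraMap B ((A ⊗[k] B) ⧸ aN k A B n)))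
      ((A ⊗[k] B) ⧸ aN k A B n) := (IsAdicComplete.map_algebraMap_iff _ _).mpr h1
  have hb : (maximalIdeal B).map (algebraMap B ((A ⊗[k] B) ⧸ aN k A B n)) =
      ((maximalIdeal B).map (Algebra.TensorProduct.includeRight : B →ₐ[k] A ⊗[k] B)).map
        (Ideal.Quotient.mk (aN k A B n)) := by
    change _ = Ideal.map (Ideal.Quotient.mk (aN k A B n)) (Ideal.map
      (Algebra.TensorProduct.includeRight : B →ₐ[k] A ⊗[k] B).toRingHom (maximalIdeal B))
    rw [Ideal.map_map]
    rfl
  have ha : (((maximalIdeal A).map (Algebra.TensorProduct.includeLeft : A →ₐ[k] A ⊗[k] B)).map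
        (Ideal.Quotient.mk (aN k A B n))) ^ n = ⊥ := by
    rw [← Ideal.map_pow, ← Ideal.map_pow]
    exact Ideal.map_quotient_self _
  have hJ : (EGA4.cTensorIdeal k A B).map (Ideal.Quotient.mk (aN k A B n)) =
      ((maximalIdeal A).map (Algebra.TensorProduct.includeLeft : A →ₐ[k] A ⊗[k] B)).map
        (Ideal.Quotient.mk (aN k A B n)) ⊔
      (maximalIdeal B).map (algebraMap B ((A ⊗[k] B) ⧸ aN k A B n)) := by
    rw [hb]
    unfold EGA4.cTensorIdeal
    rw [Ideal.map_sup]
  refine isAdicComplete_of_le_of_pow_le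
    ((maximalIdeal B).map (algebraMap B ((A ⊗[k] B) ⧸ aN k A B n))) _ ?_ n ?_
  · rw [hJ]; exact le_sup_right
  · rw [hJ]
    refine le_trans (sup_pow_le _ _ n hn) ?_
    rw [ha]
    simp

end compl

end Groth.Agent.H8.CT
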