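import Mathlib

/-! Translation behaviour of Cartier–Manin matrices. -/

namespace Groth.Agent.H8.CM

open Polynomial

variable {k : Type*} [Field k]

/-- Coefficients of a translated polynomial as a finite sum. -/
lemma taylor_coeff_eq_sum (F : k[X]) (α : k) (n M : ℕ) (hM : F.natDegree < M) :
    (taylor α F).coeff n = ∑ l ∈ Finset.range M, (l.choose n : k) * F.coeff l * α ^ (l - n) := by
  rw [taylor_coeff, hasseDeriv_apply, Polynomial.sum_over_range' _ (by intro i; simp) M hM,
    eval_finsetSum]
  apply Finset.sum_congr rfl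
  intro l _
  rw [eval_monomial]

/-- Sum over `range (m * p)` in blocks. -/
lemma sum_range_mul_block {A : Type*} [AddCommMonoid A] (h : ℕ → A) (m p : ℕ) :
    ∑ l ∈ Finset.range (m * p), h l = ∑ I ∈ Finset.range m, ∑ r ∈ Finset.range p, h (I * p + r) := by
  induction m with
  | zero => simp
  | succ m ih =>
    rw [Finset.sum_range_succ, ← ih, Nat.succ_mul, Finset.sum_range_add]

variable (p : ℕ) [hp : Fact p.Prime] [CharP k p]

/-- Lucas' theorem in characteristic `p`, in block form. -/
lemma choose_block (I r i t : ℕ) (hr : r < p) (ht : t < p) :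
    ((I * p + r).choose (i * p + t) : k) = (r.choose t : k) * (I.choose i : k) := by
  have h := @Choose.choose_modEq_choose_mod_mul_choose_div_nat (I * p + r) (i * p + t) p _
  have hp0 : 0 < p := hp.out.pos
  have e1 : (I * p + r) % p = r := by
    rw [Nat.add_comm, Nat.add_mul_mod_self_right, Nat.mod_eq_of_lt hr]
  have e2 : (i * p + t) % p = t := by
    rw [Nat.add_comm, Nat.add_mul_mod_self_right, Nat.mod_eq_of_lt ht]
  have e3 : (I * p + r) / p = I := by
    rw [Nat.add_comm, Nat.add_mul_div_right _ _ hp0, Nat.div_eq_of_lt hr, zero_add]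
  have e4 : (i * p + t) / p = i := by
    rw [Nat.add_comm, Nat.add_mul_div_right _ _ hp0, Nat.div_eq_of_lt ht, zero_add]
  rw [e1, e2, e3, e4] at h
  have := (CharP.natCast_eq_natCast k p).mpr h
  rw [this]; push_cast; ring

lemma term_block (c α : k) (I r i t : ℕ) (hr : r < p) (ht : t < p) :
    ((I * p + r).choose (i * p + t) : k) * c * α ^ ((I * p + r) - (i * p + t)) =
      (I.choose i : k) * α ^ ((I - i) * p) * c * ((r.choose t : k) * α ^ (r - t)) := by
  rw [choose_block p I r i t hr ht]
  by_cases hI : I < i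
  · rw [Nat.choose_eq_zero_of_lt hI]; simp
  by_cases hrt : r < t
  · rw [Nat.choose_eq_zero_of_lt hrt]; simp
  push Not at hI hrt
  have hexp : (I * p + r) - (i * p + t) = (I - i) * p + (r - t) := by
    have h1 : i * p ≤ I * p := Nat.mul_le_mul_right p hI
    have h2 : (I - i) * p = I * p - i * p := Nat.sub_mul I i p
    omega
  rw [hexp, pow_add]; ring

/-- The key entry formula. -/
lemma cm_entry (g : ℕ) (hg : g ≤ p) (F : k[X]) (hF : F.natDegree ≤ (g + 1) * (p - 1)) (α : k)
    (i j : ℕ) (hi : i < g) (hj : j < g) :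
    (taylor α F).coeff ((i + 1) * p - (j + 1)) =
      ∑ J ∈ Finset.range g, (∑ I ∈ Finset.range g,
        ((I.choose i : ℕ) : k) * α ^ ((I - i) * p) * F.coeff ((I + 1) * p - (J + 1))) *
        ((((p - (J + 1)).choose (p - (j + 1)) : ℕ) : k) * α ^ (j - J)) := by
  have hp0 : 0 < p := hp.out.pos
  have hjp : j < p := lt_of_lt_of_le hj hg
  have hn : (i + 1) * p - (j + 1) = i * p + (p - 1 - j) := by
    have : (i + 1) * p = i * p + p := Nat.succ_mul i p
    omega
  have hdeg : F.natDegree < (g + 1) * p := by
    refine lt_of_le_of_lt hF ?_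
    have : (g + 1) * (p - 1) + (g + 1) = (g + 1) * p := by
      rw [← Nat.mul_succ]; congr 1; omega
    omega
  rw [hn, taylor_coeff_eq_sum F α _ _ hdeg, sum_range_mul_block]
  -- rewrite each term
  have hterm : ∀ I ∈ Finset.range (g + 1), ∀ r ∈ Finset.range p,
      ((I * p + r).choose (i * p + (p - 1 - j)) : k) * F.coeff (I * p + r) *
        α ^ ((I * p + r) - (i * p + (p - 1 - j))) =
      (I.choose i : k) * α ^ ((I - i) * p) * F.coeff (I * p + r) *
        ((r.choose (p - 1 - j) : k) * α ^ (r - (p - 1 - j))) := by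
    intro I _ r hr
    exact term_block p _ α I r i _ (Finset.mem_range.mp hr) (by omega)
  rw [Finset.sum_congr rfl (fun I hI => Finset.sum_congr rfl (hterm I hI))]
  -- reflect the inner sum
  have hrefl : ∀ I ∈ Finset.range (g + 1),
      ∑ r ∈ Finset.range p, (I.choose i : k) * α ^ ((I - i) * p) * F.coeff (I * p + r) *
        ((r.choose (p - 1 - j) : k) * α ^ (r - (p - 1 - j))) =
      ∑ J ∈ Finset.range p, (I.choose i : k) * α ^ ((I - i) * p) * F.coeff ((I + 1) * p - (J + 1)) *
        (((p - (J + 1)).choose (p - (j + 1)) : k) * α ^ (j - J)) := by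
    intro I _
    rw [← Finset.sum_range_reflect]
    apply Finset.sum_congr rfl
    intro J hJ
    have hJp : J < p := Finset.mem_range.mp hJ
    have e1 : I * p + (p - 1 - J) = (I + 1) * p - (J + 1) := by
      have : (I + 1) * p = I * p + p := Nat.succ_mul I p
      omega
    have e2 : p - 1 - J = p - (J + 1) := by omega
    have e3 : p - 1 - j = p - (j + 1) := by omega
    have e4 : p - (J + 1) - (p - (j + 1)) = j - J := by omega
    rw [e1, e2, e3, e4]
  rw [Finset.sum_congr rfl hrefl]
  -- restrict J to range g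
  have hJres : ∀ I ∈ Finset.range (g + 1),
      ∑ J ∈ Finset.range p, (I.choose i : k) * α ^ ((I - i) * p) * F.coeff ((I + 1) * p - (J + 1)) *
        (((p - (J + 1)).choose (p - (j + 1)) : k) * α ^ (j - J)) =
      ∑ J ∈ Finset.range g, (I.choose i : k) * α ^ ((I - i) * p) * F.coeff ((I + 1) * p - (J + 1)) *
        (((p - (J + 1)).choose (p - (j + 1)) : k) * α ^ (j - J)) := by
    intro I _
    symm
    apply Finset.sum_subset (Finset.range_subset_range.mpr hg)
    intro J hJ hJg
    have hJp : J < p := Finset.mem_range.mp hJ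
    have hJg' : g ≤ J := by simpa using hJg
    have : (p - (J + 1)).choose (p - (j + 1)) = 0 := Nat.choose_eq_zero_of_lt (by omega)
    rw [this]; simp
  rw [Finset.sum_congr rfl hJres]
  -- restrict I to range g
  rw [Finset.sum_range_succ]
  have hlast : ∑ J ∈ Finset.range g, (g.choose i : k) * α ^ ((g - i) * p) *
      F.coeff ((g + 1) * p - (J + 1)) *
        (((p - (J + 1)).choose (p - (j + 1)) : k) * α ^ (j - J)) = 0 := by
    apply Finset.sum_eq_zero
    intro J hJ
    have hJg : J < g := Finset.mem_range.mp hJ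
    have : F.coeff ((g + 1) * p - (J + 1)) = 0 := by
      apply coeff_eq_zero_of_natDegree_lt
      refine lt_of_le_of_lt hF ?_
      have : (g + 1) * (p - 1) + (g + 1) = (g + 1) * p := by
        rw [← Nat.mul_succ]; congr 1; omega
      omega
    rw [this]; simp
  rw [hlast, add_zero, Finset.sum_comm]
  apply Finset.sum_congr rfl
  intro J _
  rw [Finset.sum_mul]

end Groth.Agent.H8.CM
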