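import Mathlib

set_option autoImplicit false
universe u
open CategoryTheory AlgebraicGeometry TopologicalSpace

namespace Groth.Agent.H8.CurveTop

/-- In a T0 irreducible space of Krull dimension ≤ 1, every point other than the generic point
is closed. -/
theorem isClosed_singleton_of_ne_genericPoint {T : Type*} [TopologicalSpace T] [T0Space T]
    [QuasiSober T] [IrreducibleSpace T] (hdim : topologicalKrullDim T ≤ 1) (x : T)
    (hx : x ≠ genericPoint T) : IsClosed ({x} : Set T) := by
  by_contra h
  have hne : closure ({x} : Set T) ≠ {x} := fun h' => h (h' ▸ isClosed_closure)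
  obtain ⟨x', hx'c, hx'x⟩ : ∃ x' ∈ closure ({x} : Set T), x' ≠ x := by
    by_contra hcon
    push Not at hcon
    exact hne (Set.Subset.antisymm (fun z hz => hcon z hz) subset_closure)
  let Z0 : IrreducibleCloseds T := ⟨closure {x'}, isIrreducible_singleton.closure, isClosed_closure⟩
  let Z1 : IrreducibleCloseds T := ⟨closure {x}, isIrreducible_singleton.closure, isClosed_closure⟩
  let Z2 : IrreducibleCloseds T := ⟨Set.univ, IrreducibleSpace.isIrreducible_univ T, isClosed_univ⟩
  have h01 : Z0 < Z1 := by
    refine lt_of_le_of_ne ?_ ?_
    · change closure {x'} ⊆ closure {x}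
      exact (isClosed_closure.closure_subset_iff).mpr (Set.singleton_subset_iff.mpr hx'c)
    · intro heq
      have : closure ({x'} : Set T) = closure {x} := congrArg (fun Z : IrreducibleCloseds T => (Z : Set T)) heq
      exact hx'x ((inseparable_iff_closure_eq.mpr this).eq)
  have h12 : Z1 < Z2 := by
    refine lt_of_le_of_ne (fun _ _ => Set.mem_univ _) ?_
    intro heq
    have : closure ({x} : Set T) = Set.univ := congrArg (fun Z : IrreducibleCloseds T => (Z : Set T)) heq
    have hgen : IsGenericPoint x (Set.univ : Set T) := this
    exact hx (hgen.eq (genericPoint_spec T))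
  let p : LTSeries (IrreducibleCloseds T) := ((RelSeries.singleton _ Z0).snoc Z1 h01).snoc Z2 (by simpa using h12)
  have hlen : p.length = 2 := by simp [p]
  have := Order.LTSeries.length_le_krullDim p
  rw [hlen] at this
  have h2 : ((2 : ℕ) : WithBot ℕ∞) ≤ 1 := this.trans hdim
  norm_cast at h2


/-- In a Noetherian sober irreducible space of dimension ≤ 1, proper closed subsets are finite. -/
theorem finite_of_isClosed_of_ne_univ {T : Type*} [TopologicalSpace T] [T0Space T]
    [QuasiSober T] [IrreducibleSpace T] [NoetherianSpace T] (hdim : topologicalKrullDim T ≤ 1)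
    {Z : Set T} (hZ : IsClosed Z) (hne : genericPoint T ∉ Z) : Z.Finite := by
  obtain ⟨S, hSf, hSc, hSi, rfl⟩ := NoetherianSpace.exists_finite_set_isClosed_irreducible hZ
  refine Set.Finite.sUnion hSf fun t ht => ?_
  obtain ⟨c, hc⟩ := QuasiSober.sober (hSi t ht) (hSc t ht)
  have hcη : c ≠ genericPoint T := by
    rintro rfl
    exact hne ⟨t, ht, hc.mem⟩
  have hcl := isClosed_singleton_of_ne_genericPoint hdim c hcη
  have : t = {c} := by
    rw [← hc.def, hcl.closure_eq]
  rw [this]
  exact Set.finite_singleton c

/-- A dominant morphism locally of finite type between integral "curves" (Noetherian, Jacobson,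
of dimension one) is locally quasi-finite. -/
theorem locallyQuasiFinite_of_curves {X Y : Scheme.{u}} [IsIntegral X] [IsIntegral Y]
    (f : X ⟶ Y) [LocallyOfFiniteType f] [JacobsonSpace Y] [NoetherianSpace X]
    (hdimX : topologicalKrullDim X ≤ 1) (hdimY : topologicalKrullDim Y = 1)
    (e : f (genericPoint X) = genericPoint Y) : LocallyQuasiFinite f := by
  refine LocallyQuasiFinite.of_finite_preimage_singleton f fun y => ?_
  by_cases hy : y = genericPoint Y
  · subst hy
    refine (Set.finite_singleton (genericPoint X)).subset ?_
    intro x hx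
    by_contra hxη
    have hxc : IsClosed ({x} : Set X) := isClosed_singleton_of_ne_genericPoint hdimX x hxη
    have hyc : IsClosed ({f x} : Set Y) := f.closePoints_subset_preimage_closedPoints hxc
    rw [hx] at hyc
    -- then `Y` is a single point, contradicting `dim Y = 1`
    have huniv : ({genericPoint Y} : Set Y) = Set.univ := by
      rw [← hyc.closure_eq]; exact (genericPoint_spec Y).def
    have hsub : Subsingleton Y := by
      refine ⟨fun a b => ?_⟩
      have ha : a ∈ ({genericPoint Y} : Set Y) := huniv ▸ Set.mem_univ a
      have hb : b ∈ ({genericPoint Y} : Set Y) := huniv ▸ Set.mem_univ b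
      rw [Set.mem_singleton_iff] at ha hb
      rw [ha, hb]
    have hsub' : Subsingleton (IrreducibleCloseds Y) := by
      refine ⟨fun A B => ?_⟩
      apply IrreducibleCloseds.ext
      have hA := A.isIrreducible.nonempty
      have hB := B.isIrreducible.nonempty
      ext z
      obtain ⟨a, ha⟩ := hA
      obtain ⟨b, hb⟩ := hB
      rw [Subsingleton.elim z a] at *
      constructor
      · intro _; rw [Subsingleton.elim a b]; exact hb
      · intro _; exact ha
    have : topologicalKrullDim Y ≤ 0 := Order.krullDim_nonpos_of_subsingleton
    rw [hdimY] at this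
    norm_cast at this
  · have hyc : IsClosed ({y} : Set Y) := isClosed_singleton_of_ne_genericPoint hdimY.le y hy
    refine finite_of_isClosed_of_ne_univ hdimX (hyc.preimage f.continuous) ?_
    rw [Set.mem_preimage, e, Set.mem_singleton_iff]
    exact fun h => hy h.symm

end Groth.Agent.H8.CurveTop
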