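import Groth.Prelude.Def_W4c3irrattreebunCvg
import Mathlib

/-! Helper8: covering gonality and the field of constants. -/

set_option autoImplicit false
universe u

namespace Groth.Agent.H8.Cvg

open W4c3irrattreebun

variable (k K : Type u) [Field k] [Field K] [Algebra k K]

/-- restrict a covering diagram over the field of constants to one over `k` -/
noncomputable def restrict {e : ℕ} (D : CovDiag (algebraicClosure k K) K e) :
    { D' : CovDiag k K e // Algebra.IsSeparable K D.KC → Algebra.IsSeparable K D'.KC } := by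
  letI algk'C : Algebra (algebraicClosure k K) D.KC := D.algkC
  letI algk'B : Algebra (algebraicClosure k K) D.KB := D.algkB
  letI algkC : Algebra k D.KC := ((algebraMap K D.KC).comp (algebraMap k K)).toAlgebra
  letI algkB : Algebra k D.KB :=
    ((algebraMap (algebraicClosure k K) D.KB).comp (algebraMap k (algebraicClosure k K))).toAlgebra
  haveI towerK : IsScalarTower k K D.KC := IsScalarTower.of_algebraMap_eq (fun x => rfl)
  haveI towerB : IsScalarTower k D.KB D.KC := IsScalarTower.of_algebraMap_eq (fun x => by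
    show algebraMap K D.KC (algebraMap k K x) =
      algebraMap D.KB D.KC (algebraMap (algebraicClosure k K) D.KB
        (algebraMap k (algebraicClosure k K) x))
    rw [← IsScalarTower.algebraMap_apply (algebraicClosure k K) D.KB D.KC,
      IsScalarTower.algebraMap_apply (algebraicClosure k K) K D.KC,
      ← IsScalarTower.algebraMap_apply k (algebraicClosure k K) K])
  exact ⟨{ KC := D.KC, KB := D.KB, t := D.t, transc := D.transc, finrank_eq := D.finrank_eq }, id⟩


theorem sInf_eq_of {S S' : Set ℕ} (h1 : S' ⊆ S) (h2 : ∀ e ∈ S, ∃ e' ∈ S', e' ≤ e) :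
    sInf S = sInf S' := by
  by_cases h : S.Nonempty
  · have h' : S'.Nonempty := by
      obtain ⟨e, he⟩ := h
      obtain ⟨e', he', -⟩ := h2 e he
      exact ⟨e', he'⟩
    apply le_antisymm
    · exact Nat.sInf_le (h1 (Nat.sInf_mem h'))
    · obtain ⟨e', he', hle⟩ := h2 _ (Nat.sInf_mem h)
      exact (Nat.sInf_le he').trans hle
  · have hS : S = ∅ := Set.not_nonempty_iff_eq_empty.mp h
    have hS' : S' = ∅ := Set.subset_empty_iff.mp (hS ▸ h1)
    rw [hS, hS']

/-- extend a covering diagram over `k` to one over the field of constants, of no larger degree -/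
theorem extend {e : ℕ} (D : CovDiag k K e) :
    ∃ (e' : ℕ) (D' : CovDiag (algebraicClosure k K) K e'), e' ≤ e ∧
      (Algebra.IsSeparable K D.KC → Algebra.IsSeparable K D'.KC) := by
  let KB' : IntermediateField D.KB D.KC :=
    IntermediateField.adjoin D.KB (Set.range (algebraMap (algebraicClosure k K) D.KC))
  letI algk'B : Algebra (algebraicClosure k K) KB' :=
    ((algebraMap (algebraicClosure k K) D.KC).codRestrict KB'
      (fun x => IntermediateField.subset_adjoin _ _ ⟨x, rfl⟩)).toAlgebra
  haveI towerB' : IsScalarTower (algebraicClosure k K) KB' D.KC :=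
    IsScalarTower.of_algebraMap_eq (fun x => rfl)
  haveI halg : Algebra.IsAlgebraic D.KB KB' := by
    apply IntermediateField.isAlgebraic_adjoin
    rintro _ ⟨y, rfl⟩
    have h1 : IsIntegral k (y : K) := mem_algebraicClosure_iff'.mp y.2
    have h2 : IsIntegral k (algebraMap K D.KC (y : K)) :=
      h1.map (IsScalarTower.toAlgHom k K D.KC)
    exact h2.tower_top
  have htr : Transcendental KB' D.t := D.transc.extendScalars KB'
  let F₁ : IntermediateField D.KB D.KC := IntermediateField.adjoin D.KB {D.t}
  let F₂ : IntermediateField KB' D.KC := IntermediateField.adjoin KB' {D.t}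
  have hle : ∀ x ∈ F₁, x ∈ F₂ := by
    have : F₁ ≤ F₂.restrictScalars D.KB := by
      rw [IntermediateField.adjoin_le_iff]
      rintro _ rfl
      exact IntermediateField.subset_adjoin _ _ rfl
    exact fun x hx => this hx
  letI alg12 : Algebra F₁ F₂ :=
    ((algebraMap F₁ D.KC).codRestrict F₂ (fun x => hle _ x.2)).toAlgebra
  haveI tower12 : IsScalarTower F₁ F₂ D.KC := IsScalarTower.of_algebraMap_eq (fun x => rfl)
  haveI fin1 : Module.Finite F₁ D.KC := D.finiteT
  haveI fin2 : Module.Finite F₂ D.KC := Module.Finite.of_restrictScalars_finite F₁ F₂ D.KC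
  refine ⟨Module.finrank F₂ D.KC,
    { KC := D.KC, KB := KB', algkB := algk'B,
      towerB := towerB', t := D.t, transc := htr, finiteT := fin2, finrank_eq := rfl }, ?_, id⟩
  have h := Module.finrank_top_le_finrank_of_isScalarTower F₁ F₂ D.KC
  have h2 : Module.finrank F₁ D.KC = e := D.finrank_eq
  omega

theorem cvg_eq : cvg k K = cvg (algebraicClosure k K) K := by
  unfold cvg
  apply sInf_eq_of
  · rintro e ⟨D⟩
    exact ⟨(restrict k K D).1⟩
  · rintro e ⟨D⟩
    obtain ⟨e', D', he', -⟩ := extend k K D
    exact ⟨e', ⟨D'⟩, he'⟩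

theorem scvg_eq : scvg k K = scvg (algebraicClosure k K) K := by
  unfold scvg
  apply sInf_eq_of
  · rintro e ⟨D, hD⟩
    exact ⟨(restrict k K D).1, (restrict k K D).2 hD⟩
  · rintro e ⟨D, hD⟩
    obtain ⟨e', D', he', hsep⟩ := extend k K D
    exact ⟨e', ⟨D', hsep hD⟩, he'⟩

end Groth.Agent.H8.Cvg
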