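import Groth.Prelude.Def_Disp2

/-!
Helper lemmas on 3n-displays (`W4c1extbt610.Display3n`) and the operator `V^#`.
-/

set_option autoImplicit false

universe u v

namespace Groth.Agent.H8.Disp

open W4c1extbt610 Dieu

variable {p : ℕ} [Fact p.Prime] {R : Type u} [CommRing R]
variable {P : Type v} [AddCommGroup P] [Module (WittVector p R) P]

/-- `F y = p • V⁻¹ y` for `y ∈ Q`. -/
theorem F_eq_p_smul_Vinv (D : Display3n p R P) (y : D.Q) :
    D.F (y : P) = (p : WittVector p R) • D.Vinv y := by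
  have h1 := D.Vinv_verschiebung_smul 1 (y : P)
  rw [one_smul] at h1
  rw [← h1]
  have h2 : (⟨WittVector.verschiebung (1 : WittVector p R) • (y : P),
      D.IV_smul_le (Submodule.smul_mem_smul (verschiebung_mem_IV p R 1) Submodule.mem_top)⟩ : D.Q)
      = WittVector.verschiebung (1 : WittVector p R) • y := Subtype.ext rfl
  rw [h2, D.Vinv.map_smulₛₗ, WittVector.frobenius_verschiebung, one_mul]

/-- induction on the span of the image of `V⁻¹`. -/
theorem linearMap_ext_Vinv (D : Display3n p R P) {N : Type*} [AddCommGroup N] [Module (WittVector p R) N]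
    {f g : P →ₗ[WittVector p R] N} (h : ∀ y : D.Q, f (D.Vinv y) = g (D.Vinv y)) : f = g := by
  apply LinearMap.ext_on_range D.span_range_Vinv
  exact h

/-- `I_R` is the image of the Verschiebung. -/
theorem mem_IV_iff (a : WittVector p R) : a ∈ IV p R ↔ ∃ w, WittVector.verschiebung w = a := by
  constructor
  · intro ha
    refine Submodule.span_induction (p := fun a _ => ∃ w, WittVector.verschiebung w = a)
      ?_ ?_ ?_ ?_ ha
    · rintro _ ⟨w, rfl⟩; exact ⟨w, rfl⟩
    · exact ⟨0, map_zero _⟩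
    · rintro _ _ _ _ ⟨w, rfl⟩ ⟨w', rfl⟩; exact ⟨w + w', map_add _ _ _⟩
    · rintro c _ _ ⟨w, rfl⟩
      refine ⟨w * WittVector.frobenius c, ?_⟩
      rw [WittVector.verschiebung_mul_frobenius, smul_eq_mul, mul_comm]
  · rintro ⟨w, rfl⟩; exact verschiebung_mem_IV p R w

/-- If a submodule `N` contains `V⁻¹ l` for `l` in a generating set of `L ≤ Q` and `F t` for `t` in a
generating set of `T`, where `Q = L ⊔ I_R T`, then `N = ⊤`. -/
theorem eq_top_of_normal (D : Display3n p R P) (L T : Submodule (WittVector p R) P)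
    (hQ : D.Q = L ⊔ IV p R • T) (hLQ : L ≤ D.Q) (sL sT : Set P)
    (hsL : Submodule.span (WittVector p R) sL = L) (hsT : Submodule.span (WittVector p R) sT = T)
    (N : Submodule (WittVector p R) P)
    (hL : ∀ l (hl : l ∈ sL), D.Vinv ⟨l, hLQ (hsL ▸ Submodule.subset_span hl)⟩ ∈ N)
    (hT : ∀ t ∈ sT, D.F t ∈ N) : N = ⊤ := by
  have hTF : T ≤ N.comap D.F := by
    rw [← hsT, Submodule.span_le]
    exact hT
  have hmain : D.Q ≤ (N.comap D.Vinv).map D.Q.subtype := by
    refine le_trans (le_of_eq hQ) ?_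
    apply sup_le
    · rw [← hsL, Submodule.span_le]
      intro l hl
      exact ⟨⟨l, hLQ (hsL ▸ Submodule.subset_span hl)⟩, hL l hl, rfl⟩
    · rw [Submodule.smul_le]
      intro r hr t ht
      obtain ⟨w, rfl⟩ := (mem_IV_iff r).mp hr
      refine ⟨⟨WittVector.verschiebung w • t,
        D.IV_smul_le (Submodule.smul_mem_smul (verschiebung_mem_IV p R w) Submodule.mem_top)⟩, ?_, rfl⟩
      change D.Vinv _ ∈ N
      rw [D.Vinv_verschiebung_smul]
      exact N.smul_mem _ (hTF ht)
  rw [eq_top_iff, ← D.span_range_Vinv, Submodule.span_le]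
  rintro _ ⟨q, rfl⟩
  obtain ⟨q', hq', hqq'⟩ := hmain q.2
  have : q' = q := Subtype.ext hqq'
  rw [← this]
  exact hq'

end Groth.Agent.H8.Disp
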