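import Mathlib
import Groth.Prelude
import Groth.Agent.Lib.Helper8.DVRCx

/-! Helper8: the chain of inequalities over a DVR (S4509). -/

set_option autoImplicit false
universe u

open CategoryTheory TensorProduct

namespace Groth.Agent.H8.DVRCx

open Groth.Agent.H8.DRank

variable {A : Type u} [CommRing A] [IsDomain A] [IsDiscreteValuationRing A]

theorem finrank_chain (P : ChainComplex (ModuleCat.{u} A) ℤ)
    (hP : ∀ i, Module.Flat A (P.X i)) (hfin : ∀ i, Module.Finite A (P.homology i)) (p : ℤ) :
    Module.finrank (FractionRing A) ((CohIII.bcCx (algebraMap A (FractionRing A)) P).homology p) ≤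
        Module.finrank (IsLocalRing.ResidueField A)
          (TensorProduct A (IsLocalRing.ResidueField A) (P.homology p)) ∧
      Module.finrank (IsLocalRing.ResidueField A)
          (TensorProduct A (IsLocalRing.ResidueField A) (P.homology p)) ≤
        Module.finrank (IsLocalRing.ResidueField A)
          ((CohIII.bcCx (algebraMap A (IsLocalRing.ResidueField A)) P).homology p) := by
  have := hfin p
  have := hfin (p - 1)
  obtain ⟨ϖ, hϖ⟩ := IsDiscreteValuationRing.exists_irreducible A
  have hmax : IsLocalRing.maximalIdeal A = Ideal.span {ϖ} := hϖ.maximalIdeal_eq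
  have hmem : ϖ ∈ IsLocalRing.maximalIdeal A := hmax ▸ Ideal.mem_span_singleton_self ϖ
  have hinj : ∀ i (m : P.X i), ϖ • m = 0 → m = 0 := by
    intro i m hm
    have := hP i
    have hreg : IsSMulRegular (P.X i) ϖ :=
      Module.Flat.isSMulRegular_of_nonZeroDivisors (mem_nonZeroDivisors_of_ne_zero hϖ.ne_zero)
    exact hreg (show ϖ • m = ϖ • 0 by rw [hm, smul_zero])
  have hS := QuotCx.sc_shortExact (IsLocalRing.maximalIdeal A) P ϖ hmem hmax.le hinj
  obtain ⟨h1, -⟩ := QuotCx.finrank_le_and_eq_iff (IsLocalRing.maximalIdeal A) P ϖ hmem hS p (p - 1)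
    (by ring)
  obtain ⟨h3, -⟩ := finrank_frac_le_residue (A := A) (FractionRing A)
    (IsFractionRing.injective A (FractionRing A)) (P.homology p)
  rw [finrank_homology_bcCx_of_flat]
  exact ⟨h3, h1⟩

end Groth.Agent.H8.DVRCx
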