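import Mathlib

/-! Primitive parts of power series over a DVR. -/

namespace Groth.Agent.H8

open PowerSeries IsLocalRing

variable {R : Type*} [CommRing R] [IsDomain R] [IsDiscreteValuationRing R]

/-- A non-zero power series over a DVR is a power of the uniformizer times a power series
with some unit coefficient. -/
theorem exists_eq_C_pow_mul_primitive {ϖ : R} (hϖ : Irreducible ϖ) (G : PowerSeries R)
    (hG : G ≠ 0) :
    ∃ (n : ℕ) (G' : PowerSeries R), G = C (ϖ ^ n) * G' ∧ ∃ j, IsUnit (coeff j G') := by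
  classical
  set I : Ideal R := Ideal.span (Set.range fun j => coeff j G) with hI
  have hIne : I ≠ ⊥ := by
    intro hbot
    apply hG
    ext j
    have : coeff j G ∈ I := Ideal.subset_span ⟨j, rfl⟩
    rw [hbot, Ideal.mem_bot] at this
    simpa using this
  obtain ⟨n, hn⟩ := IsDiscreteValuationRing.ideal_eq_span_pow_irreducible hIne hϖ
  have hdiv : ∀ j, ∃ g, coeff j G = ϖ ^ n * g := by
    intro j
    have : coeff j G ∈ I := Ideal.subset_span ⟨j, rfl⟩
    rw [hn, Ideal.mem_span_singleton] at this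
    exact this
  choose g hg using hdiv
  refine ⟨n, PowerSeries.mk g, ?_, ?_⟩
  · ext j
    rw [coeff_C_mul, coeff_mk, hg]
  · by_contra hcon
    push Not at hcon
    have hgm : ∀ j, g j ∈ maximalIdeal R := by
      intro j
      have := hcon j
      rw [coeff_mk] at this
      exact this
    have hmax : maximalIdeal R = Ideal.span {ϖ} := (Irreducible.maximalIdeal_eq hϖ)
    have hle : I ≤ Ideal.span {ϖ ^ (n + 1)} := by
      rw [hI, Ideal.span_le]
      rintro _ ⟨j, rfl⟩
      have := hgm j
      rw [hmax, Ideal.mem_span_singleton] at this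
      obtain ⟨h, hh⟩ := this
      simp only [SetLike.mem_coe, Ideal.mem_span_singleton]
      exact ⟨h, by rw [hg, hh]; ring⟩
    have hmem : ϖ ^ n ∈ Ideal.span {ϖ ^ (n + 1)} := hle (by rw [hn]; exact Ideal.mem_span_singleton_self _)
    rw [Ideal.mem_span_singleton] at hmem
    obtain ⟨t, ht⟩ := hmem
    have h1 : ϖ ^ n * 1 = ϖ ^ n * (ϖ * t) := by
      calc ϖ ^ n * 1 = ϖ ^ n := mul_one _
        _ = ϖ ^ (n + 1) * t := ht
        _ = ϖ ^ n * (ϖ * t) := by ring
    have h2 := mul_left_cancel₀ (pow_ne_zero n hϖ.ne_zero) h1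
    exact hϖ.not_isUnit (IsUnit.of_mul_eq_one _ h2.symm)

end Groth.Agent.H8
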