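/-
Helper lemmas (helper8): finite-dimensional commutative algebras over an algebraically closed field.
-/
import Mathlib.Tactic
import Mathlib.FieldTheory.IsAlgClosed.Basic
import Mathlib.FieldTheory.Fixed
import Mathlib.RingTheory.Nilpotent.Lemmas
import Mathlib.RingTheory.Artinian.Ring
import Mathlib.RingTheory.Noetherian.Basic
import Mathlib.LinearAlgebra.Basis.VectorSpace
import Mathlib.LinearAlgebra.Dual.Lemmas
import Mathlib.Algebra.Algebra.Pi

set_option autoImplicit false
universe u v

namespace Groth.Agent.H8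

/-- For a prime ideal `p` of an algebra `A` integral over an algebraically closed field `k`,
there is a character `A → k` with kernel `p`. -/
theorem exists_algHom_ker_eq_of_isPrime (k : Type u) [Field k] [IsAlgClosed k]
    (A : Type v) [CommRing A] [Algebra k A] [Algebra.IsIntegral k A]
    (p : Ideal A) [p.IsPrime] :
    ∃ χ : A →ₐ[k] k, RingHom.ker χ = p := by
  have : Algebra.IsIntegral k (A ⧸ p) := by
    constructor
    intro x
    obtain ⟨a, rfl⟩ := Ideal.Quotient.mk_surjective x
    exact (Algebra.IsIntegral.isIntegral (R := k) a).map (Ideal.Quotient.mkₐ k p)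
  have hbij : Function.Bijective (Algebra.ofId k (A ⧸ p)) :=
    IsAlgClosed.algebraMap_bijective_of_isIntegral (k := k) (K := A ⧸ p)
  let e : k ≃ₐ[k] (A ⧸ p) := AlgEquiv.ofBijective (Algebra.ofId k (A ⧸ p)) hbij
  refine ⟨(e.symm : (A ⧸ p) →ₐ[k] k).comp (Ideal.Quotient.mkₐ k p), ?_⟩
  ext a
  rw [RingHom.mem_ker]
  constructor
  · intro h
    have h' : e.symm (Ideal.Quotient.mkₐ k p a) = 0 := h
    rw [map_eq_zero_iff _ e.symm.injective] at h'
    exact Ideal.Quotient.eq_zero_iff_mem.1 h'
  · intro h
    show e.symm (Ideal.Quotient.mkₐ k p a) = 0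
    have : Ideal.Quotient.mkₐ k p a = 0 := Ideal.Quotient.eq_zero_iff_mem.2 h
    rw [this, map_zero]

/-- A non-nilpotent element is detected by a character. -/
theorem exists_algHom_ne_zero_of_not_mem_nilradical (k : Type u) [Field k] [IsAlgClosed k]
    (A : Type v) [CommRing A] [Algebra k A] [Algebra.IsIntegral k A]
    (a : A) (ha : a ∉ nilradical A) :
    ∃ χ : A →ₐ[k] k, χ a ≠ 0 := by
  rw [nilradical_eq_sInf, Ideal.mem_sInf] at ha
  push Not at ha
  obtain ⟨p, hp, hap⟩ := ha
  have : p.IsPrime := hp
  obtain ⟨χ, hχ⟩ := exists_algHom_ker_eq_of_isPrime k A p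
  refine ⟨χ, fun h => hap ?_⟩
  rw [← hχ]
  exact h

/-- The set of characters of a finite-dimensional algebra is finite. -/
theorem finite_algHom (k : Type u) [Field k] (A : Type v) [CommRing A] [Algebra k A]
    [Module.Finite k A] : Finite (A →ₐ[k] k) := by
  have hli := linearIndependent_toLinearMap k A k
  have : IsNoetherian k (A →ₗ[k] k) := inferInstance
  exact hli.finite_of_isNoetherian

/-- The kernel of the evaluation map to the functions on characters is the nilradical. -/
theorem ker_pi_algHom_eq_nilradical (k : Type u) [Field k] [IsAlgClosed k]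
    (A : Type v) [CommRing A] [Algebra k A] [Algebra.IsIntegral k A] :
    RingHom.ker (AlgHom.pi (R := k) (fun f : A →ₐ[k] k => f)) = nilradical A := by
  ext a
  rw [RingHom.mem_ker]
  constructor
  · intro h
    by_contra hn
    obtain ⟨χ, hχ⟩ := exists_algHom_ne_zero_of_not_mem_nilradical k A a hn
    exact hχ (congrFun h χ)
  · intro h
    funext χ
    obtain ⟨n, hn⟩ := mem_nilradical.1 h
    have : (χ a) ^ n = 0 := by rw [← map_pow, hn, map_zero]
    exact eq_zero_of_pow_eq_zero this

/-- The evaluation map to the functions on characters is surjective. -/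
theorem pi_algHom_surjective (k : Type u) [Field k]
    (A : Type v) [CommRing A] [Algebra k A] [Module.Finite k A] :
    Function.Surjective (AlgHom.pi (R := k) (fun f : A →ₐ[k] k => f)) := by
  classical
  have hfin : Finite (A →ₐ[k] k) := finite_algHom k A
  have : Fintype (A →ₐ[k] k) := Fintype.ofFinite _
  set ev : A →ₗ[k] ((A →ₐ[k] k) → k) := (AlgHom.pi (R := k) (fun f : A →ₐ[k] k => f)).toLinearMap
    with hev
  have hrange : LinearMap.range ev = ⊤ := by
    by_contra hne
    obtain ⟨f, hf0, hf⟩ := Submodule.exists_le_ker_of_lt_top _ (lt_top_iff_ne_top.2 hne)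
    apply hf0
    have hli := linearIndependent_toLinearMap k A k
    have hsum : ∑ χ : A →ₐ[k] k, f (Pi.single χ 1) • χ.toLinearMap = 0 := by
      ext a
      have h1 : f (ev a) = 0 := hf ⟨a, rfl⟩
      have h2 : ev a = ∑ χ : A →ₐ[k] k, χ a • (Pi.single χ (1 : k) : (A →ₐ[k] k) → k) := by
        ext ψ
        simp [hev, Finset.sum_apply, Pi.single_apply]
      rw [h2, map_sum] at h1
      simp only [map_smul, smul_eq_mul] at h1
      simp only [LinearMap.sum_apply, LinearMap.smul_apply, AlgHom.toLinearMap_apply,
        smul_eq_mul, LinearMap.zero_apply]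
      rw [← h1]
      refine Finset.sum_congr rfl fun χ _ => mul_comm _ _
    have hc := (Fintype.linearIndependent_iff.1 hli) (fun χ => f (Pi.single χ 1)) hsum
    apply LinearMap.ext
    intro g
    have hg : g = ∑ χ : A →ₐ[k] k, g χ • (Pi.single χ (1 : k) : (A →ₐ[k] k) → k) := by
      ext ψ
      simp [Finset.sum_apply, Pi.single_apply]
    rw [hg, map_sum]
    simp [hc]
  intro g
  have : g ∈ LinearMap.range ev := by rw [hrange]; trivial
  obtain ⟨a, ha⟩ := this
  exact ⟨a, ha⟩

end Groth.Agent.H8
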