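import Mathlib
import Groth.Agent.Lib.Helper8.FinAlg

/-!
# Derivations of finite-dimensional algebras over an algebraically closed field (helper8)
-/

set_option autoImplicit false
universe u v

namespace Groth.Agent.H8

open Polynomial

/-- In an Artinian ring, a maximal ideal `m` with `m ^ 2 ≠ m` has a nonzero socle element. -/
theorem exists_ne_zero_mul_eq_zero_of_maximal {A : Type v} [CommRing A] [IsArtinianRing A]
    (m : Ideal A) (hmax : m.IsMaximal) (_hm2 : ¬ m ≤ m * m) :
    ∃ s : A, s ≠ 0 ∧ ∀ a ∈ m, a * s = 0 := by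
  classical
  have hnoeth : IsNoetherianRing A := inferInstance
  -- the chain m^n stabilizes
  let f : ℕ →o (Submodule A A)ᵒᵈ :=
    { toFun := fun n => OrderDual.toDual (m ^ n)
      monotone' := fun i j hij => Ideal.pow_le_pow_right hij }
  obtain ⟨n, hn⟩ := IsArtinian.monotone_stabilizes f
  have hex : ∃ r, m ^ r = m ^ (r + 1) := ⟨n, by
    have := hn (n + 1) (Nat.le_succ n)
    exact congrArg OrderDual.ofDual this⟩
  set r := Nat.find hex with hr
  have hrspec : m ^ r = m ^ (r + 1) := Nat.find_spec hex
  have hr0 : r ≠ 0 := by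
    intro h0
    rw [h0] at hrspec
    simp only [pow_zero, zero_add, pow_one, Ideal.one_eq_top] at hrspec
    exact hmax.ne_top hrspec.symm
  have hrmin : m ^ (r - 1) ≠ m ^ r := by
    intro heq
    have : r - 1 < r := Nat.sub_lt (Nat.pos_of_ne_zero hr0) Nat.one_pos
    apply Nat.find_min hex this
    rw [Nat.sub_add_cancel (Nat.pos_of_ne_zero hr0)]
    exact heq
  have hle : m ^ r ≤ m ^ (r - 1) := Ideal.pow_le_pow_right (Nat.sub_le r 1)
  obtain ⟨t, htmem, htnot⟩ := SetLike.exists_of_lt (lt_of_le_of_ne hle (Ne.symm hrmin))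
  -- Nakayama
  have hN : m ^ r ≤ m • m ^ r := by
    rw [smul_eq_mul, ← pow_succ', ← hrspec]
  obtain ⟨e, he1, he⟩ := Submodule.exists_sub_one_mem_and_smul_eq_zero_of_fg_of_le_smul m (m ^ r)
    (IsNoetherian.noetherian _) hN
  refine ⟨e * t, ?_, ?_⟩
  · intro h0
    apply htnot
    have : t = - ((e - 1) * t) := by
      have : (e - 1) * t = e * t - t := by ring
      rw [this, h0]; ring
    rw [this]
    refine neg_mem ?_
    have h2 : (e - 1) * t ∈ m * m ^ (r - 1) := Ideal.mul_mem_mul he1 htmem
    rwa [← pow_succ', Nat.sub_add_cancel (Nat.pos_of_ne_zero hr0)] at h2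
  · intro a ha
    have h2 : a * t ∈ m * m ^ (r - 1) := Ideal.mul_mem_mul ha htmem
    rw [← pow_succ', Nat.sub_add_cancel (Nat.pos_of_ne_zero hr0)] at h2
    have := he _ h2
    rw [smul_eq_mul] at this
    rw [← this]; ring

/-- A non-reduced finite-dimensional commutative algebra over an algebraically closed field has a
nonzero derivation. -/
theorem exists_derivation_ne_zero (k : Type u) [Field k] [IsAlgClosed k]
    (A : Type v) [CommRing A] [Algebra k A] [Module.Finite k A] (hA : ¬ IsReduced A) :
    ∃ D : Derivation k A A, D ≠ 0 := by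
  classical
  have hint : Algebra.IsIntegral k A := Algebra.IsIntegral.of_finite k A
  have hart : IsArtinianRing A := IsArtinianRing.of_finite k A
  have hnoeth : IsNoetherianRing A := inferInstance
  rw [isReduced_iff] at hA
  push Not at hA
  obtain ⟨x, hxnil, hx0⟩ := hA
  let I : Ideal A :=
    { carrier := {a | a * x = 0}
      add_mem' := by
        intro a b ha hb
        simp only [Set.mem_ofPred_eq] at ha hb ⊢
        rw [add_mul, ha, hb, add_zero]
      zero_mem' := by simp
      smul_mem' := by
        intro c a ha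
        simp only [Set.mem_ofPred_eq] at ha ⊢
        rw [smul_eq_mul, mul_assoc, ha, mul_zero] }
  have hI : I ≠ ⊤ := by
    intro h
    have : (1 : A) ∈ I := h ▸ Submodule.mem_top
    apply hx0
    have h1 : (1 : A) * x = 0 := this
    simpa using h1
  obtain ⟨m, hmax, hIm⟩ := Ideal.exists_le_maximal I hI
  have hxm : x ∈ m := by
    obtain ⟨n, hn⟩ := hxnil
    exact hmax.isPrime.mem_of_pow_mem n (hn ▸ m.zero_mem)
  have hm2 : ¬ m ≤ m * m := by
    intro hle
    obtain ⟨e, he1, he⟩ := Submodule.exists_sub_one_mem_and_smul_eq_zero_of_fg_of_le_smul m m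
      (IsNoetherian.noetherian _) (by rwa [smul_eq_mul])
    have hem : e ∈ m := hIm (by
      show e * x = 0
      have := he x hxm
      rwa [smul_eq_mul] at this)
    apply hmax.ne_top
    rw [Ideal.eq_top_iff_one]
    have : (1 : A) = e - (e - 1) := by ring
    rw [this]
    exact m.sub_mem hem he1
  obtain ⟨s, hs0, hs⟩ := exists_ne_zero_mul_eq_zero_of_maximal m hmax hm2
  obtain ⟨x₀, hx₀m, hx₀⟩ := SetLike.not_le_iff_exists.mp hm2
  have : m.IsPrime := hmax.isPrime
  obtain ⟨χ, hχ⟩ := exists_algHom_ker_eq_of_isPrime k A m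
  have hχm : ∀ a ∈ m, χ a = 0 := by
    intro a ha
    rw [← hχ] at ha
    exact ha
  have hdec : ∀ a : A, a - algebraMap k A (χ a) ∈ m := by
    intro a
    rw [← hχ, RingHom.mem_ker, map_sub, AlgHom.commutes]
    simp
  obtain ⟨φ, hφx₀, hφ⟩ := Submodule.exists_le_ker_of_notMem
    (p := (m * m).restrictScalars k) (v := x₀) hx₀
  let ψ : A →ₗ[k] k := φ - φ 1 • χ.toLinearMap
  have hψ1 : ψ 1 = 0 := by simp [ψ]
  have hψmm : ∀ z ∈ m * m, ψ z = 0 := by
    intro z hz
    have h1 : φ z = 0 := hφ (show z ∈ (m * m).restrictScalars k from hz)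
    have h2 : χ z = 0 := hχm z (Ideal.mul_le_right hz)
    simp [ψ, h1, h2]
  have hψmul : ∀ a b : A, ψ (a * b) = χ a * ψ b + χ b * ψ a := by
    intro a b
    have hz := hψmm _ (Ideal.mul_mem_mul (hdec a) (hdec b))
    have : (a - algebraMap k A (χ a)) * (b - algebraMap k A (χ b))
        = a * b - χ a • b - χ b • a + (χ a * χ b) • (1 : A) := by
      simp only [Algebra.smul_def, map_mul]; ring
    rw [this] at hz
    simp only [map_add, map_sub, map_smul, smul_eq_mul, hψ1, mul_zero, add_zero] at hz
    linear_combination hz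
  have hmuls : ∀ a : A, a * s = χ a • s := by
    intro a
    have := hs _ (hdec a)
    rw [sub_mul, sub_eq_zero] at this
    rw [this, Algebra.smul_def]
  let D : Derivation k A A := Derivation.mk' (ψ.smulRight s) (by
    intro a b
    simp only [LinearMap.smulRight_apply, smul_eq_mul]
    rw [mul_smul_comm, mul_smul_comm, hmuls a, hmuls b, hψmul a b, smul_smul, smul_smul,
      ← add_smul]
    congr 1
    ring)
  refine ⟨D, ?_⟩
  intro hD
  have h1 : D x₀ = 0 := by rw [hD]; rfl
  have h2 : D x₀ = ψ x₀ • s := rfl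
  have h3 : ψ x₀ = φ x₀ := by simp [ψ, hχm x₀ hx₀m]
  rw [h2, h3, smul_eq_zero] at h1
  rcases h1 with h1 | h1
  · exact hφx₀ h1
  · exact hs0 h1

/-- A reduced commutative algebra that is algebraic over a perfect field has no nonzero
derivation. -/
theorem derivation_eq_zero_of_isReduced (k : Type u) [Field k] [PerfectField k]
    (A : Type v) [CommRing A] [Algebra k A] [Algebra.IsIntegral k A] [IsReduced A]
    (D : Derivation k A A) : D = 0 := by
  ext a
  have hint : IsIntegral k a := Algebra.IsIntegral.isIntegral a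
  have hrad : IsRadical (minpoly k a) := minpoly.isRadical k a
  have hsq : Squarefree (minpoly k a) := hrad.squarefree (minpoly.ne_zero hint)
  have hsep : (minpoly k a).Separable := PerfectField.separable_iff_squarefree.mpr hsq
  obtain ⟨u, v, huv⟩ := hsep
  have h1 : aeval a u * aeval a (minpoly k a) + aeval a v * aeval a (derivative (minpoly k a))
      = 1 := by
    rw [← map_mul, ← map_mul, ← map_add, huv, map_one]
  rw [minpoly.aeval, mul_zero, zero_add] at h1
  have h2 : D (aeval a (minpoly k a)) = aeval a (derivative (minpoly k a)) • D a :=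
    D.map_aeval _ _
  rw [minpoly.aeval, map_zero, smul_eq_mul] at h2
  have : D a = (aeval a v * aeval a (derivative (minpoly k a))) * D a := by rw [h1, one_mul]
  rw [this, mul_assoc, ← h2, mul_zero]
  rfl

end Groth.Agent.H8
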