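import Mathlib

/-!
# Cardinality of ring epimorphisms (zigzag argument)
-/

set_option autoImplicit false
universe u
open Function TensorProduct Cardinal

namespace Groth.Agent.H8.EpiCard

variable {R S : Type u} [CommRing R] [CommRing S] [Algebra R S]

/-- Zigzag data for an element `g`. -/
def Zig (g : S) (k l : ℕ) (X : Matrix (Fin k) (Fin l) R) (P : Fin l → R) (Q : Fin k → R) : Prop :=
  ∃ (Y : Fin k → S) (Z : Fin l → S),
    (∀ j, ∑ i, Y i * algebraMap R S (X i j) = algebraMap R S (P j)) ∧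
    (∀ i, ∑ j, algebraMap R S (X i j) * Z j = algebraMap R S (Q i)) ∧
    g = ∑ i, Y i * algebraMap R S (Q i)

theorem Zig.unique {g g' : S} {k l : ℕ} {X : Matrix (Fin k) (Fin l) R} {P : Fin l → R}
    {Q : Fin k → R} (h : Zig g k l X P Q) (h' : Zig g' k l X P Q) : g = g' := by
  obtain ⟨Y, Z, hP, hQ, rfl⟩ := h
  obtain ⟨Y', Z', hP', hQ', rfl⟩ := h'
  calc ∑ i, Y i * algebraMap R S (Q i)
      = ∑ i, Y i * ∑ j, algebraMap R S (X i j) * Z' j := by simp_rw [hQ']
    _ = ∑ j, (∑ i, Y i * algebraMap R S (X i j)) * Z' j := by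
        simp_rw [Finset.mul_sum, Finset.sum_mul]
        rw [Finset.sum_comm]
        simp_rw [mul_assoc]
    _ = ∑ j, (∑ i, Y' i * algebraMap R S (X i j)) * Z' j := by simp_rw [hP, hP']
    _ = ∑ i, Y' i * ∑ j, algebraMap R S (X i j) * Z' j := by
        simp_rw [Finset.mul_sum, Finset.sum_mul]
        rw [Finset.sum_comm]
        simp_rw [mul_assoc]
    _ = ∑ i, Y' i * algebraMap R S (Q i) := by simp_rw [hQ']

theorem exists_zig [Algebra.IsEpi R S] (g : S) :
    ∃ (k l : ℕ) (X : Matrix (Fin k) (Fin l) R) (P : Fin l → R) (Q : Fin k → R),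
      Zig g k l X P Q := by
  classical
  have h := (Algebra.isEpi_iff_forall_one_tmul_eq R S).1 inferInstance g
  let P₀ : Submodule R S := Submodule.span R {1, g}
  have hP₀ : P₀.FG := Submodule.fg_span (Set.toFinite _)
  have h1P : (1 : S) ∈ P₀ := Submodule.subset_span (by simp)
  have hgP : g ∈ P₀ := Submodule.subset_span (by simp)
  let t : P₀ ⊗[R] S := (⟨1, h1P⟩ : P₀) ⊗ₜ[R] g - (⟨g, hgP⟩ : P₀) ⊗ₜ[R] (1 : S)
  have ht : LinearMap.rTensor S P₀.subtype t = 0 := by
    simp only [t, map_sub, LinearMap.rTensor_tmul, Submodule.coe_subtype]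
    rw [h, sub_self]
  obtain ⟨Q, hPQ, hQfg, hQt⟩ := TensorProduct.eq_zero_of_fg_of_subtype_eq_zero hP₀ ht
  obtain ⟨r, s, hs⟩ := Submodule.fg_iff_exists_fin_generating_family.1 hQfg
  have hsQ : ∀ i, s i ∈ Q := fun i => hs ▸ Submodule.subset_span ⟨i, rfl⟩
  let m : Fin r → Q := fun i => ⟨s i, hsQ i⟩
  have hm : Submodule.span R (Set.range m) = ⊤ := by
    apply Submodule.map_injective_of_injective Q.injective_subtype
    rw [Submodule.map_span, Submodule.map_top, Submodule.range_subtype, ← Set.range_comp]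
    exact hs
  obtain ⟨c, hc⟩ := (Submodule.mem_span_range_iff_exists_fun R).1
    (hs ▸ hPQ h1P : (1 : S) ∈ Submodule.span R (Set.range s))
  obtain ⟨d, hd⟩ := (Submodule.mem_span_range_iff_exists_fun R).1
    (hs ▸ hPQ hgP : g ∈ Submodule.span R (Set.range s))
  have hc' : (⟨1, hPQ h1P⟩ : Q) = ∑ i, c i • m i := by
    apply Subtype.ext
    simp only [Submodule.coe_sum, Submodule.coe_smul, m]
    exact hc.symm
  have hd' : (⟨g, hPQ hgP⟩ : Q) = ∑ i, d i • m i := by
    apply Subtype.ext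
    simp only [Submodule.coe_sum, Submodule.coe_smul, m]
    exact hd.symm
  let n : Fin r → S := fun i => c i • g - d i • (1 : S)
  have hmn : ∑ i, m i ⊗ₜ[R] n i = (0 : Q ⊗[R] S) := by
    have e : ∑ i, m i ⊗ₜ[R] n i =
        (∑ i, c i • m i) ⊗ₜ[R] g - (∑ i, d i • m i) ⊗ₜ[R] (1 : S) := by
      simp only [n, tmul_sub, tmul_smul, ← smul_tmul', sum_tmul]
      exact Finset.sum_sub_distrib (fun x => (c x • m x) ⊗ₜ[R] g) (fun x => (d x • m x) ⊗ₜ[R] (1 : S))
    rw [e, ← hc', ← hd']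
    have : LinearMap.rTensor S (Submodule.inclusion hPQ) t =
        (⟨1, hPQ h1P⟩ : Q) ⊗ₜ[R] g - (⟨g, hPQ hgP⟩ : Q) ⊗ₜ[R] (1 : S) := by
      simp only [t, map_sub, LinearMap.rTensor_tmul]
      rfl
    rw [← this, hQt]
  obtain ⟨k, a, y, hay, ham⟩ := TensorProduct.vanishesTrivially_of_sum_tmul_eq_zero R hm hmn
  have ham' : ∀ j, ∑ i, a i j • s i = 0 := fun j => by
    have := congrArg Subtype.val (ham j)
    simpa only [Submodule.coe_sum, Submodule.coe_smul, m, ZeroMemClass.coe_zero] using this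
  refine ⟨r, k + 1, fun i => Fin.cons (c i) (fun j => - a i j), Fin.cons 1 (fun _ => 0), d,
    s, Fin.cons g y, ?_, ?_, ?_⟩
  · intro j
    refine Fin.cases ?_ (fun j => ?_) j
    · simp only [Fin.cons_zero, map_one]
      rw [← hc]
      refine Finset.sum_congr rfl fun i _ => ?_
      rw [Algebra.smul_def, mul_comm]
    · simp only [Fin.cons_succ, map_neg, map_zero, mul_neg, Finset.sum_neg_distrib, neg_eq_zero]
      rw [← ham' j]
      refine Finset.sum_congr rfl fun i _ => ?_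
      rw [Algebra.smul_def, mul_comm]
  · intro i
    rw [Fin.sum_univ_succ]
    simp only [Fin.cons_zero, Fin.cons_succ, map_neg, neg_mul, Finset.sum_neg_distrib]
    have := hay i
    simp only [n] at this
    have e : ∑ j, algebraMap R S (a i j) * y j = ∑ j, a i j • y j :=
      Finset.sum_congr rfl fun j _ => (Algebra.smul_def _ _).symm
    rw [e, ← this, Algebra.smul_def, Algebra.smul_def, mul_one]
    ring
  · rw [← hd]
    refine Finset.sum_congr rfl fun i _ => ?_
    rw [Algebra.smul_def, mul_comm]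

variable (R) in
/-- The type of zigzag data. -/
abbrev Data : Type u :=
  Σ p : ℕ × ℕ, (Matrix (Fin p.1) (Fin p.2) R × (Fin p.2 → R) × (Fin p.1 → R))

theorem mk_fun_le [Infinite R] (α : Type) [Fintype α] : #(α → R) ≤ #R := by
  rw [Cardinal.mk_arrow, Cardinal.lift_uzero, Cardinal.mk_fintype α, Cardinal.lift_natCast]
  exact Cardinal.power_nat_le (Cardinal.aleph0_le_mk R)

theorem mk_data_le [Infinite R] : #(Data R) ≤ #R := by
  have hR : ℵ₀ ≤ #R := Cardinal.aleph0_le_mk R
  rw [Cardinal.mk_sigma]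
  have hle : ∀ p : ℕ × ℕ,
      #(Matrix (Fin p.1) (Fin p.2) R × (Fin p.2 → R) × (Fin p.1 → R)) ≤ #R := by
    intro p
    rw [Cardinal.mk_prod, Cardinal.mk_prod, Cardinal.lift_id, Cardinal.lift_id, Cardinal.lift_id,
      Cardinal.lift_id]
    have h1 : #(Matrix (Fin p.1) (Fin p.2) R) ≤ #R := by
      have e : Matrix (Fin p.1) (Fin p.2) R ≃ (Fin p.1 × Fin p.2 → R) :=
        (Equiv.curry _ _ _).symm
      rw [Cardinal.mk_congr e]
      exact mk_fun_le _
    calc #(Matrix (Fin p.1) (Fin p.2) R) * (#(Fin p.2 → R) * #(Fin p.1 → R))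
        ≤ #R * (#R * #R) := mul_le_mul' h1 (mul_le_mul' (mk_fun_le _) (mk_fun_le _))
      _ = #R := by rw [Cardinal.mul_eq_self hR, Cardinal.mul_eq_self hR]
  calc Cardinal.sum (fun p : ℕ × ℕ =>
        #(Matrix (Fin p.1) (Fin p.2) R × (Fin p.2 → R) × (Fin p.1 → R)))
      ≤ Cardinal.sum (fun _ : ℕ × ℕ => #R) := Cardinal.sum_le_sum _ _ hle
    _ = #R := by
      rw [Cardinal.sum_const, Cardinal.lift_uzero, Cardinal.mk_eq_aleph0, Cardinal.lift_aleph0,
        Cardinal.aleph0_mul_eq hR]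

theorem mk_le [Algebra.IsEpi R S] [Infinite R] : #S ≤ #R := by
  have hex : ∀ g : S, ∃ d : Data R, Zig g d.1.1 d.1.2 d.2.1 d.2.2.1 d.2.2.2 := fun g => by
    obtain ⟨k, l, X, P, Q, h⟩ := exists_zig (R := R) g
    exact ⟨⟨(k, l), X, P, Q⟩, h⟩
  choose f hf using hex
  have hinj : Injective f := by
    intro g g' hgg'
    have h1 := hf g
    have h2 := hf g'
    rw [hgg'] at h1
    exact h1.unique h2
  exact (Cardinal.mk_le_of_injective hinj).trans mk_data_le

end Groth.Agent.H8.EpiCard
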