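import Mathlib
import Groth.Agent.Lib.Helper8.FinAlg

/-!
# The reduction of a finite-dimensional algebra over an algebraically closed field is étale (helper8)
-/

set_option autoImplicit false
universe u v

namespace Groth.Agent.H8

/-- `A ⧸ nilradical A` is isomorphic to the algebra of functions on the characters. -/
noncomputable def quotNilradicalEquivPi (k : Type u) [Field k] [IsAlgClosed k]
    (A : Type v) [CommRing A] [Algebra k A] [Module.Finite k A] :
    (A ⧸ nilradical A) ≃ₐ[k] ((A →ₐ[k] k) → k) :=
  haveI : Algebra.IsIntegral k A := Algebra.IsIntegral.of_finite k A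
  (Ideal.quotientEquivAlgOfEq k (ker_pi_algHom_eq_nilradical k A).symm).trans
    (Ideal.quotientKerAlgEquivOfSurjective (pi_algHom_surjective k A))

theorem quotNilradicalEquivPi_mk (k : Type u) [Field k] [IsAlgClosed k]
    (A : Type v) [CommRing A] [Algebra k A] [Module.Finite k A] (a : A) (χ : A →ₐ[k] k) :
    quotNilradicalEquivPi k A (Ideal.Quotient.mk _ a) χ = χ a := rfl

instance formallyEtale_quotient_nilradical (k : Type u) [Field k] [IsAlgClosed k]
    (A : Type v) [CommRing A] [Algebra k A] [Module.Finite k A] :
    Algebra.FormallyEtale k (A ⧸ nilradical A) := by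
  have : Finite (A →ₐ[k] k) := finite_algHom k A
  exact Algebra.FormallyEtale.of_equiv (quotNilradicalEquivPi k A).symm

/-- A reduced finite-dimensional commutative algebra over an algebraically closed field is
formally étale. -/
theorem formallyEtale_of_isReduced (k : Type u) [Field k] [IsAlgClosed k]
    (C : Type v) [CommRing C] [Algebra k C] [Module.Finite k C] [IsReduced C] :
    Algebra.FormallyEtale k C := by
  have : Algebra.IsIntegral k C := Algebra.IsIntegral.of_finite k C
  have : Finite (C →ₐ[k] k) := finite_algHom k C
  have hinj : Function.Injective (AlgHom.pi (R := k) (fun f : C →ₐ[k] k => f)) := by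
    rw [injective_iff_map_eq_zero]
    intro a ha
    have h1 : a ∈ RingHom.ker (AlgHom.pi (R := k) (fun f : C →ₐ[k] k => f)) := ha
    rw [ker_pi_algHom_eq_nilradical, nilradical_eq_zero] at h1
    simpa using h1
  exact Algebra.FormallyEtale.of_equiv
    (AlgEquiv.ofBijective _ ⟨hinj, pi_algHom_surjective k C⟩).symm

end Groth.Agent.H8
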