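import Mathlib
import Groth.Agent.Lib.Helper8.LocalIso

/-!
# Étale separated birational morphisms of integral schemes are open immersions
-/

set_option autoImplicit false
universe u
open CategoryTheory CategoryTheory.Limits AlgebraicGeometry IsLocalRing

namespace Groth.Agent.H8.EtaleBir

/-- Étale morphisms are locally quasi-finite. -/
theorem locallyQuasiFinite_of_etale {X Y : Scheme.{u}} (f : X ⟶ Y) [Etale f] :
    LocallyQuasiFinite f := by
  rw [HasRingHomProperty.iff_appLE (P := @LocallyQuasiFinite)]
  intro U V e
  have h : (f.appLE U.1 V.1 e).hom.Etale := f.etale_appLE U.2 V.2 e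
  algebraize [(f.appLE U.1 V.1 e).hom]
  have : Algebra.Etale Γ(Y, U.1) Γ(X, V.1) := h
  change Algebra.QuasiFinite Γ(Y, U.1) Γ(X, V.1)
  infer_instance

/-- The residue map of a local ring which is a field is bijective. -/
lemma residue_bijective_of_isField (R : Type u) [CommRing R] [IsLocalRing R] (h : IsField R) :
    Function.Bijective (IsLocalRing.residue R) := by
  refine ⟨?_, IsLocalRing.residue_surjective⟩
  rw [injective_iff_map_eq_zero]
  intro a ha
  rw [IsLocalRing.residue_eq_zero_iff] at ha
  rw [(IsLocalRing.isField_iff_maximalIdeal_eq).1 h] at ha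
  exact ha

/-- If `f` restricted to an open `U₀` is a monomorphism, a point of `X ×_Y X` both of whose
projections lie in `U₀` is on the diagonal. -/
lemma mem_range_diagonal_of_mono {X Y : Scheme.{u}} (f : X ⟶ Y) (U₀ : X.Opens) [Mono (U₀.ι ≫ f)]
    (z : ↥(pullback f f)) (h1 : pullback.fst f f z ∈ U₀) (h2 : pullback.snd f f z ∈ U₀) :
    z ∈ Set.range (pullback.diagonal f) := by
  let m := U₀.ι ≫ f
  have hz : z ∈ Set.range (pullback.map m m f f U₀.ι U₀.ι (𝟙 Y) (Category.comp_id _)
      (Category.comp_id _)) := by
    rw [Scheme.Pullback.range_map]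
    refine ⟨?_, ?_⟩
    · rw [Set.mem_preimage, Scheme.Opens.range_ι]; exact h1
    · rw [Set.mem_preimage, Scheme.Opens.range_ι]; exact h2
  obtain ⟨w, rfl⟩ := hz
  have hiso : IsIso (pullback.diagonal m) := inferInstance
  obtain ⟨u, rfl⟩ : ∃ u, pullback.diagonal m u = w :=
    ⟨inv (pullback.diagonal m) w, by
      rw [← Scheme.Hom.comp_apply, IsIso.inv_hom_id]; rfl⟩
  refine ⟨U₀.ι u, ?_⟩
  have heq : U₀.ι ≫ pullback.diagonal f = pullback.diagonal m ≫
      pullback.map m m f f U₀.ι U₀.ι (𝟙 Y) (Category.comp_id _) (Category.comp_id _) := by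
    apply pullback.hom_ext
    · rw [Category.assoc, pullback.diagonal_fst, Category.comp_id, Category.assoc]
      unfold pullback.map
      rw [pullback.lift_fst, ← Category.assoc, pullback.diagonal_fst, Category.id_comp]
    · rw [Category.assoc, pullback.diagonal_snd, Category.comp_id, Category.assoc]
      unfold pullback.map
      rw [pullback.lift_snd, ← Category.assoc, pullback.diagonal_snd, Category.id_comp]
  rw [← Scheme.Hom.comp_apply, ← Scheme.Hom.comp_apply, heq]

theorem isOpenImmersion_of_etale_birational {X Y : Scheme.{u}} [IsIntegral X] [IsIntegral Y]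
    (f : X ⟶ Y) [Etale f] [IsSeparated f] (hgen : f (genericPoint X) = genericPoint Y)
    (hbir : Function.Bijective (f.residueFieldMap (genericPoint X)).hom) : IsOpenImmersion f := by
  have hlqf : LocallyQuasiFinite f := locallyQuasiFinite_of_etale f
  have hF1 : IsField (X.presheaf.stalk (genericPoint X)) := Field.toIsField X.functionField
  have hF2 : IsField (Y.presheaf.stalk (f (genericPoint X))) := by
    rw [hgen]; exact Field.toIsField Y.functionField
  have hsq := Scheme.residue_residueFieldMap f (genericPoint X)
  have hbij : Function.Bijective (f.stalkMap (genericPoint X)).hom := by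
    have h1 : Function.Bijective (X.residue (genericPoint X)).hom :=
      residue_bijective_of_isField _ hF1
    have h2 : Function.Bijective (Y.residue (f (genericPoint X))).hom :=
      residue_bijective_of_isField _ hF2
    have h3 : Function.Bijective ((X.residue (genericPoint X)).hom ∘
        (f.stalkMap (genericPoint X)).hom) := by
      have : ((X.residue (genericPoint X)).hom : _ → _) ∘ (f.stalkMap (genericPoint X)).hom =
          (f.residueFieldMap (genericPoint X)).hom ∘ (Y.residue (f (genericPoint X))).hom := by
        ext a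
        exact congr(($hsq).hom a).symm
      rw [this]
      exact hbir.comp h2
    exact (Function.Bijective.of_comp_iff' h1 _).mp h3
  have hiso : IsIso (f.stalkMap (genericPoint X)) :=
    (ConcreteCategory.isIso_iff_bijective _).mpr hbij
  obtain ⟨U₀, hηU₀, hU₀⟩ := LocalIso.exists_isOpenImmersion_of_isIso_stalkMap f (genericPoint X)
  have hΔs : Surjective (pullback.diagonal f) := by
    constructor
    intro z
    by_contra hz
    have hcl : IsClosed (Set.range (pullback.diagonal f)) :=
      (pullback.diagonal f).isClosedEmbedding.isClosed_range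
    have hopen : IsOpen ((pullback.fst f f) '' (Set.range (pullback.diagonal f))ᶜ) :=
      (pullback.fst f f).isOpenMap _ hcl.isOpen_compl
    have hne : ((pullback.fst f f) '' (Set.range (pullback.diagonal f))ᶜ).Nonempty :=
      ⟨_, ⟨z, hz, rfl⟩⟩
    have hη : genericPoint X ∈ (pullback.fst f f) '' (Set.range (pullback.diagonal f))ᶜ :=
      ((genericPoint_spec X).mem_open_set_iff hopen).mpr (by simpa using hne)
    obtain ⟨z', hz', hz'1⟩ := hη
    have hz'2 : pullback.snd f f z' = genericPoint X := by
      apply LocalIso.eq_genericPoint_of_map_eq f _ hgen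
      rw [← Scheme.Hom.comp_apply, ← pullback.condition, Scheme.Hom.comp_apply, hz'1, hgen]
    exact hz' (mem_range_diagonal_of_mono f U₀ z' (hz'1 ▸ hηU₀) (hz'2 ▸ hηU₀))
  have hΔ : IsIso (pullback.diagonal f) :=
    (isIso_iff_isOpenImmersion_and_surjective _).mpr ⟨inferInstance, hΔs⟩
  have hmono : Mono f := (pullback.isIso_diagonal_iff f).mp hΔ
  exact IsOpenImmersion.of_flat_of_mono f

end Groth.Agent.H8.EtaleBir
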