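import Mathlib
import Groth.Agent.Lib.Helper8.FinEtIC
set_option autoImplicit false
universe u
open TensorProduct

namespace Groth.Agent.H8.S5065aux

theorem main (A A' L L₁ : Type u) [CommRing A] [IsDomain A]
    [IsIntegrallyClosed A] [CommRing A'] [IsDomain A'] [IsIntegrallyClosed A'] [Algebra A A']
    [Field L] [Algebra A L] [Algebra.IsAlgebraic A L] (hinj : Function.Injective (algebraMap A L))
    [Algebra.Etale A ↥(integralClosure A L)]
    [Field L₁] [Algebra A' L₁] [Algebra L L₁] [Algebra A L₁] [IsScalarTower A A' L₁] [IsScalarTower A L L₁]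
    (hinj' : Function.Injective (algebraMap A' L₁))
    (hgen : Subfield.closure (Set.range (algebraMap A' L₁) ∪ Set.range (algebraMap L L₁)) = ⊤) :
    Algebra.Etale A' ↥(integralClosure A' L₁) ∧
      integralClosure A' L₁ = Algebra.adjoin A' ((algebraMap L L₁) '' {x : L | IsIntegral A x}) := by
  classical
  haveI : Algebra.IsIntegral A (integralClosure A L) := inferInstance
  haveI : Algebra.FiniteType A (integralClosure A L) := inferInstance
  haveI : Module.Finite A (integralClosure A L) := Algebra.IsIntegral.finite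
  let g : (integralClosure A L) →ₐ[A] L₁ := (IsScalarTower.toAlgHom A L L₁).comp (integralClosure A L).val
  let μ : A' ⊗[A] (integralClosure A L) →ₐ[A'] L₁ :=
    Algebra.TensorProduct.lift (Algebra.ofId A' L₁) g (fun _ _ => Commute.all _ _)
  have hμ : ∀ (a : A') (c : integralClosure A L), μ (a ⊗ₜ c) = algebraMap A' L₁ a * algebraMap L L₁ c.1 := by
    intro a c
    show (Algebra.TensorProduct.lift (Algebra.ofId A' L₁) g (fun _ _ => Commute.all _ _)) (a ⊗ₜ[A] c) = _
    rw [Algebra.TensorProduct.lift_tmul]
    rfl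
  -- Claim 1: range of μ is the adjoin
  have hrange : μ.range = Algebra.adjoin A' ((algebraMap L L₁) '' {x : L | IsIntegral A x}) := by
    apply le_antisymm
    · rintro _ ⟨y, rfl⟩
      induction y using TensorProduct.induction_on with
      | zero => simp
      | tmul a c =>
        rw [AlgHom.toRingHom_eq_coe, RingHom.coe_coe, hμ, ← Algebra.smul_def]
        exact Subalgebra.smul_mem _ (Algebra.subset_adjoin (Set.mem_image_of_mem _ c.2)) a
      | add x y hx hy =>
        rw [map_add]; exact Subalgebra.add_mem _ hx hy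
    · rw [Algebra.adjoin_le_iff]
      rintro _ ⟨c, hc, rfl⟩
      refine ⟨(1 : A') ⊗ₜ[A] (⟨c, hc⟩ : integralClosure A L), ?_⟩
      rw [AlgHom.toRingHom_eq_coe, RingHom.coe_coe, hμ, map_one, one_mul]
  have hclos : Subfield.closure (μ.range : Set L₁) = ⊤ := by
    rw [eq_top_iff, ← hgen, Subfield.closure_le]
    rintro y (⟨a, rfl⟩ | ⟨l, rfl⟩)
    · apply Subfield.subset_closure
      exact ⟨algebraMap A' _ a, AlgHom.commutes μ a⟩
    · obtain ⟨y, hy0, hy⟩ := (Algebra.IsAlgebraic.isAlgebraic (R := A) l).exists_integral_multiple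
      have h1 : algebraMap L L₁ (y • l) ∈ Subfield.closure (μ.range : Set L₁) := by
        apply Subfield.subset_closure
        refine ⟨(1 : A') ⊗ₜ[A] (⟨y • l, hy⟩ : integralClosure A L), ?_⟩
        rw [AlgHom.toRingHom_eq_coe, RingHom.coe_coe, hμ, map_one, one_mul]
      have h2 : algebraMap L L₁ (algebraMap A L y) ∈ Subfield.closure (μ.range : Set L₁) := by
        apply Subfield.subset_closure
        refine ⟨algebraMap A' _ (algebraMap A A' y), ?_⟩
        rw [AlgHom.toRingHom_eq_coe, RingHom.coe_coe, AlgHom.commutes, ← IsScalarTower.algebraMap_apply,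
          ← IsScalarTower.algebraMap_apply]
      have h3 : algebraMap L L₁ (algebraMap A L y) ≠ 0 := by
        intro h
        have := (algebraMap L L₁).injective (by rw [h, map_zero] : algebraMap L L₁ (algebraMap A L y) = algebraMap L L₁ 0)
        exact hy0 (hinj (by rw [this, map_zero]))
      have h4 : algebraMap L L₁ l = algebraMap L L₁ (y • l) / algebraMap L L₁ (algebraMap A L y) := by
        rw [Algebra.smul_def, map_mul, mul_div_cancel_left₀ _ h3]
      rw [h4]
      exact Subfield.div_mem _ h1 h2
  obtain ⟨h1, h2⟩ := Groth.Agent.H8.FEIC.main A' (A' ⊗[A] (integralClosure A L)) L₁ hinj' μ hclos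
  refine ⟨?_, h1.trans hrange⟩
  rw [h1]
  exact h2

end Groth.Agent.H8.S5065aux
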