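import Mathlib

universe u
open CategoryTheory AlgebraicGeometry Topology

namespace Groth.Agent.H8.FlatComp

variable {X Y : Scheme.{u}} (f : X ⟶ Y)

/-- A flat morphism maps generic points of irreducible components to generic points of
irreducible components. -/
theorem closure_map_mem_irreducibleComponents [Flat f] {ξ : X}
    (hξ : closure ({ξ} : Set X) ∈ irreducibleComponents X) :
    closure ({f ξ} : Set Y) ∈ irreducibleComponents Y := by
  refine ⟨isIrreducible_singleton.closure, ?_⟩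
  intro T hT hle
  have hgen := hT.isGenericPoint_genericPoint_closure
  set η' := hT.genericPoint with hη'
  have h1 : η' ⤳ f ξ := hgen.specializes (subset_closure (hle (subset_closure rfl)))
  obtain ⟨ξ', hξ'ξ, hξ'⟩ := Flat.generalizingMap f h1
  have h2 : closure ({ξ} : Set X) ⊆ closure {ξ'} :=
    closure_minimal (Set.singleton_subset_iff.mpr hξ'ξ.mem_closure) isClosed_closure
  have h3 : closure ({ξ'} : Set X) ⊆ closure {ξ} := hξ.2 isIrreducible_singleton.closure h2
  have h4 : ξ ⤳ ξ' := specializes_iff_mem_closure.mpr (h3 (subset_closure rfl))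
  have h5 : ξ' = ξ := (hξ'ξ.antisymm h4).eq
  have h6 : η' = f ξ := by rw [← hξ', h5]
  calc T ⊆ closure T := subset_closure
    _ = closure {η'} := hgen.def.symm
    _ = closure {f ξ} := by rw [h6]

theorem finite_inter_preimage_singleton [LocallyQuasiFinite f] {V : Y.Opens} (hV : IsAffineOpen V)
    {W : X.Opens} (hW : IsAffineOpen W) (e : W ≤ f ⁻¹ᵁ V) (η : Y) :
    ((W : Set X) ∩ f ⁻¹' {η}).Finite := by
  by_cases hηV : η ∈ V
  · haveI : IsAffine V.toScheme := hV
    haveI : IsAffine W.toScheme := hW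
    have hfin := (f.resLE V W e).finite_preimage_singleton ⟨η, hηV⟩
    refine (hfin.image W.ι).subset ?_
    rintro z ⟨hzW, hzG⟩
    refine ⟨⟨z, hzW⟩, ?_, rfl⟩
    show (f.resLE V W e) ⟨z, hzW⟩ = ⟨η, hηV⟩
    apply Subtype.ext
    have h1 : (f.resLE V W e ≫ V.ι) ⟨z, hzW⟩ = (W.ι ≫ f) ⟨z, hzW⟩ := by
      rw [Scheme.Hom.resLE_comp_ι]
    exact h1.trans hzG
  · convert Set.finite_empty
    rw [Set.eq_empty_iff_forall_notMem]
    rintro z ⟨hzW, hzG⟩
    apply hηV
    have : f z = η := hzG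
    rw [← this]
    exact e hzW

theorem locallyFinite_irreducibleComponents [Flat f] [LocallyQuasiFinite f]
    (hY : LocallyFinite (fun Z : ↥(irreducibleComponents ↥Y) => (Z : Set ↥Y))) :
    LocallyFinite (fun Z : ↥(irreducibleComponents ↥X) => (Z : Set ↥X)) := by
  intro x
  obtain ⟨t, ht, hfin⟩ := hY (f x)
  obtain ⟨V, hV, hxV, hVt⟩ : ∃ V : Y.Opens, IsAffineOpen V ∧ f x ∈ V ∧ (V : Set Y) ⊆ t := by
    obtain ⟨_, ⟨V, hV, rfl⟩, hxV, hVt⟩ :=
      Y.isBasis_affineOpens.exists_subset_of_mem_open (mem_interior_iff_mem_nhds.mpr ht)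
        isOpen_interior
    exact ⟨V, hV, hxV, hVt.trans interior_subset⟩
  obtain ⟨W, hW, hxW, hWV⟩ : ∃ W : X.Opens, IsAffineOpen W ∧ x ∈ W ∧ W ≤ f ⁻¹ᵁ V := by
    obtain ⟨_, ⟨W, hW, rfl⟩, hxW, hWV⟩ :=
      X.isBasis_affineOpens.exists_subset_of_mem_open (show x ∈ (f ⁻¹ᵁ V : Set X) from hxV)
        (f ⁻¹ᵁ V).isOpen
    exact ⟨W, hW, hxW, hWV⟩
  refine ⟨W, W.isOpen.mem_nhds hxW, ?_⟩
  -- generic points
  let gX : irreducibleComponents X → X := fun Z => Z.2.1.genericPoint
  let gY : irreducibleComponents Y → Y := fun Z => Z.2.1.genericPoint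
  have hgX : ∀ Z : irreducibleComponents X, closure {gX Z} = (Z : Set X) := by
    intro Z
    have := Z.2.1.isGenericPoint_genericPoint_closure
    rw [(isClosed_of_mem_irreducibleComponents _ Z.2).closure_eq] at this
    exact this.def
  have hgY : ∀ Z : irreducibleComponents Y, closure {gY Z} = (Z : Set Y) := by
    intro Z
    have := Z.2.1.isGenericPoint_genericPoint_closure
    rw [(isClosed_of_mem_irreducibleComponents _ Z.2).closure_eq] at this
    exact this.def
  have hinj : Function.Injective gX := by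
    intro Z Z' h
    apply Subtype.ext
    rw [← hgX Z, ← hgX Z', h]
  set E : Set Y := gY '' {Z | ((fun Z : ↥(irreducibleComponents ↥Y) => (Z : Set ↥Y)) Z ∩ t).Nonempty}
    with hE
  have hEfin : E.Finite := hfin.image gY
  set F : Set X := ⋃ η ∈ E, ((W : Set X) ∩ f ⁻¹' {η}) with hF
  have hFfin : F.Finite :=
    hEfin.biUnion fun η _ => finite_inter_preimage_singleton f hV hW hWV η
  refine (hFfin.preimage hinj.injOn).subset ?_
  rintro Z ⟨z, hzZ, hzW⟩
  have h1 : gX Z ⤳ z := by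
    rw [specializes_iff_mem_closure, hgX Z]; exact hzZ
  have h2 : gX Z ∈ W := h1.mem_open W.isOpen hzW
  have h3 : closure ({gX Z} : Set X) ∈ irreducibleComponents X := by
    rw [hgX Z]; exact Z.2
  have h4 := closure_map_mem_irreducibleComponents f h3
  have h5 : gY ⟨_, h4⟩ = f (gX Z) := by
    have := hgY ⟨_, h4⟩
    have hg1 : IsGenericPoint (gY ⟨_, h4⟩) (closure {f (gX Z)}) := this
    have hg2 : IsGenericPoint (f (gX Z)) (closure {f (gX Z)}) := rfl
    exact hg1.eq hg2
  show gX Z ∈ F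
  rw [hF, Set.mem_iUnion₂]
  refine ⟨f (gX Z), ?_, h2, rfl⟩
  rw [hE]
  refine ⟨⟨_, h4⟩, ?_, h5⟩
  exact ⟨f (gX Z), subset_closure rfl, hVt (hWV h2)⟩

end Groth.Agent.H8.FlatComp
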