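import Mathlib

/-!
# Short exact sequences with flat quotient

* `lTensor_injective_of_flat_quotient`: if `0 → N₁ → N₂ → N₃ → 0` is exact with `N₃` flat then
  `M ⊗ N₁ → M ⊗ N₂` is injective for every `M`.
* two-out-of-three for flatness when the quotient is flat.
-/

set_option autoImplicit false

universe u

open TensorProduct Function

namespace Groth.Agent.H8.FlatSES

variable {A : Type u} [CommRing A] {N₁ N₂ N₃ : Type u} [AddCommGroup N₁] [Module A N₁]
  [AddCommGroup N₂] [Module A N₂] [AddCommGroup N₃] [Module A N₃]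
  (g₁ : N₁ →ₗ[A] N₂) (g₂ : N₂ →ₗ[A] N₃)

/-- If `0 → N₁ → N₂ → N₃ → 0` is exact with `N₃` flat, then `M ⊗ N₁ → M ⊗ N₂` is injective. -/
theorem lTensor_injective_of_flat_quotient (hinj : Injective g₁) (hex : Exact g₁ g₂)
    (hsurj : Surjective g₂) [Module.Flat A N₃] (M : Type u) [AddCommGroup M] [Module A M] :
    Injective (g₁.lTensor M) := by
  -- a free presentation of `M`
  let π : (M →₀ A) →ₗ[A] M := Finsupp.linearCombination A id
  have hπ : Surjective π := Finsupp.linearCombination_surjective A surjective_id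
  have hfex : Exact (LinearMap.ker π).subtype π := LinearMap.exact_subtype_ker_map π
  exact lTensor_injective_of_exact_of_exact_of_rTensor_injective (M₁ := ↥(LinearMap.ker π))
    (M₂ := M →₀ A) (M₃ := M) hfex hπ hex hsurj
    (Module.Flat.rTensor_preserves_injective_linearMap (M := N₃) (LinearMap.ker π).subtype
      (LinearMap.ker π).injective_subtype)
    (Module.Flat.lTensor_preserves_injective_linearMap (M := M →₀ A) g₁ hinj)

theorem rTensor_injective_of_flat_quotient (hinj : Injective g₁) (hex : Exact g₁ g₂)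
    (hsurj : Surjective g₂) [Module.Flat A N₃] (M : Type u) [AddCommGroup M] [Module A M] :
    Injective (g₁.rTensor M) := by
  rw [← LinearMap.lTensor_inj_iff_rTensor_inj]
  exact lTensor_injective_of_flat_quotient g₁ g₂ hinj hex hsurj M

/-- In `0 → N₁ → N₂ → N₃ → 0` with `N₃` flat: `N₂` flat implies `N₁` flat. -/
theorem flat_left (hinj : Injective g₁) (hex : Exact g₁ g₂) (hsurj : Surjective g₂)
    [Module.Flat A N₃] [Module.Flat A N₂] : Module.Flat A N₁ := by
  rw [Module.Flat.iff_rTensor_preserves_injective_linearMap]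
  intro M' M _ _ _ _ f hf
  rw [injective_iff_map_eq_zero]
  intro η hη
  have h1 : g₁.lTensor M (f.rTensor N₁ η) = 0 := by rw [hη, map_zero]
  rw [← LinearMap.comp_apply, LinearMap.lTensor_comp_rTensor, ← LinearMap.rTensor_comp_lTensor,
    LinearMap.comp_apply] at h1
  have h2 : g₁.lTensor M' η = 0 :=
    (injective_iff_map_eq_zero _).1
      (Module.Flat.rTensor_preserves_injective_linearMap (M := N₂) f hf) _ h1
  exact (injective_iff_map_eq_zero _).1
    (lTensor_injective_of_flat_quotient g₁ g₂ hinj hex hsurj M') _ h2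

/-- In `0 → N₁ → N₂ → N₃ → 0` with `N₃` flat: `N₁` flat implies `N₂` flat. -/
theorem flat_middle (hinj : Injective g₁) (hex : Exact g₁ g₂) (hsurj : Surjective g₂)
    [Module.Flat A N₃] [Module.Flat A N₁] : Module.Flat A N₂ := by
  rw [Module.Flat.iff_rTensor_preserves_injective_linearMap]
  intro M' M _ _ _ _ f hf
  rw [injective_iff_map_eq_zero]
  intro ξ hξ
  -- the image of `ξ` in `M' ⊗ N₃` vanishes
  have h1 : g₂.lTensor M' ξ = 0 := by
    apply Module.Flat.rTensor_preserves_injective_linearMap (M := N₃) f hf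
    rw [map_zero, ← LinearMap.comp_apply, LinearMap.rTensor_comp_lTensor,
      ← LinearMap.lTensor_comp_rTensor, LinearMap.comp_apply, hξ, map_zero]
  obtain ⟨η, rfl⟩ := (lTensor_exact M' hex hsurj ξ).1 h1
  have h2 : g₁.lTensor M (f.rTensor N₁ η) = 0 := by
    rw [← LinearMap.comp_apply, LinearMap.lTensor_comp_rTensor, ← LinearMap.rTensor_comp_lTensor,
      LinearMap.comp_apply, hξ]
  have h3 : f.rTensor N₁ η = 0 :=
    (injective_iff_map_eq_zero _).1
      (lTensor_injective_of_flat_quotient g₁ g₂ hinj hex hsurj M) _ h2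
  have h4 : η = 0 :=
    (injective_iff_map_eq_zero _).1
      (Module.Flat.rTensor_preserves_injective_linearMap (M := N₁) f hf) _ h3
  rw [h4, map_zero]

end Groth.Agent.H8.FlatSES
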