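import Mathlib

/-!
# Forward differences of `x ^ (n+1)` (helper8)
-/

namespace Groth.Agent.H8

open Finset Nat Function fwdDiff

theorem two_mul_choose_two (n : ℕ) : 2 * (n + 1).choose 2 = n * (n + 1) := by
  have := Nat.add_one_mul_choose_eq n 1
  rw [Nat.choose_one_right] at this
  linarith

/-- The `n`-th forward difference of `x ↦ x^(n+1)`. -/
theorem fwdDiff_iter_pow_succ (n : ℕ) :
    (fwdDiff (1 : ℤ))^[n] (fun r : ℤ ↦ r ^ (n + 1)) =
      fun y ↦ ((n + 1).factorial : ℤ) * y + (((n + 1).choose 2 * n.factorial : ℕ) : ℤ) := by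
  induction n with
  | zero =>
    funext y
    simp
  | succ n IH =>
    have hΔ : (fwdDiff (1 : ℤ) fun (r : ℤ) ↦ r ^ (n + 1 + 1)) =
        ∑ i ∈ range (n + 1 + 1), (n + 1 + 1).choose i • fun r ↦ r ^ i := by
      ext x
      simp [nsmul_eq_mul, fwdDiff, add_pow, sum_range_succ, mul_comm]
    rw [iterate_succ_apply, hΔ, fwdDiff_iter_finsetSum]
    simp_rw [fwdDiff_iter_const_smul]
    rw [sum_range_succ, sum_range_succ, IH, fwdDiff_iter_eq_factorial,
      sum_eq_zero (fun i hi ↦ by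
        rw [fwdDiff_iter_pow_eq_zero_of_lt (mem_range.mp hi), smul_zero]), zero_add]
    funext y
    have h1 : (n + 1 + 1).choose n = (n + 1 + 1).choose 2 := by
      exact Nat.choose_symm_of_eq_add (by ring)
    have h2 : (n + 1 + 1).choose (n + 1) = n + 1 + 1 := by
      rw [Nat.choose_symm_of_eq_add (show n + 1 + 1 = (n + 1) + 1 by ring), Nat.choose_one_right]
    have h3 := two_mul_choose_two n
    have h4 := two_mul_choose_two (n + 1)
    simp only [Pi.add_apply, Pi.mul_apply, h1, h2, nsmul_eq_mul, Pi.natCast_def]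
    have h3' : (2 : ℤ) * ((n + 1).choose 2 : ℤ) = n * (n + 1) := by exact_mod_cast h3
    have h4' : (2 : ℤ) * ((n + 1 + 1).choose 2 : ℤ) = (n + 1) * (n + 1 + 1) := by exact_mod_cast h4
    have hf1 : ((n + 1 + 1).factorial : ℤ) = (n + 1 + 1) * ((n + 1) * (n.factorial : ℤ)) := by
      push_cast [Nat.factorial_succ]; ring
    have hf2 : ((n + 1).factorial : ℤ) = (n + 1) * (n.factorial : ℤ) := by
      push_cast [Nat.factorial_succ]; ring
    push_cast
    rw [hf1, hf2]
    have key : (2 : ℤ) * (((n : ℤ) + 1 + 1) * (((n : ℤ) + 1) * (n.factorial : ℤ) * y + ((n + 1).choose 2 : ℤ) * (n.factorial : ℤ)) + ((n + 1 + 1).choose 2 : ℤ) * (n.factorial : ℤ))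
        = 2 * ((((n : ℤ) + 1 + 1) * (((n : ℤ) + 1) * (n.factorial : ℤ))) * y + ((n + 1 + 1).choose 2 : ℤ) * (((n : ℤ) + 1) * (n.factorial : ℤ))) := by
      linear_combination ((n : ℤ) + 1 + 1) * (n.factorial : ℤ) * h3' - (n : ℤ) * (n.factorial : ℤ) * h4'
    have := mul_left_cancel₀ (two_ne_zero) key
    linarith

end Groth.Agent.H8
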