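import Mathlib

/-! Helper8: global functions as morphisms to the affine line; descent of global functions along
effective epimorphisms of schemes. -/

set_option autoImplicit false
universe u
open AlgebraicGeometry CategoryTheory Opposite CategoryTheory.Limits

namespace Groth.Agent.H8.GammaA1

/-- The ring `ℤ[T]`, in universe `u`. -/
noncomputable abbrev B : CommRingCat.{u} := CommRingCat.of (Polynomial (ULift.{u} ℤ))

/-- The variable. -/
noncomputable def T : (B.{u} : Type u) := (Polynomial.X : Polynomial (ULift.{u} ℤ))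

/-- The ring map `ℤ[T] → R` sending `T` to `s`. -/
noncomputable def evHom (R : CommRingCat.{u}) (s : R) : B.{u} ⟶ R :=
  CommRingCat.ofHom (Polynomial.eval₂RingHom
    ((Int.castRingHom R).comp (ULift.ringEquiv : ULift.{u} ℤ ≃+* ℤ).toRingHom) s)

theorem evHom_T (R : CommRingCat.{u}) (s : R) : (evHom R s).hom T = s := by
  change Polynomial.eval₂ _ s Polynomial.X = s
  exact Polynomial.eval₂_X _ _

theorem ringHom_ulift_int_ext {R : Type*} [Ring R] (φ ψ : ULift.{u} ℤ →+* R) : φ = ψ := by
  ext ⟨n⟩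
  have : (ULift.up n : ULift.{u} ℤ) = ((n : ℤ) : ULift.{u} ℤ) := rfl
  rw [this, map_intCast, map_intCast]

theorem hom_eq_evHom {R : CommRingCat.{u}} (φ : B.{u} ⟶ R) : φ = evHom R (φ.hom T) := by
  apply CommRingCat.hom_ext
  apply Polynomial.ringHom_ext'
  · exact ringHom_ulift_int_ext _ _
  · exact (evHom_T R (φ.hom T)).symm

theorem evHom_comp {R S : CommRingCat.{u}} (s : R) (ψ : R ⟶ S) :
    evHom R s ≫ ψ = evHom S (ψ.hom s) := by
  rw [hom_eq_evHom (evHom R s ≫ ψ)]
  congr 1
  change ψ.hom ((evHom R s).hom T) = _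
  rw [evHom_T]

theorem evHom_injective (R : CommRingCat.{u}) : Function.Injective (evHom R) := by
  intro s t h
  rw [← evHom_T R s, h, evHom_T]

/-- The morphism to the affine line attached to a global function. -/
noncomputable def m (X : Scheme.{u}) (s : Γ(X, ⊤)) : X ⟶ Scheme.Spec.obj (op B.{u}) :=
  ΓSpec.adjunction.homEquiv X (op B.{u}) ((evHom Γ(X, ⊤) s).op : Scheme.Γ.rightOp.obj X ⟶ op B.{u})

theorem comp_m {W Z : Scheme.{u}} (h : W ⟶ Z) (s : Γ(Z, ⊤)) :
    h ≫ m Z s = m W (h.appTop.hom s) := by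
  have key := ΓSpec.adjunction.homEquiv_naturality_left h
    ((evHom Γ(Z, ⊤) s).op : Scheme.Γ.rightOp.obj Z ⟶ op B.{u})
  unfold m
  refine key.symm.trans ?_
  congr 1
  rw [← evHom_comp]
  rfl

theorem m_injective (X : Scheme.{u}) : Function.Injective (m X) := by
  intro s t h
  apply evHom_injective
  exact Quiver.Hom.op_inj ((ΓSpec.adjunction.homEquiv X (op B.{u})).injective h)

theorem m_surjective (X : Scheme.{u}) : Function.Surjective (m X) := by
  intro g
  let ψ : B.{u} ⟶ Γ(X, ⊤) := ((ΓSpec.adjunction.homEquiv X (op B.{u})).symm g).unop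
  refine ⟨ψ.hom T, ?_⟩
  unfold m
  rw [← hom_eq_evHom ψ]
  exact Equiv.apply_symm_apply _ g

/-- Descent of global functions along an effective epimorphism whose kernel pair is `(p1, p2)`. -/
theorem descend {X Y P : Scheme.{u}} (f : X ⟶ Y) [EffectiveEpi f] (p1 p2 : P ⟶ X)
    (hsq : IsPullback p1 p2 f f) :
    Function.Injective f.appTop.hom ∧
      Set.range f.appTop.hom = {s : Γ(X, ⊤) | p1.appTop.hom s = p2.appTop.hom s} := by
  constructor
  · intro t t' h
    apply m_injective
    have h1 : f ≫ m Y t = f ≫ m Y t' := by rw [comp_m, comp_m, h]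
    exact (cancel_epi f).mp h1
  · ext s
    constructor
    · rintro ⟨t, rfl⟩
      change p1.appTop.hom (f.appTop.hom t) = p2.appTop.hom (f.appTop.hom t)
      apply m_injective
      rw [← comp_m, ← comp_m, ← comp_m, ← comp_m, ← Category.assoc, ← Category.assoc, hsq.w]
    · intro hs
      have hs' : p1.appTop.hom s = p2.appTop.hom s := hs
      have key : ∀ {Z : Scheme.{u}} (g₁ g₂ : Z ⟶ X), g₁ ≫ f = g₂ ≫ f → g₁ ≫ m X s = g₂ ≫ m X s := by
        intro Z g₁ g₂ hg
        calc g₁ ≫ m X s = (hsq.lift g₁ g₂ hg ≫ p1) ≫ m X s := by rw [hsq.lift_fst]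
          _ = hsq.lift g₁ g₂ hg ≫ m P (p1.appTop.hom s) := by rw [Category.assoc, comp_m p1]
          _ = hsq.lift g₁ g₂ hg ≫ m P (p2.appTop.hom s) := by rw [hs']
          _ = (hsq.lift g₁ g₂ hg ≫ p2) ≫ m X s := by rw [Category.assoc, comp_m p2]
          _ = g₂ ≫ m X s := by rw [hsq.lift_snd]
      obtain ⟨t, ht⟩ := m_surjective Y (EffectiveEpi.desc f (m X s) key)
      refine ⟨t, ?_⟩
      apply m_injective
      rw [← comp_m, ht, EffectiveEpi.fac]

end Groth.Agent.H8.GammaA1
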