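import Mathlib
import Groth.Prelude.Def_AssocGrMod
import Groth.Agent.Lib.Helper8.AdicLift

/-!
Lifting generation from the associated graded module of an `I`-filtration (complete base ring,
separated filtration).
-/

set_option autoImplicit false
universe u

namespace Groth.Agent.H8.GrModGen

open AssocGr Polynomial

variable {A : Type u} [CommRing A] {I : Ideal A} {M : Type u} [AddCommGroup M] [Module A M]
  (F : I.Filtration M)

theorem coeffHom_smul_monomM (f : ↥(FiltBl.IdealFiltration.adic I).rees) (d : ℕ) (x : F.N d)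
    (n : ℕ) :
    ReesM.coeff F (f • monomM F d x) n =
      if d ≤ n then (f : A[X]).coeff (n - d) • (x : M) else 0 := by
  classical
  rw [ReesM.coeff_smul]
  simp only [ReesM.coeff_monomM]
  split_ifs with h
  · rw [Finset.sum_eq_single (n - d, d)]
    · rw [if_pos rfl]
    · rintro ⟨p, q⟩ hp hne
      have hp := Finset.HasAntidiagonal.mem_antidiagonal.mp hp
      have : d ≠ q := by
        rintro rfl
        apply hne
        simp only [Prod.mk.injEq, and_true]
        simp only at hp
        omega
      simp only [if_neg this, smul_zero]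
    · intro hnot
      exfalso; apply hnot
      apply Finset.HasAntidiagonal.mem_antidiagonal.mpr
      simp only
      omega
  · refine Finset.sum_eq_zero ?_
    rintro ⟨p, q⟩ hp
    have hp := Finset.HasAntidiagonal.mem_antidiagonal.mp hp
    have : d ≠ q := by
      rintro rfl
      apply h
      simp only at hp
      omega
    simp only [if_neg this, smul_zero]

/-- One-step approximation from membership of the symbol in the `G`-span of the symbols. -/
theorem approx_of_mem_span {ι : Type*} [Fintype ι] (d : ι → ℕ) (x : (i : ι) → ↥(F.N (d i)))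
    (n : ℕ) (y : M) (hy : y ∈ F.N n)
    (hmem : (inDegM F n ⟨y, hy⟩ : GrMod F) ∈
      Submodule.span (GrRing (FiltBl.IdealFiltration.adic I))
        (Set.range fun i => (inDegM F (d i) (x i) : GrMod F))) :
    ∃ a : ι → A, (∀ i, a i ∈ I ^ (n - d i)) ∧ y - ∑ i, a i • (x i : M) ∈ F.N (n + 1) := by
  classical
  obtain ⟨c, hc⟩ := (Submodule.mem_span_range_iff_exists_fun (GrRing (FiltBl.IdealFiltration.adic I))).1 hmem
  have hf : ∀ i, ∃ f : ↥(FiltBl.IdealFiltration.adic I).rees,
      mkG (FiltBl.IdealFiltration.adic I) f = c i :=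
    fun i => mkG_surjective (FiltBl.IdealFiltration.adic I) (c i)
  choose f hf using hf
  have h0 : mkGM F (monomM F n ⟨y, hy⟩ - ∑ i, f i • monomM F (d i) (x i)) = 0 := by
    rw [map_sub, map_sum, ← coe_inDegM, ← hc, sub_eq_zero]
    refine Finset.sum_congr rfl fun i _ => ?_
    rw [← hf i, coe_inDegM, mkG_smul_mkGM]
  rw [mkGM_eq_zero_iff, mem_succMod_iff] at h0
  have h1 := h0 n
  rw [← ReesM.coeffHom_apply, map_sub, map_sum] at h1
  simp only [ReesM.coeffHom_apply, coeffHom_smul_monomM, ReesM.coeff_monomM] at h1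
  refine ⟨fun i => if d i ≤ n then (f i : A[X]).coeff (n - d i) else 0, ?_, ?_⟩
  · intro i
    simp only
    split_ifs
    · exact (f i).2 (n - d i)
    · exact Ideal.zero_mem _
  · convert h1 using 3
    · simp
    · simp only
      split_ifs <;> simp

/-- Iterating one-step approximations inside a submodule `P`. -/
theorem mem_span_of_approx [IsPrecomplete I A] (h0 : F.N 0 = ⊤) (hsep : ⨅ n, F.N n = ⊥)
    {ι : Type*} [Fintype ι] (d : ι → ℕ) (x : ι → M)
    (P : Submodule A M) (hx : ∀ i, x i ∈ P)
    (happ : ∀ n, ∀ y ∈ P, y ∈ F.N n →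
      ∃ a : ι → A, (∀ i, a i ∈ I ^ (n - d i)) ∧ y - ∑ i, a i • x i ∈ F.N (n + 1))
    (y : M) (hy : y ∈ P) : y ∈ Submodule.span A (Set.range x) := by
  classical
  choose c hc hc' using happ
  let next : ℕ → (ι → A) → (ι → A) := fun n s =>
    if h : y - ∑ i, s i • x i ∈ F.N n then
      s + c n (y - ∑ i, s i • x i)
        (P.sub_mem hy (P.sum_mem fun i _ => P.smul_mem _ (hx i))) h
    else s
  let f : ℕ → (ι → A) := fun n => Nat.rec (motive := fun _ => ι → A) 0 (fun n s => next n s) n
  have hf0 : f 0 = 0 := rfl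
  have hfs : ∀ n, f (n + 1) = next n (f n) := fun n => rfl
  have hinv : ∀ n, y - ∑ i, f n i • x i ∈ F.N n := by
    intro n
    induction n with
    | zero => rw [h0]; trivial
    | succ n ih =>
      rw [hfs]
      simp only [next, dif_pos ih]
      have := hc' n _ (P.sub_mem hy (P.sum_mem fun i _ => P.smul_mem _ (hx i))) ih
      convert this using 1
      simp only [Pi.add_apply, add_smul, Finset.sum_add_distrib]
      abel
  have hdiff : ∀ n i, f (n + 1) i - f n i ∈ I ^ (n - d i) := by
    intro n i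
    rw [hfs]
    simp only [next, dif_pos (hinv n), Pi.add_apply, add_sub_cancel_left]
    exact hc n _ _ (hinv n) i
  -- shift by D
  let D : ℕ := ∑ i, d i
  have hD : ∀ i, d i ≤ D := fun i => Finset.single_le_sum (fun _ _ => Nat.zero_le _) (Finset.mem_univ i)
  have hlim : ∀ i, ∃ L : A, ∀ n, f (n + D) i - L ∈ I ^ n := by
    intro i
    apply Groth.Agent.H8.AdicLift.exists_limit I (fun n => f (n + D) i)
    intro n
    have := hdiff (n + D) i
    have hle : n ≤ n + D - d i := by have := hD i; omega
    have h2 : n + 1 + D = n + D + 1 := by ring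
    simp only [h2]
    exact Ideal.pow_le_pow_right hle this
  choose L hL using hlim
  have hzero : y - ∑ i, L i • x i = 0 := by
    have hmem : y - ∑ i, L i • x i ∈ ⨅ n, F.N n := by
      rw [Submodule.mem_iInf]
      intro n
      have h1 : y - ∑ i, L i • x i =
          (y - ∑ i, f (n + D) i • x i) + ∑ i, (f (n + D) i - L i) • x i := by
        simp only [sub_smul, Finset.sum_sub_distrib]
        abel
      rw [h1]
      refine (F.N n).add_mem (F.antitone (Nat.le_add_right n D) (hinv (n + D))) ?_
      refine (F.N n).sum_mem fun i _ => ?_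
      have h2 := F.pow_smul_le n 0
        (Submodule.smul_mem_smul (hL i n) (show x i ∈ F.N 0 by rw [h0]; trivial))
      simpa using h2
    rw [hsep] at hmem
    exact hmem
  rw [sub_eq_zero] at hzero
  rw [hzero]
  exact Submodule.sum_mem _ fun i _ => Submodule.smul_mem _ _ (Submodule.subset_span ⟨i, rfl⟩)

/-- Generation lifts from the associated graded module. -/
theorem span_eq_top_of_gr [IsPrecomplete I A] (h0 : F.N 0 = ⊤) (hsep : ⨅ n, F.N n = ⊥)
    {ι : Type*} [Fintype ι] (d : ι → ℕ) (x : (i : ι) → ↥(F.N (d i)))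
    (hgen : Submodule.span (GrRing (FiltBl.IdealFiltration.adic I))
      (Set.range fun i => (inDegM F (d i) (x i) : GrMod F)) = ⊤) :
    Submodule.span A (Set.range fun i => ((x i : ↥(F.N (d i))) : M)) = ⊤ := by
  rw [eq_top_iff]
  intro y _
  refine mem_span_of_approx F h0 hsep d (fun i => (x i : M)) ⊤ (fun _ => trivial) ?_ y trivial
  intro n z _ hz
  exact approx_of_mem_span F d x n z hz (by rw [hgen]; trivial)

/-- The `G`-span of the symbols of all homogeneous terms of the elements of a set of
representatives contains the classes. -/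
theorem mkGM_mem_span_symbols (y : ReesM F) :
    mkGM F y ∈ Submodule.span (GrRing (FiltBl.IdealFiltration.adic I))
      {w : GrMod F | ∃ (n : ℕ) (z : ↥(F.N n)), w = (inDegM F n z : GrMod F)} := by
  classical
  rw [← sum_termM F y, map_sum]
  refine Submodule.sum_mem _ fun n _ => Submodule.subset_span ?_
  exact ⟨n, ⟨ReesM.coeff F y n, ReesM.coeff_mem F y n⟩, rfl⟩

/-- A f.g. `G`-submodule of `gr M` spanned by symbols is spanned by finitely many symbols. -/
theorem exists_finite_symbols (S : Set (GrMod F))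
    (hS : ∀ w ∈ S, ∃ (n : ℕ) (z : ↥(F.N n)), w = (inDegM F n z : GrMod F))
    (hfg : (Submodule.span (GrRing (FiltBl.IdealFiltration.adic I)) S).FG) :
    ∃ (k : ℕ) (d : Fin k → ℕ) (x : (i : Fin k) → ↥(F.N (d i))),
      (∀ i, (inDegM F (d i) (x i) : GrMod F) ∈ S) ∧
      Submodule.span (GrRing (FiltBl.IdealFiltration.adic I))
        (Set.range fun i => (inDegM F (d i) (x i) : GrMod F)) =
      Submodule.span (GrRing (FiltBl.IdealFiltration.adic I)) S := by
  classical
  obtain ⟨s', hs'S, hs'⟩ := (Submodule.fg_span_iff_fg_span_finset_subset S).1 hfg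
  have hch : ∀ w : (s' : Set (GrMod F)), ∃ (n : ℕ) (z : ↥(F.N n)),
      (w : GrMod F) = (inDegM F n z : GrMod F) := fun w => hS w (hs'S w.2)
  choose n z hz using hch
  let e := (Finite.equivFin (s' : Set (GrMod F)))
  refine ⟨_, fun i => n (e.symm i), fun i => z (e.symm i), ?_, ?_⟩
  · intro i
    rw [← hz]
    exact hs'S (e.symm i).2
  · rw [hs']
    congr 1
    ext w
    constructor
    · rintro ⟨i, rfl⟩
      simp only
      rw [← hz]
      exact (e.symm i).2
    · intro hw
      refine ⟨e ⟨w, hw⟩, ?_⟩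
      simp only
      rw [← hz, Equiv.symm_apply_apply]

/-- Predicate version of `exists_finite_symbols`. -/
theorem exists_finite_symbols' (Q : ∀ n : ℕ, ↥(F.N n) → Prop)
    (hfg : (Submodule.span (GrRing (FiltBl.IdealFiltration.adic I))
      {w : GrMod F | ∃ (n : ℕ) (z : ↥(F.N n)), Q n z ∧ w = (inDegM F n z : GrMod F)}).FG) :
    ∃ (k : ℕ) (d : Fin k → ℕ) (x : (i : Fin k) → ↥(F.N (d i))),
      (∀ i, Q (d i) (x i)) ∧
      Submodule.span (GrRing (FiltBl.IdealFiltration.adic I))
        (Set.range fun i => (inDegM F (d i) (x i) : GrMod F)) =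
      Submodule.span (GrRing (FiltBl.IdealFiltration.adic I))
        {w : GrMod F | ∃ (n : ℕ) (z : ↥(F.N n)), Q n z ∧ w = (inDegM F n z : GrMod F)} := by
  classical
  obtain ⟨s', hs'S, hs'⟩ := (Submodule.fg_span_iff_fg_span_finset_subset _).1 hfg
  have hch : ∀ w : (s' : Set (GrMod F)), ∃ (n : ℕ) (z : ↥(F.N n)),
      Q n z ∧ (w : GrMod F) = (inDegM F n z : GrMod F) := fun w => hs'S w.2
  choose n z hQ hz using hch
  let e := (Finite.equivFin (s' : Set (GrMod F)))
  refine ⟨_, fun i => n (e.symm i), fun i => z (e.symm i), fun i => hQ _, ?_⟩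
  rw [hs']
  congr 1
  ext w
  constructor
  · rintro ⟨i, rfl⟩
    simp only
    rw [← hz]
    exact (e.symm i).2
  · intro hw
    refine ⟨e ⟨w, hw⟩, ?_⟩
    simp only
    rw [← hz, Equiv.symm_apply_apply]

/-- Key lemma for Noetherianity and closedness of submodules. -/
theorem eq_and_fg_of_symbols [IsPrecomplete I A] (h0 : F.N 0 = ⊤) (hsep : ⨅ n, F.N n = ⊥)
    [IsNoetherian (GrRing (FiltBl.IdealFiltration.adic I)) (GrMod F)]
    (M' P : Submodule A M) (hle : M' ≤ P)
    (hsym : ∀ n, ∀ y ∈ P, y ∈ F.N n → ∃ m' ∈ M', m' ∈ F.N n ∧ y - m' ∈ F.N (n + 1)) :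
    P = M' ∧ M'.FG := by
  classical
  obtain ⟨k, d, x, hxQ, hspan⟩ := exists_finite_symbols' F (fun n z => (z : M) ∈ M')
    (IsNoetherian.noetherian _)
  have hPle : P ≤ Submodule.span A (Set.range fun i => ((x i : ↥(F.N (d i))) : M)) := by
    intro y hy
    refine mem_span_of_approx F h0 hsep d (fun i => (x i : M)) P (fun i => hle (hxQ i)) ?_ y hy
    intro n z hzP hzn
    obtain ⟨m', hm', hm'n, hdiff⟩ := hsym n z hzP hzn
    apply approx_of_mem_span F d x n z hzn
    rw [hspan]
    apply Submodule.subset_span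
    refine ⟨n, ⟨m', hm'n⟩, hm', ?_⟩
    have h1 : inDegM F n ⟨z, hzn⟩ - inDegM F n ⟨m', hm'n⟩ = 0 := by
      rw [← map_sub, inDegM_eq_zero_iff]
      exact hdiff
    rw [sub_eq_zero] at h1
    rw [h1]
  have hspanle : Submodule.span A (Set.range fun i => ((x i : ↥(F.N (d i))) : M)) ≤ M' := by
    rw [Submodule.span_le]
    rintro _ ⟨i, rfl⟩
    exact hxQ i
  have hPM' : P = M' := le_antisymm (hPle.trans hspanle) hle
  refine ⟨hPM', ?_⟩
  have : M' = Submodule.span A (Set.range fun i => ((x i : ↥(F.N (d i))) : M)) :=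
    le_antisymm (hPM' ▸ hPle) hspanle
  rw [this]
  exact Submodule.fg_span (Set.finite_range _)

end Groth.Agent.H8.GrModGen
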