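import Mathlib

/-!
# Lengths in sequences exact in the middle
-/

set_option autoImplicit false

universe u

open Function

namespace Groth.Agent.H8.LengthExact

variable {R : Type*} [Ring R] {X' X X'' : Type*} [AddCommGroup X'] [Module R X']
  [AddCommGroup X] [Module R X] [AddCommGroup X''] [Module R X'']
  (a : X' →ₗ[R] X) (b : X →ₗ[R] X'')

lemma exact_range_subtype_rangeRestrict (H : Exact a b) :
    Exact (LinearMap.range a).subtype b.rangeRestrict := by
  intro x
  constructor
  · intro hx
    have hx' : b x = 0 := congrArg Subtype.val hx
    obtain ⟨y, rfl⟩ := (H x).1 hx'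
    exact ⟨⟨a y, y, rfl⟩, rfl⟩
  · rintro ⟨⟨_, y, rfl⟩, rfl⟩
    apply Subtype.ext
    exact (H (a y)).2 ⟨y, rfl⟩

lemma exact_ker_subtype_rangeRestrict : Exact (LinearMap.ker a).subtype a.rangeRestrict := by
  intro x
  constructor
  · intro hx
    have hx' : a x = 0 := congrArg Subtype.val hx
    exact ⟨⟨x, hx'⟩, rfl⟩
  · rintro ⟨y, rfl⟩
    exact Subtype.ext y.2

/-- The key length identity for a sequence exact in the middle. -/
lemma length_add_length_eq (H : Exact a b) :
    Module.length R X' + Module.length R X'' =
      Module.length R (LinearMap.ker a) + Module.length R X +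
        Module.length R (X'' ⧸ LinearMap.range b) := by
  have h1 := Module.length_eq_add_of_exact (LinearMap.range a).subtype b.rangeRestrict
    (Submodule.injective_subtype _) b.surjective_rangeRestrict
    (exact_range_subtype_rangeRestrict a b H)
  have h2 := Module.length_eq_add_of_exact (LinearMap.ker a).subtype a.rangeRestrict
    (Submodule.injective_subtype _) a.surjective_rangeRestrict
    (exact_ker_subtype_rangeRestrict a)
  have h3 := Module.length_eq_add_of_exact (LinearMap.range b).subtype (LinearMap.range b).mkQ
    (Submodule.injective_subtype _) (Submodule.mkQ_surjective _)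
    (LinearMap.exact_subtype_mkQ _)
  rw [h1, h2, h3]
  ring

lemma length_le_add_of_exact (H : Exact a b) :
    Module.length R X ≤ Module.length R X' + Module.length R X'' := by
  rw [length_add_length_eq a b H, add_comm (Module.length R (LinearMap.ker a)), add_assoc]
  exact le_self_add

/-- If equality of lengths holds (and they are finite), the sequence is short exact. -/
lemma injective_and_surjective_of_length_eq (H : Exact a b) (hfin : Module.length R X ≠ ⊤)
    (heq : Module.length R X = Module.length R X' + Module.length R X'') :
    Injective a ∧ Surjective b := by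
  rw [length_add_length_eq a b H] at heq
  have key : ∀ (x k c : ℕ∞), x ≠ ⊤ → x = k + x + c → k = 0 ∧ c = 0 := by
    intro x k c hx h
    lift x to ℕ using hx
    cases k with
    | top => simp at h
    | coe k =>
      cases c with
      | top => simp at h
      | coe c =>
        norm_cast at h ⊢
        omega
  obtain ⟨hk, hc⟩ := key _ _ _ hfin heq
  rw [Module.length_eq_zero_iff] at hk hc
  constructor
  · rw [← LinearMap.ker_eq_bot]
    exact (Submodule.subsingleton_iff_eq_bot).1 hk
  · rw [← LinearMap.range_eq_top]
    exact (Submodule.Quotient.subsingleton_iff).1 hc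

end Groth.Agent.H8.LengthExact
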