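import Groth.Agent.Lib.Helper8.TFunFlatHomology
import Groth.Agent.Lib.Helper8.TFunLocal3
import Groth.Agent.Lib.Helper8.LengthExact
import Groth.Agent.Lib.Helper1.FlatNilpotent

/-!
# `T_p` over an Artinian local ring (terms not necessarily finitely generated)
-/

set_option autoImplicit false

universe u

open CategoryTheory CategoryTheory.Limits MonoidalCategory TensorProduct Function

namespace Groth.Agent.H8.TFun

section General

variable {A : Type u} [CommRing A] (P : ChainComplex (ModuleCat.{u} A) ℤ)

/-- `T_p` is exact in the middle on short exact sequences. -/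
lemma TFun_exact_middle (hP : ∀ i, Module.Flat A (P.X i))
    (S : ShortComplex (ModuleCat.{u} A)) (hS : S.ShortExact) (p : ℤ) :
    Function.Exact ((CohIII.TFun P p).map S.f).hom ((CohIII.TFun P p).map S.g).hom := by
  have hT := tensorSC_shortExact P hP S hS
  have hex := hT.homology_exact₂ p
  rw [ShortComplex.ShortExact.moduleCat_exact_iff_function_exact] at hex
  exact hex

end General

section Artin

variable {A : Type u} [CommRing A] [IsLocalRing A] (P : ChainComplex (ModuleCat.{u} A) ℤ)

local notation "k" => IsLocalRing.ResidueField A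
local notation "𝔪" => IsLocalRing.maximalIdeal A

/-- The inclusion `𝔪 → A` as a morphism of modules. -/
noncomputable abbrev ιm : ModuleCat.of A 𝔪 ⟶ ModuleCat.of A A :=
  ModuleCat.ofHom (IsLocalRing.maximalIdeal A).subtype

/-- The short exact sequence `0 → 𝔪 → A → k → 0`. -/
noncomputable def residueSC : ShortComplex (ModuleCat.{u} A) :=
  ShortComplex.mk (ιm (A := A)) (πk (A := A)) (by
    ext x
    exact (IsLocalRing.residue_eq_zero_iff _).2 x.2)

lemma exact_subtype_residue :
    Function.Exact (IsLocalRing.maximalIdeal A).subtype (Algebra.linearMap A k) := by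
  intro x
  constructor
  · intro hx
    exact ⟨⟨x, (IsLocalRing.residue_eq_zero_iff _).1 hx⟩, rfl⟩
  · rintro ⟨y, rfl⟩
    exact (IsLocalRing.residue_eq_zero_iff _).2 y.2

lemma residueSC_shortExact : (residueSC (A := A)).ShortExact :=
  ModuleCat.shortComplex_shortExact _ (exact_subtype_residue (A := A))
    (Submodule.injective_subtype (IsLocalRing.maximalIdeal A))
    (IsLocalRing.residue_surjective (R := A))

end Artin

section ArtinMain

variable {A : Type u} [CommRing A] [IsLocalRing A] [IsArtinianRing A]
  (P : ChainComplex (ModuleCat.{u} A) ℤ)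

local notation "k" => IsLocalRing.ResidueField A

lemma isNilpotent_maximalIdeal : IsNilpotent (IsLocalRing.maximalIdeal A) := by
  rw [← IsLocalRing.jacobson_eq_maximalIdeal ⊥ bot_ne_top]
  exact IsArtinianRing.isNilpotent_jacobson_bot

/-- Over an Artinian local ring, `𝔪 ⊗ W → W` injective implies `W` flat. -/
lemma flat_of_rTensor_maximalIdeal_injective (W : Type u) [AddCommGroup W] [Module A W]
    (h : Injective ((IsLocalRing.maximalIdeal A).subtype.rTensor W)) : Module.Flat A W := by
  let _ : Field (A ⧸ IsLocalRing.maximalIdeal A) := Ideal.Quotient.field _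
  exact Groth.Agent.H1.flat_of_isNilpotent_of_flat_quotient _ isNilpotent_maximalIdeal h

/-- If `T_j(𝔪) → T_j(A)` is injective then `coker d_{j+1}` is flat. -/
theorem flat_coker_of_mono_maximal (hP : ∀ i, Module.Flat A (P.X i)) (i j : ℤ) (hij : j + 1 = i)
    (h : Mono ((CohIII.TFun P j).map (ιm (A := A)))) :
    Module.Flat A (P.X j ⧸ LinearMap.range (P.d i j).hom) := by
  rw [mono_TFun_map_iff P _ i j (j - 1) (by simp [← hij]) (by simp)] at h
  have := hP (j - 1)
  have hd : (P.d j (j - 1)).hom ∘ₗ (P.d i j).hom = 0 :=
    congrArg ModuleCat.Hom.hom (P.d_comp_d i j (j - 1))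
  have hinj := lTensor_coker_injective_of_monoCond (P.d i j).hom (P.d j (j - 1)).hom hd _
    (Submodule.injective_subtype _) h
  rw [LinearMap.lTensor_inj_iff_rTensor_inj] at hinj
  exact flat_of_rTensor_maximalIdeal_injective _ hinj

/-- Over an Artinian local ring, `T_p` preserves epimorphisms iff `T_p(A) → T_p(k)` is
surjective. -/
theorem preservesEpi_iff_surjective_residue_artinian (hP : ∀ i, Module.Flat A (P.X i)) (p : ℤ) :
    (CohIII.TFun P p).PreservesEpimorphisms ↔
      Surjective ((CohIII.TFun P p).map (πk (A := A))).hom := by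
  constructor
  · intro h
    have := epi_πk (A := A)
    exact (ModuleCat.epi_iff_surjective _).1 (h.preserves (πk (A := A)))
  · intro h
    rw [preservesEpi_iff_flat P hP p (p - 1) (by ring)]
    apply flat_coker_of_mono_maximal P hP p (p - 1) (by ring)
    exact (epi_map_g_iff_mono_map_f P hP residueSC residueSC_shortExact p (p - 1) (by ring)).1
      ((ModuleCat.epi_iff_surjective _).2 h)

/-- Over an Artinian local ring, `T_p` is exact iff `T_p(A) → T_p(k)` and
`T_{p+1}(A) → T_{p+1}(k)` are surjective. -/
theorem exact_iff_surjective_residue_artinian (hP : ∀ i, Module.Flat A (P.X i)) (p q : ℤ)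
    (hpq : p + 1 = q) :
    ((CohIII.TFun P p).PreservesMonomorphisms ∧ (CohIII.TFun P p).PreservesEpimorphisms) ↔
      (Surjective ((CohIII.TFun P p).map (πk (A := A))).hom ∧
        Surjective ((CohIII.TFun P q).map (πk (A := A))).hom) := by
  rw [← preservesEpi_iff_surjective_residue_artinian P hP q,
    ← preservesEpi_iff_surjective_residue_artinian P hP p,
    preservesEpi_iff_preservesMono P hP q p hpq]
  exact and_comm

end ArtinMain

section Length

variable {A : Type u} [CommRing A] (P : ChainComplex (ModuleCat.{u} A) ℤ)

lemma isZero_TFun_obj_of_subsingleton (M : ModuleCat.{u} A) [Subsingleton M] (p : ℤ) :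
    IsZero ((CohIII.TFun P p).obj M) := by
  rw [isZero_TFun_obj_iff P M (p + 1) p (p - 1) (by simp) (by simp)]
  intro z _
  have : Subsingleton (P.X p ⊗[A] M) := inferInstance
  rw [Subsingleton.elim z 0]
  exact Submodule.zero_mem _

lemma length_TFun_obj_of_subsingleton (M : ModuleCat.{u} A) [Subsingleton M] (p : ℤ) :
    Module.length A ((CohIII.TFun P p).obj M) = 0 := by
  have := ModuleCat.subsingleton_of_isZero (isZero_TFun_obj_of_subsingleton P M p)
  exact Module.length_eq_zero

lemma length_TFun_obj_congr {M N : Type u} [AddCommGroup M] [Module A M] [AddCommGroup N]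
    [Module A N] (e : M ≃ₗ[A] N) (p : ℤ) :
    Module.length A ((CohIII.TFun P p).obj (ModuleCat.of A M)) =
      Module.length A ((CohIII.TFun P p).obj (ModuleCat.of A N)) :=
  ((CohIII.TFun P p).mapIso e.toModuleIso).toLinearEquiv.length_eq

variable [IsLocalRing A]

local notation "k" => IsLocalRing.ResidueField A

lemma length_residueField : Module.length A k = 1 := by
  have : IsSimpleModule A k :=
    isSimpleModule_iff_quot_maximal.2 ⟨IsLocalRing.maximalIdeal A, inferInstance,
      ⟨LinearEquiv.refl A _⟩⟩
  exact Module.length_eq_one A k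

end Length

section LengthArtin

variable {A : Type u} [CommRing A] [IsLocalRing A] [IsArtinianRing A]
  (P : ChainComplex (ModuleCat.{u} A) ℤ)

local notation "k" => IsLocalRing.ResidueField A

omit [IsLocalRing A] [IsArtinianRing A] in
/-- The short complex of modules attached to a short exact sequence of linear maps. -/
lemma shortExact_of_linearMaps {N₁ N₂ N₃ : Type u} [AddCommGroup N₁] [Module A N₁]
    [AddCommGroup N₂] [Module A N₂] [AddCommGroup N₃] [Module A N₃]
    (f : N₁ →ₗ[A] N₂) (g : N₂ →ₗ[A] N₃) (hf : Injective f) (hg : Surjective g)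
    (hfg : Function.Exact f g) :
    (ShortComplex.mk (ModuleCat.ofHom f) (ModuleCat.ofHom g)
      (by ext x; exact hfg.apply_apply_eq_zero x)).ShortExact :=
  ModuleCat.shortComplex_shortExact _ hfg hf hg

/-- `length T_p(M) ≤ length T_p(k) · length M` for finitely generated `M`. -/
theorem length_TFun_obj_le (hP : ∀ i, Module.Flat A (P.X i)) (p : ℤ)
    (M : Type u) [AddCommGroup M] [Module A M] [hM : Module.Finite A M] :
    Module.length A ((CohIII.TFun P p).obj (ModuleCat.of A M)) ≤
      Module.length A ((CohIII.TFun P p).obj (ModuleCat.of A k)) * Module.length A M := by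
  induction hM using IsNoetherianRing.induction_on_isQuotientEquivQuotientPrime A with
  | subsingleton N =>
    rw [length_TFun_obj_of_subsingleton]
    exact bot_le
  | quotient N q e =>
    have hq : q.asIdeal = IsLocalRing.maximalIdeal A :=
      IsLocalRing.eq_maximalIdeal (IsArtinianRing.isMaximal_of_isPrime q.asIdeal)
    have e' : N ≃ₗ[A] k := e.trans (Submodule.quotEquivOfEq _ _ hq)
    rw [length_TFun_obj_congr P e' p, e'.length_eq, length_residueField, mul_one]
  | exact N₁ N₂ N₃ f g hf hg hfg h1 h3 =>
    have hS := shortExact_of_linearMaps f g hf hg hfg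
    have hmid := TFun_exact_middle P hP _ hS p
    calc Module.length A ((CohIII.TFun P p).obj (ModuleCat.of A N₂))
        ≤ Module.length A ((CohIII.TFun P p).obj (ModuleCat.of A N₁)) +
          Module.length A ((CohIII.TFun P p).obj (ModuleCat.of A N₃)) :=
          LengthExact.length_le_add_of_exact _ _ hmid
      _ ≤ Module.length A ((CohIII.TFun P p).obj (ModuleCat.of A k)) * Module.length A N₁ +
          Module.length A ((CohIII.TFun P p).obj (ModuleCat.of A k)) * Module.length A N₃ :=
          add_le_add h1 h3
      _ = Module.length A ((CohIII.TFun P p).obj (ModuleCat.of A k)) * Module.length A N₂ := by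
          rw [Module.length_eq_add_of_exact f g hf hg hfg, mul_add]

/-- If `T_p` is exact, `length T_p(M) = length T_p(k) · length M` for finitely generated `M`. -/
theorem length_TFun_obj_eq_of_exact (hP : ∀ i, Module.Flat A (P.X i)) (p : ℤ)
    (hex : (CohIII.TFun P p).PreservesMonomorphisms ∧ (CohIII.TFun P p).PreservesEpimorphisms)
    (M : Type u) [AddCommGroup M] [Module A M] [hM : Module.Finite A M] :
    Module.length A ((CohIII.TFun P p).obj (ModuleCat.of A M)) =
      Module.length A ((CohIII.TFun P p).obj (ModuleCat.of A k)) * Module.length A M := by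
  obtain ⟨hm, he⟩ := hex
  induction hM using IsNoetherianRing.induction_on_isQuotientEquivQuotientPrime A with
  | subsingleton N =>
    have h0 : Module.length A N = 0 := Module.length_eq_zero
    rw [length_TFun_obj_of_subsingleton, h0, mul_zero]
  | quotient N q e =>
    have hq : q.asIdeal = IsLocalRing.maximalIdeal A :=
      IsLocalRing.eq_maximalIdeal (IsArtinianRing.isMaximal_of_isPrime q.asIdeal)
    have e' : N ≃ₗ[A] k := e.trans (Submodule.quotEquivOfEq _ _ hq)
    rw [length_TFun_obj_congr P e' p, e'.length_eq, length_residueField, mul_one]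
  | exact N₁ N₂ N₃ f g hf hg hfg h1 h3 =>
    have hS := shortExact_of_linearMaps f g hf hg hfg
    have hmid := TFun_exact_middle P hP _ hS p
    have hmf : Mono (ModuleCat.ofHom f) := (ModuleCat.mono_iff_injective _).2 hf
    have heg : Epi (ModuleCat.ofHom g) := (ModuleCat.epi_iff_surjective _).2 hg
    have hinj := (ModuleCat.mono_iff_injective _).1 (hm.preserves (ModuleCat.ofHom f))
    have hsurj := (ModuleCat.epi_iff_surjective _).1 (he.preserves (ModuleCat.ofHom g))
    rw [Module.length_eq_add_of_exact _ _ hinj hsurj hmid, h1, h3,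
      Module.length_eq_add_of_exact f g hf hg hfg, mul_add]

omit [IsArtinianRing A] in
/-- Equality of lengths along `0 → 𝔪 → A → k → 0` forces `T_p(𝔪) → T_p(A)` injective and
`T_p(A) → T_p(k)` surjective. -/
theorem mono_and_surjective_of_length_eq (hP : ∀ i, Module.Flat A (P.X i)) (p : ℤ)
    (hfin : Module.length A ((CohIII.TFun P p).obj (ModuleCat.of A A)) ≠ ⊤)
    (heq : Module.length A ((CohIII.TFun P p).obj (ModuleCat.of A A)) =
      Module.length A ((CohIII.TFun P p).obj (ModuleCat.of A (IsLocalRing.maximalIdeal A))) +
        Module.length A ((CohIII.TFun P p).obj (ModuleCat.of A k))) :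
    Mono ((CohIII.TFun P p).map (ιm (A := A))) ∧
      Surjective ((CohIII.TFun P p).map (πk (A := A))).hom := by
  have hmid := TFun_exact_middle P hP _ (residueSC_shortExact (A := A)) p
  obtain ⟨h1, h2⟩ := LengthExact.injective_and_surjective_of_length_eq _ _ hmid hfin heq
  exact ⟨(ModuleCat.mono_iff_injective _).2 h1, h2⟩

omit [IsArtinianRing A] in
lemma length_self_eq : Module.length A A =
    Module.length A (IsLocalRing.maximalIdeal A) + 1 := by
  rw [Module.length_eq_add_of_exact _ _ (Submodule.injective_subtype _)
    (IsLocalRing.residue_surjective (R := A)) (exact_subtype_residue (A := A)),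
    length_residueField]

/-- If `T_p` preserves epimorphisms and `T_p(𝔪) → T_p(A)` is injective, `H_p(P)` is flat. -/
theorem flat_homology_of_mono_maximal (hP : ∀ i, Module.Flat A (P.X i)) (p : ℤ)
    (he : (CohIII.TFun P p).PreservesEpimorphisms)
    (hm : Mono ((CohIII.TFun P p).map (ιm (A := A)))) : Module.Flat A (P.homology p) := by
  have hflat := (preservesEpi_iff_flat P hP p (p - 1) (by ring)).1 he
  have := hP (p - 1)
  let e := TFunIsoOfFlatCoker P p (p - 1) (by ring)
  have hmono : Mono ((tensorLeft (P.homology p)).map (ιm (A := A))) := by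
    have h : (tensorLeft (P.homology p)).map (ιm (A := A)) =
        e.inv.app (ModuleCat.of A (IsLocalRing.maximalIdeal A)) ≫
          (CohIII.TFun P p).map (ιm (A := A)) ≫ e.hom.app (ModuleCat.of A A) := by
      rw [e.hom.naturality, Iso.inv_hom_id_app_assoc]
    rw [h]
    have h1 : Mono (e.inv.app (ModuleCat.of A (IsLocalRing.maximalIdeal A))) := by
      have : IsIso (e.inv.app (ModuleCat.of A (IsLocalRing.maximalIdeal A))) := inferInstance
      exact IsIso.mono_of_iso _
    have h2 : Mono (e.hom.app (ModuleCat.of A A)) := by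
      have : IsIso (e.hom.app (ModuleCat.of A A)) := inferInstance
      exact IsIso.mono_of_iso _
    exact mono_comp' h1 (mono_comp' hm h2)
  have hinj : Injective ((IsLocalRing.maximalIdeal A).subtype.lTensor (P.homology p)) :=
    (ModuleCat.mono_iff_injective _).1 hmono
  rw [LinearMap.lTensor_inj_iff_rTensor_inj] at hinj
  exact flat_of_rTensor_maximalIdeal_injective _ hinj

end LengthArtin

end Groth.Agent.H8.TFun
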