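import Mathlib

set_option autoImplicit false
universe u
open PowerSeries

namespace Groth.Agent.H8.LaurentIdem

variable {R : Type u} [CommRing R]

/-- Over a reduced ring, `f² = X^k f` forces `X^k ∣ f`. -/
theorem X_pow_dvd_of_sq_eq [IsReduced R] : ∀ (k : ℕ) (f : R⟦X⟧), f * f = X ^ k * f → X ^ k ∣ f := by
  intro k
  induction k with
  | zero => intro f _; simp
  | succ k ih =>
    intro f hf
    have h0 : constantCoeff f = 0 := by
      have h1 := congrArg constantCoeff hf
      simp only [map_mul, map_pow, constantCoeff_X, ne_eq, Nat.add_eq_zero_iff, one_ne_zero,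
        and_false, not_false_eq_true, zero_pow, zero_mul] at h1
      have : IsNilpotent (constantCoeff f) := ⟨2, by rw [pow_two]; exact h1⟩
      exact this.eq_zero
    obtain ⟨f₁, rfl⟩ := X_dvd_iff.mpr h0
    have h2 : f₁ * f₁ = X ^ k * f₁ := by
      apply X_mul_cancel
      apply X_mul_cancel
      rw [pow_succ] at hf
      linear_combination hf
    obtain ⟨g, hg⟩ := ih f₁ h2
    exact ⟨g, by rw [hg, pow_succ]; ring⟩

/-- An idempotent power series is constant. -/
theorem eq_C_of_isIdempotentElem (g : R⟦X⟧) (hg : g * g = g) : g = C (constantCoeff g) := by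
  set c : R⟦X⟧ := C (constantCoeff g) with hc
  have hcc : c * c = c := by
    rw [hc, ← map_mul]
    congr 1
    have := congrArg constantCoeff hg
    simpa using this
  obtain ⟨h, hh⟩ : ∃ h, h = g - c := ⟨_, rfl⟩
  have hgh : g = c + h := by rw [hh]; ring
  have h1 : h = (1 - 2 * c) * (h * h) := by
    have h2 : h * h = (1 - 2 * c) * h := by
      rw [hgh] at hg
      linear_combination hg - hcc
    rw [h2]
    linear_combination (-4 * h) * hcc
  have hX : X ∣ h := by
    rw [X_dvd_iff, hh, map_sub, hc, constantCoeff_C, sub_self]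
  have hall : ∀ n : ℕ, X ^ (n + 1) ∣ h := by
    intro n
    induction n with
    | zero => simpa using hX
    | succ n ih =>
      rw [h1]
      refine Dvd.dvd.mul_left ?_ _
      refine dvd_trans (pow_dvd_pow X (by omega : n + 1 + 1 ≤ (n + 1) + (n + 1))) ?_
      rw [pow_add]
      exact mul_dvd_mul ih ih
  have h0 : h = 0 := by
    ext n
    rw [map_zero]
    exact (X_pow_dvd_iff.mp (hall n)) n (Nat.lt_succ_self n)
  rw [hgh, h0, add_zero]


theorem coeff_mul_mem {I J : Ideal R} {p q : R⟦X⟧} (hp : ∀ n, coeff n p ∈ I)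
    (hq : ∀ n, coeff n q ∈ J) : ∀ n, coeff n (p * q) ∈ I * J := by
  intro n
  rw [coeff_mul]
  exact Ideal.sum_mem _ fun ij _ => Ideal.mul_mem_mul (hp _) (hq _)

theorem coeff_pow_mem {I : Ideal R} {p : R⟦X⟧} (hp : ∀ n, coeff n p ∈ I) (s : ℕ) :
    ∀ n, coeff n (p ^ s) ∈ I ^ s := by
  induction s with
  | zero => intro n; simp
  | succ s ih =>
    rw [pow_succ, pow_succ]
    exact coeff_mul_mem ih hp

/-- A power series with `f² = X^k f` is `X^k · r` for an idempotent `r`, up to a nilpotent. -/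
theorem exists_idem_of_sq_eq (k : ℕ) (f : R⟦X⟧) (hf : f * f = X ^ k * f) :
    ∃ r : R, IsIdempotentElem r ∧ IsNilpotent (f - X ^ k * C r) := by
  classical
  -- the low coefficients are nilpotent
  have hlow : ∀ i, i < k → coeff i f ∈ nilradical R := by
    intro i hi
    haveI : IsReduced (R ⧸ nilradical R) :=
      (Ideal.isRadical_iff_quotient_reduced _).mp (Ideal.radical_isRadical ⊥)
    let f' : (R ⧸ nilradical R)⟦X⟧ := PowerSeries.map (Ideal.Quotient.mk (nilradical R)) f
    have hf' : f' * f' = X ^ k * f' := by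
      have := congrArg (PowerSeries.map (Ideal.Quotient.mk (nilradical R))) hf
      simpa [f'] using this
    have h1 := X_pow_dvd_iff.mp (X_pow_dvd_of_sq_eq k f' hf') i hi
    rw [coeff_map] at h1
    exact Ideal.Quotient.eq_zero_iff_mem.mp h1
  let N : Ideal R := Ideal.span (Set.range fun i : Fin k => coeff (i : ℕ) f)
  have hNfg : N.FG := Submodule.fg_span (Set.finite_range _)
  have hNnil : N ≤ nilradical R := Ideal.span_le.mpr (by
    rintro _ ⟨i, rfl⟩
    exact hlow i i.2)
  obtain ⟨s, hs⟩ := (Ideal.FG.isNilpotent_iff_le_nilradical hNfg).mpr hNnil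
  let f' : (R ⧸ N)⟦X⟧ := PowerSeries.map (Ideal.Quotient.mk N) f
  have hf' : f' * f' = X ^ k * f' := by
    have := congrArg (PowerSeries.map (Ideal.Quotient.mk N)) hf
    simpa [f'] using this
  have hdvd : X ^ k ∣ f' := by
    rw [X_pow_dvd_iff]
    intro i hi
    rw [coeff_map, Ideal.Quotient.eq_zero_iff_mem]
    exact Ideal.subset_span ⟨⟨i, hi⟩, rfl⟩
  obtain ⟨g', hg'⟩ := hdvd
  have hg'idem : g' * g' = g' := by
    apply X_pow_mul_cancel (k := k)
    apply X_pow_mul_cancel (k := k)
    rw [hg'] at hf'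
    linear_combination hf'
  have hg'C := eq_C_of_isIdempotentElem g' hg'idem
  set c' : R ⧸ N := constantCoeff g' with hc'
  have hc'idem : IsIdempotentElem c' := by
    have := congrArg constantCoeff hg'idem
    rw [map_mul] at this
    exact this
  obtain ⟨r, hr, hrc⟩ := exists_isIdempotentElem_eq_of_ker_isNilpotent (Ideal.Quotient.mk N)
    (fun x hx => by
      rw [Ideal.mk_ker] at hx
      exact mem_nilradical.mp (hNnil hx))
    c' (RingHom.mem_range.mpr (Ideal.Quotient.mk_surjective c')) hc'idem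
  refine ⟨r, hr, s, ?_⟩
  have hd : ∀ n, coeff n (f - X ^ k * C r) ∈ N := by
    intro n
    have h1 : PowerSeries.map (Ideal.Quotient.mk N) (f - X ^ k * C r) = 0 := by
      rw [map_sub, map_mul, map_pow, map_X, map_C, hrc, ← hg'C, ← hg']
      exact sub_self _
    have h2 := congrArg (coeff n) h1
    rw [coeff_map, map_zero] at h2
    exact Ideal.Quotient.eq_zero_iff_mem.mp h2
  ext n
  have h3 := coeff_pow_mem hd s n
  rw [hs] at h3
  simpa using h3

/-- Idempotents of `R((X))` are constants. -/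
theorem existsUnique_idem (e : LaurentSeries R) (he : IsIdempotentElem e) :
    ∃! r : R, IsIdempotentElem r ∧ HahnSeries.C r = e := by
  obtain ⟨k, f, hk⟩ := IsLocalization.Away.surj (PowerSeries.X : R⟦X⟧) e
  obtain ⟨u, hu⟩ : ∃ u : LaurentSeries R, u = algebraMap R⟦X⟧ (LaurentSeries R) X := ⟨_, rfl⟩
  rw [← hu] at hk
  have huu : IsUnit u := hu ▸ IsLocalization.Away.algebraMap_isUnit (PowerSeries.X : R⟦X⟧)
  have hinj : Function.Injective (algebraMap R⟦X⟧ (LaurentSeries R)) :=
    HahnSeries.ofPowerSeries_injective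
  have hf : f * f = X ^ k * f := by
    apply hinj
    rw [map_mul, map_mul, map_pow, ← hk, ← hu]
    linear_combination (u ^ k * u ^ k) * he.eq
  obtain ⟨r, hr, s, hs⟩ := exists_idem_of_sq_eq k f hf
  have hCr : HahnSeries.C r = algebraMap R⟦X⟧ (LaurentSeries R) (C r) :=
    (PowerSeries.coe_C r).symm
  obtain ⟨x, hx⟩ : ∃ x : LaurentSeries R, x = e - HahnSeries.C r := ⟨_, rfl⟩
  have hxu : x * u ^ k = algebraMap R⟦X⟧ (LaurentSeries R) (f - X ^ k * C r) := by
    rw [hx, sub_mul, hk, map_sub, map_mul, map_pow, ← hu, hCr]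
    ring
  have hxs : x ^ s = 0 := by
    have h1 : (x * u ^ k) ^ s = 0 := by
      rw [hxu, ← map_pow, hs, map_zero]
    rw [mul_pow] at h1
    exact (((huu.pow k).pow s).mul_left_eq_zero).mp h1
  have hCidem : HahnSeries.C r * HahnSeries.C r = (HahnSeries.C r : LaurentSeries R) := by
    rw [← map_mul, hr.eq]
  have hx3 : x * x * x = x := by
    rw [hx]
    linear_combination (e + 1 - 3 * HahnSeries.C r) * he.eq +
      (3 * e - HahnSeries.C r - 1) * hCidem
  have hodd : ∀ j : ℕ, x ^ (2 * j + 1) = x := by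
    intro j
    induction j with
    | zero => simp
    | succ j ih =>
      have : 2 * (j + 1) + 1 = (2 * j + 1) + 2 := by ring
      rw [this, pow_add, ih, pow_two, ← mul_assoc, hx3]
  have hx0 : x = 0 := by
    rw [← hodd s]
    have : 2 * s + 1 = s + (s + 1) := by ring
    rw [this, pow_add, hxs, zero_mul]
  have heC : e = HahnSeries.C r := sub_eq_zero.mp (hx ▸ hx0)
  refine ⟨r, ⟨hr, heC.symm⟩, ?_⟩
  rintro r' ⟨_, hr'⟩
  apply HahnSeries.C_injective (Γ := ℤ)
  rw [hr', heC]

end Groth.Agent.H8.LaurentIdem
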