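import Mathlib
import Groth.Prelude.Def_Hens2
import Groth.Agent.Lib.Helper8.PairHens.PowQuot
import Groth.Agent.Lib.Helper8.LaurentIdem
import Groth.Agent.Lib.Helper8.Elkik.Idem

set_option autoImplicit false
universe u
open Polynomial

namespace Groth.Agent.H8.HensLaurent

variable {R : Type u} [CommRing R] {B : Type u} [CommRing B] [Algebra R[X] B]

/-- The canonical map from the henselization of `(R[X], X)` to `R⟦X⟧`. -/
theorem exists_toPowerSeries (hB : Hens2.IsPairHenselization R[X] (Ideal.span {(X : R[X])}) B) :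
    ∃ ψ : B →+* PowerSeries R, ψ.comp (algebraMap R[X] B) = Polynomial.coeToPowerSeries.ringHom := by
  haveI : HenselianRing (PowerSeries R) (Ideal.span {(PowerSeries.X : PowerSeries R)}) :=
    inferInstance
  obtain ⟨ψ, hψ, -⟩ := hB.2 (PowerSeries R) (Ideal.span {(PowerSeries.X : PowerSeries R)})
    Polynomial.coeToPowerSeries.ringHom inferInstance (by
      rw [Ideal.map_span, Set.image_singleton]
      simp)
  exact ⟨ψ, hψ⟩


theorem mem_span_pow_of_map_eq_zero
    (hB : Hens2.IsPairHenselization R[X] (Ideal.span {(X : R[X])}) B)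
    (ψ : B →+* PowerSeries R)
    (hψ : ψ.comp (algebraMap R[X] B) = Polynomial.coeToPowerSeries.ringHom)
    (b : B) (hb : ψ b = 0) (n : ℕ) : b ∈ Ideal.span {(algebraMap R[X] B X) ^ n} := by
  have hψX : ψ (algebraMap R[X] B X) = PowerSeries.X := by
    have := congrArg (fun φ => φ X) hψ
    simpa using this
  have hψp : ∀ p : R[X], ψ (algebraMap R[X] B p) = (p : PowerSeries R) := by
    intro p
    exact congrArg (fun φ => φ p) hψ
  have hmap : (Ideal.span {(X : R[X])} ^ n).map (algebraMap R[X] B) =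
      Ideal.span {(algebraMap R[X] B X) ^ n} := by
    rw [Ideal.span_singleton_pow, Ideal.map_span, Set.image_singleton, map_pow]
  obtain ⟨p, hp⟩ := Groth.Agent.H8.PairHens.exists_sub_mem_pow
    (Groth.Agent.H8.PairHens.exists_sub_mem_of_isPairHenselization hB) n b
  rw [hmap] at hp
  obtain ⟨c, hc⟩ := Ideal.mem_span_singleton'.mp hp
  have h1 : (p : PowerSeries R) = PowerSeries.X ^ n * (- ψ c) := by
    have h2 := congrArg ψ hc
    rw [map_mul, map_pow, hψX, map_sub, hb, hψp, zero_sub] at h2
    linear_combination h2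
  have h3 : (X : R[X]) ^ n ∣ p := by
    rw [Polynomial.X_pow_dvd_iff]
    intro d hd
    have h4 : PowerSeries.coeff d (p : PowerSeries R) = 0 := by
      rw [h1, PowerSeries.coeff_X_pow_mul', if_neg (by omega)]
    rwa [Polynomial.coeff_coe] at h4
  obtain ⟨q, hq⟩ := h3
  have h5 : algebraMap R[X] B p ∈ Ideal.span {(algebraMap R[X] B X) ^ n} := by
    rw [hq, map_mul, map_pow]
    exact Ideal.mul_mem_right _ _ (Ideal.subset_span rfl)
  have := Ideal.add_mem _ hp h5
  simpa using this


theorem existsUnique_idempotent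
    (hB : Hens2.IsPairHenselization R[X] (Ideal.span {(X : R[X])}) B)
    (e : Localization.Away (algebraMap R[X] B X)) (he : IsIdempotentElem e) :
    ∃! r : R, IsIdempotentElem r ∧
      algebraMap B (Localization.Away (algebraMap R[X] B X))
        (algebraMap R[X] B (Polynomial.C r)) = e := by
  classical
  obtain ⟨ψ, hψ⟩ := exists_toPowerSeries hB
  have hψX : ψ (algebraMap R[X] B X) = PowerSeries.X := by
    have := congrArg (fun φ => φ X) hψ
    simpa using this
  have hψp : ∀ p : R[X], ψ (algebraMap R[X] B p) = (p : PowerSeries R) := by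
    intro p
    exact congrArg (fun φ => φ p) hψ
  revert e
  generalize hXB' : algebraMap R[X] B X = XB at hψX
  intro e he
  have hXB : XB = algebraMap R[X] B X := hXB'.symm
  let L := Localization.Away XB
  have hjac : XB ∈ Ideal.jacobson (⊥ : Ideal B) := by
    haveI := hB.1
    have h1 : XB ∈ (Ideal.span {(X : R[X])}).map (algebraMap R[X] B) := by
      rw [hXB]; exact Ideal.mem_map_of_mem _ (Ideal.subset_span rfl)
    exact HenselianRing.jac (R := B) h1
  let g : B →+* LaurentSeries R := (algebraMap (PowerSeries R) (LaurentSeries R)).comp ψ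
  have hgX : IsUnit (g XB) := by
    show IsUnit (algebraMap (PowerSeries R) (LaurentSeries R) (ψ XB))
    rw [hψX]
    exact IsLocalization.Away.algebraMap_isUnit (PowerSeries.X : PowerSeries R)
  let Ψ : L →+* LaurentSeries R := IsLocalization.Away.lift XB hgX
  have hΨ : ∀ b : B, Ψ (algebraMap B L b) = algebraMap (PowerSeries R) (LaurentSeries R) (ψ b) :=
    fun b => IsLocalization.Away.lift_eq XB hgX b
  have hinj : Function.Injective (algebraMap (PowerSeries R) (LaurentSeries R)) :=
    HahnSeries.ofPowerSeries_injective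
  have hΨC : ∀ r : R, Ψ (algebraMap B L (algebraMap R[X] B (Polynomial.C r))) =
      HahnSeries.C r := by
    intro r
    rw [hΨ, hψp, Polynomial.coe_C]
    exact PowerSeries.coe_C r
  have hΨe : IsIdempotentElem (Ψ e) := he.map Ψ
  obtain ⟨r, ⟨hr, hre⟩, hruniq⟩ := Groth.Agent.H8.LaurentIdem.existsUnique_idem (Ψ e) hΨe
  obtain ⟨e', he'⟩ : ∃ e' : L, e' = algebraMap B L (algebraMap R[X] B (Polynomial.C r)) :=
    ⟨_, rfl⟩
  have he'idem : e' * e' = e' := by
    rw [he', ← map_mul, ← map_mul, ← map_mul, hr.eq]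
  obtain ⟨x, hx⟩ : ∃ x : L, x = e - e' := ⟨_, rfl⟩
  have hΨx : Ψ x = 0 := by
    rw [hx, map_sub, he', hΨC, hre, sub_self]
  have hx3 : x * x * x = x := by
    rw [hx]; exact Groth.Agent.H8.Elkik.sub_cube_of_idem he.eq he'idem
  obtain ⟨k, b, hk⟩ := IsLocalization.Away.surj XB x
  obtain ⟨v, hv⟩ : ∃ v : L, v = algebraMap B L XB := ⟨_, rfl⟩
  rw [← hv] at hk
  have hvu : IsUnit v := hv ▸ IsLocalization.Away.algebraMap_isUnit XB
  have hψb : ψ b = 0 := by
    apply hinj
    rw [← hΨ, ← hk, map_mul, hΨx, zero_mul, map_zero]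
  have hbmem := mem_span_pow_of_map_eq_zero hB ψ hψ b hψb (2 * k + 1)
  rw [← hXB] at hbmem
  obtain ⟨w, hw⟩ := Ideal.mem_span_singleton'.mp hbmem
  have hx2 : x * x = algebraMap B L (XB * (b * w)) := by
    have h6 : (x * x - algebraMap B L (XB * (b * w))) * (v ^ k * v ^ k) = 0 := by
      have h7 : algebraMap B L (b * (w * XB ^ (2 * k + 1))) =
          algebraMap B L b * algebraMap B L b := by
        rw [hw, map_mul]
      rw [← hk] at h7
      have h8 : algebraMap B L (b * (w * XB ^ (2 * k + 1))) =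
          algebraMap B L (XB * (b * w)) * (v ^ k * v ^ k) := by
        rw [hv, ← map_pow, ← map_mul, ← map_mul]
        congr 1
        rw [pow_succ, two_mul, pow_add]; ring
      linear_combination h8 - h7
    exact sub_eq_zero.mp ((((hvu.pow k).mul (hvu.pow k)).mul_left_eq_zero).mp h6)
  have hx0 : x = 0 := Groth.Agent.H8.Elkik.eq_zero_of_cube hjac hx3 hx2
  have hee' : e = e' := sub_eq_zero.mp (hx ▸ hx0)
  refine ⟨r, ⟨hr, ?_⟩, ?_⟩
  · rw [hee', he']
  · rintro r' ⟨hr', hr'e⟩
    apply hruniq r' ⟨hr', ?_⟩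
    rw [← hr'e, hΨC]

end Groth.Agent.H8.HensLaurent
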