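import Groth.Agent.Lib.Helper8.FlatSES
import Groth.Agent.Lib.Helper8.ExtScalarsBridge

/-!
# Homology commutes with tensor products when the next cokernel is flat

For a short complex `X₁ --f--> X₂ --g--> X₃` of modules such that `X₃` and `X₃ ⧸ range g` are
flat, the functors `- ⊗ M` and extension of scalars preserve the (left) homology of the complex.
-/

set_option autoImplicit false

universe u

open CategoryTheory CategoryTheory.Limits MonoidalCategory TensorProduct Function

namespace Groth.Agent.H8.HTensor

section General

variable {C D : Type*} [Category C] [Category D] [Preadditive C] [Preadditive D]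
  [CategoryTheory.Balanced D]

/-- A functor preserves the left homology of `S` as soon as it keeps the kernel of `g` a kernel
(expressed as exactness + mono) and preserves the cokernel of `f'`. -/
lemma preservesLeftHomologyOf_of_exact (F : C ⥤ D) [F.PreservesZeroMorphisms]
    (S : ShortComplex C) (h : S.LeftHomologyData)
    [PreservesColimit (parallelPair h.f' 0) F]
    (hmono : Mono (F.map h.i))
    (hex : (ShortComplex.mk (F.map h.i) (F.map S.g)
      (by rw [← F.map_comp, h.wi, F.map_zero])).Exact) :
    F.PreservesLeftHomologyOf S := by
  have hlim : IsLimit (F.mapCone (KernelFork.ofι h.i h.wi)) :=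
    (KernelFork.isLimitMapConeEquiv _ F).symm
      (hex.fIsKernel (S := ShortComplex.mk (F.map h.i) (F.map S.g)
        (by rw [← F.map_comp, h.wi, F.map_zero])))
  have : h.IsPreservedBy F :=
    { g := preservesLimit_of_preserves_limit_cone h.hi hlim
      f' := inferInstance }
  exact Functor.PreservesLeftHomologyOf.mk' F h

end General

section ModuleLevel

variable {A : Type u} [CommRing A] {X₂ X₃ : Type u} [AddCommGroup X₂] [Module A X₂]
  [AddCommGroup X₃] [Module A X₃] (g : X₂ →ₗ[A] X₃)

/-- The image of `g` is flat if the target and the cokernel are. -/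
lemma flat_range [Module.Flat A X₃] [Module.Flat A (X₃ ⧸ LinearMap.range g)] :
    Module.Flat A (LinearMap.range g) :=
  FlatSES.flat_left (LinearMap.range g).subtype (LinearMap.range g).mkQ
    (Submodule.injective_subtype _) (LinearMap.exact_subtype_mkQ _) (Submodule.mkQ_surjective _)

lemma subtype_comp_rangeRestrict : (LinearMap.range g).subtype ∘ₗ g.rangeRestrict = g := rfl

lemma exact_ker_rangeRestrict : Exact (LinearMap.ker g).subtype g.rangeRestrict := by
  intro x
  constructor
  · intro hx
    have hx' : g x = 0 := congrArg Subtype.val hx
    exact ⟨⟨x, hx'⟩, rfl⟩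
  · rintro ⟨y, rfl⟩
    exact Subtype.ext y.2

variable [Module.Flat A X₃] [Module.Flat A (X₃ ⧸ LinearMap.range g)]
  (M : Type u) [AddCommGroup M] [Module A M]

lemma lTensor_ker_subtype_injective : Injective ((LinearMap.ker g).subtype.lTensor M) :=
  have := flat_range g
  FlatSES.lTensor_injective_of_flat_quotient (LinearMap.ker g).subtype g.rangeRestrict
    (Submodule.injective_subtype _) (exact_ker_rangeRestrict g) g.surjective_rangeRestrict M

omit [Module.Flat A X₃] in
lemma lTensor_range_subtype_injective : Injective ((LinearMap.range g).subtype.lTensor M) :=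
  FlatSES.lTensor_injective_of_flat_quotient (LinearMap.range g).subtype (LinearMap.range g).mkQ
    (Submodule.injective_subtype _) (LinearMap.exact_subtype_mkQ _) (Submodule.mkQ_surjective _) M

omit [Module.Flat A X₃] in
lemma lTensor_exact_ker : Exact ((LinearMap.ker g).subtype.lTensor M) (g.lTensor M) := by
  have hι := lTensor_range_subtype_injective g M
  have hfac : g.lTensor M =
      (LinearMap.range g).subtype.lTensor M ∘ₗ g.rangeRestrict.lTensor M := by
    rw [← LinearMap.lTensor_comp, subtype_comp_rangeRestrict]
  have hex := lTensor_exact M (exact_ker_rangeRestrict g) g.surjective_rangeRestrict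
  intro x
  rw [← hex x, hfac, LinearMap.comp_apply]
  constructor
  · intro h
    exact hι (by rw [h, map_zero])
  · intro h
    rw [h, map_zero]

lemma rTensor_ker_subtype_injective : Injective ((LinearMap.ker g).subtype.rTensor M) := by
  rw [← LinearMap.lTensor_inj_iff_rTensor_inj]
  exact lTensor_ker_subtype_injective g M

omit [Module.Flat A X₃] in
lemma rTensor_range_subtype_injective : Injective ((LinearMap.range g).subtype.rTensor M) := by
  rw [← LinearMap.lTensor_inj_iff_rTensor_inj]
  exact lTensor_range_subtype_injective g M

omit [Module.Flat A X₃] in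
lemma rTensor_exact_ker : Exact ((LinearMap.ker g).subtype.rTensor M) (g.rTensor M) := by
  have hι := rTensor_range_subtype_injective g M
  have hfac : g.rTensor M =
      (LinearMap.range g).subtype.rTensor M ∘ₗ g.rangeRestrict.rTensor M := by
    rw [← LinearMap.rTensor_comp, subtype_comp_rangeRestrict]
  have hex := rTensor_exact M (exact_ker_rangeRestrict g) g.surjective_rangeRestrict
  intro x
  rw [← hex x, hfac, LinearMap.comp_apply]
  constructor
  · intro h
    exact hι (by rw [h, map_zero])
  · intro h
    rw [h, map_zero]

end ModuleLevel

section ModuleCatLevel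

variable {A : Type u} [CommRing A] (S : ShortComplex (ModuleCat.{u} A))

/-- `- ⊗ M` preserves the homology of `S` when `S.X₃` and `coker S.g` are flat. -/
lemma preservesLeftHomologyOf_tensorRight [Module.Flat A S.X₃]
    [Module.Flat A (S.X₃ ⧸ LinearMap.range S.g.hom)] (M : ModuleCat.{u} A) :
    (tensorRight M).PreservesLeftHomologyOf S := by
  refine preservesLeftHomologyOf_of_exact (tensorRight M) S S.moduleCatLeftHomologyData ?_ ?_
  · rw [ModuleCat.mono_iff_injective]
    exact rTensor_ker_subtype_injective S.g.hom M
  · rw [ShortComplex.ShortExact.moduleCat_exact_iff_function_exact]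
    exact rTensor_exact_ker S.g.hom M

open ExtBridge in
/-- Extension of scalars preserves the homology of `S` when `S.X₃` and `coker S.g` are flat. -/
lemma preservesLeftHomologyOf_extendScalars [Module.Flat A S.X₃]
    [Module.Flat A (S.X₃ ⧸ LinearMap.range S.g.hom)] (B : Type u) [CommRing B] [Algebra A B] :
    (ModuleCat.extendScalars.{u, u, u} (algebraMap A B)).PreservesLeftHomologyOf S := by
  refine preservesLeftHomologyOf_of_exact _ S S.moduleCatLeftHomologyData ?_ ?_
  · rw [ModuleCat.mono_iff_injective]
    intro x y hxy
    apply (extEquiv (B := B) _).injective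
    apply lTensor_ker_subtype_injective S.g.hom B
    have := congrArg (extEquiv (B := B) _) hxy
    rw [extEquiv_map, extEquiv_map] at this
    exact this
  · rw [ShortComplex.ShortExact.moduleCat_exact_iff_function_exact]
    intro z
    constructor
    · intro hz
      have := congrArg (extEquiv (B := B) _) hz
      rw [extEquiv_map, map_zero] at this
      obtain ⟨w, hw⟩ := (lTensor_exact_ker S.g.hom B _).1 this
      refine ⟨(extEquiv (B := B) _).symm w, ?_⟩
      apply (extEquiv (B := B) _).injective
      rw [extEquiv_map, LinearEquiv.apply_symm_apply]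
      exact hw
    · rintro ⟨w, rfl⟩
      apply (extEquiv (B := B) _).injective
      rw [extEquiv_map, extEquiv_map, map_zero]
      exact (lTensor_exact_ker S.g.hom B _).2 ⟨_, rfl⟩

end ModuleCatLevel

end Groth.Agent.H8.HTensor
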