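import Mathlib
set_option linter.style.haveILetI false

open WithConv

namespace Groth.Agent.H8.HopfKrull

universe u



section translation
variable {k : Type u} [Field k] {A : Type u} [CommRing A] [HopfAlgebra k A]

/-- constant point -/
noncomputable def iota (x : A →ₐ[k] k) : A →ₐ[k] A := (Algebra.ofId k A).comp x

/-- right translation by the `k`-point `x`. -/
noncomputable def tau (x : A →ₐ[k] k) : A →ₐ[k] A :=
  ofConv (toConv (AlgHom.id k A) * toConv (iota x))

lemma comp_iota {C : Type u} [CommRing C] [Algebra k C] (g : A →ₐ[k] C) (x : A →ₐ[k] k) :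
    g.comp (iota x) = (Algebra.ofId k C).comp x := by
  ext a
  simp [iota]

lemma comp_tau {C : Type u} [CommRing C] [Algebra k C] (g : A →ₐ[k] C) (x : A →ₐ[k] k) :
    g.comp (tau x) = ofConv (toConv g * toConv ((Algebra.ofId k C).comp x)) := by
  rw [tau, AlgHom.comp_convMul_distrib, ofConv_toConv, ofConv_toConv, AlgHom.comp_id, comp_iota]

lemma counit_comp_tau (x : A →ₐ[k] k) : (Bialgebra.counitAlgHom k A).comp (tau x) = x := by
  rw [comp_tau]
  have h1 : toConv (Bialgebra.counitAlgHom k A) = (1 : WithConv (A →ₐ[k] k)) := by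
    rw [AlgHom.convOne_def]
    congr 1
  have h2 : (Algebra.ofId k k).comp x = x := by
    ext a; simp
  rw [h1, h2, one_mul, ofConv_toConv]

lemma iota_mul (x y : WithConv (A →ₐ[k] k)) :
    toConv (iota (x * y).ofConv) = toConv (iota x.ofConv) * toConv (iota y.ofConv) := by
  unfold iota
  rw [AlgHom.comp_convMul_distrib, toConv_ofConv]

lemma iota_one : toConv (iota (1 : WithConv (A →ₐ[k] k)).ofConv) = (1 : WithConv (A →ₐ[k] A)) := by
  unfold iota
  rw [AlgHom.convOne_def, AlgHom.convOne_def]
  congr 1

lemma tau_comp_tau (x y : WithConv (A →ₐ[k] k)) :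
    (tau x.ofConv).comp (tau y.ofConv) = tau (x * y).ofConv := by
  rw [comp_tau]
  change ofConv (toConv (tau x.ofConv) * toConv (iota y.ofConv)) = _
  rw [tau, tau, toConv_ofConv, mul_assoc, ← iota_mul]

lemma tau_one : tau (1 : WithConv (A →ₐ[k] k)).ofConv = AlgHom.id k A := by
  rw [tau, iota_one, mul_one, ofConv_toConv]

/-- translation is an automorphism. -/
noncomputable def tauEquiv (x : A →ₐ[k] k) : A ≃ₐ[k] A :=
  AlgEquiv.ofAlgHom (tau x) (tau ((toConv x)⁻¹).ofConv)
    (by
      have := tau_comp_tau (toConv x) (toConv x)⁻¹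
      rw [mul_inv_cancel, tau_one] at this
      exact this)
    (by
      have := tau_comp_tau (toConv x)⁻¹ (toConv x)
      rw [inv_mul_cancel, tau_one] at this
      exact this)

lemma counit_tauEquiv (x : A →ₐ[k] k) (a : A) :
    Bialgebra.counitAlgHom k A (tauEquiv x a) = x a := by
  have := counit_comp_tau x
  exact congrArg (fun f => f a) this


end translation



section points
variable (k : Type u) [Field k] [IsAlgClosed k] (A : Type u) [CommRing A] [Algebra k A]
  [Algebra.FiniteType k A]

/-- Nullstellensatz: maximal ideals of a f.t. algebra over an algebraically closed field are kernels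
of `k`-points. -/
lemma exists_point_of_isMaximal (m : Ideal A) [hm : m.IsMaximal] :
    ∃ x : A →ₐ[k] k, RingHom.ker x = m := by
  letI : Field (A ⧸ m) := Ideal.Quotient.field m
  haveI : Algebra.FiniteType k (A ⧸ m) :=
    Algebra.FiniteType.of_surjective (Ideal.Quotient.mkₐ k m) (Ideal.Quotient.mkₐ_surjective k m)
  haveI : Module.Finite k (A ⧸ m) := finite_of_finite_type_of_isJacobsonRing k (A ⧸ m)
  have hb : Function.Bijective (algebraMap k (A ⧸ m)) :=
    IsAlgClosed.algebraMap_bijective_of_isIntegral
  let e : k ≃ₐ[k] (A ⧸ m) := AlgEquiv.ofBijective (Algebra.ofId k (A ⧸ m)) hb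
  refine ⟨(e.symm : (A ⧸ m) →ₐ[k] k).comp (Ideal.Quotient.mkₐ k m), ?_⟩
  ext a
  rw [RingHom.mem_ker]
  change e.symm (Ideal.Quotient.mk m a) = 0 ↔ a ∈ m
  rw [EmbeddingLike.map_eq_zero_iff, Ideal.Quotient.eq_zero_iff_mem]

end points

section ass
variable {A : Type u} [CommRing A] [IsNoetherianRing A]

lemma comap_mem_associatedPrimes (σ : A ≃+* A) {p : Ideal A} (hp : p ∈ associatedPrimes A A) :
    p.comap (σ : A →+* A) ∈ associatedPrimes A A := by
  rw [AssociatedPrimes.mem_iff, isAssociatedPrime_iff] at hp ⊢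
  obtain ⟨hpp, a, rfl⟩ := hp
  refine ⟨Ideal.comap_isPrime _ _, σ.symm a, ?_⟩
  ext r
  simp only [Ideal.mem_comap, Submodule.mem_colon_singleton, Submodule.mem_bot, smul_eq_mul,
    RingHom.coe_coe]
  constructor
  · intro h
    have := congrArg σ.symm h
    simpa using this
  · intro h
    have := congrArg σ h
    simpa using this

end ass




open Classical in
/-- The set of associated primes contained in a given prime. -/
noncomputable def assBelow {A : Type u} [CommRing A] [IsNoetherianRing A] (y : Ideal A) :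
    Finset (Ideal A) :=
  (associatedPrimes.finite A A).toFinset.filter (fun p => p ≤ y)

section count
variable {A : Type u} [CommRing A] [IsNoetherianRing A]

lemma mem_assBelow {y p : Ideal A} : p ∈ assBelow y ↔ p ∈ associatedPrimes A A ∧ p ≤ y := by
  classical
  simp [assBelow]

lemma assBelow_mono {y z : Ideal A} (h : y ≤ z) : assBelow y ⊆ assBelow z := by
  intro p hp
  rw [mem_assBelow] at hp ⊢
  exact ⟨hp.1, hp.2.trans h⟩

/-- Key combinatorial/topological lemma: in a Jacobson Noetherian ring with connected spectrum, if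
the number of associated primes below a maximal ideal does not depend on the maximal ideal, then
every associated prime lies below every prime. -/
lemma assBelow_eq_of_card_const [IsJacobsonRing A]
    (hconn : ∀ e : A, IsIdempotentElem e → e = 0 ∨ e = 1) (c : ℕ)
    (hc : ∀ m : Ideal A, m.IsMaximal → (assBelow m).card = c)
    (y : Ideal A) [hy : y.IsPrime] : ∀ p ∈ associatedPrimes A A, p ≤ y := by
  classical
  -- card ≤ c
  have h1 : ∀ z : Ideal A, z.IsPrime → (assBelow z).card ≤ c := by
    intro z hz
    obtain ⟨m, hm, hzm⟩ := Ideal.exists_le_maximal z hz.ne_top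
    rw [← hc m hm]
    exact Finset.card_le_card (assBelow_mono hzm)
  -- card = c
  have h2 : ∀ z : Ideal A, z.IsPrime → (assBelow z).card = c := by
    intro z hz
    by_contra hne
    have hlt : (assBelow z).card < c := lt_of_le_of_ne (h1 z hz) hne
    set F' : Finset (Ideal A) :=
      (associatedPrimes.finite A A).toFinset.filter (fun p => ¬ p ≤ z) with hF'
    have hprod : F'.prod id ≤ z := by
      have hj : z.jacobson = z := IsJacobsonRing.out inferInstance hz.isRadical
      rw [← hj, Ideal.jacobson]
      refine le_sInf ?_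
      rintro m ⟨hzm, hm⟩
      have hlt' : (assBelow z).card < (assBelow m).card := by rw [hc m hm]; exact hlt
      obtain ⟨p, hpm, hpz⟩ := Finset.exists_mem_notMem_of_card_lt_card hlt'
      rw [mem_assBelow] at hpm hpz
      have hpF' : p ∈ F' := by
        rw [hF', Finset.mem_filter, Set.Finite.mem_toFinset]
        exact ⟨hpm.1, fun h => hpz ⟨hpm.1, h⟩⟩
      exact (Ideal.prod_le_inf.trans (Finset.inf_le hpF')).trans hpm.2
    obtain ⟨p, hpF', hpz⟩ := (Ideal.IsPrime.prod_le hz).mp hprod
    rw [hF', Finset.mem_filter] at hpF'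
    exact hpF'.2 hpz
  -- preconnected
  haveI : PreconnectedSpace (PrimeSpectrum A) := by
    rw [preconnectedSpace_iff_clopen]
    intro s hs
    obtain ⟨e, he, rfl⟩ := PrimeSpectrum.isClopen_iff.mp hs
    rcases hconn e he with rfl | rfl
    · left; simp
    · right; simp
  -- locally constant
  have h3 : IsLocallyConstant (fun z : PrimeSpectrum A => assBelow z.asIdeal) := by
    rw [IsLocallyConstant.iff_exists_open]
    intro z
    refine ⟨⋂ p ∈ (associatedPrimes.finite A A).toFinset.filter (fun p => ¬ p ≤ z.asIdeal),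
      (PrimeSpectrum.zeroLocus (p : Set A))ᶜ, ?_, ?_, ?_⟩
    · exact isOpen_biInter_finset fun p _ => (PrimeSpectrum.isClosed_zeroLocus _).isOpen_compl
    · simp only [Set.mem_iInter, Set.mem_compl_iff, PrimeSpectrum.mem_zeroLocus, SetLike.coe_subset_coe]
      intro p hp
      rw [Finset.mem_filter] at hp
      exact hp.2
    · intro w hw
      simp only [Set.mem_iInter, Set.mem_compl_iff, PrimeSpectrum.mem_zeroLocus,
        SetLike.coe_subset_coe] at hw
      apply Finset.eq_of_subset_of_card_le
      · intro p hp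
        rw [mem_assBelow] at hp ⊢
        refine ⟨hp.1, ?_⟩
        by_contra hpz
        exact hw p (by rw [Finset.mem_filter, Set.Finite.mem_toFinset]; exact ⟨hp.1, hpz⟩) hp.2
      · rw [h2 _ z.2, h2 _ w.2]
  intro p hp
  have hpp : p.IsPrime := hp.1
  have := h3.apply_eq_of_preconnectedSpace ⟨p, hpp⟩ ⟨y, hy⟩
  have hmem : p ∈ assBelow p := mem_assBelow.mpr ⟨hp, le_rfl⟩
  have : p ∈ assBelow y := by
    have h' : assBelow p = assBelow y := this
    rw [← h']; exact hmem
  exact (mem_assBelow.mp this).2

end count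


section main
variable (k : Type u) [Field k] [IsAlgClosed k]
  (A : Type u) [CommRing A] [HopfAlgebra k A] [Algebra.FiniteType k A]

theorem iInf_pow_ker_counit_eq_bot
    (hconn : ∀ e : A, IsIdempotentElem e → e = 0 ∨ e = 1) :
    (⨅ n : ℕ, RingHom.ker (Bialgebra.counitAlgHom k A) ^ n) = ⊥ := by
  haveI : IsNoetherianRing A := Algebra.FiniteType.isNoetherianRing k A
  haveI : IsJacobsonRing A := isJacobsonRing_of_finiteType (A := k) (B := A)
  set ε := Bialgebra.counitAlgHom k A with hε
  have hεsurj : Function.Surjective ε := fun c => ⟨algebraMap k A c, by simp [hε]⟩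
  haveI hmax : (RingHom.ker ε).IsMaximal := RingHom.ker_isMaximal_of_surjective _ hεsurj
  -- homogeneity
  have hc : ∀ m : Ideal A, m.IsMaximal → (assBelow m).card = (assBelow (RingHom.ker ε)).card := by
    intro m hm
    obtain ⟨x, rfl⟩ := exists_point_of_isMaximal k A m
    let σ : A ≃ₐ[k] A := tauEquiv x
    have hσ : ∀ a, ε (σ a) = x a := counit_tauEquiv x
    refine Finset.card_bij' (fun p _ => p.comap ((σ.symm : A ≃+* A) : A →+* A))
      (fun p _ => p.comap ((σ : A ≃+* A) : A →+* A)) ?_ ?_ ?_ ?_
    · intro p hp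
      rw [mem_assBelow] at hp ⊢
      refine ⟨comap_mem_associatedPrimes _ hp.1, ?_⟩
      intro a ha
      rw [RingHom.mem_ker, ← σ.apply_symm_apply a, hσ]
      exact hp.2 ha
    · intro p hp
      rw [mem_assBelow] at hp ⊢
      refine ⟨comap_mem_associatedPrimes _ hp.1, ?_⟩
      intro a ha
      rw [RingHom.mem_ker, ← hσ]
      exact hp.2 ha
    · intro p _
      ext a
      simp [Ideal.mem_comap]
    · intro p _
      ext a
      simp [Ideal.mem_comap]
  have hle : ∀ p ∈ associatedPrimes A A, p ≤ RingHom.ker ε :=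
    assBelow_eq_of_card_const hconn _ hc (RingHom.ker ε)
  rw [eq_bot_iff]
  intro a ha
  rw [Submodule.mem_bot]
  by_contra hne
  have ha' : a ∈ (⨅ i : ℕ, (RingHom.ker ε) ^ i • ⊤ : Submodule A A) := by
    convert ha using 3
    rw [smul_eq_mul, ← Ideal.one_eq_top, mul_one]
  obtain ⟨r, hr⟩ := (Ideal.mem_iInf_smul_pow_eq_bot_iff (RingHom.ker ε) a).mp ha'
  obtain ⟨P, hP, hPle⟩ := exists_le_isAssociatedPrime_of_isNoetherianRing A a hne
  have h1 : (1 - (r : A)) ∈ RingHom.ker ε := by
    apply hle P hP
    apply hPle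
    rw [Submodule.mem_colon_singleton, Submodule.mem_bot, sub_smul, one_smul, hr, sub_self]
  have h2 : (1 : A) ∈ RingHom.ker ε := by
    have := (RingHom.ker ε).add_mem h1 r.2
    simpa using this
  exact hmax.ne_top ((Ideal.eq_top_iff_one _).mpr h2)

end main

end Groth.Agent.H8.HopfKrull
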