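import Groth.Agent.Lib.Helper5.NApprox.ChevB

/-!
# helper8: scheme-theoretic image of an integral morphism with finite fibres (S13712)
-/

set_option autoImplicit false
universe u

open CategoryTheory CategoryTheory.Limits AlgebraicGeometry

namespace Groth.Agent.H8.ImgInt

theorem surjective_toImage {X Y : Scheme.{u}} (f : X ⟶ Y) [UniversallyClosed f] :
    Surjective f.toImage := by
  constructor
  have hdense : DenseRange f.toImage.base := IsDominant.denseRange
  have hclosed : IsClosedMap f.toImage.base := f.toImage.isClosedMap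
  rw [← Set.range_eq_univ, ← hdense.closure_range, hclosed.isClosed_range.closure_eq]

theorem main {X Y S : Scheme.{u}} (f : X ⟶ Y) (g : Y ⟶ S)
    [IsSeparated g] [IsIntegralHom (f ≫ g)] (hfin : ∀ s : S, Set.Finite ((f ≫ g).base ⁻¹' {s})) :
    IsIntegralHom (f.imageι ≫ g) ∧ ∀ s : S, Set.Finite ((f.imageι ≫ g).base ⁻¹' {s}) := by
  haveI : IsIntegralHom f := IsIntegralHom.of_comp f g
  haveI hsurj : Surjective f.toImage := surjective_toImage f
  have hcomp : f.toImage ≫ (f.imageι ≫ g) = f ≫ g := by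
    rw [← Category.assoc, Scheme.Hom.toImage_imageι]
  haveI : UniversallyClosed (f.toImage ≫ (f.imageι ≫ g)) := by rw [hcomp]; infer_instance
  haveI huc : UniversallyClosed (f.imageι ≫ g) :=
    UniversallyClosed.of_comp_surjective f.toImage _
  haveI haff : IsAffineHom (f.imageι ≫ g) := by
    constructor
    intro U hU
    have hXU : IsAffineOpen ((f ≫ g) ⁻¹ᵁ U) := IsAffineHom.isAffine_preimage U hU
    have e : f.toImage ⁻¹ᵁ ((f.imageι ≫ g) ⁻¹ᵁ U) = (f ≫ g) ⁻¹ᵁ U := by
      rw [← hcomp]; rfl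
    have hXU' : IsAffineOpen (f.toImage ⁻¹ᵁ ((f.imageι ≫ g) ⁻¹ᵁ U)) := by
      rw [e]; exact hXU
    haveI : IsAffine (f.toImage ⁻¹ᵁ ((f.imageι ≫ g) ⁻¹ᵁ U)).toScheme := hXU'
    haveI : Surjective (f.toImage ∣_ ((f.imageι ≫ g) ⁻¹ᵁ U)) :=
      IsZariskiLocalAtTarget.restrict hsurj _
    exact Groth.Agent.H5.NApprox.isAffine_of_surjective_universallyClosed
      (f.toImage ∣_ ((f.imageι ≫ g) ⁻¹ᵁ U))
  refine ⟨IsIntegralHom.iff_universallyClosed_and_isAffineHom.mpr ⟨huc, haff⟩, fun s => ?_⟩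
  refine ((hfin s).image f.toImage.base).subset ?_
  intro y hy
  obtain ⟨x, rfl⟩ := hsurj.surj y
  refine ⟨x, ?_, rfl⟩
  rw [Set.mem_preimage, Set.mem_singleton_iff] at hy ⊢
  rw [← hy, ← hcomp]
  rfl

end Groth.Agent.H8.ImgInt
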