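import Mathlib
import Groth.Agent.H4.IndEtCrit
import Groth.Agent.Lib.Helper8.Hens.Pointed

set_option autoImplicit false

universe u

namespace Groth.Agent.H8.IndLift

open IsLocalRing TensorProduct Groth.Agent.H4.IndEtCrit

section

variable {R T K : Type u} [CommRing R] [CommRing T] [HenselianLocalRing T] [Algebra R T]
  [Field K] [Algebra R K] (v : T →ₐ[R] K) (hv : Function.Surjective v)
  (hkv : RingHom.ker v.toRingHom = maximalIdeal T)

include hkv in
/-- uniqueness of lifts of `K`-points of étale algebras -/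
theorem lift_unique {C : Type u} [CommRing C] [Algebra R C] [Algebra.Etale R C]
    (g g' : C →ₐ[R] T) (h : v.comp g = v.comp g') : g = g' := by
  apply Groth.Agent.H8.Hens.algHom_ext_of_sub_mem_maximalIdeal
  intro x
  rw [← hkv, RingHom.mem_ker]
  have := congrArg (fun w => w x) h
  simp only [AlgHom.comp_apply] at this
  show v (g x - g' x) = 0
  rw [map_sub, this, sub_self]

include hv hkv in
/-- existence of lifts of `K`-points of étale algebras -/
theorem exists_lift {C : Type u} [CommRing C] [Algebra R C] [Algebra.Etale R C]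
    (σ : C →ₐ[R] K) : ∃ g : C →ₐ[R] T, v.comp g = σ := by
  -- the map `τ : K → ResidueField T`
  have hker : ∀ a ∈ RingHom.ker v.toRingHom,
      (IsScalarTower.toAlgHom R T (ResidueField T)) a = 0 := by
    intro a ha
    rw [hkv] at ha
    exact (residue_eq_zero_iff a).mpr ha
  let τ : K →ₐ[R] ResidueField T :=
    (Ideal.Quotient.liftₐ (RingHom.ker v.toRingHom)
      (IsScalarTower.toAlgHom R T (ResidueField T)) hker).comp
      (Ideal.quotientKerAlgEquivOfSurjective hv).symm.toAlgHom
  have hτ : ∀ t : T, τ (v t) = residue T t := by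
    intro t
    have h1 : (Ideal.quotientKerAlgEquivOfSurjective hv).symm (v t)
        = Ideal.Quotient.mk (RingHom.ker v.toRingHom) t := by
      rw [AlgEquiv.symm_apply_eq]
      rfl
    show Ideal.Quotient.liftₐ _ _ hker ((Ideal.quotientKerAlgEquivOfSurjective hv).symm (v t)) = _
    rw [h1]
    rfl
  obtain ⟨g, hg⟩ := Groth.Agent.H8.Hens.exists_algHom_of_henselian σ τ
  refine ⟨g, AlgHom.ext fun x => ?_⟩
  obtain ⟨t, ht⟩ := hv (σ x)
  have h2 : residue T (g x) = residue T t := by rw [hg, ← ht, hτ]
  have h3 : g x - t ∈ maximalIdeal T := by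
    rw [← residue_eq_zero_iff, map_sub, h2, sub_self]
  rw [← hkv, RingHom.mem_ker] at h3
  have h4 : v (g x) = v t := by
    have : v (g x - t) = 0 := h3
    rwa [map_sub, sub_eq_zero] at this
  rw [AlgHom.comp_apply, h4, ht]

end


section main

variable {R S T K : Type u} [CommRing R] [CommRing S] [Algebra R S]
  [CommRing T] [HenselianLocalRing T] [Algebra R T]
  [Field K] [Algebra R K] (hS : Crit R S) (u : S →ₐ[R] K) (v : T →ₐ[R] K)
  (hv : Function.Surjective v) (hkv : RingHom.ker v.toRingHom = maximalIdeal T)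

/-- the chosen lift -/
noncomputable def G (C : Type u) [CommRing C] [Algebra R C] [Algebra.Etale R C]
    (σ : C →ₐ[R] K) : C →ₐ[R] T := (exists_lift v hv hkv σ).choose

lemma G_spec (C : Type u) [CommRing C] [Algebra R C] [Algebra.Etale R C]
    (σ : C →ₐ[R] K) : v.comp (G v hv hkv C σ) = σ := (exists_lift v hv hkv σ).choose_spec

lemma G_comp {C D : Type u} [CommRing C] [Algebra R C] [Algebra.Etale R C]
    [CommRing D] [Algebra R D] [Algebra.Etale R D] (σ : D →ₐ[R] K) (h : C →ₐ[R] D) :
    (G v hv hkv D σ).comp h = G v hv hkv C (σ.comp h) := by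
  apply lift_unique v hkv
  rw [← AlgHom.comp_assoc, G_spec, G_spec]

/-- a representative of an element of an ind-étale algebra -/
structure Rep (b : S) where
  C : Type u
  [cr : CommRing C]
  [alg : Algebra R C]
  [et : Algebra.Etale R C]
  g : C →ₐ[R] S
  c : C
  hc : g c = b

attribute [instance] Rep.cr Rep.alg Rep.et

include hS in
lemma nonempty_rep (b : S) : Nonempty (Rep (R := R) b) := by
  obtain ⟨C, _, _, _, g, c, hc⟩ := hS.lift b
  exact ⟨⟨C, g, c, hc⟩⟩

/-- value of the lift on `b`, computed through a representative -/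
noncomputable def val {b : S} (r : Rep (R := R) b) : T := G v hv hkv r.C (u.comp r.g) r.c

include hS in
lemma val_eq {b : S} (r r' : Rep (R := R) b) : val u v hv hkv r = val u v hv hkv r' := by
  haveI : Algebra.Etale R (r.C ⊗[R] r'.C) := Algebra.Etale.comp R r.C (r.C ⊗[R] r'.C)
  let gD : r.C ⊗[R] r'.C →ₐ[R] S := Algebra.TensorProduct.productMap r.g r'.g
  have hz : gD (r.c ⊗ₜ 1 - 1 ⊗ₜ r'.c) = 0 := by
    simp [gD, r.hc, r'.hc]
  obtain ⟨C', _, _, _, h, g', hg', hh⟩ := hS.kill (r.C ⊗[R] r'.C) gD _ hz
  have e1 : ((G v hv hkv C' (u.comp g')).comp h).comp Algebra.TensorProduct.includeLeft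
      = G v hv hkv r.C (u.comp r.g) := by
    rw [G_comp, G_comp]
    congr 1
    rw [AlgHom.comp_assoc, AlgHom.comp_assoc, ← AlgHom.comp_assoc g', hg']
    ext x
    simp [gD]
  have e2 : ((G v hv hkv C' (u.comp g')).comp h).comp Algebra.TensorProduct.includeRight
      = G v hv hkv r'.C (u.comp r'.g) := by
    rw [G_comp, G_comp]
    congr 1
    rw [AlgHom.comp_assoc, AlgHom.comp_assoc, ← AlgHom.comp_assoc g', hg']
    ext x
    simp [gD]
  have hh' : h (r.c ⊗ₜ 1) = h (1 ⊗ₜ r'.c) := by
    rw [map_sub, sub_eq_zero] at hh; exact hh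
  show G v hv hkv r.C (u.comp r.g) r.c = G v hv hkv r'.C (u.comp r'.g) r'.c
  rw [← e1, ← e2]
  simp only [AlgHom.comp_apply, Algebra.TensorProduct.includeLeft_apply,
    Algebra.TensorProduct.includeRight_apply, hh']


/-- the lift as a function -/
noncomputable def fval (b : S) : T := val u v hv hkv (nonempty_rep hS b).some

include hS in
lemma fval_eq (C : Type u) [CommRing C] [Algebra R C] [Algebra.Etale R C] (g : C →ₐ[R] S) (c : C) :
    fval hS u v hv hkv (g c) = G v hv hkv C (u.comp g) c :=
  val_eq hS u v hv hkv _ ⟨C, g, c, rfl⟩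

include hS in
lemma fval_tensor {C D : Type u} [CommRing C] [Algebra R C] [Algebra.Etale R C]
    [CommRing D] [Algebra R D] [Algebra.Etale R D] (g : C →ₐ[R] S) (g' : D →ₐ[R] S) :
    haveI : Algebra.Etale R (C ⊗[R] D) := Algebra.Etale.comp R C (C ⊗[R] D)
    (∀ c, G v hv hkv (C ⊗[R] D) (u.comp (Algebra.TensorProduct.productMap g g')) (c ⊗ₜ 1)
      = G v hv hkv C (u.comp g) c) ∧
    (∀ d, G v hv hkv (C ⊗[R] D) (u.comp (Algebra.TensorProduct.productMap g g')) (1 ⊗ₜ d)
      = G v hv hkv D (u.comp g') d) := by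
  haveI : Algebra.Etale R (C ⊗[R] D) := Algebra.Etale.comp R C (C ⊗[R] D)
  constructor
  · intro c
    have := G_comp v hv hkv (u.comp (Algebra.TensorProduct.productMap g g'))
      (Algebra.TensorProduct.includeLeft : C →ₐ[R] C ⊗[R] D)
    rw [AlgHom.comp_assoc, Algebra.TensorProduct.productMap_left] at this
    exact congrArg (fun w => w c) this
  · intro d
    have := G_comp v hv hkv (u.comp (Algebra.TensorProduct.productMap g g'))
      (Algebra.TensorProduct.includeRight : D →ₐ[R] C ⊗[R] D)
    rw [AlgHom.comp_assoc, Algebra.TensorProduct.productMap_right] at this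
    exact congrArg (fun w => w d) this

include hS in
lemma fval_add (b b' : S) :
    fval hS u v hv hkv (b + b') = fval hS u v hv hkv b + fval hS u v hv hkv b' := by
  obtain ⟨C, g, c, rfl⟩ := (nonempty_rep (R := R) hS b).some
  obtain ⟨D, g', d, rfl⟩ := (nonempty_rep (R := R) hS b').some
  haveI : Algebra.Etale R (C ⊗[R] D) := Algebra.Etale.comp R C (C ⊗[R] D)
  have h1 : g c + g' d = Algebra.TensorProduct.productMap g g' (c ⊗ₜ 1 + 1 ⊗ₜ d) := by simp
  obtain ⟨hl, hr⟩ := fval_tensor hS u v hv hkv g g'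
  rw [h1, fval_eq, map_add, hl, hr, fval_eq, fval_eq]

include hS in
lemma fval_mul (b b' : S) :
    fval hS u v hv hkv (b * b') = fval hS u v hv hkv b * fval hS u v hv hkv b' := by
  obtain ⟨C, g, c, rfl⟩ := (nonempty_rep (R := R) hS b).some
  obtain ⟨D, g', d, rfl⟩ := (nonempty_rep (R := R) hS b').some
  haveI : Algebra.Etale R (C ⊗[R] D) := Algebra.Etale.comp R C (C ⊗[R] D)
  have h1 : g c * g' d = Algebra.TensorProduct.productMap g g' (c ⊗ₜ 1 * 1 ⊗ₜ d) := by simp
  obtain ⟨hl, hr⟩ := fval_tensor hS u v hv hkv g g'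
  rw [h1, fval_eq, map_mul, hl, hr, fval_eq, fval_eq]

include hS in
lemma fval_algebraMap (r : R) : fval hS u v hv hkv (algebraMap R S r) = algebraMap R T r := by
  have := fval_eq hS u v hv hkv R (Algebra.ofId R S) r
  rw [Algebra.ofId_apply] at this
  rw [this]
  exact (G v hv hkv R _).commutes r

include hS in
lemma v_fval (b : S) : v (fval hS u v hv hkv b) = u b := by
  obtain ⟨C, g, c, rfl⟩ := (nonempty_rep (R := R) hS b).some
  rw [fval_eq]
  exact congrArg (fun w => w c) (G_spec v hv hkv C (u.comp g))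

/-- the lift as an algebra map -/
noncomputable def liftHom : S →ₐ[R] T where
  toFun := fval hS u v hv hkv
  map_one' := by
    have := fval_algebraMap hS u v hv hkv 1
    simpa using this
  map_mul' := fval_mul hS u v hv hkv
  map_zero' := by
    have := fval_algebraMap hS u v hv hkv 0
    simpa using this
  map_add' := fval_add hS u v hv hkv
  commutes' := fval_algebraMap hS u v hv hkv

include hS hv hkv in
/-- **Universal property**: a `K`-point of an ind-étale `R`-algebra lifts uniquely to a henselian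
local `R`-algebra with residue field `K`. -/
theorem existsUnique_algHom : ∃! f : S →ₐ[R] T, v.comp f = u := by
  refine ⟨liftHom hS u v hv hkv, AlgHom.ext fun b => v_fval hS u v hv hkv b, ?_⟩
  intro f' hf'
  ext b
  obtain ⟨C, g, c, rfl⟩ := (nonempty_rep (R := R) hS b).some
  have h1 : f'.comp g = (liftHom hS u v hv hkv).comp g := by
    apply lift_unique v hkv
    rw [← AlgHom.comp_assoc, ← AlgHom.comp_assoc, hf']
    congr 1
    exact (AlgHom.ext fun b => v_fval hS u v hv hkv b).symm
  exact congrArg (fun w => w c) h1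

end main

end Groth.Agent.H8.IndLift
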