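import Mathlib

/-! A descent lemma for integral lattices (used for S16164). -/

namespace Groth.Agent.H8

open Matrix

/-- Descent: if orthogonal projection onto the image of `(P;Q)` maps `Y₁` into the image,
then every `(y₁, 0)` lies in the image. -/
theorem exists_mulVec_eq_and_eq_zero
    {ι κ₁ κ₂ : Type} [Fintype ι] [Fintype κ₁] [Fintype κ₂]
    (P : Matrix κ₁ ι ℤ) (Q : Matrix κ₂ ι ℤ)
    (hP : Function.Surjective P.mulVec)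
    (Ψ₁ : Matrix κ₁ κ₁ ℤ) (Ψ₂ : Matrix κ₂ κ₂ ℤ) (hΨ₁ : Ψ₁.IsSymm)
    (hΨ₁pos : ∀ y : κ₁ → ℤ, y ≠ 0 → 0 < y ⬝ᵥ Ψ₁.mulVec y)
    (hΨ₂pos : ∀ y : κ₂ → ℤ, y ≠ 0 → 0 < y ⬝ᵥ Ψ₂.mulVec y)
    (H : ∀ y₁ : κ₁ → ℤ, ∃ x : ι → ℤ, ∀ x' : ι → ℤ,
      (P.mulVec x') ⬝ᵥ Ψ₁.mulVec (P.mulVec x) + (Q.mulVec x') ⬝ᵥ Ψ₂.mulVec (Q.mulVec x) =
        (P.mulVec x') ⬝ᵥ Ψ₁.mulVec y₁) :
    ∀ y₁ : κ₁ → ℤ, ∃ x : ι → ℤ, P.mulVec x = y₁ ∧ Q.mulVec x = 0 := by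
  have hsymm : ∀ y y' : κ₁ → ℤ, y ⬝ᵥ Ψ₁.mulVec y' = y' ⬝ᵥ Ψ₁.mulVec y := by
    intro y y'
    rw [Matrix.dotProduct_mulVec, ← Matrix.mulVec_transpose, hΨ₁.eq, dotProduct_comm]
  have hnn₁ : ∀ y : κ₁ → ℤ, 0 ≤ y ⬝ᵥ Ψ₁.mulVec y := by
    intro y
    by_cases hy : y = 0
    · subst hy; simp
    · exact (hΨ₁pos y hy).le
  have hnn₂ : ∀ y : κ₂ → ℤ, 0 ≤ y ⬝ᵥ Ψ₂.mulVec y := by
    intro y
    by_cases hy : y = 0
    · subst hy; simp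
    · exact (hΨ₂pos y hy).le
  -- strong induction on the norm
  have main : ∀ (N : ℕ) (y₁ : κ₁ → ℤ), (y₁ ⬝ᵥ Ψ₁.mulVec y₁).toNat ≤ N →
      ∃ x : ι → ℤ, P.mulVec x = y₁ ∧ Q.mulVec x = 0 := by
    intro N
    induction N using Nat.strong_induction_on with
    | _ N ih =>
      intro y₁ hN
      by_cases hy : y₁ = 0
      · exact ⟨0, by simp [hy], by simp⟩
      obtain ⟨x, hx⟩ := H y₁
      set a := P.mulVec x with ha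
      set c := Q.mulVec x with hc
      have E1 : a ⬝ᵥ Ψ₁.mulVec a + c ⬝ᵥ Ψ₂.mulVec c = a ⬝ᵥ Ψ₁.mulVec y₁ := hx x
      have hpos : 0 < y₁ ⬝ᵥ Ψ₁.mulVec y₁ := hΨ₁pos y₁ hy
      -- expansion of the norm of y₁ - a
      have hexp : (y₁ - a) ⬝ᵥ Ψ₁.mulVec (y₁ - a) =
          y₁ ⬝ᵥ Ψ₁.mulVec y₁ - a ⬝ᵥ Ψ₁.mulVec a - 2 * (c ⬝ᵥ Ψ₂.mulVec c) := by
        rw [Matrix.mulVec_sub, sub_dotProduct, dotProduct_sub, dotProduct_sub, hsymm y₁ a]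
        linarith
      have hnnya := hnn₁ (y₁ - a)
      -- (a, c) ≠ 0
      have hac : a ≠ 0 ∨ c ≠ 0 := by
        by_contra hcon
        push Not at hcon
        obtain ⟨ha0, hc0⟩ := hcon
        obtain ⟨x', hx'⟩ := hP y₁
        have := hx x'
        rw [ha0, hc0, hx'] at this
        simp at this
        omega
      have hlt : (y₁ - a) ⬝ᵥ Ψ₁.mulVec (y₁ - a) < y₁ ⬝ᵥ Ψ₁.mulVec y₁ := by
        rcases hac with h | h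
        · have := hΨ₁pos a h
          have := hnn₂ c
          linarith
        · have := hΨ₂pos c h
          have := hnn₁ a
          linarith
      obtain ⟨x1, hx1P, hx1Q⟩ := ih ((y₁ - a) ⬝ᵥ Ψ₁.mulVec (y₁ - a)).toNat (by omega) (y₁ - a) le_rfl
      by_cases hc0 : c = 0
      · refine ⟨x1 + x, ?_, ?_⟩
        · rw [Matrix.mulVec_add, hx1P, ← ha]; abel
        · rw [Matrix.mulVec_add, hx1Q, ← hc, hc0]; simp
      · have hcpos := hΨ₂pos c hc0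
        have hlt2 : a ⬝ᵥ Ψ₁.mulVec a < y₁ ⬝ᵥ Ψ₁.mulVec y₁ := by linarith
        have hnna := hnn₁ a
        obtain ⟨x2, hx2P, hx2Q⟩ := ih (a ⬝ᵥ Ψ₁.mulVec a).toNat (by omega) a le_rfl
        refine ⟨x1 + x2, ?_, ?_⟩
        · rw [Matrix.mulVec_add, hx1P, hx2P]; abel
        · rw [Matrix.mulVec_add, hx1Q, hx2Q]; simp
  intro y₁
  exact main _ y₁ le_rfl

end Groth.Agent.H8
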