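import Mathlib

set_option autoImplicit false
universe u
open PowerSeries

namespace Groth.Agent.H8.LaurentUnits

variable {R : Type u} [CommRing R]

/-- prime-wise order statement -/
theorem exists_order_at_prime (F G : R⟦X⟧) (m : ℕ) (hFG : F * G = X ^ m) (p : Ideal R)
    [p.IsPrime] :
    ∃ i, i ≤ m ∧ (∀ j, j < i → coeff j F ∈ p) ∧ (∀ j, j < m - i → coeff j G ∈ p) := by
  let F' : (R ⧸ p)⟦X⟧ := PowerSeries.map (Ideal.Quotient.mk p) F
  let G' : (R ⧸ p)⟦X⟧ := PowerSeries.map (Ideal.Quotient.mk p) G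
  have h1 : F' * G' = X ^ m := by
    have := congrArg (PowerSeries.map (Ideal.Quotient.mk p)) hFG
    simpa [F', G'] using this
  have h2 : order F' + order G' = m := by
    rw [← order_mul, h1, order_X_pow]
  have hF'top : order F' ≠ ⊤ := by
    intro h; rw [h, top_add] at h2; exact ENat.top_ne_coe m h2
  have hG'top : order G' ≠ ⊤ := by
    intro h; rw [h, add_top] at h2; exact ENat.top_ne_coe m h2
  obtain ⟨i, hi⟩ := ENat.ne_top_iff_exists.mp hF'top
  obtain ⟨i', hi'⟩ := ENat.ne_top_iff_exists.mp hG'top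
  rw [← hi, ← hi'] at h2
  have h3 : i + i' = m := by exact_mod_cast h2
  refine ⟨i, by omega, fun j hj => ?_, fun j hj => ?_⟩
  · have := coeff_of_lt_order (φ := F') j (by rw [← hi]; exact_mod_cast hj)
    rw [coeff_map] at this
    exact Ideal.Quotient.eq_zero_iff_mem.mp this
  · have := coeff_of_lt_order (φ := G') j (by rw [← hi']; exact_mod_cast (by omega : j < i'))
    rw [coeff_map] at this
    exact Ideal.Quotient.eq_zero_iff_mem.mp this


theorem exists_unit_factor [IsReduced R] [Nontrivial R]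
    (hconn : ∀ e : R, IsIdempotentElem e → e = 0 ∨ e = 1)
    (F G : R⟦X⟧) (m : ℕ) (hFG : F * G = X ^ m) :
    ∃ (i : ℕ) (F' : R⟦X⟧), IsUnit F' ∧ F = X ^ i * F' := by
  classical
  let e : ℕ → R := fun i => coeff i F * coeff (m - i) G
  have hsum : ∑ i ∈ Finset.range (m + 1), e i = 1 := by
    have h1 := congrArg (coeff m) hFG
    rw [coeff_mul, Finset.Nat.sum_antidiagonal_eq_sum_range_succ_mk, coeff_X_pow, if_pos rfl] at h1
    exact h1
  have hprime : ∀ (p : Ideal R) [p.IsPrime], ∃ i₁, i₁ ≤ m ∧ (∀ i, i ≤ m → i ≠ i₁ → e i ∈ p) ∧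
      ∀ j, j < i₁ → coeff j F ∈ p := by
    intro p _
    obtain ⟨i₁, hi₁, h1, h2⟩ := exists_order_at_prime F G m hFG p
    refine ⟨i₁, hi₁, fun i hi hne => ?_, h1⟩
    rcases lt_or_gt_of_ne hne with h | h
    · exact Ideal.mul_mem_right _ _ (h1 i h)
    · exact Ideal.mul_mem_left _ _ (h2 (m - i) (by omega))
  have horth : ∀ i j, i ≤ m → j ≤ m → i ≠ j → e i * e j = 0 := by
    intro i j hi hj hij
    apply IsNilpotent.eq_zero
    rw [nilpotent_iff_mem_prime]
    intro p hp
    obtain ⟨i₁, -, h1, -⟩ := hprime p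
    by_cases h : i = i₁
    · exact Ideal.mul_mem_left _ _ (h1 j hj (fun h' => hij (h.trans h'.symm)))
    · exact Ideal.mul_mem_right _ _ (h1 i hi h)
  have hidem : ∀ i, i ≤ m → IsIdempotentElem (e i) := by
    intro i hi
    have h1 : e i = e i * ∑ j ∈ Finset.range (m + 1), e j := by rw [hsum, mul_one]
    rw [Finset.mul_sum, Finset.sum_eq_single i] at h1
    · exact h1.symm
    · intro j hj hji
      exact horth i j hi (by simpa [Nat.lt_succ_iff] using hj) (Ne.symm hji)
    · intro h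
      exact absurd (Finset.mem_range.mpr (by omega)) h
  obtain ⟨i₀, hi₀, hei₀⟩ : ∃ i₀, i₀ ≤ m ∧ e i₀ = 1 := by
    by_contra hcon
    push Not at hcon
    have h1 : ∑ i ∈ Finset.range (m + 1), e i = 0 := by
      refine Finset.sum_eq_zero fun i hi => ?_
      have him : i ≤ m := by simpa [Nat.lt_succ_iff] using hi
      rcases hconn (e i) (hidem i him) with h | h
      · exact h
      · exact absurd h (hcon i him)
    rw [hsum] at h1
    exact one_ne_zero h1
  have hunit : IsUnit (coeff i₀ F) := IsUnit.of_mul_eq_one _ hei₀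
  have hlow : ∀ j, j < i₀ → coeff j F = 0 := by
    intro j hj
    apply IsNilpotent.eq_zero
    rw [nilpotent_iff_mem_prime]
    intro p hp
    obtain ⟨i₁, -, h1, h2⟩ := hprime p
    have hi₁₀ : i₁ = i₀ := by
      by_contra hne
      have h3 : e i₀ ∈ p := h1 i₀ hi₀ (Ne.symm hne)
      rw [hei₀] at h3
      exact hp.ne_top ((Ideal.eq_top_iff_one _).mpr h3)
    exact h2 j (hi₁₀ ▸ hj)
  obtain ⟨F', hF'⟩ := X_pow_dvd_iff.mpr hlow
  refine ⟨i₀, F', ?_, hF'⟩
  rw [isUnit_iff_constantCoeff]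
  have h1 : coeff i₀ F = constantCoeff F' := by
    rw [hF']
    have := coeff_X_pow_mul F' i₀ 0
    rw [zero_add] at this
    rw [this, coeff_zero_eq_constantCoeff_apply]
  rw [← h1]
  exact hunit


open HahnSeries in
theorem le_of_single_mul_eq [Nontrivial R] (n n' : ℤ) (U U' : R⟦X⟧) (hU' : IsUnit U')
    (h : (single n (1 : R) : LaurentSeries R) * ofPowerSeries ℤ R U =
      single n' (1 : R) * ofPowerSeries ℤ R U') : n ≤ n' := by
  by_contra hlt
  push Not at hlt
  obtain ⟨d, hd⟩ : ∃ d : ℕ, (d : ℤ) = n - n' := ⟨(n - n').toNat, by omega⟩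
  have hdpos : 0 < d := by omega
  have h1 : (single (-n') (1 : R) : LaurentSeries R) * (single n (1 : R) * ofPowerSeries ℤ R U) =
      single (-n') (1 : R) * (single n' (1 : R) * ofPowerSeries ℤ R U') := by rw [h]
  rw [← mul_assoc, ← mul_assoc, single_mul_single, single_mul_single, neg_add_cancel, one_mul,
    show -n' + n = (d : ℤ) by omega] at h1
  have h2 : (single (0 : ℤ) (1 : R) : LaurentSeries R) = 1 := rfl
  rw [h2, one_mul, ← ofPowerSeries_X_pow, ← map_mul] at h1
  have h3 := ofPowerSeries_injective h1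
  have h4 : constantCoeff U' = 0 := by
    rw [← h3, map_mul, map_pow, constantCoeff_X, zero_pow (by omega), zero_mul]
  have h5 := isUnit_iff_constantCoeff.mp hU'
  rw [h4] at h5
  exact not_isUnit_zero h5

open HahnSeries in
theorem existsUnique_units [IsReduced R] [Nontrivial R]
    (hconn : ∀ e : R, IsIdempotentElem e → e = 0 ∨ e = 1) (f : (LaurentSeries R)ˣ) :
    ∃! p : ℤ × (PowerSeries R)ˣ,
      (f : LaurentSeries R) =
        HahnSeries.single p.1 (1 : R) * HahnSeries.ofPowerSeries ℤ R (p.2 : PowerSeries R) := by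
  obtain ⟨a, F, hF⟩ := IsLocalization.Away.surj (PowerSeries.X : R⟦X⟧) (f : LaurentSeries R)
  obtain ⟨b, G, hG⟩ := IsLocalization.Away.surj (PowerSeries.X : R⟦X⟧)
    ((f⁻¹ : (LaurentSeries R)ˣ) : LaurentSeries R)
  simp only [LaurentSeries.coe_algebraMap] at hF hG
  rw [← map_pow, ofPowerSeries_X_pow] at hF hG
  have hFG : F * G = X ^ (a + b) := by
    apply ofPowerSeries_injective (Γ := ℤ)
    rw [map_mul, ← hF, ← hG, ofPowerSeries_X_pow]
    have h1 : (single (a : ℤ) (1 : R) : LaurentSeries R) * single (b : ℤ) (1 : R) =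
        single ((a + b : ℕ) : ℤ) 1 := by
      rw [single_mul_single, mul_one]; push_cast; rfl
    rw [← h1]
    have h2 : (f : LaurentSeries R) * ((f⁻¹ : (LaurentSeries R)ˣ) : LaurentSeries R) = 1 :=
      f.mul_inv
    linear_combination (single (a : ℤ) (1 : R) * single (b : ℤ) (1 : R)) * h2
  obtain ⟨i, F', hF'u, hFF'⟩ := exists_unit_factor hconn F G (a + b) hFG
  have hfeq : (f : LaurentSeries R) =
      single ((i : ℤ) - a) (1 : R) * ofPowerSeries ℤ R F' := by
    have h1 : (f : LaurentSeries R) * single (a : ℤ) (1 : R) =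
        single (i : ℤ) (1 : R) * ofPowerSeries ℤ R F' := by
      rw [hF, hFF', map_mul, ofPowerSeries_X_pow]
    have h2 : (single (a : ℤ) (1 : R) : LaurentSeries R) * single (-(a : ℤ)) (1 : R) = 1 := by
      rw [single_mul_single, add_neg_cancel, mul_one]; rfl
    have h3 : (single ((i : ℤ) - a) (1 : R) : LaurentSeries R) =
        single (i : ℤ) (1 : R) * single (-(a : ℤ)) (1 : R) := by
      rw [single_mul_single, mul_one, sub_eq_add_neg]
    rw [h3]
    linear_combination (single (-(a : ℤ)) (1 : R)) * h1 - (f : LaurentSeries R) * h2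
  refine ⟨((i : ℤ) - a, hF'u.unit), hfeq, ?_⟩
  rintro ⟨n', U'⟩ hp
  simp only at hp
  rw [hfeq] at hp
  have hle1 := le_of_single_mul_eq _ _ _ _ U'.isUnit hp
  have hle2 := le_of_single_mul_eq _ _ _ _ hF'u hp.symm
  have hn : n' = (i : ℤ) - a := le_antisymm hle2 hle1
  subst hn
  have h4 : (single (-((i : ℤ) - a)) (1 : R) : LaurentSeries R) * single ((i : ℤ) - a) (1 : R) = 1 := by
    rw [single_mul_single, neg_add_cancel, mul_one]; rfl
  have h5 : ofPowerSeries ℤ R F' = ofPowerSeries ℤ R (U' : R⟦X⟧) := by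
    linear_combination (single (-((i : ℤ) - a)) (1 : R)) * hp +
      (ofPowerSeries ℤ R (U' : R⟦X⟧) - ofPowerSeries ℤ R F') * h4
  have h6 := ofPowerSeries_injective h5
  ext
  · rfl
  · simp only [IsUnit.unit_spec]
    rw [h6]

end Groth.Agent.H8.LaurentUnits
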