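import Mathlib

set_option autoImplicit false

namespace Groth.Agent.H8.LocEt

open Polynomial IsLocalRing

/-- Local structure of a local-étale algebra: it is generated (as a localization) by a single
element `x` satisfying a monic equation with invertible derivative. -/
theorem exists_standard_generator (R T S : Type*) [CommRing R] [CommRing T] [Algebra R T]
    [Algebra.Etale R T] (q : Ideal T) [q.IsPrime] [CommRing S]
    [Algebra T S] [IsLocalization.AtPrime S q] [Algebra R S] [IsScalarTower R T S] :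
    ∃ (f : R[X]) (x : S), f.Monic ∧ aeval x f = 0 ∧ IsUnit (aeval x (derivative f)) ∧
      ∀ s : S, ∃ c d : R[X], IsUnit (aeval x d) ∧ s * aeval x d = aeval x c := by
  haveI : Algebra.FinitePresentation R T := Algebra.Etale.finitePresentation
  haveI : Algebra.IsEtaleAt R q := inferInstance
  obtain ⟨g', hg'q, hstd⟩ := Algebra.IsEtaleAt.exists_isStandardEtale (R := R) q
  obtain ⟨Pres⟩ := hstd.nonempty_standardEtalePresentation
  have hunit : IsUnit (algebraMap T S g') :=
    IsLocalization.map_units (M := q.primeCompl) S ⟨g', hg'q⟩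
  let φ₀ : Localization.Away g' →+* S := IsLocalization.Away.lift g' hunit
  have hφ₀ : ∀ y : T, φ₀ (algebraMap T _ y) = algebraMap T S y := fun y =>
    IsLocalization.Away.lift_eq g' hunit y
  let φ : Localization.Away g' →ₐ[R] S :=
    { φ₀ with
      commutes' := by
        intro r
        show φ₀ (algebraMap R _ r) = _
        rw [IsScalarTower.algebraMap_apply R T (Localization.Away g'), hφ₀,
          ← IsScalarTower.algebraMap_apply] }
  have hφ : ∀ y : T, φ (algebraMap T _ y) = algebraMap T S y := hφ₀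
  have hmap : Pres.HasMap (φ Pres.x) := Pres.hasMap.map φ
  refine ⟨Pres.f, φ Pres.x, Pres.monic_f, hmap.1, hmap.isUnit_derivative_f, ?_⟩
  intro s
  obtain ⟨⟨y, ⟨z, hz⟩⟩, hs⟩ := IsLocalization.surj q.primeCompl s
  simp only at hs
  obtain ⟨p₁, n₁, h₁⟩ := Pres.exists_mul_aeval_x_g_pow_eq_aeval_x (algebraMap T _ y)
  obtain ⟨p₂, n₂, h₂⟩ := Pres.exists_mul_aeval_x_g_pow_eq_aeval_x (algebraMap T _ z)
  have h₁' := congrArg φ h₁
  have h₂' := congrArg φ h₂
  rw [map_mul, map_pow, hφ, ← aeval_algHom_apply, ← aeval_algHom_apply] at h₁' h₂'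
  have hzu : IsUnit (algebraMap T S z) := IsLocalization.map_units (M := q.primeCompl) S ⟨z, hz⟩
  refine ⟨p₁ * Pres.g ^ n₂, p₂ * Pres.g ^ n₁, ?_, ?_⟩
  · rw [map_mul, map_pow, ← h₂']
    exact (hzu.mul (hmap.2.pow _)).mul (hmap.2.pow _)
  · rw [map_mul, map_pow, map_mul, map_pow, ← h₂', ← h₁', ← hs]
    ring

end Groth.Agent.H8.LocEt
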