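import Mathlib
import Groth.Agent.Lib.Helper8.LocEtStd

set_option autoImplicit false

namespace Groth.Agent.H8.LocEt

open Polynomial IsLocalRing

section param

variable {R S : Type*} [CommRing R] [CommRing S] [IsLocalRing R] [IsLocalRing S] [Algebra R S]
  [IsLocalHom (algebraMap R S)]

lemma aeval_sub_aeval_mem (c : R[X]) (x y : S) (I : Ideal S) (h : x - y ∈ I) :
    aeval x c - aeval y c ∈ I := by
  obtain ⟨z, hz⟩ := Polynomial.sub_dvd_eval_sub x y (c.map (algebraMap R S))
  rw [eval_map_algebraMap, eval_map_algebraMap] at hz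
  rw [hz]
  exact Ideal.mul_mem_right _ _ h

theorem exists_param (f : R[X]) (x : S) (hfx : aeval x f = 0)
    (hf' : IsUnit (aeval x (derivative f)))
    (hgen : ∀ s : S, ∃ c d : R[X], IsUnit (aeval x d) ∧ s * aeval x d = aeval x c)
    (hres : ∀ s : S, ∃ r : R, s - algebraMap R S r ∈ maximalIdeal S) :
    ∃ t ∈ maximalIdeal R, ∀ s : S, ∃ r : R,
      s - algebraMap R S r ∈ (Ideal.span {t}).map (algebraMap R S) := by
  obtain ⟨a, ha⟩ := hres x
  set a' := algebraMap R S a with ha'
  have hloc : ∀ r : R, algebraMap R S r ∈ maximalIdeal S → r ∈ maximalIdeal R := by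
    intro r hr
    by_contra hn
    have : IsUnit r := by simpa using hn
    exact (mem_maximalIdeal _).mp hr (this.map _)
  have hfa : algebraMap R S (aeval a f) = aeval a' f := by
    rw [ha', aeval_algebraMap_apply]
  have hfam : aeval a' f ∈ maximalIdeal S := by
    have := aeval_sub_aeval_mem f x a' _ ha
    rw [hfx, zero_sub, neg_mem_iff] at this
    exact this
  refine ⟨aeval a f, hloc _ (hfa ▸ hfam), ?_⟩
  have hmapspan : (Ideal.span {aeval a f}).map (algebraMap R S) = Ideal.span {aeval a' f} := by
    rw [Ideal.map_span, Set.image_singleton, hfa]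
  rw [hmapspan]
  -- `x - a' ∈ (f(a'))`
  obtain ⟨c, hc⟩ := Polynomial.binomExpansion (f.map (algebraMap R S)) a' (x - a')
  rw [add_sub_cancel, eval_map_algebraMap, eval_map_algebraMap, derivative_map,
    eval_map_algebraMap, hfx] at hc
  have hu : IsUnit (aeval a' (derivative f) + c * (x - a')) := by
    have h1 : aeval a' (derivative f) + c * (x - a') - aeval x (derivative f) ∈ maximalIdeal S := by
      have := aeval_sub_aeval_mem (derivative f) x a' _ ha
      have e : aeval a' (derivative f) + c * (x - a') - aeval x (derivative f)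
          = c * (x - a') - (aeval x (derivative f) - aeval a' (derivative f)) := by ring
      rw [e]
      exact Ideal.sub_mem _ (Ideal.mul_mem_left _ _ ha) this
    by_contra hn
    have h2 : aeval a' (derivative f) + c * (x - a') ∈ maximalIdeal S := by simpa using hn
    have h3 : aeval x (derivative f) ∈ maximalIdeal S := by
      have := Ideal.sub_mem _ h2 h1
      simpa using this
    exact (mem_maximalIdeal _).mp h3 hf'
  have hxa : x - a' ∈ Ideal.span {aeval a' f} := by
    obtain ⟨v, hv⟩ := hu.exists_left_inv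
    rw [Ideal.mem_span_singleton']
    refine ⟨-v, ?_⟩
    have e : (aeval a' (derivative f) + c * (x - a')) * (x - a') = - aeval a' f := by
      linear_combination -hc
    calc -v * aeval a' f = v * ((aeval a' (derivative f) + c * (x - a')) * (x - a')) := by
          rw [e]; ring
      _ = (v * (aeval a' (derivative f) + c * (x - a'))) * (x - a') := by ring
      _ = x - a' := by rw [hv, one_mul]
  have hspan_le : Ideal.span {aeval a' f} ≤ maximalIdeal S :=
    (Ideal.span_singleton_le_iff_mem _).mpr hfam
  intro s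
  obtain ⟨c₀, d₀, hd₀, hs⟩ := hgen s
  -- `d₀(a)` is a unit of `R`
  have hd₀a : IsUnit (aeval a d₀) := by
    by_contra hn
    have h1 : aeval a d₀ ∈ maximalIdeal R := by simpa using hn
    have h2 : aeval a' d₀ ∈ maximalIdeal S := by
      rw [ha', aeval_algebraMap_apply]
      have hle : (maximalIdeal R).map (algebraMap R S) ≤ maximalIdeal S :=
        ((IsLocalRing.local_hom_TFAE (algebraMap R S)).out 0 2).mp ‹IsLocalHom (algebraMap R S)›
      exact hle (Ideal.mem_map_of_mem _ h1)
    have h3 := hspan_le (aeval_sub_aeval_mem d₀ x a' _ hxa)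
    have h4 : aeval x d₀ ∈ maximalIdeal S := by
      have := Ideal.add_mem _ h3 h2
      simpa using this
    exact (mem_maximalIdeal _).mp h4 hd₀
  obtain ⟨w, hw⟩ := hd₀a.exists_left_inv
  obtain ⟨w', hw'⟩ := hd₀.exists_left_inv
  refine ⟨w * aeval a c₀, ?_⟩
  have hwa : algebraMap R S w * aeval a' d₀ = 1 := by
    rw [ha', aeval_algebraMap_apply, ← map_mul, hw, map_one]
  have e : s - algebraMap R S (w * aeval a c₀)
      = w' * algebraMap R S w * ((aeval x c₀ - aeval a' c₀) * aeval a' d₀
          - aeval a' c₀ * (aeval x d₀ - aeval a' d₀)) := by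
    rw [map_mul, ← aeval_algebraMap_apply, ← ha']
    have e1 : s = w' * aeval x c₀ := by
      rw [← hs]
      calc s = (w' * aeval x d₀) * s := by rw [hw', one_mul]
        _ = _ := by ring
    rw [e1]
    linear_combination (-(w' * aeval x c₀)) * hwa + (algebraMap R S w * aeval a' c₀) * hw'
  rw [e]
  refine Ideal.mul_mem_left _ _ (Ideal.sub_mem _ ?_ ?_)
  · exact Ideal.mul_mem_right _ _ (aeval_sub_aeval_mem c₀ x a' _ hxa)
  · exact Ideal.mul_mem_left _ _ (aeval_sub_aeval_mem d₀ x a' _ hxa)

omit [IsLocalRing R] [IsLocalRing S] [IsLocalHom (algebraMap R S)] in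
theorem bijective_quotientMap_of_param [Module.FaithfullyFlat R S] (t : R)
    (h1 : ∀ s : S, ∃ r : R, s - algebraMap R S r ∈ (Ideal.span {t}).map (algebraMap R S))
    (n : ℕ) (hn : 1 ≤ n) :
    Function.Bijective (Ideal.quotientMap ((Ideal.span {t ^ n}).map (algebraMap R S))
      (algebraMap R S) Ideal.le_comap_map) := by
  have hspan : ∀ k : ℕ, (Ideal.span {t ^ k}).map (algebraMap R S)
      = Ideal.span {algebraMap R S t ^ k} := by
    intro k
    rw [Ideal.map_span, Set.image_singleton, map_pow]
  have hall : ∀ k : ℕ, 1 ≤ k → ∀ s : S, ∃ r : R,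
      s - algebraMap R S r ∈ Ideal.span {algebraMap R S t ^ k} := by
    intro k hk
    induction k, hk using Nat.le_induction with
    | base =>
      intro s
      obtain ⟨r, hr⟩ := h1 s
      have h1' := hspan 1
      rw [pow_one, pow_one] at h1'
      exact ⟨r, by rw [pow_one, ← h1']; exact hr⟩
    | succ k hk ih =>
      intro s
      obtain ⟨r, hr⟩ := ih s
      obtain ⟨s₁, hs₁⟩ := Ideal.mem_span_singleton'.mp hr
      obtain ⟨r₁, hr₁⟩ := h1 s₁
      have h1' := hspan 1
      rw [pow_one, pow_one] at h1'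
      rw [h1'] at hr₁
      obtain ⟨s₂, hs₂⟩ := Ideal.mem_span_singleton'.mp hr₁
      refine ⟨r + t ^ k * r₁, Ideal.mem_span_singleton'.mpr ⟨s₂, ?_⟩⟩
      rw [map_add, map_mul, map_pow]
      linear_combination (algebraMap R S t) ^ k * hs₂ + hs₁
  constructor
  · apply Ideal.quotientMap_injective'
    rw [Ideal.comap_map_eq_self_of_faithfullyFlat]
  · intro y
    obtain ⟨s, rfl⟩ := Ideal.Quotient.mk_surjective y
    obtain ⟨r, hr⟩ := hall n hn s
    refine ⟨Ideal.Quotient.mk _ r, ?_⟩
    rw [Ideal.quotientMap_mk, eq_comm, Ideal.Quotient.eq, hspan]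
    exact hr

end param

end Groth.Agent.H8.LocEt
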