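import Mathlib
import Groth.Prelude

/-! Helper8: S4507 -- a linear functor commuting with filtered colimits commutes with localization. -/

set_option autoImplicit false
universe u

open CategoryTheory CategoryTheory.Limits

namespace Groth.Agent.H8.LocFun

variable {A : Type u} [CommRing A]

/-- The "divisibility" category of a submonoid: `s ⟶ t` are `u ∈ S` with `s * u = t`. -/
structure DivCat (S : Submonoid A) : Type u where
  val : S

namespace DivCat

variable {S : Submonoid A}

instance : SmallCategory (DivCat S) where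
  Hom s t := {u : S // s.val * u = t.val}
  id s := ⟨1, mul_one _⟩
  comp f g := ⟨f.1 * g.1, by rw [← mul_assoc, f.2, g.2]⟩
  id_comp f := Subtype.ext (one_mul _)
  comp_id f := Subtype.ext (mul_one _)
  assoc f g h := Subtype.ext (mul_assoc _ _ _)

lemma comp_val {s t w : DivCat S} (f : s ⟶ t) (g : t ⟶ w) : (f ≫ g).1 = f.1 * g.1 := rfl

lemma id_val (s : DivCat S) : (𝟙 s : s ⟶ s).1 = 1 := rfl

instance : IsFiltered (DivCat S) where
  nonempty := ⟨⟨1⟩⟩
  cocone_objs s t := ⟨⟨s.val * t.val⟩, ⟨t.val, rfl⟩, ⟨s.val, mul_comm _ _⟩, trivial⟩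
  cocone_maps s t f g := ⟨⟨t.val * s.val⟩, ⟨s.val, rfl⟩, by
    apply Subtype.ext
    rw [comp_val, comp_val]
    have h : s.val * f.1 = s.val * g.1 := f.2.trans g.2.symm
    rw [mul_comm f.1, mul_comm g.1, h]⟩

end DivCat

variable (S : Submonoid A) (M : ModuleCat.{u} A)

/-- multiplication by `u` as a morphism. -/
noncomputable def smulHom (N : ModuleCat.{u} A) (a : A) : N ⟶ N :=
  ModuleCat.ofHom (LinearMap.lsmul A N a)

lemma smulHom_apply (N : ModuleCat.{u} A) (a : A) (x : N) : (smulHom N a).hom x = a • x := rfl

/-- The diagram `s ↦ M` with transition maps multiplication. -/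
noncomputable def diag : DivCat S ⥤ ModuleCat.{u} A where
  obj _ := M
  map f := smulHom M (f.1 : A)
  map_id s := by
    ext x
    simp [smulHom_apply, DivCat.id_val]
  map_comp f g := by
    ext x
    simp only [smulHom_apply, DivCat.comp_val, ModuleCat.hom_comp, LinearMap.comp_apply]
    rw [Submonoid.coe_mul, mul_comm, mul_smul]

/-- `m ↦ m / s`. -/
noncomputable def inc (s : S) : M ⟶ ModuleCat.of A (LocalizedModule S M) :=
  ModuleCat.ofHom ((LocalizedModule.divBy s) ∘ₗ (LocalizedModule.mkLinearMap S M))

lemma inc_apply (s : S) (m : M) : (inc S M s).hom m = LocalizedModule.mk m s := by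
  simp [inc, LocalizedModule.divBy_apply, LocalizedModule.mkLinearMap_apply,
    LocalizedModule.liftOn_mk]

lemma inc_one : inc S M 1 = ModuleCat.ofHom (LocalizedModule.mkLinearMap S M) := by
  ext m
  rw [inc_apply]
  rfl

lemma smulHom_comp_inc (s t : S) (u : S) (h : s * u = t) :
    smulHom M (u : A) ≫ inc S M t = inc S M s := by
  ext m
  rw [ModuleCat.hom_comp, LinearMap.comp_apply, smulHom_apply, inc_apply, inc_apply, ← h]
  exact LocalizedModule.mk_cancel_common_right s u m

/-- The cocone with vertex `S⁻¹M`. -/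
noncomputable def cocone : Cocone (diag S M) where
  pt := ModuleCat.of A (LocalizedModule S M)
  ι :=
    { app := fun s => inc S M s.val
      naturality := fun s t f =>
        (smulHom_comp_inc S M s.val t.val f.1 f.2).trans (Category.comp_id _).symm }

/-- `S⁻¹M` is the filtered colimit of the multiplication diagram. -/
noncomputable def isColimitCocone : IsColimit (cocone S M) := by
  haveI : ReflectsColimitsOfShape (DivCat S) (forget (ModuleCat.{u} A)) :=
    reflectsColimitsOfShape_of_reflectsIsomorphisms
  apply isColimitOfReflects (forget (ModuleCat.{u} A))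
  apply Types.FilteredColimit.isColimitOf
  · intro x
    obtain ⟨m, s, hx⟩ : ∃ (m : M) (s : S), (show LocalizedModule S M from x) =
        LocalizedModule.mk m s := by
      induction (show LocalizedModule S M from x) using LocalizedModule.induction_on with
      | h m s => exact ⟨m, s, rfl⟩
    exact ⟨⟨s⟩, m, hx.trans (inc_apply S M s m).symm⟩
  · intro i j xi xj h
    have h' : LocalizedModule.mk (show M from xi) i.val = LocalizedModule.mk (show M from xj) j.val := by
      rw [← inc_apply, ← inc_apply]
      exact h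
    obtain ⟨u, hu⟩ := LocalizedModule.mk_eq.mp h'
    refine ⟨⟨i.val * j.val * u⟩, ⟨j.val * u, by rw [mul_assoc]⟩,
      ⟨i.val * u, by rw [← mul_assoc, mul_comm j.val i.val]⟩, ?_⟩
    change ((j.val * u : S) : A) • (show M from xi) = ((i.val * u : S) : A) • (show M from xj)
    have h1 : ((j.val * u : S) : A) • (show M from xi) = u • j.val • (show M from xi) := by
      rw [Submonoid.coe_mul, mul_comm, mul_smul]
      rfl
    have h2 : ((i.val * u : S) : A) • (show M from xj) = u • i.val • (show M from xj) := by
      rw [Submonoid.coe_mul, mul_comm, mul_smul]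
      rfl
    rw [h1, h2, hu]

lemma smulHom_eq (N : ModuleCat.{u} A) (a : A) : smulHom N a = a • 𝟙 N := by
  ext x
  rfl

lemma map_smulHom (T : ModuleCat.{u} A ⥤ ModuleCat.{u} A) [T.Additive] [T.Linear A]
    (N : ModuleCat.{u} A) (a : A) : T.map (smulHom N a) = smulHom (T.obj N) a := by
  rw [smulHom_eq, smulHom_eq, Functor.map_smul, T.map_id]

lemma isIso_smulHom (s : S) : IsIso (smulHom (ModuleCat.of A (LocalizedModule S M)) (s : A)) := by
  refine ⟨ModuleCat.ofHom (LocalizedModule.divBy s), ?_, ?_⟩
  · ext x
    exact LocalizedModule.divBy_mul_by s x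
  · ext x
    exact LocalizedModule.mul_by_divBy s x

theorem main (T : ModuleCat.{u} A ⥤ ModuleCat.{u} A) [T.Additive] [T.Linear A]
    (hT : ∀ (J : Type u) [SmallCategory J] [IsFiltered J], PreservesColimitsOfShape J T) :
    IsLocalizedModule S (T.map (ModuleCat.ofHom (LocalizedModule.mkLinearMap S M) :
      M ⟶ ModuleCat.of A (LocalizedModule S M))).hom := by
  haveI := hT (DivCat S)
  have hcol : IsColimit (T.mapCocone (cocone S M)) :=
    isColimitOfPreserves T (isColimitCocone S M)
  rw [← inc_one]
  have hinc : ∀ (s : S) (x : T.obj M),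
      (s : A) • (T.map (inc S M s)).hom x = (T.map (inc S M 1)).hom x := by
    intro s x
    have h1 : smulHom M (s : A) ≫ inc S M s = inc S M 1 :=
      smulHom_comp_inc S M 1 s s (one_mul _)
    rw [← h1, T.map_comp, map_smulHom, ModuleCat.hom_comp, LinearMap.comp_apply, smulHom_apply,
      map_smul]
  refine ⟨?_, ?_, ?_⟩
  · intro s
    rw [Module.End.isUnit_iff]
    haveI := isIso_smulHom S M s
    have h2 : IsIso (T.map (smulHom (ModuleCat.of A (LocalizedModule S M)) (s : A))) :=
      inferInstance
    rw [map_smulHom] at h2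
    exact (ConcreteCategory.isIso_iff_bijective _).mp h2
  · intro y
    obtain ⟨j, x, hx⟩ := Concrete.isColimit_exists_rep _ hcol y
    refine ⟨(x, j.val), ?_⟩
    rw [← hx]
    exact hinc j.val x
  · intro x₁ x₂ h
    obtain ⟨k, f, g, hfg⟩ := (Concrete.isColimit_rep_eq_iff_exists _ hcol
      (i := (⟨1⟩ : DivCat S)) (j := (⟨1⟩ : DivCat S)) x₁ x₂).mp h
    refine ⟨k.val, ?_⟩
    have hf : (f.1 : S) = k.val := by
      have := f.2
      rwa [one_mul] at this
    have hg : (g.1 : S) = k.val := by
      have := g.2
      rwa [one_mul] at this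
    have e1 : ((diag S M ⋙ T).map f).hom x₁ = (k.val : A) • x₁ := by
      change (T.map (smulHom M (f.1 : A))).hom x₁ = _
      rw [map_smulHom, smulHom_apply, hf]
    have e2 : ((diag S M ⋙ T).map g).hom x₂ = (k.val : A) • x₂ := by
      change (T.map (smulHom M (g.1 : A))).hom x₂ = _
      rw [map_smulHom, smulHom_apply, hg]
    change (k.val : A) • x₁ = (k.val : A) • x₂
    rw [← e1, ← e2]
    exact hfg

end Groth.Agent.H8.LocFun
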