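import Mathlib
import Groth.Prelude
import Groth.Agent.Lib.Helper8.LocFun

/-! Helper8: S4493 -- exactness of a filtered-colimit-preserving linear functor is local. -/

set_option autoImplicit false
universe u

open CategoryTheory CategoryTheory.Limits

namespace Groth.Agent.H8.LocFun

variable {A : Type u} [CommRing A]


/-- general version of `main`: `T` sends localization maps to localization maps. -/
theorem main' (S : Submonoid A) (T : ModuleCat.{u} A ⥤ ModuleCat.{u} A) [T.Additive] [T.Linear A]
    (hT : ∀ (J : Type u) [SmallCategory J] [IsFiltered J], PreservesColimitsOfShape J T)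
    {M N : ModuleCat.{u} A} (f : M ⟶ N) [IsLocalizedModule S f.hom] :
    IsLocalizedModule S (T.map f).hom := by
  let e : LocalizedModule S M ≃ₗ[A] N := IsLocalizedModule.iso S f.hom
  have hf : f = ModuleCat.ofHom (LocalizedModule.mkLinearMap S M) ≫ e.toModuleIso.hom := by
    ext x
    change f.hom x = e (LocalizedModule.mkLinearMap S M x)
    have h := LinearMap.congr_fun (IsLocalizedModule.iso_symm_comp S f.hom) x
    rw [← h, LinearMap.comp_apply]
    exact (LinearEquiv.apply_symm_apply e _).symm
  rw [hf, T.map_comp, ModuleCat.hom_comp]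
  haveI := main S M T hT
  exact IsLocalizedModule.of_linearEquiv S _ (T.mapIso e.toModuleIso).toLinearEquiv

section Unit

variable (P : Ideal A) [P.IsPrime]

/-- localization at `P` followed by restriction of scalars. -/
noncomputable abbrev LR : ModuleCat.{u} A ⥤ ModuleCat.{u} A :=
  ModuleCat.localizedModuleFunctor.{u} P.primeCompl ⋙
    ModuleCat.restrictScalars (algebraMap A (Localization.AtPrime P))

/-- the identity as an `A`-linear equivalence between the two `A`-module structures. -/
noncomputable def idEquiv (X : ModuleCat.{u} A) :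
    (X.localizedModule P.primeCompl) ≃ₗ[A] ((LR P).obj X) where
  toFun x := x
  invFun x := x
  map_add' _ _ := rfl
  map_smul' a x := (algebraMap_smul (Localization.AtPrime P) a
    (show X.localizedModule P.primeCompl from x)).symm
  left_inv _ := rfl
  right_inv _ := rfl

/-- the localization map `X ⟶ X_P`. -/
noncomputable def unit (X : ModuleCat.{u} A) : X ⟶ (LR P).obj X :=
  ModuleCat.ofHom (X := X) (Y := ((LR P).obj X))
    ((idEquiv P X).toLinearMap ∘ₗ X.localizedModuleMkLinearMap P.primeCompl)

lemma unit_hom (X : ModuleCat.{u} A) : (unit P X).hom =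
    (idEquiv P X).toLinearMap ∘ₗ X.localizedModuleMkLinearMap P.primeCompl := rfl

instance (X : ModuleCat.{u} A) : IsLocalizedModule P.primeCompl (unit P X).hom := by
  rw [unit_hom]
  infer_instance

lemma unit_naturality {X Y : ModuleCat.{u} A} (f : X ⟶ Y) :
    unit P X ≫ (LR P).map f = f ≫ unit P Y := by
  ext x
  have h : (IsLocalizedModule.mapExtendScalars P.primeCompl
      (X.localizedModuleMkLinearMap P.primeCompl) (Y.localizedModuleMkLinearMap P.primeCompl)
      (Localization P.primeCompl) f.hom) (X.localizedModuleMkLinearMap P.primeCompl x) =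
    Y.localizedModuleMkLinearMap P.primeCompl (f.hom x) := by
    rw [IsLocalizedModule.mapExtendScalars_apply_apply, IsLocalizedModule.map_apply]
  exact h

variable (T : ModuleCat.{u} A ⥤ ModuleCat.{u} A) [T.Additive] [T.Linear A]
  (hT : ∀ (J : Type u) [SmallCategory J] [IsFiltered J], PreservesColimitsOfShape J T)

include hT in
lemma isLocalizedModule_map_unit (X : ModuleCat.{u} A) :
    IsLocalizedModule P.primeCompl (T.map (unit P X)).hom :=
  main' P.primeCompl T hT (unit P X)

include hT in
lemma map_eq {X Y : ModuleCat.{u} A} (f : X ⟶ Y) :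
    haveI := isLocalizedModule_map_unit P T hT X
    haveI := isLocalizedModule_map_unit P T hT Y
    IsLocalizedModule.map P.primeCompl (T.map (unit P X)).hom (T.map (unit P Y)).hom
      (T.map f).hom = (T.map ((LR P).map f)).hom := by
  haveI := isLocalizedModule_map_unit P T hT X
  haveI := isLocalizedModule_map_unit P T hT Y
  apply IsLocalizedModule.linearMap_ext P.primeCompl (T.map (unit P X)).hom
    (T.map (unit P Y)).hom
  rw [IsLocalizedModule.map_comp]
  rw [← ModuleCat.hom_comp, ← ModuleCat.hom_comp, ← T.map_comp, ← T.map_comp, unit_naturality]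

end Unit

section Exact

/-- class wrapper: `T` preserves filtered colimits. -/
class PresFilt (T : ModuleCat.{u} A ⥤ ModuleCat.{u} A) : Prop where
  out : ∀ (J : Type u) [SmallCategory J] [IsFiltered J], PreservesColimitsOfShape J T

instance instMapUnit (T : ModuleCat.{u} A ⥤ ModuleCat.{u} A) [T.Additive] [T.Linear A]
    [h : PresFilt T] (P : Ideal A) [P.IsPrime] (X : ModuleCat.{u} A) :
    IsLocalizedModule P.primeCompl (T.map (unit P X)).hom :=
  isLocalizedModule_map_unit P T h.out X

variable (T : ModuleCat.{u} A ⥤ ModuleCat.{u} A) [T.Additive] [T.Linear A]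
  (hT : ∀ (J : Type u) [SmallCategory J] [IsFiltered J], PreservesColimitsOfShape J T)

include hT in
theorem left_exact
    (h : ∀ (m : Ideal A) [m.IsMaximal],
        PreservesFiniteLimits
          (ModuleCat.restrictScalars (algebraMap A (Localization.AtPrime m)) ⋙ T)) :
    PreservesFiniteLimits T := by
  apply ((Functor.preservesFiniteLimits_tfae T).out 0 3).mp
  intro S hS
  have key : ∀ (P : Ideal A) [P.IsMaximal],
      (S.map (LR P ⋙ T)).Exact ∧ Mono ((LR P ⋙ T).map S.f) := by
    intro P _
    haveI := h P
    haveI : PreservesFiniteLimits (LR P ⋙ T) :=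
      inferInstanceAs (PreservesFiniteLimits
        (ModuleCat.localizedModuleFunctor.{u} P.primeCompl ⋙
          (ModuleCat.restrictScalars (algebraMap A (Localization.AtPrime P)) ⋙ T)))
    have h03 := ((Functor.preservesFiniteLimits_tfae (LR P ⋙ T)).out 0 3).mpr this
    exact h03 S hS
  haveI : PresFilt T := ⟨hT⟩
  constructor
  · rw [ShortComplex.ShortExact.moduleCat_exact_iff_function_exact]
    refine exact_of_isLocalized_maximal
      (fun P _ => T.obj ((LR P).obj S.X₁)) (fun P _ => (T.map (unit P S.X₁)).hom)
      (fun P _ => T.obj ((LR P).obj S.X₂)) (fun P _ => (T.map (unit P S.X₂)).hom)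
      (fun P _ => T.obj ((LR P).obj S.X₃)) (fun P _ => (T.map (unit P S.X₃)).hom)
      (T.map S.f).hom (T.map S.g).hom ?_
    intro P _
    rw [map_eq P T hT S.f, map_eq P T hT S.g]
    exact (ShortComplex.ShortExact.moduleCat_exact_iff_function_exact _).mp (key P).1
  · rw [ModuleCat.mono_iff_injective]
    refine injective_of_isLocalized_maximal
      (fun P _ => T.obj ((LR P).obj S.X₁)) (fun P _ => (T.map (unit P S.X₁)).hom)
      (fun P _ => T.obj ((LR P).obj S.X₂)) (fun P _ => (T.map (unit P S.X₂)).hom)
      (T.map S.f).hom ?_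
    intro P _
    rw [map_eq P T hT S.f]
    exact (ModuleCat.mono_iff_injective _).mp (key P).2

include hT in
theorem right_exact
    (h : ∀ (m : Ideal A) [m.IsMaximal],
        PreservesFiniteColimits
          (ModuleCat.restrictScalars (algebraMap A (Localization.AtPrime m)) ⋙ T)) :
    PreservesFiniteColimits T := by
  apply ((Functor.preservesFiniteColimits_tfae T).out 0 3).mp
  intro S hS
  have key : ∀ (P : Ideal A) [P.IsMaximal],
      (S.map (LR P ⋙ T)).Exact ∧ Epi ((LR P ⋙ T).map S.g) := by
    intro P _
    haveI := h P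
    haveI : PreservesFiniteColimits (LR P ⋙ T) :=
      inferInstanceAs (PreservesFiniteColimits
        (ModuleCat.localizedModuleFunctor.{u} P.primeCompl ⋙
          (ModuleCat.restrictScalars (algebraMap A (Localization.AtPrime P)) ⋙ T)))
    have h03 := ((Functor.preservesFiniteColimits_tfae (LR P ⋙ T)).out 0 3).mpr this
    exact h03 S hS
  haveI : PresFilt T := ⟨hT⟩
  constructor
  · rw [ShortComplex.ShortExact.moduleCat_exact_iff_function_exact]
    refine exact_of_isLocalized_maximal
      (fun P _ => T.obj ((LR P).obj S.X₁)) (fun P _ => (T.map (unit P S.X₁)).hom)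
      (fun P _ => T.obj ((LR P).obj S.X₂)) (fun P _ => (T.map (unit P S.X₂)).hom)
      (fun P _ => T.obj ((LR P).obj S.X₃)) (fun P _ => (T.map (unit P S.X₃)).hom)
      (T.map S.f).hom (T.map S.g).hom ?_
    intro P _
    rw [map_eq P T hT S.f, map_eq P T hT S.g]
    exact (ShortComplex.ShortExact.moduleCat_exact_iff_function_exact _).mp (key P).1
  · rw [ModuleCat.epi_iff_surjective]
    refine surjective_of_isLocalized_maximal
      (fun P _ => T.obj ((LR P).obj S.X₂)) (fun P _ => (T.map (unit P S.X₂)).hom)
      (fun P _ => T.obj ((LR P).obj S.X₃)) (fun P _ => (T.map (unit P S.X₃)).hom)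
      (T.map S.g).hom ?_
    intro P _
    rw [map_eq P T hT S.g]
    exact (ModuleCat.epi_iff_surjective _).mp (key P).2

end Exact

end Groth.Agent.H8.LocFun
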