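import Mathlib

set_option autoImplicit false
universe u
open IsLocalRing

namespace Groth.Agent.H8.S5076aux

theorem main (A C : Type u) [CommRing A] [IsLocalRing A]
    [CommRing C] [Algebra A C] [Module.Finite A C] (r : Ideal C) [r.IsMaximal] (u : C)
    (hu₁ : ∀ r' : Ideal C, r'.IsMaximal → r' ≠ r → u ∈ r') (hu₂ : u ∉ r)
    (hu₃ : Subalgebra.toSubmodule (Algebra.adjoin A {algebraMap C (Localization.AtPrime r) u}) ⊔
        Submodule.restrictScalars A (Ideal.map (algebraMap A (Localization.AtPrime r)) (IsLocalRing.maximalIdeal A)) = ⊤) :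
    Function.Bijective (Localization.localRingHom (Ideal.comap (Algebra.adjoin A ({u} : Set C)).val.toRingHom r) r
      (Algebra.adjoin A ({u} : Set C)).val.toRingHom rfl) := by
  classical
  set B := Algebra.adjoin A ({u} : Set C) with hB
  set φ : B →+* C := B.val.toRingHom with hφdef
  have hφ : φ = algebraMap B C := rfl
  have hφinj : Function.Injective φ := Subtype.val_injective
  set n := Ideal.comap φ r with hn
  haveI : Algebra.IsIntegral A C := inferInstance
  haveI : Algebra.IsIntegral B C := Algebra.IsIntegral.tower_top (R := A)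
  haveI : Module.Finite B C := Module.Finite.of_restrictScalars_finite A B C
  let uB : B := ⟨u, Algebra.subset_adjoin rfl⟩
  have huB : uB ∉ n := hu₂
  haveI hnmax : n.IsMaximal := Ideal.isMaximal_comap_of_isIntegral_of_isMaximal (R := B) r
  have key1 : ∀ q : Ideal C, q.IsPrime → q.comap φ = n → q = r := by
    intro q hq hqn
    have hqmax : q.IsMaximal :=
      Ideal.isMaximal_of_isIntegral_of_isMaximal_comap (R := B) q (by rw [← hφ, hqn]; infer_instance)
    by_contra hne
    have h1 : u ∈ q := hu₁ q hqmax hne
    have h2 : uB ∈ q.comap φ := h1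
    rw [hqn] at h2
    exact huB h2
  have key : ∀ J : Ideal C, ¬ J ≤ r → ¬ J.comap φ ≤ n := by
    intro J hJ h
    obtain ⟨Q, hQJ, hQ, hQn⟩ := Ideal.exists_ideal_over_prime_of_isIntegral n J h
    have := key1 Q hQ hQn
    exact hJ (this ▸ hQJ)
  -- annihilator version
  have keyann : ∀ c : C, (∃ t : C, t ∉ r ∧ t * c = 0) → ∃ s : B, s ∉ n ∧ φ s * c = 0 := by
    intro c ⟨t, ht, htc⟩
    have h1 : ¬ (Submodule.span C {c}).annihilator ≤ r := by
      intro h
      exact ht (h (by rw [Submodule.mem_annihilator_span_singleton]; simpa using htc))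
    have h2 := key _ h1
    rw [SetLike.not_le_iff_exists] at h2
    obtain ⟨s, hs, hsn⟩ := h2
    refine ⟨s, hsn, ?_⟩
    have : φ s ∈ (Submodule.span C {c}).annihilator := hs
    rw [Submodule.mem_annihilator_span_singleton] at this
    simpa using this
  have keyunit : ∀ t : C, t ∉ r → ∃ (c' : C) (s : B), s ∉ n ∧ c' * t = φ s := by
    intro t ht
    have h1 : ¬ Ideal.span {t} ≤ r := fun h => ht (h (Ideal.subset_span rfl))
    have h2 := key _ h1
    rw [SetLike.not_le_iff_exists] at h2
    obtain ⟨s, hs, hsn⟩ := h2
    have : φ s ∈ Ideal.span {t} := hs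
    rw [Ideal.mem_span_singleton'] at this
    obtain ⟨c', hc'⟩ := this
    exact ⟨c', s, hsn, hc'⟩
  set ψ := Localization.localRingHom n r φ rfl with hψ
  constructor
  · -- injective
    rw [injective_iff_map_eq_zero]
    intro x hx
    obtain ⟨b, s, rfl⟩ := IsLocalization.exists_mk'_eq n.primeCompl x
    rw [hψ, Localization.localRingHom_mk', IsLocalization.mk'_eq_zero_iff] at hx
    obtain ⟨t, ht⟩ := hx
    obtain ⟨s', hs'n, hs'⟩ := keyann (φ b) ⟨t.1, t.2, ht⟩
    rw [IsLocalization.mk'_eq_zero_iff]
    refine ⟨⟨s', hs'n⟩, ?_⟩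
    apply hφinj
    simpa using hs'
  · -- surjective
    have hφs : ∀ s : B, s ∉ n → φ s ∈ r.primeCompl := fun s hs => hs
    have hform : ∀ y : Localization.AtPrime r, ∃ (c : C) (s : B) (hs : s ∉ n),
        y = IsLocalization.mk' (Localization.AtPrime r) c ⟨φ s, hφs s hs⟩ := by
      intro y
      obtain ⟨c0, t, rfl⟩ := IsLocalization.exists_mk'_eq r.primeCompl y
      obtain ⟨c', s, hs, hc'⟩ := keyunit t.1 t.2
      refine ⟨c0 * c', s, hs, ?_⟩
      rw [IsLocalization.mk'_eq_iff_eq]
      congr 1
      simp only
      rw [← hc']; ring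
    letI algBnCr : Algebra (Localization.AtPrime n) (Localization.AtPrime r) := ψ.toAlgebra
    have hψalg : algebraMap (Localization.AtPrime n) (Localization.AtPrime r) = ψ := rfl
    have hBCr : ∀ b : B, algebraMap B (Localization.AtPrime r) b = algebraMap C (Localization.AtPrime r) (φ b) :=
      fun b => rfl
    haveI : IsScalarTower B (Localization.AtPrime n) (Localization.AtPrime r) :=
      IsScalarTower.of_algebraMap_eq (fun b => by
        rw [hψalg, hψ, Localization.localRingHom_to_map, hBCr])
    haveI : IsScalarTower B C (Localization.AtPrime r) :=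
      IsScalarTower.of_algebraMap_eq (fun b => by rw [hBCr, hφ])
    haveI : IsLocalization (Algebra.algebraMapSubmonoid C n.primeCompl) (Localization.AtPrime r) := by
      refine ⟨?_, ?_, ?_⟩
      · rintro ⟨y, s, hs, rfl⟩
        exact IsLocalization.map_units (Localization.AtPrime r) (⟨φ s, hφs s hs⟩ : r.primeCompl)
      · intro y
        obtain ⟨c, s, hs, rfl⟩ := hform y
        refine ⟨(c, ⟨φ s, s, hs, rfl⟩), ?_⟩
        simp only
        exact IsLocalization.mk'_spec (Localization.AtPrime r) c ⟨φ s, hφs s hs⟩
      · intro x y hxy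
        rw [IsLocalization.eq_iff_exists r.primeCompl] at hxy
        obtain ⟨t, ht⟩ := hxy
        obtain ⟨s, hs, hs0⟩ := keyann (x - y) ⟨t.1, t.2, by rw [mul_sub, ht, sub_self]⟩
        refine ⟨⟨φ s, s, hs, rfl⟩, ?_⟩
        simp only
        rw [mul_sub, sub_eq_zero] at hs0
        exact hs0
    haveI : Module.Finite (Localization.AtPrime n) (Localization.AtPrime r) :=
      Module.Finite.of_isLocalization B C n.primeCompl
    -- Nakayama
    have hAm : ∀ a : A, a ∈ maximalIdeal A → algebraMap A B a ∈ n := by
      intro a ha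
      have h1 : (Ideal.comap (algebraMap A C) r).IsMaximal :=
        Ideal.isMaximal_comap_of_isIntegral_of_isMaximal (R := A) r
      have h2 := IsLocalRing.eq_maximalIdeal h1
      have : a ∈ Ideal.comap (algebraMap A C) r := h2 ▸ ha
      exact this
    have hACr : algebraMap A (Localization.AtPrime r) =
        (algebraMap (Localization.AtPrime n) (Localization.AtPrime r)).comp
          (algebraMap A (Localization.AtPrime n)) := by
      ext a
      rw [RingHom.comp_apply, IsScalarTower.algebraMap_apply A B (Localization.AtPrime n), hψalg, hψ,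
        Localization.localRingHom_to_map, IsScalarTower.algebraMap_apply A C (Localization.AtPrime r)]
      rfl
    have hadj : ∀ a ∈ Algebra.adjoin A {algebraMap C (Localization.AtPrime r) u},
        a ∈ LinearMap.range (Algebra.linearMap (Localization.AtPrime n) (Localization.AtPrime r)) := by
      intro a ha2
      induction ha2 using Algebra.adjoin_induction with
      | mem x hx =>
        rw [Set.mem_singleton_iff] at hx
        refine ⟨algebraMap B _ uB, ?_⟩
        rw [Algebra.linearMap_apply, hψalg, hψ, Localization.localRingHom_to_map, hx]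
        rfl
      | algebraMap a0 =>
        refine ⟨algebraMap A _ a0, ?_⟩
        rw [Algebra.linearMap_apply, hACr]; rfl
      | add x y _ _ hx hy => exact Submodule.add_mem _ hx hy
      | mul x y _ _ hx hy =>
        obtain ⟨x', rfl⟩ := hx
        obtain ⟨y', rfl⟩ := hy
        exact ⟨x' * y', by simp⟩
    have hN : (⊤ : Submodule (Localization.AtPrime n) (Localization.AtPrime r)) ≤
        LinearMap.range (Algebra.linearMap (Localization.AtPrime n) (Localization.AtPrime r)) := by
      apply Submodule.le_of_le_smul_of_le_jacobson_bot (I := maximalIdeal (Localization.AtPrime n))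
        Module.Finite.fg_top (IsLocalRing.maximalIdeal_le_jacobson _)
      intro y _
      have hy : y ∈ Subalgebra.toSubmodule (Algebra.adjoin A {algebraMap C (Localization.AtPrime r) u}) ⊔
        Submodule.restrictScalars A (Ideal.map (algebraMap A (Localization.AtPrime r)) (IsLocalRing.maximalIdeal A)) := by
        rw [hu₃]; trivial
      rw [Submodule.mem_sup] at hy
      obtain ⟨a, ha, b, hb, rfl⟩ := hy
      have ha' := hadj a ha
      have hb' : b ∈ maximalIdeal (Localization.AtPrime n) •
          (⊤ : Submodule (Localization.AtPrime n) (Localization.AtPrime r)) := by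
        rw [Ideal.smul_top_eq_map]
        have hb2 : b ∈ Ideal.map (algebraMap A (Localization.AtPrime r)) (IsLocalRing.maximalIdeal A) := hb
        rw [hACr, ← Ideal.map_map] at hb2
        refine Ideal.map_mono ?_ hb2
        rw [Ideal.map_le_iff_le_comap]
        intro a0 ha0
        rw [Ideal.mem_comap, IsScalarTower.algebraMap_apply A B (Localization.AtPrime n),
          IsLocalization.AtPrime.to_map_mem_maximal_iff (Localization.AtPrime n) n]
        exact hAm a0 ha0
      exact Submodule.add_mem_sup ha' hb'
    intro y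
    obtain ⟨x, hx⟩ := hN (Submodule.mem_top (x := y))
    exact ⟨x, hx⟩

end Groth.Agent.H8.S5076aux
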