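import Mathlib

/-! Helper8: an invertible module `N` with `N^n ≅ R^n` has `[N]^n = 1` in the Picard group. -/

set_option autoImplicit false
universe u v
open scoped TensorProduct

namespace Groth.Agent.H8.PicPow

variable {R : Type u} [CommRing R] (N : Type v) [AddCommGroup N] [Module R N] [Module.Invertible R N]

theorem tensorPower_invertible (k : ℕ) :
    ∃ (_ : Module.Invertible R (⨂[R]^k N)),
      CommRing.Pic.mk R (⨂[R]^k N) = (CommRing.Pic.mk R N) ^ k := by
  induction k with
  | zero =>
    have e : (⨂[R]^0 N) ≃ₗ[R] R := PiTensorProduct.isEmptyEquiv (Fin 0)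
    have inst : Module.Invertible R (⨂[R]^0 N) := Module.Invertible.congr e.symm
    refine ⟨inst, ?_⟩
    rw [pow_zero, CommRing.Pic.mk_eq_one_iff]
    exact ⟨e⟩
  | succ k ih =>
    obtain ⟨inst, h⟩ := ih
    have e1 : (⨂[R]^1 N) ≃ₗ[R] N := PiTensorProduct.subsingletonEquiv (0 : Fin 1)
    have e : (⨂[R]^k N) ⊗[R] N ≃ₗ[R] (⨂[R]^(k+1) N) :=
      (TensorProduct.congr (LinearEquiv.refl R _) e1.symm).trans TensorPower.mulEquiv
    have inst' : Module.Invertible R (⨂[R]^(k+1) N) := Module.Invertible.congr e
    refine ⟨inst', ?_⟩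
    rw [pow_succ, ← h, ← CommRing.Pic.mk_tensor, CommRing.Pic.mk_eq_mk_iff]
    exact ⟨e.symm⟩

theorem exists_not_mem_smul (m : Ideal R) (hm : m.IsMaximal) :
    ∃ g : N, g ∉ m • (⊤ : Submodule R N) := by
  by_contra hcon
  push Not at hcon
  have htop : (⊤ : Submodule R N) ≤ m • (⊤ : Submodule R N) := fun g _ => hcon g
  obtain ⟨r, hr1, hr0⟩ := Submodule.exists_sub_one_mem_and_smul_eq_zero_of_fg_of_le_smul m ⊤
    (Module.Finite.fg_top) htop
  have hr : r = 0 := by
    apply FaithfulSMul.eq_of_smul_eq_smul (α := N)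
    intro a
    rw [hr0 a trivial, zero_smul]
  rw [hr, zero_sub] at hr1
  have : (1 : R) ∈ m := by simpa using m.neg_mem hr1
  exact hm.ne_top ((Ideal.eq_top_iff_one m).mpr this)

theorem main (n : ℕ) (e : (Fin n → N) ≃ₗ[R] (Fin n → R)) : CommRing.Pic.mk R N ^ n = 1 := by
  obtain ⟨inst, h⟩ := tensorPower_invertible (R := R) N n
  rw [← h, CommRing.Pic.mk_eq_one_iff]
  let col : Fin n → (N →ₗ[R] (Fin n → R)) := fun j =>
    e.toLinearMap ∘ₗ LinearMap.single R (fun _ : Fin n => N) j
  let D : MultilinearMap R (fun _ : Fin n => N) R :=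
    (Matrix.detRowAlternating (R := R) (n := Fin n)).toMultilinearMap.compLinearMap col
  let L : (⨂[R]^n N) →ₗ[R] R := PiTensorProduct.lift D
  have hL : ∀ x : Fin n → N, L (PiTensorProduct.tprod R x) =
      Matrix.det (Matrix.of fun j i => e (Pi.single j (x j)) i) := fun x => by
    simp only [L, PiTensorProduct.lift.tprod]
    rfl
  have hsurj : Function.Surjective L := by
    rw [← LinearMap.range_eq_top]
    by_contra hne
    obtain ⟨m, hm, hle⟩ := Ideal.exists_le_maximal (LinearMap.range L) hne
    obtain ⟨g, hg⟩ := exists_not_mem_smul N m hm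
    let A : Matrix (Fin n) (Fin n) R := Matrix.of fun j i => e (Pi.single j g) i
    have hdetA : A.det ∈ m := hle ⟨PiTensorProduct.tprod R (fun _ => g), hL _⟩
    let _ := Ideal.Quotient.field m
    have hdet0 : (A.map (Ideal.Quotient.mk m)).det = 0 := by
      rw [← RingHom.mapMatrix_apply, ← RingHom.map_det, Ideal.Quotient.eq_zero_iff_mem]
      exact hdetA
    obtain ⟨v, hv0, hv⟩ := Matrix.exists_vecMul_eq_zero_iff.mpr hdet0
    choose c hc using fun j => Ideal.Quotient.mk_surjective (v j)
    have h1 : e (fun j => c j • g) = Matrix.vecMul c A := by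
      have : (fun j => c j • g) = ∑ j, c j • (Pi.single j g : Fin n → N) := by
        ext k
        simp [Finset.sum_apply, Pi.single_apply]
      rw [this, map_sum]
      ext i
      simp [Matrix.vecMul, dotProduct, A, Finset.sum_apply]
    have hey : ∀ i, e (fun j => c j • g) i ∈ m := by
      intro i
      rw [h1, ← Ideal.Quotient.eq_zero_iff_mem]
      have h2 := congrFun hv i
      simp only [Matrix.vecMul, dotProduct, Matrix.map_apply, Pi.zero_apply] at h2
      simp only [Matrix.vecMul, dotProduct, map_sum, map_mul, hc]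
      exact h2
    have hy : ∀ j, c j • g ∈ m • (⊤ : Submodule R N) := by
      intro j
      have h2 : (fun j => c j • g) =
          ∑ i, (e (fun j => c j • g) i) • e.symm (Pi.single i (1 : R)) := by
        apply e.injective
        rw [map_sum]
        simp only [map_smul, LinearEquiv.apply_symm_apply]
        ext k
        simp [Finset.sum_apply, Pi.single_apply]
      have h3 := congrFun h2 j
      simp only [Finset.sum_apply, Pi.smul_apply] at h3
      rw [h3]
      exact Submodule.sum_mem _ fun i _ => Submodule.smul_mem_smul (hey i) trivial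
    obtain ⟨j, hj⟩ : ∃ j, v j ≠ 0 := by
      by_contra h
      push Not at h
      exact hv0 (funext h)
    have hcj : c j ∉ m := by
      rw [← Ideal.Quotient.eq_zero_iff_mem, hc]
      exact hj
    obtain ⟨d, i, hi, hdi⟩ := hm.exists_inv hcj
    apply hg
    have : g = d • (c j • g) + i • g := by rw [smul_smul, ← add_smul, hdi, one_smul]
    rw [this]
    exact Submodule.add_mem _ (Submodule.smul_mem _ _ (hy j)) (Submodule.smul_mem_smul hi trivial)
  exact ⟨LinearEquiv.ofBijective L (Module.Invertible.bijective_of_surjective hsurj)⟩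

end Groth.Agent.H8.PicPow
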