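import Groth.Agent.Lib.Helper8.UDim

/-! Helper8: simultaneous diagonalisation of commuting locally finite families of
endomorphisms over a Noetherian ring. -/

set_option autoImplicit false
universe u v w x

namespace Groth.Agent.H8.SimDiag

open Module.End

/-- Restriction of a diagonalisable endomorphism (possibly in infinite dimension) to an invariant
subspace is diagonalisable. -/
theorem le_iSup_inf_eigenspace {K : Type*} [Field K] {V : Type*} [AddCommGroup V] [Module K V]
    (g : Module.End K V) (p : Submodule K V) (hp : ∀ x ∈ p, g x ∈ p)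
    (h' : ⨆ μ : K, eigenspace g μ = ⊤) : p ≤ ⨆ μ : K, p ⊓ eigenspace g μ := by
  classical
  have key : ∀ (F : Finset K) (y : K → V), (∀ μ ∈ F, y μ ∈ eigenspace g μ) →
      (∑ μ ∈ F, y μ) ∈ p → ∀ μ ∈ F, y μ ∈ p := by
    intro F
    induction F using Finset.induction_on with
    | empty => intro y _ _ μ hμ; simp at hμ
    | insert μ₀ F' hμ₀ ih =>
      intro y hy hsum
      have hF' : ∀ μ ∈ F', y μ ∈ p := by
        have h1 : ∀ μ ∈ F', (μ - μ₀) • y μ ∈ eigenspace g μ := fun μ hμ =>
          Submodule.smul_mem _ _ (hy μ (Finset.mem_insert_of_mem hμ))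
        have h2 : (∑ μ ∈ F', (μ - μ₀) • y μ) ∈ p := by
          have h3 : g (∑ μ ∈ insert μ₀ F', y μ) - μ₀ • (∑ μ ∈ insert μ₀ F', y μ) ∈ p :=
            p.sub_mem (hp _ hsum) (p.smul_mem _ hsum)
          have h4 : g (∑ μ ∈ insert μ₀ F', y μ) - μ₀ • (∑ μ ∈ insert μ₀ F', y μ) =
              ∑ μ ∈ F', (μ - μ₀) • y μ := by
            rw [map_sum, Finset.smul_sum, ← Finset.sum_sub_distrib, Finset.sum_insert hμ₀]
            have e0 : g (y μ₀) - μ₀ • y μ₀ = 0 := by
              rw [mem_eigenspace_iff.mp (hy μ₀ (Finset.mem_insert_self _ _)), sub_self]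
            rw [e0, zero_add]
            apply Finset.sum_congr rfl
            intro μ hμ
            rw [mem_eigenspace_iff.mp (hy μ (Finset.mem_insert_of_mem hμ)), sub_smul]
          rwa [h4] at h3
        intro μ hμ
        have h5 := ih (fun μ => (μ - μ₀) • y μ) h1 h2 μ hμ
        have hne : μ - μ₀ ≠ 0 := by
          intro h0
          apply hμ₀
          rw [← sub_eq_zero.mp h0]
          exact hμ
        have h6 := p.smul_mem (μ - μ₀)⁻¹ h5
        rwa [smul_smul, inv_mul_cancel₀ hne, one_smul] at h6
      intro μ hμ
      rcases Finset.mem_insert.mp hμ with rfl | hμ'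
      · have : y μ = (∑ ν ∈ insert μ F', y ν) - ∑ ν ∈ F', y ν := by
          rw [Finset.sum_insert hμ₀]; abel
        rw [this]
        exact p.sub_mem hsum (p.sum_mem hF')
      · exact hF' μ hμ'
  intro m hm
  have hm1 : m ∈ ⨆ μ : K, eigenspace g μ := by rw [h']; trivial
  obtain ⟨c, hc, rfl⟩ := (Submodule.mem_iSup_iff_exists_finsupp _ _).mp hm1
  have hall := key c.support (fun μ => c μ) (fun μ _ => hc μ) hm
  rw [Finsupp.sum]
  apply Submodule.sum_mem
  intro μ hμ
  exact Submodule.mem_iSup_of_mem μ ⟨hall μ hμ, hc μ⟩

variable {k : Type u} [Field k] {R : Type v} [CommRing R] [Algebra k R]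
  {V : Type w} [AddCommGroup V] [Module R V] [Module k V] [IsScalarTower k R V]

/-- Width bound for a submodule of `V`. -/
def Bnd (W : Submodule R V) (n : ℕ) : Prop :=
  ∀ (ι' : Type) [Fintype ι'] (A : ι' → Submodule R V), (∀ j, A j ≤ W) → (∀ j, A j ≠ ⊥) →
    Function.Injective (fun y : (∀ j, A j) => ∑ j, (y j : V)) → Fintype.card ι' ≤ n

theorem exists_bnd [IsNoetherianRing R] (W : Submodule R V) (hW : W.FG) : ∃ n, Bnd W n := by
  have : Module.Finite R W := Module.Finite.iff_fg.mpr hW
  obtain ⟨n, hn⟩ := UDim.exists_bndQ (⊥ : Submodule R W)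
  refine ⟨n, ?_⟩
  intro ι' _ A hAW hA0 hinj
  have hnt : ∀ j, Nontrivial (A j) := fun j => Submodule.nontrivial_iff_ne_bot.mpr (hA0 j)
  let φ : (∀ j, A j) →ₗ[R] V := ∑ j, (A j).subtype.comp (LinearMap.proj j)
  have hφ : ∀ y, φ y = ∑ j, (y j : V) := by
    intro y
    simp [φ, LinearMap.sum_apply]
  have hφW : ∀ y, φ y ∈ W := by
    intro y
    rw [hφ]
    exact W.sum_mem fun j _ => hAW j (y j).2
  apply hn ι' (fun j => A j) (φ.codRestrict W hφW)
  intro y hy
  rw [Submodule.mem_bot] at hy
  apply hinj
  have h0 : φ y = 0 := congrArg Subtype.val hy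
  change ∑ j, (y j : V) = ∑ j, ((0 : ∀ j, A j) j : V)
  rw [← hφ, h0]
  simp

theorem main {ι : Type x} (f : ι → Module.End R V)
    (hcomm : ∀ i j, Commute (f i) (f j))
    (hdiag : ∀ i, ⨆ μ : k, Module.End.eigenspace ((f i).restrictScalars k) μ = ⊤)
    (n : ℕ) : ∀ (W : Submodule R V), (∀ i, ∀ w ∈ W, f i w ∈ W) → Bnd W n →
      ∀ w ∈ W, w ∈ ⨆ χ : ι → k, ⨅ i, Module.End.eigenspace ((f i).restrictScalars k) (χ i) := by
  induction n using Nat.strong_induction_on with
  | _ n ih =>
    intro W hstab hbnd
    by_cases hA : ∀ i, ∃ μ : k, ∀ w ∈ W, f i w = μ • w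
    · choose χ hχ using hA
      intro w hw
      apply Submodule.mem_iSup_of_mem χ
      rw [Submodule.mem_iInf]
      intro i
      rw [mem_eigenspace_iff]
      exact hχ i w hw
    · push Not at hA
      obtain ⟨i, hi⟩ := hA
      -- the pieces
      let Wμ : k → Submodule R V := fun μ => W ⊓ Module.End.eigenspace (f i) (algebraMap k R μ)
      have hmemWμ : ∀ μ x, x ∈ Wμ μ ↔ x ∈ W ∧ f i x = μ • x := by
        intro μ x
        simp only [Wμ, Submodule.mem_inf, mem_eigenspace_iff, algebraMap_smul]
      have hWμstab : ∀ μ j, ∀ w ∈ Wμ μ, f j w ∈ Wμ μ := by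
        intro μ j w hw
        rw [hmemWμ] at hw ⊢
        refine ⟨hstab j w hw.1, ?_⟩
        have := congrArg (fun g : Module.End R V => g w) (hcomm i j).eq
        simp only [Module.End.mul_apply] at this
        rw [this, hw.2]
        exact (f j).restrictScalars k |>.map_smul μ w
      have hdecomp : W.restrictScalars k ≤
          ⨆ μ : k, W.restrictScalars k ⊓ Module.End.eigenspace ((f i).restrictScalars k) μ :=
        le_iSup_inf_eigenspace _ _ (fun x hx => hstab i x hx) (hdiag i)
      have hpiece : ∀ μ, ∀ w ∈ Wμ μ,
          w ∈ ⨆ χ : ι → k, ⨅ i, Module.End.eigenspace ((f i).restrictScalars k) (χ i) := by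
        intro μ
        -- find ν ≠ μ with Wμ ν ≠ ⊥
        obtain ⟨w0, hw0W, hw0⟩ := hi μ
        have hw0' := hdecomp hw0W
        have hex : ∃ ν, ν ≠ μ ∧ Wμ ν ≠ ⊥ := by
          by_contra hcon
          push Not at hcon
          apply hw0
          have hle : (⨆ μ' : k, W.restrictScalars k ⊓
              Module.End.eigenspace ((f i).restrictScalars k) μ') ≤
              Module.End.eigenspace ((f i).restrictScalars k) μ := by
            apply iSup_le
            intro ν
            by_cases hν : ν = μ
            · subst hν; exact inf_le_right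
            · intro x hx
              have hx' : x ∈ Wμ ν := by
                rw [hmemWμ]
                exact ⟨hx.1, mem_eigenspace_iff.mp hx.2⟩
              rw [hcon ν hν, Submodule.mem_bot] at hx'
              rw [hx']
              exact Submodule.zero_mem _
          exact mem_eigenspace_iff.mp (hle hw0')
        obtain ⟨ν, hνμ, hνbot⟩ := hex
        have hdisj : ∀ x, x ∈ Wμ μ → x ∈ Wμ ν → x = 0 := by
          intro x h1 h2
          rw [hmemWμ] at h1 h2
          have h3 : (μ - ν) • x = 0 := by rw [sub_smul, ← h1.2, ← h2.2, sub_self]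
          rcases smul_eq_zero.mp h3 with h4 | h4
          · exact absurd (sub_eq_zero.mp h4).symm hνμ
          · exact h4
        have hn1 : 1 ≤ n := by
          have := hbnd Unit (fun _ => Wμ ν) (fun _ => inf_le_left) (fun _ => hνbot)
            (by
              intro y y' hyy'
              funext u
              apply Subtype.val_injective
              simpa using hyy')
          simpa using this
        have hbndμ : Bnd (Wμ μ) (n - 1) := by
          intro ι' _ A hAW hA0 hinj
          let A' : Option ι' → Submodule R V := fun o => o.elim (Wμ ν) A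
          have := hbnd (Option ι') A'
            (by
              intro o
              cases o with
              | none => exact inf_le_left
              | some j => exact (hAW j).trans inf_le_left)
            (by
              intro o
              cases o with
              | none => exact hνbot
              | some j => exact hA0 j)
            (by
              intro y y' hyy'
              simp only [Fintype.sum_option] at hyy'
              have hb : ((y none : A' none) : V) ∈ Wμ ν := (y none).2
              have hb' : ((y' none : A' none) : V) ∈ Wμ ν := (y' none).2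
              have ha : (∑ j, ((y (some j) : A' (some j)) : V)) ∈ Wμ μ :=
                (Wμ μ).sum_mem fun j _ => hAW j (y (some j)).2
              have ha' : (∑ j, ((y' (some j) : A' (some j)) : V)) ∈ Wμ μ :=
                (Wμ μ).sum_mem fun j _ => hAW j (y' (some j)).2
              have h1 : (∑ j, ((y (some j) : A' (some j)) : V)) -
                  (∑ j, ((y' (some j) : A' (some j)) : V)) =
                  ((y' none : A' none) : V) - ((y none : A' none) : V) := by
                rw [sub_eq_sub_iff_add_eq_add, add_comm]
                exact hyy'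
              have h4 := hdisj _ ((Wμ μ).sub_mem ha ha') (h1 ▸ (Wμ ν).sub_mem hb' hb)
              have h5 : (fun j => (y (some j) : A j)) = (fun j => (y' (some j) : A j)) :=
                hinj (sub_eq_zero.mp h4)
              have h6 : ((y none : A' none) : V) = ((y' none : A' none) : V) := by
                rw [h4] at h1
                exact (sub_eq_zero.mp h1.symm).symm
              funext o
              cases o with
              | none => exact Subtype.val_injective h6
              | some j => exact congrFun h5 j)
          rw [Fintype.card_option] at this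
          omega
        exact ih (n - 1) (by omega) (Wμ μ) (hWμstab μ) hbndμ
      intro w hw
      have hle : (⨆ μ : k, W.restrictScalars k ⊓
          Module.End.eigenspace ((f i).restrictScalars k) μ) ≤
          ⨆ χ : ι → k, ⨅ i, Module.End.eigenspace ((f i).restrictScalars k) (χ i) := by
        apply iSup_le
        intro μ x hx
        apply hpiece μ x
        rw [hmemWμ]
        exact ⟨hx.1, mem_eigenspace_iff.mp hx.2⟩
      exact hle (hdecomp hw)

end Groth.Agent.H8.SimDiag
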