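import Groth.Prelude.Def_W4c3madredgrpAct
import Groth.Agent.Lib.Helper8.SimDiag

/-! Helper8: right translations by points of an affine monoid scheme: composition and local
finiteness. -/

set_option autoImplicit false
universe u v w

namespace Groth.Agent.H8.PtAct

open TensorProduct MadRed

variable (k : Type u) [CommRing k] (A : Type v) [CommRing A] [Bialgebra k A]
  (R : Type w) [CommRing R] [Algebra k R]

/-- The linear map `x ⊗ y ↦ g y ⊗ x`. -/
noncomputable def Φ (g : A →ₐ[k] R) : A ⊗[k] A →ₗ[k] R ⊗[k] A :=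
  (TensorProduct.map g.toLinearMap LinearMap.id) ∘ₗ (TensorProduct.comm k A A).toLinearMap

@[simp] theorem Φ_tmul (g : A →ₐ[k] R) (x y : A) : Φ k A R g (x ⊗ₜ y) = g y ⊗ₜ x := rfl

theorem translAux_apply (g : A →ₐ[k] R) (a : A) :
    translAux k A R g a = Φ k A R g (Coalgebra.comul a) := rfl

theorem ptAct_tmul (g : A →ₐ[k] R) (r : R) (a : A) :
    ptAct k A R g (r ⊗ₜ a) = r • translAux k A R g a := by
  rw [ptAct, Algebra.TensorProduct.lift_tmul, Algebra.TensorProduct.includeLeft_apply,
    Algebra.smul_def]
  rfl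

theorem ptAct_Φ (h g : A →ₐ[k] R) (z : A ⊗[k] A) (y : A) :
    ptAct k A R h (g y • Φ k A R h z) = g y • ptAct k A R h (Φ k A R h z) := map_smul _ _ _

/-- composition of translations -/
theorem ptAct_comp (g h : A →ₐ[k] R) :
    (ptAct k A R h).comp (ptAct k A R g) =
      ptAct k A R (WithConv.toConv h * WithConv.toConv g).ofConv := by
  apply Algebra.TensorProduct.ext
  · ext
  · apply AlgHom.toLinearMap_injective
    -- compare k-linear maps A → R ⊗ A
    apply LinearMap.ext
    intro a
    change ptAct k A R h (ptAct k A R g (1 ⊗ₜ a)) = ptAct k A R _ (1 ⊗ₜ a)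
    rw [ptAct_tmul, ptAct_tmul, one_smul, one_smul, translAux_apply, translAux_apply]
    -- Θ
    let m : A ⊗[k] A →ₗ[k] R := LinearMap.mul' k R ∘ₗ TensorProduct.map h.toLinearMap g.toLinearMap
    let Θ' : A ⊗[k] (A ⊗[k] A) →ₗ[k] R ⊗[k] A :=
      (TensorProduct.map m LinearMap.id) ∘ₗ (TensorProduct.comm k A (A ⊗[k] A)).toLinearMap
    have hL : ∀ z : A ⊗[k] A, ptAct k A R h (Φ k A R g z) =
        Θ' ((TensorProduct.assoc k A A A) ((Coalgebra.comul (R := k) (A := A)).rTensor A z)) := by
      intro z
      induction z using TensorProduct.induction_on with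
      | zero => simp
      | add z z' hz hz' => simp only [map_add, hz, hz']
      | tmul x y =>
        rw [Φ_tmul, ptAct_tmul, translAux_apply, LinearMap.rTensor_tmul]
        generalize Coalgebra.comul (R := k) x = w
        induction w using TensorProduct.induction_on with
        | zero => simp
        | add w w' hw hw' => simp only [map_add, add_tmul, smul_add, hw, hw']
        | tmul x1 x2 =>
          simp only [Φ_tmul, TensorProduct.assoc_tmul, Θ', m, LinearMap.comp_apply,
            LinearEquiv.coe_coe, TensorProduct.comm_tmul, TensorProduct.map_tmul,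
            LinearMap.mul'_apply, AlgHom.toLinearMap_apply, LinearMap.id_apply]
          rw [TensorProduct.smul_tmul', smul_eq_mul, mul_comm]
    have hR : ∀ z : A ⊗[k] A, Φ k A R (WithConv.toConv h * WithConv.toConv g).ofConv z =
        Θ' ((Coalgebra.comul (R := k) (A := A)).lTensor A z) := by
      intro z
      induction z using TensorProduct.induction_on with
      | zero => simp
      | add z z' hz hz' => simp only [map_add, hz, hz']
      | tmul x y =>
        rw [Φ_tmul, LinearMap.lTensor_tmul]
        simp only [Θ', LinearMap.comp_apply, LinearEquiv.coe_coe, TensorProduct.comm_tmul,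
          TensorProduct.map_tmul, LinearMap.id_apply]
        rfl
    rw [hL, hR, Coalgebra.coassoc_apply]

theorem ptAct_one : ptAct k A R (1 : WithConv (A →ₐ[k] R)).ofConv = AlgHom.id R _ := by
  apply Algebra.TensorProduct.ext
  · ext
  · apply AlgHom.toLinearMap_injective
    apply LinearMap.ext
    intro a
    change ptAct k A R _ (1 ⊗ₜ a) = 1 ⊗ₜ a
    rw [ptAct_tmul, one_smul, translAux_apply]
    have h1 : ∀ z : A ⊗[k] A, Φ k A R (1 : WithConv (A →ₐ[k] R)).ofConv z =
        (TensorProduct.map (Algebra.linearMap k R) LinearMap.id)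
          ((TensorProduct.comm k A k) ((Coalgebra.counit (R := k) (A := A)).lTensor A z)) := by
      intro z
      induction z using TensorProduct.induction_on with
      | zero => simp
      | add z z' hz hz' => simp only [map_add, hz, hz']
      | tmul x y => simp [AlgHom.convOne_def]
    rw [h1, Coalgebra.lTensor_counit_comul]
    simp


section Fin

variable {k A R}

theorem exists_finset_Φ (z : A ⊗[k] A) : ∃ F : Finset A, ∀ g : A →ₐ[k] R,
    Φ k A R g z ∈ Submodule.span R ((fun b : A => (1 : R) ⊗ₜ[k] b) '' (F : Set A)) := by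
  classical
  induction z using TensorProduct.induction_on with
  | zero => exact ⟨∅, fun g => by simp⟩
  | tmul x y =>
    refine ⟨{x}, fun g => ?_⟩
    rw [Φ_tmul]
    have : (g y ⊗ₜ[k] x : R ⊗[k] A) = g y • ((1 : R) ⊗ₜ[k] x) := by
      rw [TensorProduct.smul_tmul', smul_eq_mul, mul_one]
    rw [this]
    apply Submodule.smul_mem
    apply Submodule.subset_span
    simp
  | add z z' hz hz' =>
    obtain ⟨F, hF⟩ := hz
    obtain ⟨F', hF'⟩ := hz'
    refine ⟨F ∪ F', fun g => ?_⟩
    rw [map_add]
    apply Submodule.add_mem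
    · exact Submodule.span_mono (Set.image_mono (by simp)) (hF g)
    · exact Submodule.span_mono (Set.image_mono (by simp)) (hF' g)

theorem exists_finset_ptAct (x : R ⊗[k] A) : ∃ F : Finset A, ∀ g : A →ₐ[k] R,
    ptAct k A R g x ∈ Submodule.span R ((fun b : A => (1 : R) ⊗ₜ[k] b) '' (F : Set A)) := by
  classical
  induction x using TensorProduct.induction_on with
  | zero => exact ⟨∅, fun g => by simp⟩
  | tmul r a =>
    obtain ⟨F, hF⟩ := exists_finset_Φ (k := k) (A := A) (R := R) (Coalgebra.comul (R := k) a)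
    refine ⟨F, fun g => ?_⟩
    rw [ptAct_tmul, translAux_apply]
    exact Submodule.smul_mem _ _ (hF g)
  | add z z' hz hz' =>
    obtain ⟨F, hF⟩ := hz
    obtain ⟨F', hF'⟩ := hz'
    refine ⟨F ∪ F', fun g => ?_⟩
    rw [map_add]
    apply Submodule.add_mem
    · exact Submodule.span_mono (Set.image_mono (by simp)) (hF g)
    · exact Submodule.span_mono (Set.image_mono (by simp)) (hF' g)

/-- The `R`-span of the orbit of `x` under all translations. -/
noncomputable def orbit (x : R ⊗[k] A) : Submodule R (R ⊗[k] A) :=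
  Submodule.span R (Set.range fun g : A →ₐ[k] R => ptAct k A R g x)

theorem mem_orbit (x : R ⊗[k] A) : x ∈ orbit (k := k) x := by
  apply Submodule.subset_span
  refine ⟨(1 : WithConv (A →ₐ[k] R)).ofConv, ?_⟩
  change ptAct k A R _ x = x
  rw [ptAct_one]
  rfl

theorem orbit_stable (h : A →ₐ[k] R) (x : R ⊗[k] A) :
    ∀ w ∈ orbit (k := k) x, ptAct k A R h w ∈ orbit (k := k) x := by
  intro w hw
  have hle : (orbit (k := k) x).map (ptAct k A R h).toLinearMap ≤ orbit (k := k) x := by
    rw [orbit, Submodule.map_span, Submodule.span_le]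
    rintro _ ⟨_, ⟨g, rfl⟩, rfl⟩
    apply Submodule.subset_span
    refine ⟨(WithConv.toConv h * WithConv.toConv g).ofConv, ?_⟩
    change ptAct k A R _ x = ptAct k A R h (ptAct k A R g x)
    rw [← ptAct_comp]
    rfl
  exact hle ⟨w, hw, rfl⟩

theorem orbit_fg [IsNoetherianRing R] (x : R ⊗[k] A) : (orbit (k := k) x).FG := by
  obtain ⟨F, hF⟩ := exists_finset_ptAct (k := k) x
  have hle : orbit (k := k) x ≤
      Submodule.span R ((fun b : A => (1 : R) ⊗ₜ[k] b) '' (F : Set A)) :=
    Submodule.span_le.mpr (by rintro _ ⟨g, rfl⟩; exact hF g)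
  have hnoeth : IsNoetherian R
      (Submodule.span R ((fun b : A => (1 : R) ⊗ₜ[k] b) '' (F : Set A))) :=
    isNoetherian_span_of_finite R (F.finite_toSet.image _)
  exact (isNoetherian_submodule.mp hnoeth) _ hle

end Fin

end Groth.Agent.H8.PtAct
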