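import Mathlib

set_option autoImplicit false
universe u
open TensorProduct

namespace Groth.Agent.H8.QFBound

/-- The number of primes of a finite-dimensional algebra over a field is at most its dimension. -/
theorem card_primeSpectrum_le_finrank (L R : Type u) [Field L] [CommRing R] [Algebra L R]
    [Module.Finite L R] (s : Finset (PrimeSpectrum R)) : s.card ≤ Module.finrank L R := by
  classical
  have hmax : ∀ P : PrimeSpectrum R, P.asIdeal.IsMaximal := fun P =>
    have : IsArtinianRing R := IsArtinianRing.of_finite L R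
    inferInstance
  -- choose e_P ∈ ⋂_{Q ≠ P} Q \ P
  have hex : ∀ P ∈ s, ∃ e : R, e ∉ P.asIdeal ∧ ∀ Q ∈ s, Q ≠ P → e ∈ Q.asIdeal := by
    intro P hP
    by_contra hcon
    push Not at hcon
    -- then ⋂_{Q ∈ s, Q ≠ P} Q ≤ P
    have hle : (s.erase P).inf (fun Q => Q.asIdeal) ≤ P.asIdeal := by
      intro e he
      by_contra heP
      obtain ⟨Q, hQs, hQP, heQ⟩ := hcon e heP
      exact heQ ((Finset.inf_le (Finset.mem_erase.mpr ⟨hQP, hQs⟩) : _ ≤ Q.asIdeal) he)
    obtain ⟨Q, hQ, hQP⟩ := (Ideal.IsPrime.inf_le' P.isPrime).mp hle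
    have := (hmax Q).eq_of_le P.isPrime.ne_top hQP
    exact (Finset.mem_erase.mp hQ).1 (PrimeSpectrum.ext this)
  choose! e he1 he2 using hex
  have hli : LinearIndependent L (fun P : s => e P.1) := by
    rw [linearIndependent_iff']
    intro t c hc P hP
    by_contra hcP
    have h1 : ∑ Q ∈ t, c Q • e Q.1 ∈ P.1.asIdeal := by rw [hc]; exact Ideal.zero_mem _
    have h2 : ∑ Q ∈ t.erase P, c Q • e Q.1 ∈ P.1.asIdeal := by
      refine Ideal.sum_mem _ fun Q hQ => ?_
      have hQP : Q ≠ P := (Finset.mem_erase.mp hQ).1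
      have : e Q.1 ∈ P.1.asIdeal := he2 Q.1 Q.2 P.1 P.2 (fun h => hQP (Subtype.ext h).symm)
      rw [Algebra.smul_def]
      exact Ideal.mul_mem_left _ _ this
    rw [← Finset.add_sum_erase t _ hP] at h1
    have h3 : c P • e P.1 ∈ P.1.asIdeal := (Ideal.add_mem_iff_left _ h2).mp h1
    have h4 : e P.1 ∈ P.1.asIdeal := by
      have : e P.1 = (c P)⁻¹ • (c P • e P.1) := by rw [smul_smul, inv_mul_cancel₀ hcP, one_smul]
      rw [this, Algebra.smul_def]
      exact Ideal.mul_mem_left _ _ h3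
    exact he1 P.1 P.2 h4
  have := hli.fintype_card_le_finrank
  simpa using this


/-- If `S'` is spanned by `n` elements, `L ⊗ S'` has dimension at most `n`. -/
theorem finrank_baseChange_le (A L M : Type u) [CommRing A] [Field L] [Algebra A L]
    [AddCommGroup M] [Module A M] (t : Finset M) (ht : Submodule.span A (t : Set M) = ⊤) :
    Module.Finite L (L ⊗[A] M) ∧ Module.finrank L (L ⊗[A] M) ≤ t.card := by
  classical
  have hspan : Submodule.span L ((t.image (fun m => (1 : L) ⊗ₜ[A] m) : Finset (L ⊗[A] M)) :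
      Set (L ⊗[A] M)) = ⊤ := by
    rw [Finset.coe_image]
    rw [eq_top_iff, ← Submodule.baseChange_top, ← ht, Submodule.baseChange_span]
    exact le_of_eq rfl
  have hfin : Module.Finite L (L ⊗[A] M) := ⟨⟨_, hspan⟩⟩
  refine ⟨hfin, ?_⟩
  calc Module.finrank L (L ⊗[A] M)
      = Module.finrank L (⊤ : Submodule L (L ⊗[A] M)) := (finrank_top L _).symm
    _ = Module.finrank L (Submodule.span L
          ((t.image (fun m => (1 : L) ⊗ₜ[A] m) : Finset (L ⊗[A] M)) : Set (L ⊗[A] M))) := by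
        rw [hspan]
    _ ≤ (t.image (fun m => (1 : L) ⊗ₜ[A] m)).card := finrank_span_finset_le_card _
    _ ≤ t.card := Finset.card_image_le


/-- Key injectivity: primes of `L ⊗ B` not containing `1 ⊗ r` are determined by their contraction
to `L ⊗ S'` when every element of `B` is multiplied into `S'` by a power of `r`. -/
theorem eq_of_comap_eq (A L B : Type u) [CommRing A] [Field L] [Algebra A L] [CommRing B]
    [Algebra A B] (S' : Subalgebra A B) (r : B) (hrS : r ∈ S')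
    (hr : ∀ b : B, ∃ N : ℕ, r ^ N * b ∈ S')
    (P₁ P₂ : Ideal (L ⊗[A] B)) [P₂.IsPrime] (hr2 : (1 : L) ⊗ₜ[A] r ∉ P₂)
    (h : P₁.comap (Algebra.TensorProduct.map (AlgHom.id L L) S'.val) ≤
      P₂.comap (Algebra.TensorProduct.map (AlgHom.id L L) S'.val)) : P₁ ≤ P₂ := by
  intro x hx
  -- some power of `1 ⊗ r` multiplies `x` into the image
  have key : ∀ x : L ⊗[A] B, ∃ (N : ℕ) (z : L ⊗[A] S'),
      Algebra.TensorProduct.map (AlgHom.id L L) S'.val z = ((1 : L) ⊗ₜ[A] r) ^ N * x := by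
    intro x
    induction x with
    | zero => exact ⟨0, 0, by simp⟩
    | tmul l b =>
      obtain ⟨N, hN⟩ := hr b
      refine ⟨N, l ⊗ₜ[A] ⟨r ^ N * b, hN⟩, ?_⟩
      simp [Algebra.TensorProduct.tmul_pow]
    | add x y hx hy =>
      obtain ⟨N₁, z₁, h₁⟩ := hx
      obtain ⟨N₂, z₂, h₂⟩ := hy
      let ρ : L ⊗[A] S' := (1 : L) ⊗ₜ[A] (⟨r, hrS⟩ : S')
      have hρ : Algebra.TensorProduct.map (AlgHom.id L L) S'.val ρ = (1 : L) ⊗ₜ[A] r := by
        simp [ρ]
      refine ⟨N₁ + N₂, ρ ^ N₂ * z₁ + ρ ^ N₁ * z₂, ?_⟩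
      rw [map_add, map_mul, map_mul, map_pow, map_pow, hρ, h₁, h₂]
      ring
  obtain ⟨N, z, hz⟩ := key x
  have h1 : z ∈ P₁.comap (Algebra.TensorProduct.map (AlgHom.id L L) S'.val) := by
    rw [Ideal.mem_comap, hz]; exact Ideal.mul_mem_left _ _ hx
  have h2 := h h1
  rw [Ideal.mem_comap, hz] at h2
  rcases (Ideal.IsPrime.mem_or_mem ‹_› h2) with h3 | h3
  · exact absurd (Ideal.IsPrime.mem_of_pow_mem ‹_› _ h3) hr2
  · exact h3


/-- Uniform bound on the number of points of the geometric fibres of a quasi-finite algebra of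
finite type. -/
theorem exists_bound (A B : Type u) [CommRing A] [CommRing B] [Algebra A B]
    [Algebra.FiniteType A B] [Algebra.QuasiFinite A B] :
    ∃ d : ℕ, ∀ (L : Type u) [Field L] [Algebra A L] (s : Finset (PrimeSpectrum (L ⊗[A] B))),
      s.card ≤ d := by
  classical
  have hloc : ∀ q : PrimeSpectrum B, ∃ (S' : Subalgebra A B) (t : Finset S') (r : B),
      Submodule.span A (t : Set S') = ⊤ ∧ r ∈ S' ∧ r ∉ q.asIdeal ∧
        ∀ b : B, ∃ N : ℕ, r ^ N * b ∈ S' := by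
    intro q
    obtain ⟨S', hS', r, hrq, hbij⟩ :=
      Algebra.QuasiFiniteAt.exists_fg_and_exists_notMem_and_awayMap_bijective (R := A) q.asIdeal
    have hfin : Module.Finite A S' := ⟨(Submodule.fg_top _).mpr hS'⟩
    obtain ⟨t, ht⟩ := hfin.fg_top
    refine ⟨S', t, r.1, ht, r.2, hrq, fun b => ?_⟩
    obtain ⟨c, m, hc⟩ := Localization.awayMap_surjective_iff.mp hbij.2 b
    refine ⟨m, ?_⟩
    have : (S'.val.toRingHom r) ^ m * b = (c : B) := hc.symm
    change (r : B) ^ m * b ∈ S'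
    rw [show (r : B) ^ m * b = (c : B) from this]
    exact c.2
  choose S' t r ht hrS hrq hmul using hloc
  obtain ⟨F, hF⟩ := isCompact_univ.elim_finite_subcover
    (fun q : PrimeSpectrum B => (PrimeSpectrum.basicOpen (r q) : Set (PrimeSpectrum B)))
    (fun q => (PrimeSpectrum.basicOpen (r q)).isOpen)
    (fun q _ => Set.mem_iUnion.mpr ⟨q, hrq q⟩)
  refine ⟨∑ q ∈ F, (t q).card, ?_⟩
  intro L _ _ s
  let ι : ∀ q : PrimeSpectrum B, L ⊗[A] (S' q) →ₐ[L] L ⊗[A] B := fun q =>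
    Algebra.TensorProduct.map (AlgHom.id L L) (S' q).val
  -- every prime avoids some `1 ⊗ r q`
  have hcov : ∀ P : PrimeSpectrum (L ⊗[A] B), ∃ q ∈ F, (1 : L) ⊗ₜ[A] r q ∉ P.asIdeal := by
    intro P
    let P₀ : PrimeSpectrum B :=
      P.comap (Algebra.TensorProduct.includeRight : B →ₐ[A] L ⊗[A] B).toRingHom
    have := hF (Set.mem_univ P₀)
    simp only [Set.mem_iUnion] at this
    obtain ⟨q, hqF, hq⟩ := this
    exact ⟨q, hqF, hq⟩
  have hsub : s ⊆ F.biUnion (fun q => s.filter (fun P => (1 : L) ⊗ₜ[A] r q ∉ P.asIdeal)) := by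
    intro P hP
    obtain ⟨q, hqF, hq⟩ := hcov P
    exact Finset.mem_biUnion.mpr ⟨q, hqF, Finset.mem_filter.mpr ⟨hP, hq⟩⟩
  refine (Finset.card_le_card hsub).trans (Finset.card_biUnion_le.trans (Finset.sum_le_sum ?_))
  intro q _
  obtain ⟨hfin, hrank⟩ := finrank_baseChange_le A L (S' q) (t q) (ht q)
  refine le_trans ?_ hrank
  set sq := s.filter (fun P => (1 : L) ⊗ₜ[A] r q ∉ P.asIdeal) with hsq
  have hinj : Set.InjOn (fun P : PrimeSpectrum (L ⊗[A] B) => P.comap (ι q).toRingHom)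
      (sq : Set (PrimeSpectrum (L ⊗[A] B))) := by
    intro P₁ h₁ P₂ h₂ h12
    have h₁' : (1 : L) ⊗ₜ[A] r q ∉ P₁.asIdeal := (Finset.mem_filter.mp h₁).2
    have h₂' : (1 : L) ⊗ₜ[A] r q ∉ P₂.asIdeal := (Finset.mem_filter.mp h₂).2
    have hc : P₁.asIdeal.comap (ι q) = P₂.asIdeal.comap (ι q) :=
      congrArg PrimeSpectrum.asIdeal h12
    apply PrimeSpectrum.ext
    apply le_antisymm
    · exact eq_of_comap_eq A L B (S' q) (r q) (hrS q) (hmul q) _ _ h₂' hc.le
    · exact eq_of_comap_eq A L B (S' q) (r q) (hrS q) (hmul q) _ _ h₁' hc.ge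
  rw [← Finset.card_image_of_injOn hinj]
  exact card_primeSpectrum_le_finrank L (L ⊗[A] (S' q)) _

end Groth.Agent.H8.QFBound
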