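import Mathlib
import Groth.Agent.Lib.Helper8.QFBound

set_option autoImplicit false
universe u
open CategoryTheory CategoryTheory.Limits AlgebraicGeometry TensorProduct

namespace Groth.Agent.H8.QFGeom

/-- Chart bound: for affine opens `U ≤ f⁻¹ V` of a locally quasi-finite morphism locally of finite
type, the number of points of `Spec L ×_Y X` lying over `U` is bounded uniformly in the field `L`
and the morphism `Spec L ⟶ Y`. -/
theorem exists_chart_bound {X Y : Scheme.{u}} (f : X ⟶ Y) [LocallyQuasiFinite f]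
    [LocallyOfFiniteType f] {U : X.Opens} {V : Y.Opens} (hU : IsAffineOpen U)
    (hV : IsAffineOpen V) (e : U ≤ f ⁻¹ᵁ V) :
    ∃ d : ℕ, ∀ (L : Type u) [Field L] (s : Spec (CommRingCat.of L) ⟶ Y)
      (S : Finset ↥(pullback s f)), (∀ p ∈ S, pullback.snd s f p ∈ U) → S.card ≤ d := by
  classical
  have hqf : (f.appLE V U e).hom.QuasiFinite := LocallyQuasiFinite.quasiFinite_appLE hV hU e
  have hft : (f.appLE V U e).hom.FiniteType := f.finiteType_appLE hV hU e
  algebraize [(f.appLE V U e).hom]
  obtain ⟨d, hd⟩ := QFBound.exists_bound Γ(Y, V) Γ(X, U)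
  refine ⟨d, ?_⟩
  intro L _ s S hS
  rcases S.eq_empty_or_nonempty with rfl | ⟨p₀, hp₀⟩
  · simp
  -- `s` factors through `V`
  have hsub : Set.range s ⊆ Set.range hV.fromSpec := by
    rintro _ ⟨z, rfl⟩
    rw [hV.range_fromSpec]
    have hz : z = pullback.fst s f p₀ := Subsingleton.elim _ _
    rw [hz, ← Scheme.Hom.comp_apply, pullback.condition, Scheme.Hom.comp_apply]
    exact e (hS p₀ hp₀)
  let s' := IsOpenImmersion.lift hV.fromSpec s hsub
  have hs' : s' ≫ hV.fromSpec = s := IsOpenImmersion.lift_fac _ _ _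
  let σ : Γ(Y, V) ⟶ CommRingCat.of L := Spec.preimage s'
  have hσ : Spec.map σ = s' := Spec.map_preimage s'
  algebraize [σ.hom]
  let m := pullback.map (Spec.map σ) (Spec.map (f.appLE V U e)) s f (𝟙 _) hU.fromSpec hV.fromSpec
    (by rw [hσ, hs', Category.id_comp]) (hV.SpecMap_appLE_fromSpec f hU e)
  have hrange : Set.range m = pullback.fst s f ⁻¹' Set.range (𝟙 (Spec (CommRingCat.of L))) ∩
      pullback.snd s f ⁻¹' Set.range hU.fromSpec := Scheme.Pullback.range_map ..
  have hmem : ∀ p ∈ S, ∃ w, m w = p := by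
    intro p hp
    have : p ∈ Set.range m := by
      rw [hrange]
      refine ⟨⟨pullback.fst s f p, rfl⟩, ?_⟩
      rw [Set.mem_preimage, hU.range_fromSpec]
      exact hS p hp
    exact this
  have hne : Nonempty ↥(pullback (Spec.map σ) (Spec.map (f.appLE V U e))) :=
    ⟨(hmem p₀ hp₀).choose⟩
  choose! w hw using hmem
  let iso := pullbackSpecIso Γ(Y, V) L Γ(X, U)
  let g : ↥(pullback s f) → PrimeSpectrum (L ⊗[Γ(Y, V)] Γ(X, U)) := fun p => iso.hom (w p)
  have hinj : Set.InjOn g (S : Set ↥(pullback s f)) := by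
    intro p₁ h₁ p₂ h₂ h12
    have h3 : w p₁ = w p₂ := by
      have := congrArg iso.inv h12
      simpa [g, ← Scheme.Hom.comp_apply] using this
    rw [← hw p₁ h₁, ← hw p₂ h₂, h3]
  rw [← Finset.card_image_of_injOn hinj]
  exact hd L _


/-- Global bound for quasi-compact source. -/
theorem exists_global_bound {X Y : Scheme.{u}} (f : X ⟶ Y) [LocallyQuasiFinite f]
    [LocallyOfFiniteType f] [CompactSpace X] :
    ∃ d : ℕ, ∀ (L : Type u) [Field L] (s : Spec (CommRingCat.of L) ⟶ Y)
      (S : Finset ↥(pullback s f)), S.card ≤ d := by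
  classical
  have hloc : ∀ x : X, ∃ (U : X.Opens) (d : ℕ), x ∈ U ∧
      ∀ (L : Type u) [Field L] (s : Spec (CommRingCat.of L) ⟶ Y)
        (S : Finset ↥(pullback s f)), (∀ p ∈ S, pullback.snd s f p ∈ U) → S.card ≤ d := by
    intro x
    obtain ⟨_, ⟨V, hV, rfl⟩, hxV, -⟩ := Y.isBasis_affineOpens.exists_subset_of_mem_open
      (Set.mem_univ (f x)) isOpen_univ
    obtain ⟨_, ⟨U, hU, rfl⟩, hxU, hUV⟩ := X.isBasis_affineOpens.exists_subset_of_mem_open
      (a := x) (show x ∈ ((f ⁻¹ᵁ V : X.Opens) : Set X) from hxV) (f ⁻¹ᵁ V).2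
    obtain ⟨d, hd⟩ := exists_chart_bound f hU hV hUV
    exact ⟨U, d, hxU, hd⟩
  choose U d hxU hd using hloc
  obtain ⟨F, hF⟩ := isCompact_univ.elim_finite_subcover (fun x => (U x : Set X))
    (fun x => (U x).2) (fun x _ => Set.mem_iUnion.mpr ⟨x, hxU x⟩)
  refine ⟨∑ x ∈ F, d x, ?_⟩
  intro L _ s S
  have hsub : S ⊆ F.biUnion (fun x => S.filter (fun p => pullback.snd s f p ∈ U x)) := by
    intro p hp
    have := hF (Set.mem_univ (pullback.snd s f p))
    simp only [Set.mem_iUnion] at this
    obtain ⟨x, hxF, hx⟩ := this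
    exact Finset.mem_biUnion.mpr ⟨x, hxF, Finset.mem_filter.mpr ⟨hp, hx⟩⟩
  exact (Finset.card_le_card hsub).trans (Finset.card_biUnion_le.trans
    (Finset.sum_le_sum fun x _ => hd x L s _ (fun p hp => (Finset.mem_filter.mp hp).2)))


theorem enatCard_le_of_forall_finset {α : Type*} (d : ℕ) (h : ∀ S : Finset α, S.card ≤ d) :
    ENat.card α ≤ d := by
  classical
  by_contra hcon
  rw [not_le] at hcon
  have h1 : ((d + 1 : ℕ) : ℕ∞) ≤ (Set.univ : Set α).encard := by
    rw [Set.encard_univ]
    exact Order.add_one_le_of_lt hcon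
  obtain ⟨t, -, ht⟩ := Set.exists_subset_encard_eq h1
  have htf : t.Finite := Set.finite_of_encard_eq_coe ht
  have h2 := htf.encard_eq_coe_toFinset_card
  rw [ht] at h2
  have h3 : d + 1 = htf.toFinset.card := by exact_mod_cast h2
  have := h htf.toFinset
  omega

/-- In a discrete space the irreducible components are the singletons. -/
theorem encard_irreducibleComponents_of_discrete (T : Type*) [TopologicalSpace T]
    [DiscreteTopology T] : (irreducibleComponents T).encard = ENat.card T := by
  have h : irreducibleComponents T = Set.range (fun g : T => ({g} : Set T)) := by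
    ext t
    constructor
    · intro ht
      have hirr : IsIrreducible t := ht.1
      obtain ⟨g, hg⟩ := hirr.nonempty
      have hsub : t.Subsingleton := hirr.isPreirreducible.subsingleton
      exact ⟨g, (hsub.eq_singleton_of_mem hg).symm⟩
    · rintro ⟨g, rfl⟩
      refine ⟨isIrreducible_singleton, fun t' ht' hle => ?_⟩
      have hsub : t'.Subsingleton := ht'.isPreirreducible.subsingleton
      have : t' = {g} := hsub.eq_singleton_of_mem (hle rfl)
      exact this.le
  rw [h, ← Set.image_univ,
    Function.Injective.encard_image (fun a b hab => Set.singleton_injective hab), Set.encard_univ]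

theorem enatCard_connectedComponents_of_discrete (T : Type*) [TopologicalSpace T]
    [DiscreteTopology T] : ENat.card (ConnectedComponents T) = ENat.card T := by
  symm
  refine ENat.card_congr (Equiv.ofBijective (ConnectedComponents.mk : T → ConnectedComponents T)
    ⟨fun a b hab => ?_, ConnectedComponents.surjective_coe⟩)
  rw [ConnectedComponents.coe_eq_coe, connectedComponent_eq_singleton,
    connectedComponent_eq_singleton] at hab
  exact Set.singleton_injective hab

end Groth.Agent.H8.QFGeom
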