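import Mathlib

/-! Irreducible `sl₂`-modules over an algebraically closed field of characteristic zero:
weight basis and the trace of `h²`. -/

namespace Groth.Agent.H8.Sl2

open LieModule

variable {k : Type*} [Field k] [IsAlgClosed k] [CharZero k]
  {L : Type*} [LieRing L] [LieAlgebra k L] {h e f : L}
  {M : Type*} [AddCommGroup M] [Module k M] [LieRingModule L M] [LieModule k L M]
  [FiniteDimensional k M]

theorem exists_basis_of_irreducible (t : IsSl2Triple h e f) (hspan : t.toLieSubalgebra k = ⊤)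
    [LieModule.IsIrreducible k L M] :
    ∃ (n : ℕ) (b : Module.Basis (Fin (n + 1)) k M),
      ∀ j : Fin (n + 1), ⁅h, b j⁆ = ((n : k) - 2 * ((j : ℕ) : k)) • b j := by
  classical
  have : Nontrivial M := LieModule.nontrivial_of_isIrreducible k L M
  obtain ⟨μ, m, hm0, P⟩ := t.exists_hasPrimitiveVectorWith (R := k) (M := M)
  obtain ⟨n, hn⟩ := P.exists_nat
  set v : Fin (n + 1) → M := fun j => ((toEnd k L M f) ^ (j : ℕ)) m with hv
  have hv_ne : ∀ j, v j ≠ 0 := fun j =>
    P.pow_toEnd_f_ne_zero_of_eq_nat hn (Nat.lt_succ_iff.mp j.isLt)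
  have hv_h : ∀ j, ⁅h, v j⁆ = ((n : k) - 2 * ((j : ℕ) : k)) • v j := by
    intro j
    rw [hv]; simp only
    rw [P.lie_h_pow_toEnd_f (j : ℕ), hn]
  have hli : LinearIndependent k v := by
    apply Module.End.eigenvectors_linearIndependent' (toEnd k L M h)
      (fun j : Fin (n + 1) => (n : k) - 2 * ((j : ℕ) : k))
    · intro i j hij
      simp only [sub_right_inj, mul_eq_mul_left_iff, Nat.cast_inj, OfNat.ofNat_ne_zero,
        or_false] at hij
      exact Fin.ext hij
    · intro j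
      refine ⟨?_, hv_ne j⟩
      rw [Module.End.mem_eigenspace_iff, toEnd_apply_apply]
      exact hv_h j
  set S₀ : Submodule k M := Submodule.span k (Set.range v) with hS₀
  have hvmem : ∀ j, v j ∈ S₀ := fun j => Submodule.subset_span ⟨j, rfl⟩
  -- stability under h, e, f
  have stab : ∀ y : L, (∀ j, ⁅y, v j⁆ ∈ S₀) → ∀ s ∈ S₀, ⁅y, s⁆ ∈ S₀ := by
    intro y hy s hs
    have : S₀ ≤ S₀.comap (toEnd k L M y) := by
      rw [hS₀, Submodule.span_le]
      rintro _ ⟨j, rfl⟩
      exact hy j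
    exact this hs
  have stab_h : ∀ s ∈ S₀, ⁅h, s⁆ ∈ S₀ := by
    apply stab
    intro j
    rw [hv_h j]
    exact Submodule.smul_mem _ _ (hvmem j)
  have stab_f : ∀ s ∈ S₀, ⁅f, s⁆ ∈ S₀ := by
    apply stab
    intro j
    have h1 : ⁅f, v j⁆ = ((toEnd k L M f) ^ ((j : ℕ) + 1)) m := by
      rw [hv]; simp only
      rw [pow_succ', Module.End.mul_apply, toEnd_apply_apply]
    rw [h1]
    by_cases hj : (j : ℕ) + 1 ≤ n
    · exact hvmem ⟨(j : ℕ) + 1, by omega⟩
    · have : (j : ℕ) + 1 = n + 1 := by have := j.isLt; omega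
      rw [this, P.pow_toEnd_f_eq_zero_of_eq_nat hn]
      exact Submodule.zero_mem _
  have stab_e : ∀ s ∈ S₀, ⁅e, s⁆ ∈ S₀ := by
    apply stab
    intro j
    rw [hv]; simp only
    rcases Nat.eq_zero_or_pos (j : ℕ) with h0 | hpos
    · rw [h0, pow_zero, Module.End.one_apply, P.lie_e]
      exact Submodule.zero_mem _
    · obtain ⟨i, hi⟩ : ∃ i, (j : ℕ) = i + 1 := ⟨(j : ℕ) - 1, by omega⟩
      rw [hi, P.lie_e_pow_succ_toEnd_f i]
      exact Submodule.smul_mem _ _ (hvmem ⟨i, by have := j.isLt; omega⟩)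
  let S : LieSubmodule k L M :=
    { S₀ with
      lie_mem := by
        intro x s hs
        have hx : x ∈ t.toLieSubalgebra k := by rw [hspan]; trivial
        obtain ⟨c₁, c₂, c₃, rfl⟩ := IsSl2Triple.mem_toLieSubalgebra_iff.mp hx
        rw [add_lie, add_lie, smul_lie, smul_lie, smul_lie, t.lie_e_f]
        exact S₀.add_mem (S₀.add_mem (S₀.smul_mem _ (stab_e s hs)) (S₀.smul_mem _ (stab_f s hs)))
          (S₀.smul_mem _ (stab_h s hs)) }
  have hSne : S ≠ ⊥ := by
    intro hbot
    have hm : v 0 ∈ S := hvmem 0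
    rw [hbot, LieSubmodule.mem_bot] at hm
    exact hv_ne 0 hm
  have hStop : S = ⊤ := (IsSimpleOrder.eq_bot_or_eq_top S).resolve_left hSne
  have hS₀top : S₀ = ⊤ := by
    have h1 : S.toSubmodule = (⊤ : LieSubmodule k L M).toSubmodule := by rw [hStop]
    rw [LieSubmodule.top_toSubmodule] at h1
    exact h1
  refine ⟨n, Module.Basis.mk hli (by rw [← hS₀, hS₀top]), fun j => ?_⟩
  rw [Module.Basis.mk_apply]
  exact hv_h j

/-- `∑_{j<N} (x - 2j)²` in closed form (times 3). -/
lemma three_mul_sum_sq (x : k) (N : ℕ) :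
    3 * ∑ j ∈ Finset.range N, (x - 2 * (j : k)) ^ 2 =
      3 * N * x ^ 2 - 6 * x * N * (N - 1) + 2 * (N - 1) * N * (2 * N - 1) := by
  induction N with
  | zero => simp
  | succ N ih =>
    rw [Finset.sum_range_succ, mul_add, ih]
    push_cast
    ring

lemma sum_sq_eq_choose (n : ℕ) :
    ∑ j ∈ Finset.range (n + 1), ((n : k) - 2 * (j : k)) ^ 2 = 2 * (((n + 2).choose 3 : ℕ) : k) := by
  have h3 : (3 : k) ≠ 0 := by norm_num
  apply mul_left_cancel₀ h3
  rw [three_mul_sum_sq]
  have hc : ((n + 2).descFactorial 3 : ℕ) = Nat.factorial 3 * (n + 2).choose 3 :=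
    Nat.descFactorial_eq_factorial_mul_choose _ _
  have hc' : (((n + 2).descFactorial 3 : ℕ) : k) = ((Nat.factorial 3 * (n + 2).choose 3 : ℕ) : k) := by
    rw [hc]
  have hd : (n + 2).descFactorial 3 = (n + 2) * (n + 1) * n := by
    simp [Nat.descFactorial_succ]
    ring
  rw [hd] at hc'
  push_cast at hc'
  have h6 : ((Nat.factorial 3 : ℕ) : k) = 6 := by norm_num [Nat.factorial]
  rw [h6] at hc'
  push_cast
  linear_combination hc'

theorem trace_sq_of_irreducible (t : IsSl2Triple h e f) (hspan : t.toLieSubalgebra k = ⊤)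
    [LieModule.IsIrreducible k L M] :
    LinearMap.trace k M ((toEnd k L M h) ^ 2) =
      2 * (((Module.finrank k M + 1).choose 3 : ℕ) : k) := by
  classical
  obtain ⟨n, b, hb⟩ := exists_basis_of_irreducible (M := M) t hspan
  have hfin : Module.finrank k M = n + 1 := by
    rw [Module.finrank_eq_card_basis b, Fintype.card_fin]
  rw [hfin, LinearMap.trace_eq_matrix_trace k b, Matrix.trace]
  have hdiag : ∀ j : Fin (n + 1), (LinearMap.toMatrix b b ((toEnd k L M h) ^ 2)).diag j =
      ((n : k) - 2 * ((j : ℕ) : k)) ^ 2 := by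
    intro j
    rw [Matrix.diag_apply, LinearMap.toMatrix_apply, pow_two, Module.End.mul_apply, toEnd_apply_apply,
      toEnd_apply_apply, hb j, lie_smul, hb j, smul_smul, map_smul, Module.Basis.repr_self]
    simp [pow_two]
  rw [Finset.sum_congr rfl (fun j _ => hdiag j)]
  rw [Fin.sum_univ_eq_sum_range (fun j => ((n : k) - 2 * (j : k)) ^ 2) (n + 1)]
  exact sum_sq_eq_choose n

end Groth.Agent.H8.Sl2
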