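import Mathlib
import Groth.Agent.Lib.Helper3.CA.CplMap
import Groth.Agent.Lib.Helper5.Car.CF1

/-!
# Lifting a finite map `A/IA → C/IC` to a finite map of completions, `A` formally smooth (helper8)
-/

set_option autoImplicit false
universe u

namespace Groth.Agent.H8.SmLiftFin

open AdicCompletion

variable {V : Type u} [CommRing V] (I : Ideal V) (hI : I.FG)
  (A C : Type u) [CommRing A] [Algebra V A] [Algebra.FormallySmooth V A]
  [CommRing C] [Algebra V C]

local notation "JA" => Ideal.map (algebraMap V A) I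
local notation "JC" => Ideal.map (algebraMap V C) I

include hI in
theorem main (φ₀ : (A ⧸ JA) →ₐ[V] (C ⧸ JC)) (hφ₀ : φ₀.toRingHom.Finite) :
    ∃ φ : AdicCompletion JA A →ₐ[V] AdicCompletion JC C,
      φ.toRingHom.Finite ∧
      (AdicCompletion.evalOneₐ JC).toRingHom.comp φ.toRingHom =
        φ₀.toRingHom.comp (AdicCompletion.evalOneₐ JA).toRingHom := by
  classical
  have hfgA : (JA).FG := Ideal.FG.map hI _
  have hfgC : (JC).FG := Ideal.FG.map hI _
  let ψ₀ : A →ₐ[V] C ⧸ JC := φ₀.comp (Ideal.Quotient.mkₐ V JA)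
  obtain ⟨ψ, hψ⟩ := Algebra.FormallySmooth.exists_adicCompletionEvalOneₐ_comp_eq
    (R := V) (A := A) (S := C) (I := JC) ψ₀
  have hψ' : ∀ a : A, evalOneₐ JC (ψ a) = φ₀ (Ideal.Quotient.mk JA a) :=
    fun a => DFunLike.congr_fun hψ a
  let 𝔫 : Ideal (AdicCompletion JC C) := (JC).map (algebraMap C (AdicCompletion JC C))
  haveI hcomplC : IsAdicComplete 𝔫 (AdicCompletion JC C) :=
    AdicCompletion.isAdicComplete_self JC hfgC
  have hkerC : RingHom.ker (evalOneₐ JC).toRingHom = 𝔫 := ker_evalOneₐ_eq_map JC hfgC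
  have hkerA : RingHom.ker (evalOneₐ JA).toRingHom =
      (JA).map (algebraMap A (AdicCompletion JA A)) := ker_evalOneₐ_eq_map JA hfgA
  have h4 : (JA).map ψ.toRingHom ≤ 𝔫 := by
    rw [Ideal.map_le_iff_le_comap]
    intro a ha
    rw [Ideal.mem_comap, ← hkerC, RingHom.mem_ker]
    show evalOneₐ JC (ψ a) = 0
    rw [hψ', Ideal.Quotient.eq_zero_iff_mem.mpr ha, _root_.map_zero]
  let φ₁ := Groth.Agent.H3.CplMap.cplMap ψ.toRingHom JA 𝔫 h4
  let e := AdicCompletion.ofAlgEquiv 𝔫
  let φr : AdicCompletion JA A →+* AdicCompletion JC C := e.symm.toAlgHom.toRingHom.comp φ₁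
  have hφr_of : ∀ a : A, φr (algebraMap A (AdicCompletion JA A) a) = ψ a := by
    intro a
    show e.symm (φ₁ (algebraMap A (AdicCompletion JA A) a)) = ψ a
    rw [Groth.Agent.H3.CplMap.cplMap_of, AlgEquiv.symm_apply_eq, AdicCompletion.ofAlgEquiv_apply]
    rfl
  let φ : AdicCompletion JA A →ₐ[V] AdicCompletion JC C :=
    { φr with
      commutes' := fun v => by
        show φr (algebraMap V (AdicCompletion JA A) v) = algebraMap V (AdicCompletion JC C) v
        rw [IsScalarTower.algebraMap_apply V A (AdicCompletion JA A), hφr_of, AlgHom.commutes] }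
  have hφ_of : ∀ a : A, φ (algebraMap A (AdicCompletion JA A) a) = ψ a := hφr_of
  let ΦL : AdicCompletion JA A →+* C ⧸ JC := (evalOneₐ JC).toRingHom.comp φ.toRingHom
  let ΦR : AdicCompletion JA A →+* C ⧸ JC := φ₀.toRingHom.comp (evalOneₐ JA).toRingHom
  have hL_of : ∀ a : A, ΦL (algebraMap A (AdicCompletion JA A) a) =
      φ₀ (Ideal.Quotient.mk JA a) := fun a => by
    show evalOneₐ JC (φ (algebraMap A (AdicCompletion JA A) a)) = _
    rw [hφ_of, hψ']
  have hR_of : ∀ a : A, ΦR (algebraMap A (AdicCompletion JA A) a) =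
      φ₀ (Ideal.Quotient.mk JA a) := fun a => by
    show φ₀ (evalOneₐ JA (algebraMap A (AdicCompletion JA A) a)) = _
    rw [AlgHom.commutes]
    rfl
  have hK_L : (JA).map (algebraMap A (AdicCompletion JA A)) ≤ RingHom.ker ΦL := by
    rw [Ideal.map_le_iff_le_comap]
    intro a ha
    rw [Ideal.mem_comap, RingHom.mem_ker, hL_of, Ideal.Quotient.eq_zero_iff_mem.mpr ha, _root_.map_zero]
  have hK_R : (JA).map (algebraMap A (AdicCompletion JA A)) ≤ RingHom.ker ΦR := by
    rw [Ideal.map_le_iff_le_comap]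
    intro a ha
    rw [Ideal.mem_comap, RingHom.mem_ker, hR_of, Ideal.Quotient.eq_zero_iff_mem.mpr ha, _root_.map_zero]
  have hΦ : ΦL = ΦR := by
    refine RingHom.ext fun x => ?_
    obtain ⟨a, ha⟩ := Ideal.Quotient.mk_surjective (evalOneₐ JA x)
    have hy : x - algebraMap A (AdicCompletion JA A) a ∈
        (JA).map (algebraMap A (AdicCompletion JA A)) := by
      rw [← hkerA, RingHom.mem_ker]
      show evalOneₐ JA (x - algebraMap A (AdicCompletion JA A) a) = 0
      rw [_root_.map_sub, AlgHom.commutes, ← ha, sub_eq_zero]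
      rfl
    have h1 := (RingHom.mem_ker).mp (hK_L hy)
    have h2 := (RingHom.mem_ker).mp (hK_R hy)
    rw [_root_.map_sub, sub_eq_zero] at h1 h2
    rw [h1, h2, hL_of, hR_of]
  have hfin : φ.toRingHom.Finite := by
    letI algφ : Algebra (AdicCompletion JA A) (AdicCompletion JC C) := φ.toRingHom.toAlgebra
    show Module.Finite (AdicCompletion JA A) (AdicCompletion JC C)
    let 𝔞 : Ideal (AdicCompletion JA A) := (JA).map (algebraMap A (AdicCompletion JA A))
    haveI : IsAdicComplete 𝔞 (AdicCompletion JA A) := AdicCompletion.isAdicComplete_self JA hfgA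
    have hmap : 𝔞.map (algebraMap (AdicCompletion JA A) (AdicCompletion JC C)) = 𝔫 := by
      show ((JA).map (algebraMap A (AdicCompletion JA A))).map φ.toRingHom = 𝔫
      rw [Ideal.map_map]
      have e1 : φ.toRingHom.comp (algebraMap A (AdicCompletion JA A)) = ψ.toRingHom :=
        RingHom.ext hφ_of
      rw [e1]
      show (I.map (algebraMap V A)).map ψ.toRingHom =
        (I.map (algebraMap V C)).map (algebraMap C (AdicCompletion JC C))
      rw [Ideal.map_map, Ideal.map_map]
      congr 1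
      refine RingHom.ext fun v => ?_
      show ψ (algebraMap V A v) = algebraMap C (AdicCompletion JC C) (algebraMap V C v)
      rw [AlgHom.commutes, ← IsScalarTower.algebraMap_apply]
    haveI hcompl' : IsAdicComplete 𝔞 (AdicCompletion JC C) := by
      rw [← IsAdicComplete.map_algebraMap_iff 𝔞 (AdicCompletion JC C) (S := AdicCompletion JC C), hmap]
      exact hcomplC
    letI alg₀ : Algebra (A ⧸ JA) (C ⧸ JC) := φ₀.toRingHom.toAlgebra
    have hfin₀ : Module.Finite (A ⧸ JA) (C ⧸ JC) := hφ₀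
    obtain ⟨s, hs⟩ := hfin₀.fg_top
    choose lift hlift using fun c : C ⧸ JC => evalOneₐ_surjective JC c
    let N : Submodule (AdicCompletion JA A) (AdicCompletion JC C) :=
      Submodule.span _ (lift '' (s : Set (C ⧸ JC)))
    have hN : N.FG := Submodule.fg_span ((s.finite_toSet).image lift)
    have key : ∀ y ∈ Submodule.span (A ⧸ JA) (s : Set (C ⧸ JC)), ∃ n ∈ N, evalOneₐ JC n = y := by
      intro y hy
      induction hy using Submodule.span_induction with
      | mem y hy => exact ⟨lift y, Submodule.subset_span ⟨y, hy, rfl⟩, hlift y⟩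
      | zero => exact ⟨0, N.zero_mem, _root_.map_zero _⟩
      | add y z _ _ hy hz =>
        obtain ⟨n, hn, rfl⟩ := hy
        obtain ⟨m, hm, rfl⟩ := hz
        exact ⟨n + m, N.add_mem hn hm, _root_.map_add _ _ _⟩
      | smul r y _ hy =>
        obtain ⟨n, hn, rfl⟩ := hy
        obtain ⟨r', hr'⟩ := evalOneₐ_surjective JA r
        refine ⟨r' • n, N.smul_mem r' hn, ?_⟩
        show evalOneₐ JC (φ r' * n) = r • evalOneₐ JC n
        rw [_root_.map_mul]
        have e2 : evalOneₐ JC (φ r') = φ₀ (evalOneₐ JA r') := RingHom.congr_fun hΦ r'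
        rw [e2, hr']
        rfl
    have hsup : N ⊔ 𝔞 • (⊤ : Submodule (AdicCompletion JA A) (AdicCompletion JC C)) = ⊤ := by
      rw [eq_top_iff]
      intro x _
      have hx : evalOneₐ JC x ∈ Submodule.span (A ⧸ JA) (s : Set (C ⧸ JC)) := by
        rw [hs]
        trivial
      obtain ⟨n, hn, hnx⟩ := key _ hx
      have hmem : x - n ∈ 𝔞 • (⊤ : Submodule (AdicCompletion JA A) (AdicCompletion JC C)) := by
        rw [Ideal.smul_top_eq_map, Submodule.restrictScalars_mem, hmap, ← hkerC, RingHom.mem_ker]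
        show evalOneₐ JC (x - n) = 0
        rw [_root_.map_sub, hnx, sub_self]
      have e3 : x = n + (x - n) := by ring
      rw [e3]
      exact Submodule.add_mem_sup hn hmem
    haveI := Groth.Agent.H5.CF.finite_adicCompletion 𝔞 N hN hsup
    exact Module.Finite.equiv (AdicCompletion.ofLinearEquiv 𝔞 (AdicCompletion JC C)).symm
  exact ⟨φ, hfin, hΦ⟩

end Groth.Agent.H8.SmLiftFin
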