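import Mathlib

/-!
# Smoothness of `A[t]/(t^e - s)` versus smoothness of `A/(s)`
-/

set_option autoImplicit false
universe u
open Function Polynomial

namespace Groth.Agent.H8.SmQ

/-- In a Noetherian ring all of whose local rings are domains, an irreducible element is a
nonzerodivisor. -/
theorem mem_nonZeroDivisors_of_irreducible {A : Type u} [CommRing A] [IsNoetherianRing A]
    (hdom : ∀ (p : Ideal A) [p.IsPrime], IsDomain (Localization.AtPrime p))
    (s : A) (hs : Irreducible s) : s ∈ nonZeroDivisors A := by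
  classical
  let I : Ideal A := LinearMap.ker (LinearMap.toSpanSingleton A A s)
  have hI : ∀ a, a ∈ I ↔ a * s = 0 := fun a => by
    simp [I, LinearMap.mem_ker, LinearMap.toSpanSingleton_apply]
  have hsum : I ⊔ Submodule.annihilator I = ⊤ := by
    by_contra hne
    obtain ⟨p, hp, hle⟩ := Ideal.exists_le_maximal _ hne
    haveI := hp.isPrime
    haveI := hdom p
    have hIp : I ≤ p := le_sup_left.trans hle
    have hAp : Submodule.annihilator I ≤ p := le_sup_right.trans hle
    by_cases hs0 : algebraMap A (Localization.AtPrime p) s = 0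
    · obtain ⟨u, hu⟩ := (IsLocalization.map_eq_zero_iff p.primeCompl _ s).1 hs0
      have : (u : A) ∈ I := (hI _).2 hu
      exact u.2 (hIp this)
    · obtain ⟨T, hT⟩ := (isNoetherianRing_iff_ideal_fg A).1 inferInstance I
      have key : ∀ a ∈ T, ∃ u : p.primeCompl, (u : A) * a = 0 := by
        intro a ha
        have haI : a ∈ I := hT ▸ Ideal.subset_span ha
        have h1 : algebraMap A (Localization.AtPrime p) a * algebraMap A _ s = 0 := by
          rw [← map_mul, (hI a).1 haI, map_zero]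
        have h2 : algebraMap A (Localization.AtPrime p) a = 0 :=
          (mul_eq_zero.1 h1).resolve_right hs0
        exact (IsLocalization.map_eq_zero_iff p.primeCompl _ a).1 h2
      choose! u hu using key
      let w : p.primeCompl := ∏ a ∈ T, u a
      have hw : (w : A) ∈ Submodule.annihilator I := by
        rw [← hT, Ideal.span, Submodule.mem_annihilator_span]
        rintro ⟨a, ha⟩
        have : (w : A) = (∏ b ∈ T.erase a, (u b : A)) * u a := by
          simp only [w, Submonoid.coe_finsetProd]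
          rw [← Finset.mul_prod_erase T _ ha, mul_comm]
        simp only [smul_eq_mul, this, mul_assoc, hu a ha, mul_zero]
      exact w.2 (hAp hw)
  obtain ⟨a, ha, b, hb, hab⟩ := Submodule.mem_sup.1 (hsum ▸ Submodule.mem_top : (1 : A) ∈ I ⊔ _)
  have hsb : s = b * s := by
    have h1 : (a + b) * s = s := by rw [hab, one_mul]
    rw [add_mul, (hI a).1 ha, zero_add] at h1
    exact h1.symm
  have hbu : IsUnit b := (hs.isUnit_or_isUnit hsb).resolve_right hs.not_isUnit
  rw [mem_nonZeroDivisors_iff_right]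
  intro z hz
  have hzI : z ∈ I := (hI z).2 hz
  have := (Submodule.mem_annihilator.1 hb) z hzI
  rw [smul_eq_mul] at this
  exact (hbu.mul_right_eq_zero).1 this

variable {k A : Type u} [CommRing k] [CommRing A] [Algebra k A]

/-- If `A ⧸ (s)` is formally smooth over `k` and `s` is a nonzerodivisor, there is a `k`-derivation
`A → A ⧸ (s)` taking the value `1` at `s`. -/
theorem exists_derivation_quotient (s : A) (hs : s ∈ nonZeroDivisors A)
    [Algebra.FormallySmooth k (A ⧸ Ideal.span {s})] :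
    ∃ D : Derivation k A (A ⧸ Ideal.span {s}), D s = 1 := by
  set I : Ideal A := Ideal.span {s} with hI
  set J : Ideal A := Ideal.span {s ^ 2} with hJ
  have hJI : J ≤ I := by
    rw [hJ, Ideal.span_singleton_le_iff_mem, hI, pow_two]
    exact Ideal.mul_mem_left _ _ (Ideal.subset_span rfl)
  let g : A ⧸ J →ₐ[k] A ⧸ I := Ideal.Quotient.factorₐ k hJI
  have hg : Surjective g := Ideal.Quotient.factor_surjective hJI
  have hker : ∀ x : A ⧸ J, g x = 0 → ∃ c : A, x = Ideal.Quotient.mk J (c * s) := by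
    intro x hx
    obtain ⟨a, rfl⟩ := Ideal.Quotient.mk_surjective x
    have : Ideal.Quotient.mk I a = 0 := hx
    rw [Ideal.Quotient.eq_zero_iff_mem, hI, Ideal.mem_span_singleton'] at this
    obtain ⟨c, hc⟩ := this
    exact ⟨c, by rw [hc]⟩
  have hsq : ∀ c c' : A, Ideal.Quotient.mk J (c * s) * Ideal.Quotient.mk J (c' * s) = 0 := by
    intro c c'
    rw [← map_mul, Ideal.Quotient.eq_zero_iff_mem, hJ, Ideal.mem_span_singleton']
    exact ⟨c * c', by ring⟩
  have hnil : IsNilpotent (RingHom.ker (g : A ⧸ J →+* A ⧸ I)) := by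
    refine ⟨2, ?_⟩
    rw [Ideal.zero_eq_bot, eq_bot_iff, pow_two, Ideal.mul_le]
    intro x hx y hy
    obtain ⟨c, rfl⟩ := hker x hx
    obtain ⟨c', rfl⟩ := hker y hy
    rw [hsq]; exact Ideal.zero_mem _
  let σ : A ⧸ I →ₐ[k] A ⧸ J :=
    Algebra.FormallySmooth.liftOfSurjective (AlgHom.id k (A ⧸ I)) g hg hnil
  have hσ : ∀ x, g (σ x) = x := fun x =>
    Algebra.FormallySmooth.liftOfSurjective_apply (AlgHom.id k (A ⧸ I)) g hg hnil x
  -- `θ : A/I → A/J`, `[c] ↦ [c s]`
  let θ : (A ⧸ I) →ₗ[A] (A ⧸ J) :=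
    Submodule.liftQ I ((Submodule.mkQ J) ∘ₗ (LinearMap.toSpanSingleton A A s)) (by
      intro c hc
      rw [hI, Ideal.mem_span_singleton'] at hc
      obtain ⟨c', rfl⟩ := hc
      rw [LinearMap.mem_ker, LinearMap.comp_apply, LinearMap.toSpanSingleton_apply,
        Submodule.mkQ_apply]
      change Ideal.Quotient.mk J _ = 0
      rw [Ideal.Quotient.eq_zero_iff_mem, hJ, Ideal.mem_span_singleton']
      exact ⟨c', by rw [smul_eq_mul]; ring⟩)
  have hθ : ∀ c : A, θ (Ideal.Quotient.mk I c) = Ideal.Quotient.mk J (c * s) := fun c => rfl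
  have hθinj : Injective θ := by
    rw [← LinearMap.ker_eq_bot, eq_bot_iff]
    intro x hx
    obtain ⟨c, rfl⟩ := Ideal.Quotient.mk_surjective x
    rw [LinearMap.mem_ker, hθ, Ideal.Quotient.eq_zero_iff_mem, hJ, Ideal.mem_span_singleton'] at hx
    obtain ⟨d, hd⟩ := hx
    have : (d * s - c) * s = 0 := by rw [sub_mul, ← hd]; ring
    have h0 := (mem_nonZeroDivisors_iff_right.1 hs) _ this
    rw [Submodule.mem_bot, Ideal.Quotient.eq_zero_iff_mem, hI, Ideal.mem_span_singleton']
    exact ⟨d, by rw [sub_eq_zero] at h0; exact h0⟩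
  -- `D₀ a = [a] - σ [a]`
  let D₀ : A →ₗ[k] A ⧸ J :=
    (Ideal.Quotient.mkₐ k J).toLinearMap - σ.toLinearMap ∘ₗ (Ideal.Quotient.mkₐ k I).toLinearMap
  have hD₀ : ∀ a, D₀ a = Ideal.Quotient.mk J a - σ (Ideal.Quotient.mk I a) := fun a => rfl
  have hD₀ker : ∀ a, ∃ c : A, D₀ a = θ (Ideal.Quotient.mk I c) := by
    intro a
    obtain ⟨c, hc⟩ := hker (D₀ a) (by
      rw [hD₀, map_sub, hσ]
      exact sub_self _)
    exact ⟨c, hc⟩
  choose c hc using hD₀ker
  -- the derivation
  have hadd : ∀ a b, Ideal.Quotient.mk I (c (a + b)) =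
      Ideal.Quotient.mk I (c a) + Ideal.Quotient.mk I (c b) := by
    intro a b
    apply hθinj
    rw [map_add, ← hc, ← hc, ← hc, map_add]
  have hsmul : ∀ (r : k) a, Ideal.Quotient.mk I (c (r • a)) = r • Ideal.Quotient.mk I (c a) := by
    intro r a
    apply hθinj
    rw [← hc, map_smul, LinearMap.map_smul_of_tower, ← hc]
  have hprod : ∀ a b, D₀ a * D₀ b = 0 := by
    intro a b
    rw [hc a, hc b, hθ, hθ, hsq]
  have hleib : ∀ a b, D₀ (a * b) = a • D₀ b + b • D₀ a := by
    intro a b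
    have h1 : D₀ (a * b) - (a • D₀ b + b • D₀ a) = - (D₀ a * D₀ b) := by
      simp only [hD₀, Algebra.smul_def, Ideal.Quotient.algebraMap_eq, map_mul]
      ring
    rw [hprod, neg_zero, sub_eq_zero] at h1
    exact h1
  let D₁ : A →ₗ[k] A ⧸ I :=
    { toFun := fun a => Ideal.Quotient.mk I (c a)
      map_add' := hadd
      map_smul' := hsmul }
  refine ⟨Derivation.mk' D₁ ?_, ?_⟩
  · intro a b
    apply hθinj
    change θ (Ideal.Quotient.mk I (c (a * b))) =
      θ (a • Ideal.Quotient.mk I (c b) + b • Ideal.Quotient.mk I (c a))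
    rw [map_add, map_smul, map_smul, ← hc, ← hc, ← hc, hleib]
  · change Ideal.Quotient.mk I (c s) = 1
    apply hθinj
    rw [← hc, hD₀, ← map_one (Ideal.Quotient.mk I), hθ, one_mul]
    have : Ideal.Quotient.mk I s = 0 := by
      rw [Ideal.Quotient.eq_zero_iff_mem, hI]; exact Ideal.subset_span rfl
    rw [this, map_zero, sub_zero]

theorem exists_derivation_self [Algebra.FormallySmooth k A] (s : A) (hs : s ∈ nonZeroDivisors A)
    [Algebra.FormallySmooth k (A ⧸ Ideal.span {s})] :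
    ∃ (D : Derivation k A A) (a : A), D s + a * s = 1 := by
  obtain ⟨D₁, hD₁⟩ := exists_derivation_quotient (k := k) s hs
  obtain ⟨h, hh⟩ := Module.projective_lifting_property (Submodule.mkQ (Ideal.span {s}))
    D₁.liftKaehlerDifferential (Submodule.mkQ_surjective _)
  let D : Derivation k A A := h.compDer (KaehlerDifferential.D k A)
  have h1 : Ideal.Quotient.mk (Ideal.span {s}) (D s) = 1 := by
    have := congrArg (fun f => f (KaehlerDifferential.D k A s)) hh
    simp only [LinearMap.comp_apply, Derivation.liftKaehlerDifferential_comp_D] at this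
    rw [hD₁] at this
    exact this
  have h2 : D s - 1 ∈ Ideal.span {s} := by
    rw [← Ideal.Quotient.eq_zero_iff_mem, map_sub, h1, map_one, sub_self]
  obtain ⟨a', ha'⟩ := Ideal.mem_span_singleton'.1 h2
  exact ⟨D, -a', by rw [neg_mul, ha']; ring⟩

theorem add_pow_succ_of_sq_eq_zero {C : Type*} [CommRing C] (x n : C) (hn : n * n = 0) (m : ℕ) :
    (x + n) ^ (m + 1) = x ^ (m + 1) + (m + 1 : ℕ) * x ^ m * n := by
  induction m with
  | zero => simp
  | succ m ih =>
    rw [pow_succ, ih]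
    have : (x ^ (m + 1) + (m + 1 : ℕ) * x ^ m * n) * (x + n) =
        x ^ (m + 1 + 1) + ((m + 1 : ℕ) + 1) * x ^ (m + 1) * n + (m + 1 : ℕ) * x ^ m * (n * n) := by
      ring
    rw [this, hn, mul_zero, add_zero]
    push_cast
    ring

theorem formallySmooth_adjoinRoot [Algebra.FormallySmooth k A] (s : A) (m : ℕ)
    (u : k) (hu : ((m + 1 : ℕ) : k) * u = 1)
    (D : Derivation k A A) (a : A) (hD : D s + a * s = 1) :
    Algebra.FormallySmooth k (AdjoinRoot (X ^ (m + 1) - C s : A[X])) := by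
  set F : A[X] := X ^ (m + 1) - C s with hF
  refine Algebra.FormallySmooth.of_comp_surjective fun E _ _ N hN g => ?_
  have hroot : (AdjoinRoot.root F) ^ (m + 1) = AdjoinRoot.of F s := by
    have := AdjoinRoot.eval₂_root F
    rw [hF, eval₂_sub, eval₂_pow, eval₂_X, eval₂_C, sub_eq_zero] at this
    exact this
  let ι : A →ₐ[k] AdjoinRoot F := AdjoinRoot.ofAlgHom k F
  let hA : A →ₐ[k] E := Algebra.FormallySmooth.lift N ⟨2, hN⟩ (g.comp ι)
  have hhA : ∀ x, Ideal.Quotient.mk N (hA x) = g (AdjoinRoot.of F x) := fun x =>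
    Algebra.FormallySmooth.mk_lift N ⟨2, hN⟩ (g.comp ι) x
  obtain ⟨τ₀, hτ₀⟩ := Ideal.Quotient.mk_surjective (g (AdjoinRoot.root F))
  set ν : E := τ₀ ^ (m + 1) - hA s with hν
  have hνN : ν ∈ N := by
    rw [← Ideal.Quotient.eq_zero_iff_mem, hν, map_sub, map_pow, hτ₀, hhA, ← map_pow, hroot,
      sub_self]
  have hν2 : ν * ν = 0 := by
    have : ν * ν ∈ N ^ 2 := by rw [pow_two]; exact Ideal.mul_mem_mul hνN hνN
    rwa [hN, Ideal.mem_bot] at this
  -- corrected map on `A`
  let L : A →ₗ[k] E := hA.toLinearMap + (LinearMap.mulLeft k ν) ∘ₗ hA.toLinearMap ∘ₗ (D : A →ₗ[k] A)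
  have hL : ∀ x, L x = hA x + ν * hA (D x) := fun x => rfl
  let h' : A →ₐ[k] E := AlgHom.ofLinearMap L (by
      rw [hL, Derivation.map_one_eq_zero, map_zero, mul_zero, add_zero, map_one]) (by
      intro x y
      rw [hL, hL, hL, Derivation.leibniz, map_mul, map_add, smul_eq_mul, smul_eq_mul, map_mul,
        map_mul]
      have : (hA x + ν * hA (D x)) * (hA y + ν * hA (D y)) =
          hA x * hA y + ν * (hA x * hA (D y) + hA y * hA (D x)) +
            (ν * ν) * (hA (D x) * hA (D y)) := by ring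
      rw [this, hν2, zero_mul, add_zero])
  have hh' : ∀ x, h' x = hA x + ν * hA (D x) := fun x => rfl
  let ε : E := algebraMap k E u
  have hε : ((m + 1 : ℕ) : E) * ε = 1 := by
    have := congrArg (algebraMap k E) hu
    rwa [map_mul, map_natCast, map_one] at this
  set n : E := -(ν * ε * hA a * τ₀) with hn
  have hn2 : n * n = 0 := by
    rw [hn]
    have : -(ν * ε * hA a * τ₀) * -(ν * ε * hA a * τ₀) = (ν * ν) * (ε * hA a * τ₀) ^ 2 := by ring
    rw [this, hν2, zero_mul]
  have hτ0pow : τ₀ ^ (m + 1) = hA s + ν := by rw [hν]; ring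
  have hkey : (τ₀ + n) ^ (m + 1) = h' s := by
    rw [add_pow_succ_of_sq_eq_zero _ _ hn2, hh']
    have hDs : D s = 1 - a * s := by rw [← hD]; ring
    rw [hDs, map_sub, map_one, map_mul]
    have h1 : ((m + 1 : ℕ) : E) * τ₀ ^ m * n = -(((m + 1 : ℕ) : E) * ε) * (ν * hA a * τ₀ ^ (m + 1)) := by
      rw [hn, pow_succ]; ring
    rw [h1, hε, hτ0pow]
    have : -(1 : E) * (ν * hA a * (hA s + ν)) = -(ν * hA a * hA s) - (ν * ν) * hA a := by ring
    rw [this, hν2]
    ring
  have heval : F.eval₂ (h' : A →+* E) (τ₀ + n) = 0 := by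
    rw [hF, eval₂_sub, eval₂_pow, eval₂_X, eval₂_C, hkey]
    exact sub_self _
  refine ⟨AdjoinRoot.liftAlgHom F h' (τ₀ + n) heval, ?_⟩
  apply AdjoinRoot.algHom_ext'
  · ext x
    simp only [AlgHom.comp_apply, AdjoinRoot.coe_ofAlgHom, AdjoinRoot.liftAlgHom_of,
      Ideal.Quotient.mkₐ_eq_mk]
    rw [hh', map_add, hhA, map_mul, Ideal.Quotient.eq_zero_iff_mem.2 hνN, zero_mul, add_zero]
  · simp only [AlgHom.comp_apply, AdjoinRoot.liftAlgHom_root, Ideal.Quotient.mkₐ_eq_mk]
    rw [map_add, hτ₀]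
    have : n ∈ N := by
      rw [hn]
      exact N.neg_mem (by
        rw [mul_assoc, mul_assoc]; exact N.mul_mem_right _ hνN)
    rw [Ideal.Quotient.eq_zero_iff_mem.2 this, add_zero]

theorem formallySmooth_quotient_of_adjoinRoot (s : A) (m : ℕ)
    [Algebra.FormallySmooth k (AdjoinRoot (X ^ (m + 2) - C s : A[X]))] :
    Algebra.FormallySmooth k (A ⧸ Ideal.span {s}) := by
  set F : A[X] := X ^ (m + 2) - C s with hF
  refine Algebra.FormallySmooth.of_comp_surjective fun E _ _ N hN g => ?_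
  have hroot : (AdjoinRoot.root F) ^ (m + 2) = AdjoinRoot.of F s := by
    have := AdjoinRoot.eval₂_root F
    rw [hF, eval₂_sub, eval₂_pow, eval₂_X, eval₂_C, sub_eq_zero] at this
    exact this
  have hs0 : Ideal.Quotient.mk (Ideal.span {s}) s = 0 :=
    Ideal.Quotient.eq_zero_iff_mem.2 (Ideal.subset_span rfl)
  let q : AdjoinRoot F →ₐ[k] A ⧸ Ideal.span {s} :=
    AdjoinRoot.liftAlgHom F (Ideal.Quotient.mkₐ k (Ideal.span {s})) 0 (by
      rw [hF, eval₂_sub, eval₂_pow, eval₂_X, eval₂_C]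
      simp [hs0])
  let h : AdjoinRoot F →ₐ[k] E := Algebra.FormallySmooth.lift N ⟨2, hN⟩ (g.comp q)
  have hh : ∀ x, Ideal.Quotient.mk N (h x) = g (q x) := fun x =>
    Algebra.FormallySmooth.mk_lift N ⟨2, hN⟩ (g.comp q) x
  have hrN : h (AdjoinRoot.root F) ∈ N := by
    rw [← Ideal.Quotient.eq_zero_iff_mem, hh]
    have : q (AdjoinRoot.root F) = 0 := AdjoinRoot.liftAlgHom_root _ _ _ _
    rw [this, map_zero]
  have hr2 : h (AdjoinRoot.root F) * h (AdjoinRoot.root F) = 0 := by
    have : h (AdjoinRoot.root F) * h (AdjoinRoot.root F) ∈ N ^ 2 := by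
      rw [pow_two]; exact Ideal.mul_mem_mul hrN hrN
    rwa [hN, Ideal.mem_bot] at this
  have hs : h (AdjoinRoot.of F s) = 0 := by
    rw [← hroot, map_pow, add_comm, pow_add, pow_two, hr2, zero_mul]
  let ι : A →ₐ[k] AdjoinRoot F := AdjoinRoot.ofAlgHom k F
  let hbar : A ⧸ Ideal.span {s} →ₐ[k] E := Ideal.Quotient.liftₐ (Ideal.span {s}) (h.comp ι) (by
    intro a ha
    obtain ⟨c, rfl⟩ := Ideal.mem_span_singleton'.1 ha
    change h (AdjoinRoot.of F (c * s)) = 0
    rw [map_mul, map_mul, hs, mul_zero])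
  refine ⟨hbar, ?_⟩
  apply Ideal.Quotient.algHom_ext
  ext x
  simp only [AlgHom.comp_apply, Ideal.Quotient.mkₐ_eq_mk]
  change Ideal.Quotient.mk N (h (AdjoinRoot.of F x)) = g (Ideal.Quotient.mk _ x)
  rw [hh]
  congr 1
  exact AdjoinRoot.liftAlgHom_of _ _ _ _ _

end Groth.Agent.H8.SmQ
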