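import Mathlib
open CategoryTheory CategoryTheory.Limits AlgebraicGeometry IsLocalRing TensorProduct TopologicalSpace
universe u
namespace Groth.Agent.H8.SpecReflect

section Chart
variable {X Y : Scheme.{u}} (f : Y ⟶ X) {A B : Type u} [CommRing A] [CommRing B] [Algebra A B]
  (jU : Spec (CommRingCat.of A) ⟶ X) (jW : Spec (CommRingCat.of B) ⟶ Y)
  (e : Spec.map (CommRingCat.ofHom (algebraMap A B)) ≫ jU = jW ≫ f)

/-- The morphism `Spec C ⟶ Spec A ⟶ X`. -/
noncomputable def gC (C : Type u) [CommRing C] [Algebra A C] : Spec (CommRingCat.of C) ⟶ X :=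
  Spec.map (CommRingCat.ofHom (algebraMap A C)) ≫ jU

/-- The affine chart `Spec (B ⊗ C) ⟶ Y ×_X Spec C`. -/
noncomputable def chart (C : Type u) [CommRing C] [Algebra A C] :
    Spec (CommRingCat.of (B ⊗[A] C)) ⟶ pullback f (gC jU C) :=
  (pullbackSpecIso A B C).inv ≫ pullback.map _ _ f (gC jU C) jW (𝟙 _) jU e (by simp [gC])

@[reassoc]
lemma chart_fst (C : Type u) [CommRing C] [Algebra A C] :
    chart f jU jW e C ≫ pullback.fst f (gC jU C) =
      Spec.map (CommRingCat.ofHom Algebra.TensorProduct.includeLeftRingHom) ≫ jW := by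
  rw [chart, Category.assoc, pullback.lift_fst, pullbackSpecIso_inv_fst_assoc]

@[reassoc]
lemma chart_snd (C : Type u) [CommRing C] [Algebra A C] :
    chart f jU jW e C ≫ pullback.snd f (gC jU C) =
      Spec.map (CommRingCat.ofHom (Algebra.TensorProduct.includeRight (R := A) (A := B) (B := C)).toRingHom) := by
  rw [chart, Category.assoc, pullback.lift_snd, pullbackSpecIso_inv_snd_assoc, Category.comp_id]
  rfl

instance (C : Type u) [CommRing C] [Algebra A C] [IsOpenImmersion jW] [Mono jU] :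
    IsOpenImmersion (chart f jU jW e C) := by
  unfold chart
  infer_instance

lemma range_chart (C : Type u) [CommRing C] [Algebra A C] [Mono jU] :
    Set.range (chart f jU jW e C) = pullback.fst f (gC jU C) ⁻¹' Set.range jW := by
  unfold chart
  rw [Scheme.Hom.comp_base, TopCat.coe_comp, Set.range_comp,
    Set.range_eq_univ.2 (pullbackSpecIso A B C).inv.surjective, Set.image_univ,
    Scheme.Pullback.range_map]
  simp

/-- Transition maps. -/
noncomputable def trans {C C' : Type u} [CommRing C] [Algebra A C] [CommRing C'] [Algebra A C']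
    (θ : C →ₐ[A] C') : pullback f (gC jU C') ⟶ pullback f (gC jU C) :=
  pullback.map f (gC jU C') f (gC jU C) (𝟙 Y) (Spec.map (CommRingCat.ofHom θ.toRingHom)) (𝟙 X)
    (by simp) (by
      simp only [gC, Category.comp_id]
      rw [← Spec.map_comp_assoc]
      congr 2
      ext a
      simp)

@[reassoc]
lemma trans_fst {C C' : Type u} [CommRing C] [Algebra A C] [CommRing C'] [Algebra A C']
    (θ : C →ₐ[A] C') : trans f jU θ ≫ pullback.fst f (gC jU C) = pullback.fst f (gC jU C') := by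
  rw [trans, pullback.lift_fst, Category.comp_id]

@[reassoc]
lemma trans_snd {C C' : Type u} [CommRing C] [Algebra A C] [CommRing C'] [Algebra A C']
    (θ : C →ₐ[A] C') : trans f jU θ ≫ pullback.snd f (gC jU C) =
      pullback.snd f (gC jU C') ≫ Spec.map (CommRingCat.ofHom θ.toRingHom) := by
  rw [trans, pullback.lift_snd]

lemma chart_trans {C C' : Type u} [CommRing C] [Algebra A C] [CommRing C'] [Algebra A C']
    (θ : C →ₐ[A] C') :
    chart f jU jW e C' ≫ trans f jU θ =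
      Spec.map (CommRingCat.ofHom (Algebra.TensorProduct.map (AlgHom.id A B) θ).toRingHom) ≫
        chart f jU jW e C := by
  apply pullback.hom_ext
  · rw [Category.assoc, trans_fst, chart_fst, Category.assoc, chart_fst, ← Spec.map_comp_assoc]
    congr 2
    ext b
    simp
  · rw [Category.assoc, trans_snd, chart_snd_assoc, Category.assoc, chart_snd, ← Spec.map_comp,
      ← Spec.map_comp]
    congr 1

end Chart

theorem exists_fg_subalgebra_mem_range {A B A' : Type u} [CommRing A] [CommRing B] [CommRing A']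
    [Algebra A B] [Algebra A A'] (b : B ⊗[A] A') :
    ∃ S : Subalgebra A A', S.FG ∧
      ∃ c : B ⊗[A] S, Algebra.TensorProduct.map (AlgHom.id A B) S.val c = b := by
  have mono : ∀ {S T : Subalgebra A A'} (h : S ≤ T) (c : B ⊗[A] S),
      ∃ c' : B ⊗[A] T, Algebra.TensorProduct.map (AlgHom.id A B) T.val c' =
        Algebra.TensorProduct.map (AlgHom.id A B) S.val c := by
    intro S T h c
    refine ⟨Algebra.TensorProduct.map (AlgHom.id A B) (Subalgebra.inclusion h) c, ?_⟩
    have h1 : (Algebra.TensorProduct.map (AlgHom.id A B) T.val).comp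
        (Algebra.TensorProduct.map (AlgHom.id A B) (Subalgebra.inclusion h)) =
        Algebra.TensorProduct.map (AlgHom.id A B) S.val := by
      rw [← Algebra.TensorProduct.map_comp]
      rfl
    exact congr($h1 c)
  induction b using TensorProduct.induction_on with
  | zero => exact ⟨⊥, Subalgebra.fg_bot, 0, map_zero _⟩
  | tmul x y =>
    refine ⟨Algebra.adjoin A {y}, ?_, ?_⟩
    · have := Subalgebra.fg_adjoin_finset (R := A) ({y} : Finset A')
      simpa using this
    · exact ⟨x ⊗ₜ ⟨y, Algebra.subset_adjoin (Set.mem_singleton y)⟩, rfl⟩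
  | add x y hx hy =>
    obtain ⟨S, hS, cx, hxS⟩ := hx
    obtain ⟨T, hT, cy, hyT⟩ := hy
    obtain ⟨cx', hcx'⟩ := mono (le_sup_left : S ≤ S ⊔ T) cx
    obtain ⟨cy', hcy'⟩ := mono (le_sup_right : T ≤ S ⊔ T) cy
    exact ⟨S ⊔ T, hS.sup hT, cx' + cy', by rw [map_add, hcx', hcy', hxS, hyT]⟩

lemma mem_basicOpen_specMap {R S : Type u} [CommRing R] [CommRing S] (τ : R →+* S) (c : R)
    (z : Spec (CommRingCat.of S)) :
    Spec.map (CommRingCat.ofHom τ) z ∈ (PrimeSpectrum.basicOpen c : Set (PrimeSpectrum R)) ↔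
      z ∈ (PrimeSpectrum.basicOpen (τ c) : Set (PrimeSpectrum S)) := by
  rfl

theorem reflect_affine {X Y : Scheme.{u}} (f : Y ⟶ X)
    (h : ∀ (X' : Scheme.{u}) (g : X' ⟶ X) [LocallyOfFiniteType g] (y₀ y₁ : ↥(pullback f g)),
      (pullback.snd f g).base y₁ ⤳ (pullback.snd f g).base y₀ → y₁ ⤳ y₀)
    {A A' : Type u} [CommRing A] [CommRing A'] [Algebra A A']
    (jU : Spec (CommRingCat.of A) ⟶ X) [IsOpenImmersion jU]
    (y₀ y₁ : ↥(pullback f (gC jU A')))
    (hs : (pullback.snd f (gC jU A')).base y₁ ⤳ (pullback.snd f (gC jU A')).base y₀) :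
    y₁ ⤳ y₀ := by
  rw [specializes_iff_forall_open]
  intro O hO hy₀
  have hfy₀ : pullback.fst f (gC jU A') y₀ ∈ f ⁻¹ᵁ jU.opensRange := by
    change f (pullback.fst f (gC jU A') y₀) ∈ Set.range jU
    rw [← Scheme.Hom.comp_apply, pullback.condition]
    exact ⟨Spec.map (CommRingCat.ofHom (algebraMap A A')) (pullback.snd f (gC jU A') y₀), rfl⟩
  obtain ⟨W, hW, hmem, hle⟩ := exists_isAffineOpen_mem_and_subset hfy₀
  let jW : Spec (CommRingCat.of Γ(Y, W)) ⟶ Y := hW.fromSpec
  have hjWr : Set.range jW = (W : Set Y) := hW.range_fromSpec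
  have : IsOpenImmersion jW := inferInstanceAs (IsOpenImmersion hW.fromSpec)
  let t : Spec (CommRingCat.of Γ(Y, W)) ⟶ Spec (CommRingCat.of A) :=
    IsOpenImmersion.lift jU (jW ≫ f) (by
      rintro _ ⟨a, rfl⟩
      rw [Scheme.Hom.comp_apply]
      exact hle (hjWr ▸ ⟨a, rfl⟩ : jW a ∈ (W : Set Y)))
  have ht : t ≫ jU = jW ≫ f := IsOpenImmersion.lift_fac _ _ _
  let β : CommRingCat.of A ⟶ CommRingCat.of Γ(Y, W) := Spec.preimage t
  have hβ : Spec.map β = t := Spec.map_preimage t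
  let _ : Algebra A Γ(Y, W) := β.hom.toAlgebra
  have e : Spec.map (CommRingCat.ofHom (algebraMap A Γ(Y, W))) ≫ jU = jW ≫ f := by
    rw [← ht, ← hβ]
    rfl
  let k := chart f jU jW e A'
  have hy₀W : y₀ ∈ Set.range k := by
    rw [range_chart]
    change pullback.fst f (gC jU A') y₀ ∈ Set.range jW
    rw [hjWr]; exact hmem
  obtain ⟨z₀, hz₀⟩ := hy₀W
  have hO' : IsOpen (k ⁻¹' O) := hO.preimage k.continuous
  obtain ⟨_, ⟨b, rfl⟩, hzb, hbO⟩ :=
    PrimeSpectrum.isTopologicalBasis_basic_opens.exists_subset_of_mem_open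
      (show z₀ ∈ k ⁻¹' O from by rw [Set.mem_preimage, hz₀]; exact hy₀) hO'
  obtain ⟨S, hS, c, hc⟩ := exists_fg_subalgebra_mem_range b
  have hLOFT : LocallyOfFiniteType (gC jU S) := by
    have h1 : LocallyOfFiniteType (Spec.map (CommRingCat.ofHom (algebraMap A S))) := by
      rw [HasRingHomProperty.Spec_iff (P := @LocallyOfFiniteType)]
      have : Algebra.FiniteType A S := (Subalgebra.fg_iff_finiteType S).1 hS
      exact (RingHom.finiteType_algebraMap (A := A) (B := S)).2 this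
    unfold gC
    infer_instance
  let ψ := trans f jU S.val
  let kS := chart f jU jW e S
  let τ := (Algebra.TensorProduct.map (AlgHom.id A Γ(Y, W)) S.val).toRingHom
  have hkψ : k ≫ ψ = Spec.map (CommRingCat.ofHom τ) ≫ kS := chart_trans f jU jW e S.val
  have hψ : ψ y₁ ⤳ ψ y₀ := by
    apply h _ (gC jU S)
    change (ψ ≫ pullback.snd f (gC jU S)) y₁ ⤳ (ψ ≫ pullback.snd f (gC jU S)) y₀
    rw [trans_snd]
    exact hs.map (Spec.map (CommRingCat.ofHom S.val.toRingHom)).continuous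
  have h1 : ψ y₀ = kS (Spec.map (CommRingCat.ofHom τ) z₀) := by
    rw [← hz₀, ← Scheme.Hom.comp_apply, hkψ, Scheme.Hom.comp_apply]
  have h2 : Spec.map (CommRingCat.ofHom τ) z₀ ∈
      (PrimeSpectrum.basicOpen c : Set (PrimeSpectrum (Γ(Y, W) ⊗[A] S))) := by
    rw [mem_basicOpen_specMap]
    have : τ c = b := hc
    rw [this]; exact hzb
  have hOS : IsOpen (kS '' (PrimeSpectrum.basicOpen c : Set (PrimeSpectrum (Γ(Y, W) ⊗[A] S)))) :=
    kS.isOpenEmbedding.isOpenMap _ (PrimeSpectrum.basicOpen c).isOpen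
  have h3 : ψ y₁ ∈ kS '' (PrimeSpectrum.basicOpen c : Set (PrimeSpectrum (Γ(Y, W) ⊗[A] S))) :=
    hψ.mem_open hOS ⟨_, h2, h1.symm⟩
  obtain ⟨w, hw, hw'⟩ := h3
  have hy₁W : y₁ ∈ Set.range k := by
    rw [range_chart]
    change pullback.fst f (gC jU A') y₁ ∈ Set.range jW
    have h4 : pullback.fst f (gC jU A') y₁ = pullback.fst f (gC jU S) (ψ y₁) := by
      rw [← Scheme.Hom.comp_apply, trans_fst]
    rw [h4, ← hw', ← Scheme.Hom.comp_apply, chart_fst, Scheme.Hom.comp_apply]
    exact ⟨_, rfl⟩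
  obtain ⟨z₁, hz₁⟩ := hy₁W
  have h4 : kS (Spec.map (CommRingCat.ofHom τ) z₁) = kS w := by
    rw [hw', ← hz₁, ← Scheme.Hom.comp_apply, ← Scheme.Hom.comp_apply, hkψ]
  have h5 := kS.isOpenEmbedding.injective h4
  have h6 : z₁ ∈ (PrimeSpectrum.basicOpen b : Set (PrimeSpectrum (Γ(Y, W) ⊗[A] A'))) := by
    have : τ c = b := hc
    rw [← this, ← mem_basicOpen_specMap, h5]
    exact hw
  rw [← hz₁]
  exact hbO h6

theorem reflect_of_locallyOfFiniteType {X Y : Scheme.{u}} (f : Y ⟶ X)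
    (h : ∀ (X' : Scheme.{u}) (g : X' ⟶ X) [LocallyOfFiniteType g] (y₀ y₁ : ↥(pullback f g)),
      (pullback.snd f g).base y₁ ⤳ (pullback.snd f g).base y₀ → y₁ ⤳ y₀)
    (X' : Scheme.{u}) (g : X' ⟶ X) (y₀ y₁ : ↥(pullback f g))
    (hs : (pullback.snd f g).base y₁ ⤳ (pullback.snd f g).base y₀) : y₁ ⤳ y₀ := by
  obtain ⟨U, hU, hxU, -⟩ := exists_isAffineOpen_mem_and_subset
    (x := g (pullback.snd f g y₀)) (U := ⊤) trivial
  obtain ⟨U', hU', hxU', hle⟩ := exists_isAffineOpen_mem_and_subset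
    (x := pullback.snd f g y₀) (U := g ⁻¹ᵁ U) hxU
  let jU : Spec (CommRingCat.of Γ(X, U)) ⟶ X := hU.fromSpec
  let jU' : Spec (CommRingCat.of Γ(X', U')) ⟶ X' := hU'.fromSpec
  have : IsOpenImmersion jU := inferInstanceAs (IsOpenImmersion hU.fromSpec)
  have : IsOpenImmersion jU' := inferInstanceAs (IsOpenImmersion hU'.fromSpec)
  have hjU'r : Set.range jU' = (U' : Set X') := hU'.range_fromSpec
  let φ : Γ(X, U) ⟶ Γ(X', U') := g.appLE U U' hle
  let _ : Algebra Γ(X, U) Γ(X', U') := φ.hom.toAlgebra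
  have e : gC jU Γ(X', U') = jU' ≫ g := hU.SpecMap_appLE_fromSpec g hU' hle
  let ι : pullback f (gC jU Γ(X', U')) ⟶ pullback f g :=
    pullback.map f (gC jU Γ(X', U')) f g (𝟙 Y) jU' (𝟙 X) (by simp) (by rw [Category.comp_id, e])
  have hιsnd : ι ≫ pullback.snd f g = pullback.snd f (gC jU Γ(X', U')) ≫ jU' :=
    pullback.lift_snd _ _ _
  have hιr : Set.range ι = pullback.snd f g ⁻¹' (U' : Set X') := by
    rw [Scheme.Pullback.range_map, ← hjU'r]
    simp
  have hy₀ : y₀ ∈ Set.range ι := by rw [hιr]; exact hxU'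
  have hy₁ : y₁ ∈ Set.range ι := by rw [hιr]; exact hs.mem_open U'.isOpen hxU'
  obtain ⟨z₀, rfl⟩ := hy₀
  obtain ⟨z₁, rfl⟩ := hy₁
  have hs' : (pullback.snd f (gC jU Γ(X', U'))).base z₁ ⤳
      (pullback.snd f (gC jU Γ(X', U'))).base z₀ := by
    rw [← jU'.isOpenEmbedding.isInducing.specializes_iff]
    change (pullback.snd f (gC jU Γ(X', U')) ≫ jU') z₁ ⤳ (pullback.snd f (gC jU Γ(X', U')) ≫ jU') z₀
    rw [← hιsnd]
    exact hs
  exact (reflect_affine f h jU z₀ z₁ hs').map ι.continuous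

end Groth.Agent.H8.SpecReflect
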