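import Mathlib
import Groth.Prelude
import Groth.Agent.Lib.Helper8.TFunArtin

/-! Helper8: `T_n(M)` is finite for finite `M` (bounded below flat complex with finite homology over a
Noetherian ring). -/

set_option autoImplicit false
universe u

open CategoryTheory CategoryTheory.Limits TensorProduct

namespace Groth.Agent.H8.TFun

variable {A : Type u} [CommRing A]

theorem finite_of_exact_of_finite [IsNoetherianRing A] {X Y Z : Type u} [AddCommGroup X]
    [Module A X] [AddCommGroup Y] [Module A Y] [AddCommGroup Z] [Module A Z] {f : X →ₗ[A] Y}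
    {g : Y →ₗ[A] Z} (h : Function.Exact f g) [Module.Finite A X] [Module.Finite A Z] :
    Module.Finite A Y := by
  haveI : IsNoetherian A Z := isNoetherian_of_isNoetherianRing_of_finite A Z
  haveI : Module.Finite A (LinearMap.range g) := inferInstance
  haveI : Module.Finite A (LinearMap.ker g) := by
    rw [LinearMap.exact_iff.mp h]
    exact Module.Finite.range f
  haveI : Module.Finite A (Y ⧸ LinearMap.ker g) := Module.Finite.equiv g.quotKerEquivRange.symm
  exact Module.Finite.of_submodule_quotient (LinearMap.ker g)

variable (P : ChainComplex (ModuleCat.{u} A) ℤ)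

lemma isZero_TFun_obj_of_isZero (n : ℤ) (hz : IsZero (P.X n)) (M : ModuleCat.{u} A) :
    IsZero ((CohIII.TFun P n).obj M) := by
  rw [isZero_TFun_obj_iff P M (n + 1) n (n - 1) (by simp) (by simp)]
  intro z _
  haveI : Subsingleton (P.X n) := ModuleCat.subsingleton_of_isZero hz
  have : Subsingleton (P.X n ⊗[A] M) := inferInstance
  rw [Subsingleton.elim z 0]
  exact Submodule.zero_mem _

theorem finite_TFun_obj [IsNoetherianRing A] (hP : ∀ i, Module.Flat A (P.X i)) (i₀ : ℤ)
    (hb : ∀ i < i₀, IsZero (P.X i))
    (hfg : ∀ n : ℤ, Module.Finite A (CohIII.T P n (ModuleCat.of A A))) :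
    ∀ k : ℕ, ∀ n : ℤ, n < i₀ + k → ∀ (M : Type u) [AddCommGroup M] [Module A M]
      [Module.Finite A M], Module.Finite A ((CohIII.TFun P n).obj (ModuleCat.of A M)) := by
  intro k
  induction k with
  | zero =>
    intro n hn M _ _ _
    have hz := isZero_TFun_obj_of_isZero P n (hb n (by simpa using hn)) (ModuleCat.of A M)
    haveI := ModuleCat.subsingleton_of_isZero hz
    infer_instance
  | succ k ih =>
    intro n hn M _ _ hM
    by_cases hn' : n < i₀ + k
    · exact ih n hn' M
    have hne : n = i₀ + k := by push_cast at hn; omega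
    induction hM using IsNoetherianRing.induction_on_isQuotientEquivQuotientPrime A with
    | subsingleton N =>
      have hz := isZero_TFun_obj_of_subsingleton P (ModuleCat.of A N) n
      haveI := ModuleCat.subsingleton_of_isZero hz
      infer_instance
    | quotient N q e =>
      -- `0 → q → A → A/q → 0`
      have hex : Function.Exact q.asIdeal.subtype (Submodule.mkQ q.asIdeal) :=
        LinearMap.exact_subtype_mkQ _
      have hS := shortExact_of_linearMaps q.asIdeal.subtype (Submodule.mkQ q.asIdeal)
        (Submodule.injective_subtype _) (Submodule.mkQ_surjective _) hex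
      have hT := tensorSC_shortExact P hP _ hS
      have h3 := hT.homology_exact₃ n (n - 1) (by simp)
      rw [ShortComplex.ShortExact.moduleCat_exact_iff_function_exact] at h3
      have i1 : Module.Finite A ((CohIII.TFun P n).obj (ModuleCat.of A A)) := hfg n
      have i2 : Module.Finite A ((CohIII.TFun P (n - 1)).obj (ModuleCat.of A q.asIdeal)) :=
        ih (n - 1) (by omega) q.asIdeal
      have hfin : Module.Finite A ((CohIII.TFun P n).obj (ModuleCat.of A (A ⧸ q.asIdeal))) :=
        @finite_of_exact_of_finite A _ _ _ _ _ _ _ _ _ _ _ _ _ h3 i1 i2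
      exact Module.Finite.equiv ((CohIII.TFun P n).mapIso e.toModuleIso).toLinearEquiv.symm
    | exact N₁ N₂ N₃ f g hf hg hfg' h1 h3 =>
      have hS := shortExact_of_linearMaps f g hf hg hfg'
      have hmid := TFun_exact_middle P hP _ hS n
      exact @finite_of_exact_of_finite A _ _ _ _ _ _ _ _ _ _ _ _ _ hmid h1 h3

theorem finite_TFun_obj' [IsNoetherianRing A] (hP : ∀ i, Module.Flat A (P.X i)) (i₀ : ℤ)
    (hb : ∀ i < i₀, IsZero (P.X i))
    (hfg : ∀ n : ℤ, Module.Finite A (CohIII.T P n (ModuleCat.of A A))) (n : ℤ)
    (M : Type u) [AddCommGroup M] [Module A M] [Module.Finite A M] :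
    Module.Finite A ((CohIII.TFun P n).obj (ModuleCat.of A M)) :=
  finite_TFun_obj P hP i₀ hb hfg (n - i₀ + 1).toNat n (by omega) M

end Groth.Agent.H8.TFun
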