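import Groth.Agent.Lib.Helper8.TFunFlatHomology
import Groth.Agent.Lib.Helper8.TFunBC
import Groth.Agent.Lib.Helper8.DRankBC

/-!
# Generic exactness of `T_p` over a domain
-/

set_option autoImplicit false

universe u

open CategoryTheory CategoryTheory.Limits MonoidalCategory TensorProduct Function

namespace Groth.Agent.H8.TFun

section Tower

variable {A : Type u} [CommRing A]

/-- Flatness of `B ⊗ W` passes to any `B`-algebra. -/
lemma flat_tensor_of_tower (B B' : Type u) [CommRing B] [CommRing B'] [Algebra A B] [Algebra A B']
    [Algebra B B'] [IsScalarTower A B B'] (W : Type u) [AddCommGroup W] [Module A W]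
    [Module.Flat B (B ⊗[A] W)] : Module.Flat B' (B' ⊗[A] W) :=
  Module.Flat.of_linearEquiv (AlgebraTensorModule.cancelBaseChange A B B' B' W).symm

/-- Generic freeness of a finitely presented module over a domain. -/
lemma exists_ne_zero_flat_away [IsDomain A] (H : Type u) [AddCommGroup H] [Module A H]
    [Module.FinitePresentation A H] :
    ∃ g : A, g ≠ 0 ∧ Module.Flat (Localization.Away g) (Localization.Away g ⊗[A] H) := by
  obtain ⟨r, hr, hfree, -⟩ := Module.FinitePresentation.exists_free_localizedModule_powers
    (nonZeroDivisors A) (TensorProduct.mk A (FractionRing A) H 1) (FractionRing A)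
  refine ⟨r, nonZeroDivisors.ne_zero hr, ?_⟩
  have hbc := IsLocalizedModule.isBaseChange (Submonoid.powers r) (Localization.Away r)
    (LocalizedModule.mkLinearMap (Submonoid.powers r) H)
  exact Module.Flat.of_linearEquiv hbc.equiv

end Tower

section Step

variable {A : Type u} [CommRing A] (P : ChainComplex (ModuleCat.{u} A) ℤ)
  (B : Type u) [CommRing B] [Algebra A B]

open DRank ExtBridge in
/-- Over a flat `A`-algebra `B`: if `B ⊗ coker d_q` and `B ⊗ H_q(P)` are flat over `B`, so is
`B ⊗ coker d_{q+1}`. -/
lemma flat_tensor_coker_step [Module.Flat A B] (hP : ∀ i, Module.Flat A (P.X i)) (r q s : ℤ)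
    (hrq : q + 1 = r) (hqs : s + 1 = q)
    (h1 : Module.Flat B (B ⊗[A] (P.X s ⧸ LinearMap.range (P.d q s).hom)))
    (h2 : Module.Flat B (B ⊗[A] (P.homology q))) :
    Module.Flat B (B ⊗[A] (P.X q ⧸ LinearMap.range (P.d r q).hom)) := by
  have hP' : ∀ i, Module.Flat B ((CohIII.bcCx (algebraMap A B) P).X i) := fun i => by
    have := hP i
    exact flat_bcCx_X P i
  have hs := hP' s
  have h1' := (flat_coker_bcCx_iff (B := B) P q s).2 h1
  have hflat : (algebraMap A B).Flat := by
    rw [RingHom.flat_algebraMap_iff]
    infer_instance
  have h2' : Module.Flat B ((CohIII.bcCx (algebraMap A B) P).homology q) :=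
    Module.Flat.of_linearEquiv ((homologyBcIsoOfFlat (algebraMap A B) hflat P q).toLinearEquiv.trans
      (extEquiv (B := B) (P.homology q)))
  rw [← flat_coker_bcCx_iff (B := B) P r q]
  exact (flat_coker_iff_flat_homology' (CohIII.bcCx (algebraMap A B) P) r q s
    (by simp [← hrq]) (by simp [← hqs])).2 h2'

end Step

section Away

variable {A : Type u} [CommRing A]

lemma flat_away_mul_left (f g : A) (W : Type u) [AddCommGroup W] [Module A W]
    [Module.Flat (Localization.Away f) (Localization.Away f ⊗[A] W)] :
    Module.Flat (Localization.Away (f * g)) (Localization.Away (f * g) ⊗[A] W) := by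
  let _ : Algebra (Localization.Away f) (Localization.Away (f * g)) :=
    (IsLocalization.Away.awayToAwayRight (S := Localization.Away f)
      (P := Localization.Away (f * g)) f g).toAlgebra
  have : IsScalarTower A (Localization.Away f) (Localization.Away (f * g)) :=
    IsScalarTower.of_algebraMap_eq fun a =>
      (IsLocalization.Away.awayToAwayRight_eq (S := Localization.Away f)
        (P := Localization.Away (f * g)) f g a).symm
  exact flat_tensor_of_tower (Localization.Away f) (Localization.Away (f * g)) W

lemma flat_away_mul_right (f g : A) (W : Type u) [AddCommGroup W] [Module A W]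
    [Module.Flat (Localization.Away g) (Localization.Away g ⊗[A] W)] :
    Module.Flat (Localization.Away (f * g)) (Localization.Away (f * g) ⊗[A] W) := by
  let _ : Algebra (Localization.Away g) (Localization.Away (f * g)) :=
    (IsLocalization.Away.awayToAwayLeft (S := Localization.Away g)
      (P := Localization.Away (f * g)) g f).toAlgebra
  have : IsScalarTower A (Localization.Away g) (Localization.Away (f * g)) :=
    IsScalarTower.of_algebraMap_eq fun a =>
      (IsLocalization.Away.awayToAwayLeft_eq (S := Localization.Away g)
        (P := Localization.Away (f * g)) g f a).symm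
  exact flat_tensor_of_tower (Localization.Away g) (Localization.Away (f * g)) W

end Away

section Generic

variable {A : Type u} [CommRing A] [IsDomain A] (P : ChainComplex (ModuleCat.{u} A) ℤ)

/-- Generic flatness of the cokernels of a bounded below complex of flat modules with
finitely presented homology over a domain. -/
theorem exists_flat_coker_away (hP : ∀ i, Module.Flat A (P.X i)) (i₀ : ℤ)
    (hb : ∀ i < i₀, IsZero (P.X i))
    (hfp : ∀ n : ℤ, Module.FinitePresentation A (P.homology n)) (n : ℕ) :
    ∃ f : A, f ≠ 0 ∧ ∀ q : ℤ, q < i₀ + n →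
      Module.Flat (Localization.Away f)
        (Localization.Away f ⊗[A] (P.X q ⧸ LinearMap.range (P.d (q + 1) q).hom)) := by
  induction n with
  | zero =>
    refine ⟨1, one_ne_zero, fun q hq => ?_⟩
    have hz : IsZero (P.X q) := hb q (by simpa using hq)
    have : Subsingleton (P.X q) := ModuleCat.subsingleton_of_isZero hz
    infer_instance
  | succ n ih =>
    obtain ⟨f, hf, hflat⟩ := ih
    have := hfp (i₀ + n)
    obtain ⟨g, hg, hgflat⟩ := exists_ne_zero_flat_away (A := A) (P.homology (i₀ + n))
    refine ⟨f * g, mul_ne_zero hf hg, fun q hq => ?_⟩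
    by_cases hq' : q < i₀ + n
    · have := hflat q hq'
      exact flat_away_mul_left f g _
    · have hqe : q = i₀ + n := by push_cast at hq; omega
      subst hqe
      have h1 : Module.Flat (Localization.Away (f * g)) (Localization.Away (f * g) ⊗[A]
          (P.X (i₀ + n - 1) ⧸ LinearMap.range (P.d (i₀ + n) (i₀ + n - 1)).hom)) := by
        have h := hflat (i₀ + n - 1) (by omega)
        have e : i₀ + n - 1 + 1 = i₀ + n := by ring
        rw [e] at h
        exact flat_away_mul_left f g _
      have h2 : Module.Flat (Localization.Away (f * g))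
          (Localization.Away (f * g) ⊗[A] (P.homology (i₀ + n))) :=
        flat_away_mul_right f g _
      exact flat_tensor_coker_step P (Localization.Away (f * g)) hP (i₀ + n + 1) (i₀ + n)
        (i₀ + n - 1) rfl (by ring) h1 h2

end Generic

end Groth.Agent.H8.TFun
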