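import Mathlib
import Groth.Prelude
import Groth.Agent.Lib.Helper8.TFunFinite
import Groth.Agent.Lib.Helper8.TFunRestrict
import Groth.Agent.Lib.Helper8.TFunGeneric
import Groth.Agent.Lib.Helper8.TFunBC
import Groth.Agent.Lib.Helper8.DRankBC

/-! Helper8: S4487 -- generic local constancy of `d_p` over a Noetherian ring. -/

set_option autoImplicit false
universe u

open CategoryTheory CategoryTheory.Limits TensorProduct Topology

namespace Groth.Agent.H8.TFun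

open Groth.Agent.H8.DRank Groth.Agent.H8.ExtBridge

section Top

/-- local constancy transported along an inducing map. -/
theorem eventually_eq_of_isInducing {X Y : Type*} [TopologicalSpace X] [TopologicalSpace Y]
    {c : Y → X} (hc : IsInducing c) (d : X → ℕ) (h : IsLocallyConstant (d ∘ c))
    (W : Set X) (hW : IsOpen W) (hWc : W ⊆ Set.range c) (x : X) (hx : x ∈ W) :
    ∀ᶠ y in 𝓝 x, d y = d x := by
  obtain ⟨x', rfl⟩ := hWc hx
  have ho : IsOpen {y' | (d ∘ c) y' = (d ∘ c) x'} := h.isOpen_fiber _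
  obtain ⟨V, hV, hVeq⟩ := hc.isOpen_iff.mp ho
  have hxV : c x' ∈ V := by
    have : x' ∈ c ⁻¹' V := by rw [hVeq]; rfl
    exact this
  filter_upwards [(hV.inter hW).mem_nhds ⟨hxV, hx⟩] with y hy
  obtain ⟨y', rfl⟩ := hWc hy.2
  have : y' ∈ c ⁻¹' V := hy.1
  rw [hVeq] at this
  exact this

end Top

variable {A : Type u} [CommRing A]

/-- The statement of S4486 as a lemma. -/
theorem exists_exact_away [IsDomain A] (P : ChainComplex (ModuleCat.{u} A) ℤ)
    (hP : ∀ i, Module.Flat A (P.X i)) (i₀ : ℤ) (hb : ∀ i < i₀, IsZero (P.X i))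
    (hfp : ∀ n : ℤ, Module.FinitePresentation A (P.homology n)) (N : ℤ) :
    ∃ f : A, f ≠ 0 ∧ ∀ p ≤ N,
      (CohIII.TFun (CohIII.bcCx (algebraMap A (Localization.Away f)) P) p).PreservesMonomorphisms ∧
        (CohIII.TFun (CohIII.bcCx (algebraMap A (Localization.Away f)) P) p).PreservesEpimorphisms := by
  obtain ⟨f, hf, hflat⟩ := exists_flat_coker_away P hP i₀ hb hfp (N - i₀ + 1).toNat
  refine ⟨f, hf, fun p hp => ?_⟩
  have hn : ((N - i₀ + 1).toNat : ℤ) ≥ N - i₀ + 1 := Int.self_le_toNat _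
  have hP' : ∀ i, Module.Flat (Localization.Away f)
      ((CohIII.bcCx (algebraMap A (Localization.Away f)) P).X i) := fun i => by
    have := hP i
    exact flat_bcCx_X P i
  refine ⟨?_, ?_⟩
  · rw [preservesMono_iff_flat _ hP' (p + 1) p rfl, flat_coker_bcCx_iff]
    exact hflat p (by omega)
  · rw [preservesEpi_iff_flat _ hP' p (p - 1) (by ring), flat_coker_bcCx_iff]
    have h := hflat (p - 1) (by omega)
    have e : p - 1 + 1 = p := by ring
    rw [e] at h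
    exact h

/-- Over a Noetherian domain: `d_p` is locally constant on some nonempty basic open, `p ≤ N`. -/
theorem exists_locallyConstant_away [IsDomain A] [IsNoetherianRing A]
    (P : ChainComplex (ModuleCat.{u} A) ℤ)
    (hP : ∀ i, Module.Flat A (P.X i)) (i₀ : ℤ) (hb : ∀ i < i₀, IsZero (P.X i))
    (hfin : ∀ n : ℤ, Module.Finite A (P.homology n)) (N : ℤ) :
    ∃ f : A, f ≠ 0 ∧ ∀ p ≤ N,
      IsLocallyConstant (CohIII.dRank (CohIII.bcCx (algebraMap A (Localization.Away f)) P) p) := by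
  have hfp : ∀ n : ℤ, Module.FinitePresentation A (P.homology n) := fun n => by
    have := hfin n
    exact Module.finitePresentation_of_finite A _
  obtain ⟨f, hf, hex⟩ := exists_exact_away P hP i₀ hb hfp N
  refine ⟨f, hf, fun p hp => ?_⟩
  have hP' : ∀ i, Module.Flat (Localization.Away f)
      ((CohIII.bcCx (algebraMap A (Localization.Away f)) P).X i) := fun i => by
    have := hP i
    exact flat_bcCx_X P i
  haveI : IsNoetherianRing (Localization.Away f) :=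
    IsLocalization.isNoetherianRing (Submonoid.powers f) _ inferInstance
  refine dRank_isLocallyConstant_of_exact _ hP' p (hex p hp) ?_
  have hflat : (algebraMap A (Localization.Away f)).Flat := by
    rw [RingHom.flat_algebraMap_iff]
    infer_instance
  have e1 := (TObjUnitIso (CohIII.bcCx (algebraMap A (Localization.Away f)) P) p).toLinearEquiv
  have e2 := (homologyBcIsoOfFlat (algebraMap A (Localization.Away f)) hflat P p).toLinearEquiv
  have e3 := extEquiv (B := Localization.Away f) (P.homology p)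
  have := hfin p
  haveI : Module.Finite (Localization.Away f)
      (CohIII.T (CohIII.bcCx (algebraMap A (Localization.Away f)) P) p
        (ModuleCat.of _ (Localization.Away f))) :=
    Module.Finite.equiv ((e1.trans e2).trans e3).symm
  exact Module.finitePresentation_of_finite _ _

/-- Near the generic point of an irreducible component. -/
theorem exists_basicOpen_eventually_eq [IsNoetherianRing A] (P : ChainComplex (ModuleCat.{u} A) ℤ)
    (hP : ∀ i, Module.Flat A (P.X i)) (i₀ : ℤ) (hb : ∀ i < i₀, IsZero (P.X i))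
    (hfg : ∀ n : ℤ, Module.Finite A (CohIII.T P n (ModuleCat.of A A))) (N : ℤ)
    (𝔭 : Ideal A) [𝔭.IsPrime] :
    ∃ g : A, g ∉ 𝔭 ∧ ∀ W : Set (PrimeSpectrum A), IsOpen W →
      W ⊆ PrimeSpectrum.zeroLocus (𝔭 : Set A) ∩ (PrimeSpectrum.basicOpen g : Set _) →
      ∀ p ≤ N, ∀ x ∈ W, ∀ᶠ y in 𝓝 x, CohIII.dRank P p y = CohIII.dRank P p x := by
  have hP' : ∀ i, Module.Flat (A ⧸ 𝔭) ((CohIII.bcCx (algebraMap A (A ⧸ 𝔭)) P).X i) := fun i => by
    have := hP i
    exact flat_bcCx_X P i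
  have hb' : ∀ i < i₀, IsZero ((CohIII.bcCx (algebraMap A (A ⧸ 𝔭)) P).X i) := fun i hi =>
    Functor.map_isZero (ModuleCat.extendScalars (algebraMap A (A ⧸ 𝔭))) (hb i hi)
  have hfin' : ∀ n, Module.Finite (A ⧸ 𝔭) ((CohIII.bcCx (algebraMap A (A ⧸ 𝔭)) P).homology n) :=
    fun n => finite_homology_bcCx P n (finite_TFun_obj' P hP i₀ hb hfg n (A ⧸ 𝔭))
  obtain ⟨f, hf, hlc⟩ := exists_locallyConstant_away (CohIII.bcCx (algebraMap A (A ⧸ 𝔭)) P)
    hP' i₀ hb' hfin' N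
  obtain ⟨g, rfl⟩ := Ideal.Quotient.mk_surjective f
  refine ⟨g, fun hg => hf (Ideal.Quotient.eq_zero_iff_mem.mpr hg), fun W hW hWsub p hp x hx => ?_⟩
  let c : PrimeSpectrum (Localization.Away (Ideal.Quotient.mk 𝔭 g)) → PrimeSpectrum A := fun z =>
    PrimeSpectrum.comap (algebraMap A (A ⧸ 𝔭))
      (PrimeSpectrum.comap (algebraMap (A ⧸ 𝔭) (Localization.Away (Ideal.Quotient.mk 𝔭 g))) z)
  have hc : IsInducing c :=
    (PrimeSpectrum.comap_isInducing_of_surjective _ _ Ideal.Quotient.mk_surjective).comp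
      (PrimeSpectrum.localization_comap_isInducing _
        (Submonoid.powers (Ideal.Quotient.mk 𝔭 g)))
  have hd : (CohIII.dRank P p) ∘ c = CohIII.dRank (CohIII.bcCx
      (algebraMap (A ⧸ 𝔭) (Localization.Away (Ideal.Quotient.mk 𝔭 g)))
      (CohIII.bcCx (algebraMap A (A ⧸ 𝔭)) P)) p := by
    funext z
    simp only [Function.comp, c]
    rw [← dRank_bc, ← dRank_bc]
  have hrange : W ⊆ Set.range c := by
    intro y hy
    obtain ⟨hy1, hy2⟩ := hWsub hy
    have h1 : y ∈ Set.range (PrimeSpectrum.comap (algebraMap A (A ⧸ 𝔭))) := by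
      rw [range_comap_of_surjective _ (algebraMap A (A ⧸ 𝔭)) Ideal.Quotient.mk_surjective]
      have : RingHom.ker (algebraMap A (A ⧸ 𝔭)) = 𝔭 := Ideal.mk_ker
      rw [this]
      exact hy1
    obtain ⟨y', rfl⟩ := h1
    have h2 : y' ∈ Set.range (PrimeSpectrum.comap
        (algebraMap (A ⧸ 𝔭) (Localization.Away (Ideal.Quotient.mk 𝔭 g)))) := by
      rw [PrimeSpectrum.localization_away_comap_range _ (Ideal.Quotient.mk 𝔭 g)]
      exact hy2
    obtain ⟨z, rfl⟩ := h2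
    exact ⟨z, rfl⟩
  exact eventually_eq_of_isInducing hc _ (hd ▸ hlc p hp) W hW hrange x hx

theorem exists_dense_open_locallyConstant [IsNoetherianRing A]
    (P : ChainComplex (ModuleCat.{u} A) ℤ)
    (hP : ∀ i, Module.Flat A (P.X i)) (i₀ : ℤ) (hb : ∀ i < i₀, IsZero (P.X i))
    (hfg : ∀ n : ℤ, Module.Finite A (CohIII.T P n (ModuleCat.of A A))) (N : ℤ) :
    ∃ U : Set (PrimeSpectrum A), IsOpen U ∧ Dense U ∧
      ∀ p ≤ N, IsLocallyConstant (fun x : U => CohIII.dRank P p x) := by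
  classical
  haveI : Finite (minimalPrimes A) := (minimalPrimes.finite_of_isNoetherianRing A).to_subtype
  have H : ∀ 𝔭 : minimalPrimes A, ∃ g : A, g ∉ (𝔭 : Ideal A) ∧
      ∀ W : Set (PrimeSpectrum A), IsOpen W →
      W ⊆ PrimeSpectrum.zeroLocus ((𝔭 : Ideal A) : Set A) ∩ (PrimeSpectrum.basicOpen g : Set _) →
      ∀ p ≤ N, ∀ x ∈ W, ∀ᶠ y in 𝓝 x, CohIII.dRank P p y = CohIII.dRank P p x := fun 𝔭 => by
    haveI : (𝔭 : Ideal A).IsPrime := Ideal.minimalPrimes_isPrime 𝔭.2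
    exact exists_basicOpen_eventually_eq P hP i₀ hb hfg N 𝔭
  choose g hg1 hg2 using H
  let Z : minimalPrimes A → Set (PrimeSpectrum A) := fun 𝔭 =>
    ⋃ 𝔮 : minimalPrimes A, ⋃ (_ : 𝔮 ≠ 𝔭), PrimeSpectrum.zeroLocus ((𝔮 : Ideal A) : Set A)
  have hZ : ∀ 𝔭, IsClosed (Z 𝔭) := fun 𝔭 =>
    isClosed_iUnion_of_finite fun 𝔮 => isClosed_iUnion_of_finite fun _ =>
      PrimeSpectrum.isClosed_zeroLocus _
  let V : minimalPrimes A → Set (PrimeSpectrum A) := fun 𝔭 =>
    (PrimeSpectrum.basicOpen (g 𝔭) : Set _) ∩ (Z 𝔭)ᶜ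
  have hVo : ∀ 𝔭, IsOpen (V 𝔭) := fun 𝔭 =>
    (PrimeSpectrum.basicOpen (g 𝔭)).isOpen.inter (hZ 𝔭).isOpen_compl
  have hVsub : ∀ 𝔭 : minimalPrimes A, V 𝔭 ⊆
      PrimeSpectrum.zeroLocus ((𝔭 : Ideal A) : Set A) ∩ (PrimeSpectrum.basicOpen (g 𝔭) : Set _) := by
    rintro 𝔭 x ⟨hx1, hx2⟩
    refine ⟨?_, hx1⟩
    obtain ⟨𝔮, h𝔮, hle⟩ := Ideal.exists_minimalPrimes_le (bot_le : ⊥ ≤ x.asIdeal)
    by_contra hcon
    apply hx2
    have hne : (⟨𝔮, h𝔮⟩ : minimalPrimes A) ≠ 𝔭 := by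
      rintro rfl
      exact hcon (by rw [PrimeSpectrum.mem_zeroLocus]; exact hle)
    exact Set.mem_iUnion.mpr ⟨⟨𝔮, h𝔮⟩, Set.mem_iUnion.mpr
      ⟨hne, by rw [PrimeSpectrum.mem_zeroLocus]; exact hle⟩⟩
  refine ⟨⋃ 𝔭, V 𝔭, isOpen_iUnion hVo, ?_, ?_⟩
  · rw [dense_iff_inter_open]
    rintro O hO ⟨x, hx⟩
    obtain ⟨𝔮, h𝔮, hle⟩ := Ideal.exists_minimalPrimes_le (bot_le : ⊥ ≤ x.asIdeal)
    haveI : 𝔮.IsPrime := Ideal.minimalPrimes_isPrime h𝔮
    have hspec : (⟨𝔮, inferInstance⟩ : PrimeSpectrum A) ⤳ x :=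
      (PrimeSpectrum.le_iff_specializes ⟨𝔮, inferInstance⟩ x).mp hle
    refine ⟨⟨𝔮, inferInstance⟩, hspec.mem_open hO hx, Set.mem_iUnion.mpr ⟨⟨𝔮, h𝔮⟩, ?_, ?_⟩⟩
    · exact hg1 ⟨𝔮, h𝔮⟩
    · intro hmem
      obtain ⟨𝔮', hmem⟩ := Set.mem_iUnion.mp hmem
      obtain ⟨hne, hmem⟩ := Set.mem_iUnion.mp hmem
      rw [PrimeSpectrum.mem_zeroLocus] at hmem
      apply hne
      ext1
      exact le_antisymm hmem (h𝔮.2 ⟨Ideal.minimalPrimes_isPrime 𝔮'.2, bot_le⟩ hmem)
  · intro p hp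
    rw [IsLocallyConstant.iff_eventually_eq]
    rintro ⟨x, hx⟩
    obtain ⟨𝔭, hx𝔭⟩ := Set.mem_iUnion.mp hx
    have := hg2 𝔭 (V 𝔭) (hVo 𝔭) (hVsub 𝔭) p hp x hx𝔭
    exact (continuous_subtype_val.tendsto (⟨x, hx⟩ : ↥(⋃ 𝔭, V 𝔭))).eventually this

end Groth.Agent.H8.TFun
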