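import Mathlib
import Groth.Prelude
import Groth.Agent.Lib.Helper8.TFunBC

/-! Helper8: S4501 -- the exactness locus of `T_p` for finite flat complexes over a Noetherian domain
is open and contains the generic point. -/

set_option autoImplicit false
universe u

open CategoryTheory

namespace Groth.Agent.H8.TFun

variable {A : Type u} [CommRing A]

theorem bot_mem_freeLocus [IsDomain A] (M : Type u) [AddCommGroup M] [Module A M] :
    (⟨⊥, Ideal.isPrime_bot⟩ : PrimeSpectrum A) ∈ Module.freeLocus A M := by
  rw [Module.mem_freeLocus]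
  have : IsFractionRing A (Localization.AtPrime (⊥ : Ideal A)) := by
    simpa [Ideal.primeCompl_bot] using Localization.isLocalization (M := (⊥ : Ideal A).primeCompl)
  let : Field (Localization.AtPrime (⊥ : Ideal A)) := IsFractionRing.toField A
  exact Module.Free.of_divisionRing _ _

theorem exactLocus_eq (P : ChainComplex (ModuleCat.{u} A) ℤ)
    (hP : ∀ i, Module.Finite A (P.X i) ∧ Module.Flat A (P.X i)) (p : ℤ) :
    {y : PrimeSpectrum A |
        (CohIII.TFun (CohIII.bcCx (algebraMap A (Localization.AtPrime y.asIdeal)) P) p).PreservesMonomorphisms ∧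
          (CohIII.TFun (CohIII.bcCx (algebraMap A (Localization.AtPrime y.asIdeal)) P) p).PreservesEpimorphisms} =
      Module.freeLocus A (P.X p ⧸ LinearMap.range (P.d (p + 1) p).hom) ∩
        Module.freeLocus A (P.X (p - 1) ⧸ LinearMap.range (P.d p (p - 1)).hom) := by
  rw [← preservesEpi_localization_eq_freeLocus P hP (p + 1) p rfl,
    ← preservesEpi_localization_eq_freeLocus P hP p (p - 1) (by ring)]
  ext y
  have hP' : ∀ i, Module.Flat (Localization.AtPrime y.asIdeal)
      ((CohIII.bcCx (algebraMap A (Localization.AtPrime y.asIdeal)) P).X i) := fun i => by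
    have := (hP i).2
    exact flat_bcCx_X P i
  simp only [Set.mem_ofPred_eq, Set.mem_inter_iff]
  rw [preservesEpi_iff_preservesMono _ hP' (p + 1) p rfl]

theorem isOpen_and_nonempty_exactLocus [IsNoetherianRing A] [IsDomain A]
    (P : ChainComplex (ModuleCat.{u} A) ℤ)
    (hP : ∀ i, Module.Finite A (P.X i) ∧ Module.Flat A (P.X i)) (p : ℤ) :
    IsOpen {y : PrimeSpectrum A |
        (CohIII.TFun (CohIII.bcCx (algebraMap A (Localization.AtPrime y.asIdeal)) P) p).PreservesMonomorphisms ∧
          (CohIII.TFun (CohIII.bcCx (algebraMap A (Localization.AtPrime y.asIdeal)) P) p).PreservesEpimorphisms} ∧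
      {y : PrimeSpectrum A |
        (CohIII.TFun (CohIII.bcCx (algebraMap A (Localization.AtPrime y.asIdeal)) P) p).PreservesMonomorphisms ∧
          (CohIII.TFun (CohIII.bcCx (algebraMap A (Localization.AtPrime y.asIdeal)) P) p).PreservesEpimorphisms}.Nonempty := by
  rw [exactLocus_eq P hP p]
  have := (hP p).1
  have := (hP (p - 1)).1
  have : Module.FinitePresentation A (P.X p ⧸ LinearMap.range (P.d (p + 1) p).hom) :=
    Module.finitePresentation_of_finite A _
  have : Module.FinitePresentation A (P.X (p - 1) ⧸ LinearMap.range (P.d p (p - 1)).hom) :=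
    Module.finitePresentation_of_finite A _
  exact ⟨Module.isOpen_freeLocus.inter Module.isOpen_freeLocus,
    ⟨_, bot_mem_freeLocus _, bot_mem_freeLocus _⟩⟩

end Groth.Agent.H8.TFun
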