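import Mathlib
import Groth.Prelude
import Groth.Agent.Lib.Helper8.TFunArtin
import Groth.Agent.Lib.Helper8.TFunLocal2

/-! Helper8: S2444 -- `T_p` exact iff `length T_p(A) = d * length A` (Artinian local, finite flat terms). -/

set_option autoImplicit false
universe u

open CategoryTheory CategoryTheory.Limits TensorProduct Function

namespace Groth.Agent.H8.TFun

variable {A : Type u} [CommRing A] [IsArtinianRing A] [IsLocalRing A]
  (P : ChainComplex (ModuleCat.{u} A) ℤ)

local notation "k" => IsLocalRing.ResidueField A

theorem exact_iff_length_self (hP : ∀ i, Module.Finite A (P.X i) ∧ Module.Flat A (P.X i)) (p : ℤ) :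
    ((CohIII.TFun P p).PreservesMonomorphisms ∧ (CohIII.TFun P p).PreservesEpimorphisms) ↔
      Module.length A (CohIII.T P p (ModuleCat.of A A)) =
        Module.length A (CohIII.T P p (ModuleCat.of A k)) * Module.length A A := by
  have hfl : ∀ i, Module.Flat A (P.X i) := fun i => (hP i).2
  constructor
  · intro hex
    exact length_TFun_obj_eq_of_exact P hfl p hex A
  · intro H
    have hmid := TFun_exact_middle P hfl _ (residueSC_shortExact (A := A)) p
    have hle1 : Module.length A ((CohIII.TFun P p).obj (ModuleCat.of A A)) ≤
        Module.length A ((CohIII.TFun P p).obj (ModuleCat.of A (IsLocalRing.maximalIdeal A))) +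
          Module.length A ((CohIII.TFun P p).obj (ModuleCat.of A k)) :=
      LengthExact.length_le_add_of_exact _ _ hmid
    have hle2 := length_TFun_obj_le P hfl p (IsLocalRing.maximalIdeal A)
    have hge : Module.length A ((CohIII.TFun P p).obj (ModuleCat.of A (IsLocalRing.maximalIdeal A))) +
          Module.length A ((CohIII.TFun P p).obj (ModuleCat.of A k)) ≤
        Module.length A ((CohIII.TFun P p).obj (ModuleCat.of A A)) := by
      change _ ≤ Module.length A (CohIII.T P p (ModuleCat.of A A))
      rw [H, length_self_eq, mul_add, mul_one]
      exact add_le_add hle2 le_rfl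
    have heq := le_antisymm hle1 hge
    have hfinA : Module.length A ((CohIII.TFun P p).obj (ModuleCat.of A A)) ≠ ⊤ := by
      have := (hP p).1
      haveI : Module.Finite A (P.homology p) := finite_homology P p
      haveI : Module.Finite A ((CohIII.TFun P p).obj (ModuleCat.of A A)) :=
        Module.Finite.equiv (TObjUnitIso P p).toLinearEquiv.symm
      exact Module.length_ne_top
    obtain ⟨hm, hs⟩ := mono_and_surjective_of_length_eq P hfl p hfinA heq
    refine ⟨?_, (preservesEpi_iff_surjective_residue_artinian P hfl p).2 hs⟩
    rw [preservesMono_iff_flat P hfl (p + 1) p rfl]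
    exact flat_coker_of_mono_maximal P hfl (p + 1) p rfl hm

end Groth.Agent.H8.TFun
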