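import Groth.Agent.Lib.Helper8.TFunLES
import Groth.Agent.Lib.Helper8.QuotLES
set_option autoImplicit false
universe u
open CategoryTheory CategoryTheory.Limits MonoidalCategory
/-!
# `T_p` is `A`-linear
-/

namespace Groth.Agent.H8.TFun

variable {A : Type u} [CommRing A] (P : ChainComplex (ModuleCat.{u} A) ℤ)

lemma tensorMap_smul_id (M : ModuleCat.{u} A) (f : A) :
    CohIII.tensorMap P (f • 𝟙 M) = f • 𝟙 (CohIII.tensorObj P M) := by
  ext i : 1
  change P.X i ◁ (f • 𝟙 M) = f • 𝟙 (P.X i ⊗ M)
  rw [MonoidalLinear.whiskerLeft_smul, MonoidalCategory.whiskerLeft_id]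

lemma TFun_map_smul_id (p : ℤ) (M : ModuleCat.{u} A) (f : A) :
    (CohIII.TFun P p).map (f • 𝟙 M) = f • 𝟙 ((CohIII.TFun P p).obj M) := by
  change HomologicalComplex.homologyMap (CohIII.tensorMap P (f • 𝟙 M)) p = _
  rw [tensorMap_smul_id]
  exact QuotCx.homologyMap_smul_id _ f p

/-- If `T_q` preserves monomorphisms, multiplication by `f` stays injective on `T_q(M)`. -/
theorem smul_injective_of_preservesMono (q : ℤ) (h : (CohIII.TFun P q).PreservesMonomorphisms)
    (M : ModuleCat.{u} A) (f : A) (hf : Function.Injective (fun x : M => f • x)) :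
    Function.Injective (fun y : CohIII.T P q M => f • y) := by
  have hm : Mono (f • 𝟙 M) := (ModuleCat.mono_iff_injective _).2 hf
  have := h.preserves (f • 𝟙 M)
  rw [TFun_map_smul_id] at this
  exact (ModuleCat.mono_iff_injective _).1 this

end Groth.Agent.H8.TFun
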