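import Groth.Agent.Lib.Helper8.HomologyTensor
import Groth.Agent.Lib.Helper8.TFunFlat

/-!
# `T_p(M) ≅ H_p(P) ⊗ M` when `coker d_p` is flat
-/

set_option autoImplicit false

universe u

open CategoryTheory CategoryTheory.Limits MonoidalCategory TensorProduct Function

namespace Groth.Agent.H8.TFun

section General

variable {C D : Type*} [Category C] [Category D] [HasZeroMorphisms C] [HasZeroMorphisms D]

/-- Variant of `ShortComplex.homologyMap_mapNatTrans` needing only preservation of left
homology. -/
lemma homologyMap_mapNatTrans' (S : ShortComplex C) {F G : C ⥤ D} [F.PreservesZeroMorphisms]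
    [G.PreservesZeroMorphisms] [F.PreservesLeftHomologyOf S] [G.PreservesLeftHomologyOf S]
    [S.HasHomology] [(S.map F).HasHomology] [(S.map G).HasHomology] (τ : F ⟶ G) :
    ShortComplex.homologyMap (S.mapNatTrans τ) =
      (S.mapHomologyIso F).hom ≫ τ.app S.homology ≫ (S.mapHomologyIso G).inv :=
  (ShortComplex.LeftHomologyMapData.natTransApp S.homologyData.left τ).homologyMap_eq

end General

variable {A : Type u} [CommRing A] (P : ChainComplex (ModuleCat.{u} A) ℤ)

lemma preservesLeftHomologyOf_sc_tensorRight (i j : ℤ) (hij : j + 1 = i)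
    [Module.Flat A (P.X j)] [Module.Flat A (P.X j ⧸ LinearMap.range (P.d i j).hom)]
    (M : ModuleCat.{u} A) : (tensorRight M).PreservesLeftHomologyOf (P.sc i) := by
  have hj : (ComplexShape.down ℤ).next i = j := by simp; omega
  subst hj
  have h1 : Module.Flat A (P.sc i).X₃ :=
    inferInstanceAs (Module.Flat A (P.X ((ComplexShape.down ℤ).next i)))
  have h2 : Module.Flat A ((P.sc i).X₃ ⧸ LinearMap.range (P.sc i).g.hom) :=
    inferInstanceAs (Module.Flat A (P.X ((ComplexShape.down ℤ).next i) ⧸
      LinearMap.range (P.d i ((ComplexShape.down ℤ).next i)).hom))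
  exact HTensor.preservesLeftHomologyOf_tensorRight (P.sc i) M

lemma preservesLeftHomologyOf_sc_extendScalars (i j : ℤ) (hij : j + 1 = i)
    [Module.Flat A (P.X j)] [Module.Flat A (P.X j ⧸ LinearMap.range (P.d i j).hom)]
    (B : Type u) [CommRing B] [Algebra A B] :
    (ModuleCat.extendScalars.{u, u, u} (algebraMap A B)).PreservesLeftHomologyOf (P.sc i) := by
  have hj : (ComplexShape.down ℤ).next i = j := by simp; omega
  subst hj
  have h1 : Module.Flat A (P.sc i).X₃ :=
    inferInstanceAs (Module.Flat A (P.X ((ComplexShape.down ℤ).next i)))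
  have h2 : Module.Flat A ((P.sc i).X₃ ⧸ LinearMap.range (P.sc i).g.hom) :=
    inferInstanceAs (Module.Flat A (P.X ((ComplexShape.down ℤ).next i) ⧸
      LinearMap.range (P.d i ((ComplexShape.down ℤ).next i)).hom))
  exact HTensor.preservesLeftHomologyOf_extendScalars (P.sc i) B

/-- `H_i(P ⊗_A B) ≅ H_i(P) ⊗_A B` when `P_{i-1}` and `coker d_i` are flat. -/
noncomputable def homologyBcIsoOfFlatCoker (i j : ℤ) (hij : j + 1 = i)
    [Module.Flat A (P.X j)] [Module.Flat A (P.X j ⧸ LinearMap.range (P.d i j).hom)]
    (B : Type u) [CommRing B] [Algebra A B] :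
    (CohIII.bcCx (algebraMap A B) P).homology i ≅
      (ModuleCat.extendScalars (algebraMap A B)).obj (P.homology i) := by
  have := preservesLeftHomologyOf_sc_extendScalars P i j hij B
  exact (P.sc i).mapHomologyIso (ModuleCat.extendScalars (algebraMap A B))

/-- `T_i(M) ≅ H_i(P) ⊗ M` when `P_{i-1}` and `coker d_i` are flat. -/
noncomputable def TIsoOfFlatCoker (i j : ℤ) (hij : j + 1 = i)
    [Module.Flat A (P.X j)] [Module.Flat A (P.X j ⧸ LinearMap.range (P.d i j).hom)]
    (M : ModuleCat.{u} A) :
    CohIII.T P i M ≅ P.homology i ⊗ M := by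
  have := preservesLeftHomologyOf_sc_tensorRight P i j hij M
  have hH : ((P.sc i).map (tensorRight M)).HasHomology :=
    (inferInstance : CategoryWithHomology (ModuleCat.{u} A)).hasHomology _
  exact (P.sc i).mapHomologyIso (tensorRight M)

lemma hasHomology_map_tensorRight (S : ShortComplex (ModuleCat.{u} A)) (M : ModuleCat.{u} A) :
    (S.map (tensorRight M)).HasHomology :=
  (inferInstance : CategoryWithHomology (ModuleCat.{u} A)).hasHomology _

/-- `T_i ≅ H_i(P) ⊗ -` as functors when `P_{i-1}` and `coker d_i` are flat. -/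
noncomputable def TFunIsoOfFlatCoker (i j : ℤ) (hij : j + 1 = i)
    [Module.Flat A (P.X j)] [Module.Flat A (P.X j ⧸ LinearMap.range (P.d i j).hom)] :
    CohIII.TFun P i ≅ tensorLeft (P.homology i) :=
  NatIso.ofComponents (fun M => TIsoOfFlatCoker P i j hij M) (by
    intro M M' g
    have h1 := preservesLeftHomologyOf_sc_tensorRight P i j hij M
    have h2 := preservesLeftHomologyOf_sc_tensorRight P i j hij M'
    have h3 := hasHomology_map_tensorRight (P.sc i) M
    have h4 := hasHomology_map_tensorRight (P.sc i) M'
    have key := homologyMap_mapNatTrans' (P.sc i)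
      ((tensoringRight (ModuleCat.{u} A)).map g)
    change ShortComplex.homologyMap ((P.sc i).mapNatTrans
      ((tensoringRight (ModuleCat.{u} A)).map g)) ≫
        ((P.sc i).mapHomologyIso (tensorRight M')).hom =
      ((P.sc i).mapHomologyIso (tensorRight M)).hom ≫ (P.homology i ◁ g)
    rw [key]
    simp only [Category.assoc]
    erw [Iso.inv_hom_id, Category.comp_id]
    rfl)

section TensorLeft

variable (N : ModuleCat.{u} A)

lemma preservesEpimorphisms_tensorLeft : (tensorLeft N).PreservesEpimorphisms where
  preserves {X Y} f hf := by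
    rw [ModuleCat.epi_iff_surjective] at hf ⊢
    exact LinearMap.lTensor_surjective N hf

lemma preservesMonomorphisms_tensorLeft_iff_flat :
    (tensorLeft N).PreservesMonomorphisms ↔ Module.Flat A N := by
  constructor
  · intro h
    rw [Module.Flat.iff_lTensor_preserves_injective_linearMap]
    intro N' N'' _ _ _ _ f hf
    have h1 : Mono (ModuleCat.ofHom f) := (ModuleCat.mono_iff_injective _).2 hf
    have h2 : Mono ((tensorLeft N).map (ModuleCat.ofHom f)) := inferInstance
    exact (ModuleCat.mono_iff_injective _).1 h2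
  · intro h
    constructor
    intro X Y f hf
    rw [ModuleCat.mono_iff_injective] at hf ⊢
    exact Module.Flat.lTensor_preserves_injective_linearMap (M := N) f.hom hf

end TensorLeft

end Groth.Agent.H8.TFun
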