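import Mathlib

/-! Power series identities for the Todd-class integrand (MoretBailly cluster). -/

namespace Groth.Agent.H8.Todd

open PowerSeries

/-- `B(x) = x / (1 - e^{-x})`. -/
noncomputable abbrev B : PowerSeries ℚ := bernoulli'PowerSeries ℚ

/-- `E(x) = (e^x - 1)/x`. -/
noncomputable def E : PowerSeries ℚ := PowerSeries.mk fun n => (1 : ℚ) / ((n + 1).factorial : ℚ)

lemma coeff_E (n : ℕ) : coeff n E = (1 : ℚ) / ((n + 1).factorial : ℚ) := by
  rw [E, coeff_mk]

lemma coeff_B (n : ℕ) : coeff n B = bernoulli' n / (n.factorial : ℚ) := by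
  rw [B, bernoulli'PowerSeries, coeff_mk]; simp

lemma X_mul_E : (X : PowerSeries ℚ) * E = exp ℚ - 1 := by
  ext n
  cases n with
  | zero => simp
  | succ n =>
    rw [coeff_succ_X_mul, coeff_E, map_sub, coeff_exp, coeff_one]
    simp

lemma constantCoeff_B : constantCoeff B = 1 := by
  rw [← coeff_zero_eq_constantCoeff_apply, coeff_B]; simp

lemma constantCoeff_E : constantCoeff E = 1 := by
  rw [← coeff_zero_eq_constantCoeff_apply, coeff_E]; simp

lemma exp_sub_one_ne_zero : (exp ℚ - 1 : PowerSeries ℚ) ≠ 0 := by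
  intro h
  have := congrArg (coeff 1) h
  rw [map_sub, coeff_exp, coeff_one] at this
  simp at this

lemma exp_mul_rescale_neg_one_exp : exp ℚ * rescale (-1 : ℚ) (exp ℚ) = 1 :=
  exp_mul_exp_neg_eq_one

/-- `B(-x) (e^x - 1) = x`. -/
lemma rescale_neg_one_B_mul : rescale (-1 : ℚ) B * (exp ℚ - 1) = X := by
  have h := congrArg (rescale (-1 : ℚ)) (bernoulli'PowerSeries_mul_exp_sub_one ℚ)
  rw [map_mul, map_mul, map_sub, map_one, rescale_neg_one_X] at h
  -- h : B(-x) (e^{-x} - 1) = -x e^{-x}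
  have h2 : rescale (-1 : ℚ) B * (rescale (-1 : ℚ) (exp ℚ) - 1) * exp ℚ =
      -X * rescale (-1 : ℚ) (exp ℚ) * exp ℚ := by rw [h]
  have h3 : rescale (-1 : ℚ) (exp ℚ) * exp ℚ = 1 := by
    rw [mul_comm]; exact exp_mul_rescale_neg_one_exp
  have h4 : rescale (-1 : ℚ) B * (rescale (-1 : ℚ) (exp ℚ) - 1) * exp ℚ =
      rescale (-1 : ℚ) B * (rescale (-1 : ℚ) (exp ℚ) * exp ℚ - exp ℚ) := by ring
  rw [h4, h3, mul_assoc, h3] at h2
  have : rescale (-1 : ℚ) B * (exp ℚ - 1) = -(rescale (-1 : ℚ) B * (1 - exp ℚ)) := by ring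
  rw [this, h2]; ring

/-- `B(-x) E(x) = 1`. -/
lemma rescale_neg_one_B_mul_E : rescale (-1 : ℚ) B * E = 1 := by
  have h := rescale_neg_one_B_mul
  rw [← X_mul_E] at h
  have h2 : (X : PowerSeries ℚ) * (rescale (-1 : ℚ) B * E) = X * 1 := by
    calc (X : PowerSeries ℚ) * (rescale (-1 : ℚ) B * E) = rescale (-1 : ℚ) B * (X * E) := by ring
      _ = X := h
      _ = X * 1 := (mul_one _).symm
  exact mul_left_cancel₀ X_ne_zero h2

/-- `B(-x) e^x = B(x)`. -/
lemma rescale_neg_one_B_mul_exp : rescale (-1 : ℚ) B * exp ℚ = B := by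
  have h1 : (rescale (-1 : ℚ) B * exp ℚ) * (exp ℚ - 1) = B * (exp ℚ - 1) := by
    rw [bernoulli'PowerSeries_mul_exp_sub_one ℚ, mul_right_comm, rescale_neg_one_B_mul]
  exact mul_right_cancel₀ exp_sub_one_ne_zero h1

/-- `B(-ax) e^{ax} = B(ax)`. -/
lemma rescale_neg_B_mul_exp (a : ℚ) : rescale (-a) B * rescale a (exp ℚ) = rescale a B := by
  have h := congrArg (rescale a) rescale_neg_one_B_mul_exp
  rw [map_mul, rescale_rescale] at h
  simpa using h

/-- `B(-ax)⁻¹ = E(ax)`. -/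
lemma inv_rescale_neg_B (a : ℚ) : (rescale (-a) B)⁻¹ = rescale a E := by
  have h := congrArg (rescale a) rescale_neg_one_B_mul_E
  rw [map_mul, rescale_rescale, map_one] at h
  have h' : rescale a E * rescale (-a) B = 1 := by
    rw [mul_comm]; simpa using h
  rw [PowerSeries.inv_eq_iff_mul_eq_one]
  · exact h'
  · rw [← coeff_zero_eq_constantCoeff_apply, coeff_rescale]
    simp [coeff_B]

/-- The `p`-independent part of the Todd integrand. -/
noncomputable def G (n : ℕ) (d : ℚ) (s : ℚ) : PowerSeries ℚ :=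
  rescale d E * B ^ (n + 1) * rescale (s - d - n - 1) (exp ℚ)

/-- Main decomposition of the Todd integrand. -/
lemma todd_eq (n : ℕ) (d p s : ℚ) :
    (rescale (-d) B)⁻¹ * rescale (-(d * p)) B * B ^ (n + 1) *
      rescale (d * p - d - n - 1 + s) (exp ℚ) = rescale (d * p) B * G n d s := by
  rw [inv_rescale_neg_B, G]
  have h1 : rescale (d * p - d - n - 1 + s) (exp ℚ) =
      rescale (d * p) (exp ℚ) * rescale (s - d - n - 1) (exp ℚ) := by
    rw [exp_mul_exp_eq_exp_add]; congr 1; ring_nf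
  rw [h1, ← rescale_neg_B_mul_exp (d * p)]
  ring

lemma constantCoeff_G (n : ℕ) (d s : ℚ) : constantCoeff (G n d s) = 1 := by
  rw [G, map_mul, map_mul, map_pow, constantCoeff_B]
  rw [← coeff_zero_eq_constantCoeff_apply, ← coeff_zero_eq_constantCoeff_apply, coeff_rescale,
    coeff_rescale, coeff_E, coeff_exp]
  simp

lemma coeff_one_G (n : ℕ) (d s : ℚ) : coeff 1 (G n d s) = (2 * s - d - n - 1) / 2 := by
  have hcE : constantCoeff (rescale d E) = 1 := by
    rw [← coeff_zero_eq_constantCoeff_apply, coeff_rescale, coeff_E]; simp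
  have hcX : constantCoeff (rescale (s - d - n - 1) (exp ℚ)) = 1 := by
    rw [← coeff_zero_eq_constantCoeff_apply, coeff_rescale, coeff_exp]; simp
  rw [G, coeff_one_mul, coeff_one_mul, coeff_one_pow, map_mul, map_pow, constantCoeff_B, hcE, hcX,
    coeff_rescale, coeff_rescale, coeff_E, coeff_exp, coeff_B]
  simp
  ring

/-- Coefficient formula. -/
lemma coeff_todd (n m : ℕ) (d p s : ℚ) :
    coeff m (rescale (d * p) B * G n d s) =
      ∑ i ∈ Finset.range (m + 1),
        (d * p) ^ i * (bernoulli' i / (i.factorial : ℚ)) * coeff (m - i) (G n d s) := by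
  rw [coeff_mul, Finset.Nat.sum_antidiagonal_eq_sum_range_succ_mk]
  apply Finset.sum_congr rfl
  intro i _
  rw [coeff_rescale, coeff_B]


/-- Splitting off the two top terms. -/
lemma coeff_todd_split (k : ℕ) (d p s : ℚ) :
    coeff (k + 2) (rescale (d * p) B * G (k + 2) d s) =
      bernoulli' (k + 2) * (d * p) ^ (k + 2) / ((k + 2).factorial : ℚ) +
        (2 * s - d - ((k + 2 : ℕ) : ℚ) - 1) / 2 * bernoulli' (k + 1) * (d * p) ^ (k + 1) /
          ((k + 1).factorial : ℚ) +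
        ∑ i ∈ Finset.range (k + 1),
          (d * p) ^ i * (bernoulli' i / (i.factorial : ℚ)) * coeff (k + 2 - i) (G (k + 2) d s) := by
  rw [coeff_todd, Finset.sum_range_succ, Finset.sum_range_succ]
  have h1 : k + 2 - (k + 2) = 0 := by omega
  have h2 : k + 2 - (k + 1) = 1 := by omega
  rw [h1, h2, coeff_zero_eq_constantCoeff_apply, constantCoeff_G, coeff_one_G]
  ring

/-- The polynomial in `p` formed by the lower-order terms. -/
noncomputable def lowerPoly (k : ℕ) (d s : ℚ) : Polynomial ℚ :=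
  ∑ i ∈ Finset.range (k + 1),
    Polynomial.C (d ^ i * (bernoulli' i / (i.factorial : ℚ)) * coeff (k + 2 - i) (G (k + 2) d s)) *
      Polynomial.X ^ i

lemma natDegree_lowerPoly_le (k : ℕ) (d s : ℚ) : (lowerPoly k d s).natDegree ≤ k := by
  rw [lowerPoly]
  apply Polynomial.natDegree_sum_le_of_forall_le
  intro i hi
  exact (Polynomial.natDegree_C_mul_X_pow_le _ _).trans (by
    have := Finset.mem_range.mp hi; omega)

lemma eval_lowerPoly (k : ℕ) (d s p : ℚ) :
    (lowerPoly k d s).eval p = ∑ i ∈ Finset.range (k + 1),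
          (d * p) ^ i * (bernoulli' i / (i.factorial : ℚ)) * coeff (k + 2 - i) (G (k + 2) d s) := by
  rw [lowerPoly, Polynomial.eval_finsetSum]
  apply Finset.sum_congr rfl
  intro i _
  rw [Polynomial.eval_mul, Polynomial.eval_C, Polynomial.eval_pow, Polynomial.eval_X, mul_pow]
  ring

/-- A polynomial with negative top coefficient is eventually negative. -/
lemma eventually_neg_of_coeff_neg (Q : Polynomial ℚ) (m : ℕ) (hm : 1 ≤ m) (hdeg : Q.natDegree ≤ m)
    (hc : Q.coeff m < 0) : ∃ P₀ : ℕ, ∀ p : ℕ, P₀ ≤ p → Q.eval (p : ℚ) < 0 := by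
  have hnat : Q.natDegree = m := by
    apply le_antisymm hdeg
    exact Polynomial.le_natDegree_of_ne_zero hc.ne
  have hlead : Q.leadingCoeff = Q.coeff m := by rw [Polynomial.leadingCoeff, hnat]
  have hQ0 : Q ≠ 0 := by
    intro h; rw [h] at hc; simp at hc
  have hdegpos : 0 < Q.degree := by
    rw [Polynomial.degree_eq_natDegree hQ0, hnat]
    exact_mod_cast hm
  have ht := Polynomial.tendsto_atBot_of_leadingCoeff_nonpos Q hdegpos (by rw [hlead]; exact hc.le)
  have hev := (Filter.tendsto_atBot.mp ht) (-1)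
  obtain ⟨a, ha⟩ := Filter.eventually_atTop.mp hev
  refine ⟨⌈a⌉₊, fun p hp => ?_⟩
  have : a ≤ (p : ℚ) := (Nat.le_ceil a).trans (by exact_mod_cast hp)
  have := ha _ this
  linarith

/-- Sign of the even Bernoulli numbers. -/
lemma bernoulli_sign (k : ℕ) (hk : k ≠ 0) : 0 < (-1 : ℚ) ^ (k + 1) * bernoulli (2 * k) := by
  have h := hasSum_zeta_nat hk
  have hpos : (0 : ℝ) < ∑' n : ℕ, 1 / (n : ℝ) ^ (2 * k) := by
    apply h.summable.tsum_pos (fun n => by positivity) 1
    simp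
  rw [h.tsum_eq] at hpos
  have hpi : (0 : ℝ) < (2 : ℝ) ^ (2 * k - 1) * Real.pi ^ (2 * k) / ((2 * k).factorial : ℝ) := by
    positivity
  have h2 : ((-1 : ℝ) ^ (k + 1) * (2 : ℝ) ^ (2 * k - 1) * Real.pi ^ (2 * k) *
        bernoulli (2 * k) / (2 * k).factorial) =
      ((-1 : ℝ) ^ (k + 1) * bernoulli (2 * k)) *
        ((2 : ℝ) ^ (2 * k - 1) * Real.pi ^ (2 * k) / ((2 * k).factorial : ℝ)) := by ring
  rw [h2] at hpos
  have h3 : (0 : ℝ) < (-1 : ℝ) ^ (k + 1) * bernoulli (2 * k) := by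
    by_contra hcon
    push Not at hcon
    have := mul_nonpos_of_nonpos_of_nonneg hcon hpi.le
    linarith
  exact_mod_cast h3

lemma bernoulli'_neg_of_mod_four_eq_zero (n : ℕ) (hn : n % 4 = 0) (hn0 : n ≠ 0) :
    bernoulli' n < 0 := by
  obtain ⟨j, rfl⟩ : ∃ j, n = 4 * j := ⟨n / 4, by omega⟩
  have hj : 2 * j ≠ 0 := by omega
  have h := bernoulli_sign (2 * j) hj
  have h1 : (-1 : ℚ) ^ (2 * j + 1) = -1 := by
    rw [pow_succ, pow_mul]; simp
  rw [h1] at h
  have h2 : 2 * (2 * j) = 4 * j := by ring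
  rw [h2] at h
  rw [bernoulli'_eq_bernoulli]
  have h3 : (-1 : ℚ) ^ (4 * j) = 1 := by
    rw [show 4 * j = 2 * (2 * j) by ring, pow_mul]; simp
  rw [h3]
  linarith

lemma bernoulli'_pos_of_mod_four_eq_two (n : ℕ) (hn : n % 4 = 2) :
    0 < bernoulli' n := by
  obtain ⟨j, rfl⟩ : ∃ j, n = 4 * j + 2 := ⟨n / 4, by omega⟩
  have hj : 2 * j + 1 ≠ 0 := by omega
  have h := bernoulli_sign (2 * j + 1) hj
  have h1 : (-1 : ℚ) ^ (2 * j + 1 + 1) = 1 := by
    rw [show 2 * j + 1 + 1 = 2 * (j + 1) by ring, pow_mul]; simp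
  rw [h1] at h
  have h2 : 2 * (2 * j + 1) = 4 * j + 2 := by ring
  rw [h2] at h
  rw [bernoulli'_eq_bernoulli]
  have h3 : (-1 : ℚ) ^ (4 * j + 2) = 1 := by
    rw [show 4 * j + 2 = 2 * (2 * j + 1) by ring, pow_mul]; simp
  rw [h3]
  linarith


/-- Eventual negativity of the Todd coefficient from the sign of the leading terms. -/
lemma todd_eventually_neg (k : ℕ) (d s : ℚ) (hd : 0 < d)
    (h : bernoulli' (k + 2) < 0 ∨
      (bernoulli' (k + 2) = 0 ∧ (2 * s - d - ((k + 2 : ℕ) : ℚ) - 1) * bernoulli' (k + 1) < 0)) :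
    ∃ P₀ : ℕ, ∀ p : ℕ, P₀ ≤ p →
      coeff (k + 2) (rescale (d * (p : ℚ)) B * G (k + 2) d s) < 0 := by
  set a : ℚ := bernoulli' (k + 2) * d ^ (k + 2) / ((k + 2).factorial : ℚ) with ha
  set c : ℚ := (2 * s - d - ((k + 2 : ℕ) : ℚ) - 1) / 2 * bernoulli' (k + 1) * d ^ (k + 1) /
    ((k + 1).factorial : ℚ) with hc
  set L := lowerPoly k d s with hL
  have hLdeg : L.natDegree ≤ k := natDegree_lowerPoly_le k d s
  have heval : ∀ p : ℚ, coeff (k + 2) (rescale (d * p) B * G (k + 2) d s) =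
      a * p ^ (k + 2) + c * p ^ (k + 1) + L.eval p := by
    intro p
    rw [coeff_todd_split, hL, eval_lowerPoly, ha, hc, mul_pow, mul_pow]
    ring
  rcases h with h | ⟨h0, h1⟩
  · -- leading coefficient negative
    have ha_neg : a < 0 := by
      rw [ha]
      apply div_neg_of_neg_of_pos
      · exact mul_neg_of_neg_of_pos h (by positivity)
      · positivity
    set Q : Polynomial ℚ := Polynomial.C a * Polynomial.X ^ (k + 2) +
      (Polynomial.C c * Polynomial.X ^ (k + 1) + L) with hQ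
    have hQdeg : Q.natDegree ≤ k + 2 := by
      rw [hQ]
      refine Polynomial.natDegree_add_le_of_degree_le (Polynomial.natDegree_C_mul_X_pow_le _ _) ?_
      refine Polynomial.natDegree_add_le_of_degree_le
        ((Polynomial.natDegree_C_mul_X_pow_le _ _).trans (by omega)) (hLdeg.trans (by omega))
    have hQc : Q.coeff (k + 2) = a := by
      rw [hQ, Polynomial.coeff_add, Polynomial.coeff_add, Polynomial.coeff_C_mul_X_pow,
        Polynomial.coeff_C_mul_X_pow, Polynomial.coeff_eq_zero_of_natDegree_lt (by omega : L.natDegree < k + 2)]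
      simp
    obtain ⟨P₀, hP₀⟩ := eventually_neg_of_coeff_neg Q (k + 2) (by omega) hQdeg (by rw [hQc]; exact ha_neg)
    refine ⟨P₀, fun p hp => ?_⟩
    have := hP₀ p hp
    rw [heval]
    rw [hQ] at this
    simpa [add_assoc] using this
  · -- leading coefficient zero, next one negative
    have ha0 : a = 0 := by rw [ha, h0]; simp
    have hc_neg : c < 0 := by
      rw [hc]
      apply div_neg_of_neg_of_pos
      · have : (2 * s - d - ((k + 2 : ℕ) : ℚ) - 1) / 2 * bernoulli' (k + 1) * d ^ (k + 1) =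
            ((2 * s - d - ((k + 2 : ℕ) : ℚ) - 1) * bernoulli' (k + 1)) * (d ^ (k + 1) / 2) := by ring
        rw [this]
        exact mul_neg_of_neg_of_pos h1 (by positivity)
      · positivity
    set Q : Polynomial ℚ := Polynomial.C c * Polynomial.X ^ (k + 1) + L with hQ
    have hQdeg : Q.natDegree ≤ k + 1 := by
      rw [hQ]
      exact Polynomial.natDegree_add_le_of_degree_le
        (Polynomial.natDegree_C_mul_X_pow_le _ _) (hLdeg.trans (by omega))
    have hQc : Q.coeff (k + 1) = c := by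
      rw [hQ, Polynomial.coeff_add, Polynomial.coeff_C_mul_X_pow,
        Polynomial.coeff_eq_zero_of_natDegree_lt (by omega : L.natDegree < k + 1)]
      simp
    obtain ⟨P₀, hP₀⟩ := eventually_neg_of_coeff_neg Q (k + 1) (by omega) hQdeg (by rw [hQc]; exact hc_neg)
    refine ⟨P₀, fun p hp => ?_⟩
    have := hP₀ p hp
    rw [heval, ha0]
    rw [hQ] at this
    simpa using this


/-- Eventual negativity of the Todd coefficient in the original form. -/
lemma todd_neg_of_mod (n d : ℕ) (s : ℤ) (hn : 2 ≤ n) (hd : 1 ≤ d)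
    (h : ((n % 4 = 0 ∨ n % 4 = 1) ∧ (n : ℤ) + d + 1 < 2 * s) ∨
      (n % 4 = 3 ∧ 2 * s < (n : ℤ) + d + 1)) :
    ∃ P : ℕ, ∀ p : ℕ, P ≤ p →
      PowerSeries.coeff n ((PowerSeries.rescale (-(d : ℚ)) (bernoulli'PowerSeries ℚ))⁻¹ *
        PowerSeries.rescale (-((d : ℚ) * p)) (bernoulli'PowerSeries ℚ) *
        bernoulli'PowerSeries ℚ ^ (n + 1) *
        PowerSeries.rescale ((d : ℚ) * p - d - n - 1 + s) (PowerSeries.exp ℚ)) < 0 := by
  obtain ⟨k, rfl⟩ : ∃ k, n = k + 2 := ⟨n - 2, by omega⟩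
  have hdpos : (0 : ℚ) < (d : ℚ) := by exact_mod_cast hd
  have key : bernoulli' (k + 2) < 0 ∨
      (bernoulli' (k + 2) = 0 ∧
        (2 * (s : ℚ) - (d : ℚ) - ((k + 2 : ℕ) : ℚ) - 1) * bernoulli' (k + 1) < 0) := by
    rcases h with ⟨h0 | h1, hs⟩ | ⟨h3, hs⟩
    · left
      exact bernoulli'_neg_of_mod_four_eq_zero (k + 2) h0 (by omega)
    · right
      refine ⟨bernoulli'_eq_zero_of_odd (by rw [Nat.odd_iff]; omega) (by omega), ?_⟩
      have hb : bernoulli' (k + 1) < 0 :=
        bernoulli'_neg_of_mod_four_eq_zero (k + 1) (by omega) (by omega)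
      have hpos : (0 : ℚ) < 2 * (s : ℚ) - (d : ℚ) - ((k + 2 : ℕ) : ℚ) - 1 := by
        have : (((k + 2 : ℕ) : ℤ) : ℚ) + (d : ℚ) + 1 < 2 * (s : ℚ) := by exact_mod_cast hs
        push_cast at this ⊢
        linarith
      exact mul_neg_of_pos_of_neg hpos hb
    · right
      refine ⟨bernoulli'_eq_zero_of_odd (by rw [Nat.odd_iff]; omega) (by omega), ?_⟩
      have hb : 0 < bernoulli' (k + 1) :=
        bernoulli'_pos_of_mod_four_eq_two (k + 1) (by omega)
      have hneg : 2 * (s : ℚ) - (d : ℚ) - ((k + 2 : ℕ) : ℚ) - 1 < 0 := by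
        have : 2 * (s : ℚ) < (((k + 2 : ℕ) : ℤ) : ℚ) + (d : ℚ) + 1 := by exact_mod_cast hs
        push_cast at this ⊢
        linarith
      exact mul_neg_of_neg_of_pos hneg hb
  obtain ⟨P₀, hP₀⟩ := todd_eventually_neg k (d : ℚ) (s : ℚ) hdpos key
  refine ⟨P₀, fun p hp => ?_⟩
  have h1 := todd_eq (k + 2) (d : ℚ) (p : ℚ) (s : ℚ)
  have h2 := hP₀ p hp
  rw [← h1] at h2
  simp only [B] at h2
  exact h2


section lowcoeff

variable (f g : PowerSeries ℚ)

lemma coeff_zero_mul' : coeff 0 (f * g) = coeff 0 f * coeff 0 g := by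
  rw [coeff_mul]; simp

lemma coeff_one_mul' : coeff 1 (f * g) = coeff 0 f * coeff 1 g + coeff 1 f * coeff 0 g := by
  rw [coeff_mul]; simp [Finset.Nat.antidiagonal_succ]

lemma coeff_two_mul' : coeff 2 (f * g) =
    coeff 0 f * coeff 2 g + coeff 1 f * coeff 1 g + coeff 2 f * coeff 0 g := by
  rw [coeff_mul]; simp [Finset.Nat.antidiagonal_succ]; ring

lemma coeff_three_mul' : coeff 3 (f * g) =
    coeff 0 f * coeff 3 g + coeff 1 f * coeff 2 g + coeff 2 f * coeff 1 g + coeff 3 f * coeff 0 g := by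
  rw [coeff_mul]; simp [Finset.Nat.antidiagonal_succ]; ring

end lowcoeff

end Groth.Agent.H8.Todd
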