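import Groth.Prelude.Def_NonAbH1
import Mathlib

/-! Helper8: Čech cocycles of (pseudo-)torsors on a site. -/

set_option autoImplicit false
universe w' w v u

open CategoryTheory Opposite

namespace Groth.Agent.H8.Torsor

variable {C : Type u} [Category.{v} C] {J : GrothendieckTopology C} {G : Sheaf J GrpCat.{w}}

open NonAbH1

theorem smul_cancel (P : GSheaf G) (hP : P.IsPseudoTorsor) {U : Cᵒᵖ} (g g' : G.obj.obj U)
    (p : P.P.obj.obj U) (h : P.smul g p = P.smul g' p) : g = g' :=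
  (hP U p (P.smul g' p)).unique h rfl

theorem map_comp_op (P : GSheaf G) {T T' X : C} (φ : T ⟶ T') (a : T' ⟶ X) (x : P.P.obj.obj (op X)) :
    P.P.obj.map (φ ≫ a).op x = P.P.obj.map φ.op (P.P.obj.map a.op x) := by
  rw [op_comp, Functor.map_comp_apply]

/-- The element carrying `q` to `p`. -/
noncomputable def diff (P : GSheaf G) (hP : P.IsPseudoTorsor) {U : Cᵒᵖ} (p q : P.P.obj.obj U) :
    G.obj.obj U := (hP U q p).choose

theorem diff_smul (P : GSheaf G) (hP : P.IsPseudoTorsor) {U : Cᵒᵖ} (p q : P.P.obj.obj U) :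
    P.smul (diff P hP p q) q = p := (hP U q p).choose_spec.1

theorem diff_eq (P : GSheaf G) (hP : P.IsPseudoTorsor) {U : Cᵒᵖ} (p q : P.P.obj.obj U)
    (g : G.obj.obj U) (h : P.smul g q = p) : diff P hP p q = g :=
  smul_cancel P hP _ _ q ((diff_smul P hP p q).trans h.symm)

theorem diff_map (P : GSheaf G) (hP : P.IsPseudoTorsor) {U V : Cᵒᵖ} (f : U ⟶ V)
    (p q : P.P.obj.obj U) :
    G.obj.map f (diff P hP p q) = diff P hP (P.P.obj.map f p) (P.P.obj.map f q) := by
  symm
  apply diff_eq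
  rw [← P.map_smul, diff_smul]

/-- the cocycle cut out by sections of a pseudo-torsor -/
noncomputable def cocycleOf (P : GSheaf G) (hP : P.IsPseudoTorsor) {I : Type w'} (U : I → C)
    (s : ∀ i, P.P.obj.obj (op (U i))) : PresheafOfGroups.OneCocycle G.obj U where
  ev i j T a b := diff P hP (P.P.obj.map a.op (s i)) (P.P.obj.map b.op (s j))
  ev_precomp i j T T' φ a b := by
    rw [diff_map, map_comp_op, map_comp_op]
  ev_trans i j k T a b c := by
    symm
    apply diff_eq
    rw [P.mul_smul, diff_smul, diff_smul]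

theorem isCocycleOf_cocycleOf (P : GSheaf G) (hP : P.IsPseudoTorsor) {I : Type w'} (U : I → C)
    (s : ∀ i, P.P.obj.obj (op (U i))) : P.IsCocycleOf U s (cocycleOf P hP U s) :=
  fun _ _ _ _ _ => diff_smul P hP _ _

/-- Two cocycles cut out by two families of sections of a pseudo-torsor are cohomologous. -/
theorem isCohomologous_of_isCocycleOf (P : GSheaf G) (hP : P.IsPseudoTorsor) {I : Type w'} (U : I → C)
    (s s' : ∀ i, P.P.obj.obj (op (U i))) (γ γ' : PresheafOfGroups.OneCocycle G.obj U)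
    (h : P.IsCocycleOf U s γ) (h' : P.IsCocycleOf U s' γ') : γ.IsCohomologous γ' := by
  refine ⟨fun i => diff P hP (s' i) (s i), ?_⟩
  intro i j T a b
  apply smul_cancel P hP _ _ (P.P.obj.map b.op (s j))
  rw [P.mul_smul, h i j a b, P.mul_smul, ← P.map_smul, ← P.map_smul, diff_smul, diff_smul, h' i j a b]

end Groth.Agent.H8.Torsor

namespace Groth.Agent.H8.Torsor

open NonAbH1

variable {C : Type u} [Category.{v} C] {J : GrothendieckTopology C} {G : Sheaf J GrpCat.{w}}

theorem isSheaf_type (Q : GSheaf G) : Presieve.IsSheaf J Q.P.obj :=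
  (isSheaf_iff_isSheaf_of_type _ _).1 Q.P.property

section Glue

variable (P Q : GSheaf G) (hP : P.IsPseudoTorsor) {I : Type w'} (U : I → C)
  (s : ∀ i, P.P.obj.obj (op (U i))) (t : ∀ i, Q.P.obj.obj (op (U i)))

/-- the local formula for the comparison map -/
noncomputable def loc {X V : C} (p : P.P.obj.obj (op X)) (f : V ⟶ X) (i : I) (a : V ⟶ U i) :
    Q.P.obj.obj (op V) :=
  Q.smul (diff P hP (P.P.obj.map f.op p) (P.P.obj.map a.op (s i))) (Q.P.obj.map a.op (t i))

variable {P Q hP U s t}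

theorem loc_map {X V W : C} (p : P.P.obj.obj (op X)) (f : V ⟶ X) (i : I) (a : V ⟶ U i)
    (g : W ⟶ V) :
    Q.P.obj.map g.op (loc P Q hP U s t p f i a) = loc P Q hP U s t p (g ≫ f) i (g ≫ a) := by
  unfold loc
  rw [Q.map_smul, diff_map, ← map_comp_op, ← map_comp_op, ← map_comp_op]

variable {γ : PresheafOfGroups.OneCocycle G.obj U}

theorem loc_indep (hs : P.IsCocycleOf U s γ) (ht : Q.IsCocycleOf U t γ)
    {X V : C} (p : P.P.obj.obj (op X)) (f : V ⟶ X) (i : I) (a : V ⟶ U i) (j : I) (b : V ⟶ U j) :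
    loc P Q hP U s t p f i a = loc P Q hP U s t p f j b := by
  unfold loc
  have h1 : diff P hP (P.P.obj.map f.op p) (P.P.obj.map b.op (s j)) =
      diff P hP (P.P.obj.map f.op p) (P.P.obj.map a.op (s i)) * γ.ev i j a b := by
    apply diff_eq
    rw [P.mul_smul, hs i j a b, diff_smul]
  rw [h1, Q.mul_smul, ht i j a b]

variable (P Q hP U s t) in
/-- the family of local values -/
noncomputable def fam (X : C) (p : P.P.obj.obj (op X)) :
    Presieve.FamilyOfElements Q.P.obj (Sieve.ofObjects U X).arrows :=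
  fun _ f hf => loc P Q hP U s t p f hf.choose hf.choose_spec.some

theorem fam_apply (hs : P.IsCocycleOf U s γ) (ht : Q.IsCocycleOf U t γ)
    {X V : C} (p : P.P.obj.obj (op X)) (f : V ⟶ X) (i : I) (a : V ⟶ U i) :
    fam P Q hP U s t X p f ⟨i, ⟨a⟩⟩ = loc P Q hP U s t p f i a :=
  loc_indep hs ht p f _ _ i a

theorem fam_compatible (hs : P.IsCocycleOf U s γ) (ht : Q.IsCocycleOf U t γ)
    (X : C) (p : P.P.obj.obj (op X)) : (fam P Q hP U s t X p).Compatible := by
  intro Y₁ Y₂ Z g₁ g₂ f₁ f₂ h₁ h₂ h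
  obtain ⟨i₁, ⟨φ₁⟩⟩ := h₁
  obtain ⟨i₂, ⟨φ₂⟩⟩ := h₂
  rw [fam_apply hs ht p f₁ i₁ φ₁, fam_apply hs ht p f₂ i₂ φ₂, loc_map, loc_map, h]
  exact loc_indep hs ht _ _ _ _ _ _

variable (hU : J.CoversTop U)

/-- the comparison map on sections -/
noncomputable def app (hs : P.IsCocycleOf U s γ) (ht : Q.IsCocycleOf U t γ)
    (X : C) (p : P.P.obj.obj (op X)) : Q.P.obj.obj (op X) :=
  (isSheaf_type Q _ (hU X)).amalgamate _ (fam_compatible (hP := hP) hs ht X p)

theorem map_app (hs : P.IsCocycleOf U s γ) (ht : Q.IsCocycleOf U t γ)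
    {X V : C} (p : P.P.obj.obj (op X)) (f : V ⟶ X) (i : I) (a : V ⟶ U i) :
    Q.P.obj.map f.op (app (hP := hP) hU hs ht X p) = loc P Q hP U s t p f i a :=
  (Presieve.IsSheafFor.valid_glue (isSheaf_type Q _ (hU X))
    (fam_compatible (hP := hP) hs ht X p) f ⟨i, ⟨a⟩⟩).trans (fam_apply hs ht p f i a)

theorem app_natural (hs : P.IsCocycleOf U s γ) (ht : Q.IsCocycleOf U t γ)
    {X X' : C} (h : X' ⟶ X) (p : P.P.obj.obj (op X)) :
    Q.P.obj.map h.op (app (hP := hP) hU hs ht X p) =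
      app (hP := hP) hU hs ht X' (P.P.obj.map h.op p) := by
  apply ((isSheaf_type Q).isSeparated _ (hU X')).ext
  rintro V f ⟨i, ⟨a⟩⟩
  rw [← map_comp_op, map_app hU hs ht p (f ≫ h) i a, map_app hU hs ht _ f i a]
  unfold loc
  rw [map_comp_op]

/-- the comparison morphism of sheaves -/
noncomputable def hom (hs : P.IsCocycleOf U s γ) (ht : Q.IsCocycleOf U t γ) : P.P ⟶ Q.P :=
  ObjectProperty.homMk
    { app := fun X => TypeCat.ofHom (fun p => app (hP := hP) hU hs ht X.unop p)
      naturality := by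
        intro X Y f
        ext p
        exact (app_natural (hP := hP) hU hs ht f.unop p).symm }

theorem hom_app (hs : P.IsCocycleOf U s γ) (ht : Q.IsCocycleOf U t γ) (X : Cᵒᵖ)
    (p : P.P.obj.obj X) :
    (hom (hP := hP) hU hs ht).hom.app X p = app (hP := hP) hU hs ht X.unop p := rfl

theorem hom_star (hs : P.IsCocycleOf U s γ) (ht : Q.IsCocycleOf U t γ) {V : C} (i : I)
    (a : V ⟶ U i) (g : G.obj.obj (op V)) :
    (hom (hP := hP) hU hs ht).hom.app (op V) (P.smul g (P.P.obj.map a.op (s i))) =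
      Q.smul g (Q.P.obj.map a.op (t i)) := by
  rw [hom_app]
  have := map_app (hP := hP) hU hs ht (P.smul g (P.P.obj.map a.op (s i))) (𝟙 V) i a
  simp only [op_id, CategoryTheory.Functor.map_id, types_id_apply] at this
  refine this.trans ?_
  unfold loc
  simp only [op_id, CategoryTheory.Functor.map_id, types_id_apply]
  congr 1
  apply diff_eq
  rfl

end Glue

end Groth.Agent.H8.Torsor

namespace Groth.Agent.H8.Torsor

open NonAbH1

variable {C : Type u} [Category.{v} C] {J : GrothendieckTopology C} {G : Sheaf J GrpCat.{w}}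

section Iso

variable {P Q : GSheaf G} (hP : P.IsPseudoTorsor) {I : Type w'} {U : I → C}
  {s : ∀ i, P.P.obj.obj (op (U i))} {t : ∀ i, Q.P.obj.obj (op (U i))}
  (hU : J.CoversTop U)

include hP hU in
/-- A morphism of sheaves out of a pseudo-torsor with sections `s i` over a family covering the
site is determined by its values on the `g • s i|a`. -/
theorem sheafHom_ext (s : ∀ i, P.P.obj.obj (op (U i))) (R : Sheaf J (Type w)) (θ₁ θ₂ : P.P ⟶ R)
    (h : ∀ (V : C) (i : I) (a : V ⟶ U i) (g : G.obj.obj (op V)),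
      θ₁.hom.app (op V) (P.smul g (P.P.obj.map a.op (s i))) =
        θ₂.hom.app (op V) (P.smul g (P.P.obj.map a.op (s i)))) : θ₁ = θ₂ := by
  apply Sheaf.hom_ext
  ext X p
  change θ₁.hom.app X p = θ₂.hom.app X p
  apply (((isSheaf_iff_isSheaf_of_type _ _).1 R.property).isSeparated _ (hU X.unop)).ext
  rintro V f ⟨i, ⟨a⟩⟩
  rw [← NatTrans.naturality_apply, ← NatTrans.naturality_apply,
    ← diff_smul P hP (P.P.obj.map f.op p) (P.P.obj.map a.op (s i))]
  exact h V i a _

variable {γ : PresheafOfGroups.OneCocycle G.obj U}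

theorem hom_smul (hs : P.IsCocycleOf U s γ) (ht : Q.IsCocycleOf U t γ) (X : Cᵒᵖ)
    (h : G.obj.obj X) (p : P.P.obj.obj X) :
    (hom (hP := hP) hU hs ht).hom.app X (P.smul h p) =
      Q.smul h ((hom (hP := hP) hU hs ht).hom.app X p) := by
  apply ((isSheaf_type Q).isSeparated _ (hU X.unop)).ext
  rintro V f ⟨i, ⟨a⟩⟩
  rw [← NatTrans.naturality_apply, Q.map_smul, ← NatTrans.naturality_apply, P.map_smul,
    ← diff_smul P hP (P.P.obj.map f.op p) (P.P.obj.map a.op (s i)), ← P.mul_smul,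
    hom_star, hom_star, Q.mul_smul]

/-- the comparison morphism of `G`-sheaves -/
noncomputable def gHom (hs : P.IsCocycleOf U s γ) (ht : Q.IsCocycleOf U t γ) : P ⟶ Q :=
  ⟨hom (hP := hP) hU hs ht, fun g p => hom_smul hP hU hs ht _ g p⟩

theorem gHom_hom (hs : P.IsCocycleOf U s γ) (ht : Q.IsCocycleOf U t γ) :
    (gHom hP hU hs ht).hom = hom (hP := hP) hU hs ht := rfl

/-- Two pseudo-torsors with sections over a covering family cutting out the same cocycle are
equivariantly isomorphic. -/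
noncomputable def iso (hQ : Q.IsPseudoTorsor) (hs : P.IsCocycleOf U s γ)
    (ht : Q.IsCocycleOf U t γ) : P ≅ Q where
  hom := gHom hP hU hs ht
  inv := gHom hQ hU ht hs
  hom_inv_id := by
    apply GSheaf.hom_ext
    apply sheafHom_ext hP hU s
    intro V i a g
    rw [GSheaf.comp_hom, GSheaf.id_hom, gHom_hom, gHom_hom]
    change (hom (hP := hQ) hU ht hs).hom.app (op V) ((hom (hP := hP) hU hs ht).hom.app (op V) _) = _
    rw [hom_star, hom_star]
    rfl
  inv_hom_id := by
    apply GSheaf.hom_ext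
    apply sheafHom_ext hQ hU t
    intro V i a g
    rw [GSheaf.comp_hom, GSheaf.id_hom, gHom_hom, gHom_hom]
    change (hom (hP := hP) hU hs ht).hom.app (op V) ((hom (hP := hQ) hU ht hs).hom.app (op V) _) = _
    rw [hom_star, hom_star]
    rfl

end Iso

/-- Changing the sections by a zero-cochain changes the cocycle to a cohomologous one. -/
theorem isCocycleOf_of_rel (Q : GSheaf G) {I : Type w'} {U : I → C}
    {t : ∀ i, Q.P.obj.obj (op (U i))} {γ γ' : PresheafOfGroups.OneCocycle G.obj U}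
    (ht : Q.IsCocycleOf U t γ') (α : PresheafOfGroups.ZeroCochain G.obj U)
    (hα : PresheafOfGroups.OneCohomologyRelation γ.toOneCochain γ'.toOneCochain α) :
    Q.IsCocycleOf U (fun i => Q.smul (α i)⁻¹ (t i)) γ := by
  intro i j T a b
  have h := hα i j a b
  have h2 : γ.ev i j a b * (G.obj.map b.op (α j))⁻¹ = (G.obj.map a.op (α i))⁻¹ * γ'.ev i j a b := by
    rw [eq_inv_mul_iff_mul_eq, ← mul_assoc, h, mul_assoc, mul_inv_cancel, mul_one]
  show Q.smul (γ.ev i j a b) (Q.P.obj.map b.op (Q.smul (α j)⁻¹ (t j))) =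
    Q.P.obj.map a.op (Q.smul (α i)⁻¹ (t i))
  rw [Q.map_smul, Q.map_smul, ← Q.mul_smul, map_inv, map_inv, h2, Q.mul_smul, ht i j a b]

theorem exists_iso_of_hasCechClass {I : Type w'} (U : I → C) (hU : J.CoversTop U)
    (P Q : NonAbH1.Torsor G)
    (c : PresheafOfGroups.H1 G.obj U) (hPc : P.HasCechClass U c) (hQc : Q.HasCechClass U c) :
    Nonempty (P.toGSheaf ≅ Q.toGSheaf) := by
  obtain ⟨s, γ, hs, rfl⟩ := hPc
  obtain ⟨t, γ', ht, hc⟩ := hQc
  obtain ⟨α, hα⟩ := (PresheafOfGroups.OneCocycle.class_eq_iff γ γ').1 hc.symm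
  exact ⟨iso P.isTorsor.1 hU Q.isTorsor.1 hs (isCocycleOf_of_rel Q.toGSheaf ht α hα)⟩

end Groth.Agent.H8.Torsor
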