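import Mathlib
import Groth.Prelude
import Groth.Agent.Lib.Helper2.TorBalOne
import Groth.Agent.Lib.Helper2.TorBalApps

/-! Helper8: S4499 -- the four term exact sequence for a two-term complex of flat modules. -/

set_option autoImplicit false
universe u

open CategoryTheory CategoryTheory.Limits TensorProduct Groth.Agent.H2.TorBal

namespace Groth.Agent.H8.TwoTerm

variable {A : Type u} [CommRing A] {P₁ P₀ : Type u} [AddCommGroup P₁] [Module A P₁]
  [AddCommGroup P₀] [Module A P₀] (d : P₁ →ₗ[A] P₀) (k : Type u) [AddCommGroup k] [Module A k]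

/-- `0 → Z → P₁ → B → 0`. -/
lemma exact_ker_rangeRestrict : Function.Exact (LinearMap.ker d).subtype d.rangeRestrict := by
  intro x
  constructor
  · intro hx
    refine ⟨⟨x, ?_⟩, rfl⟩
    rw [LinearMap.mem_ker]
    exact congrArg Subtype.val hx
  · rintro ⟨z, rfl⟩
    exact Subtype.ext z.2

theorem tor_one_range [Module.Flat A P₁] :
    Nonempty (torObj 1 (ModuleCat.of A (LinearMap.range d)) (ModuleCat.of A k) ≃ₗ[A]
      LinearMap.ker ((LinearMap.ker d).subtype.rTensor k)) := by
  let T := scOfLinearMaps (LinearMap.ker d).subtype d.rangeRestrict (exact_ker_rangeRestrict d)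
  have hT : T.ShortExact := scOfLinearMaps_shortExact _ _ (Submodule.subtype_injective _)
    (exact_ker_rangeRestrict d) (LinearMap.surjective_rangeRestrict d)
  have h2 : IsZero (torObj 1 T.X₂ (ModuleCat.of A k)) :=
    isZero_tor_succ_of_flat_left (ModuleCat.of A P₁) (ModuleCat.of A k) 0
  exact nonempty_tor_one_linearEquiv_ker T hT (ModuleCat.of A k) h2

theorem tor_one_coker [Module.Flat A P₀] :
    Nonempty (torObj 1 (ModuleCat.of A (P₀ ⧸ LinearMap.range d)) (ModuleCat.of A k) ≃ₗ[A]
      LinearMap.ker ((LinearMap.range d).subtype.rTensor k)) := by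
  let T := scOfLinearMaps (LinearMap.range d).subtype (LinearMap.range d).mkQ
    (LinearMap.exact_subtype_mkQ _)
  have hT : T.ShortExact := scOfLinearMaps_shortExact _ _ (Submodule.subtype_injective _)
    (LinearMap.exact_subtype_mkQ _) (Submodule.mkQ_surjective _)
  have h2 : IsZero (torObj 1 T.X₂ (ModuleCat.of A k)) :=
    isZero_tor_succ_of_flat_left (ModuleCat.of A P₀) (ModuleCat.of A k) 0
  exact nonempty_tor_one_linearEquiv_ker T hT (ModuleCat.of A k) h2

theorem tor_two_coker [Module.Flat A P₀] :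
    Nonempty (torObj 2 (ModuleCat.of A (P₀ ⧸ LinearMap.range d)) (ModuleCat.of A k) ≅
      torObj 1 (ModuleCat.of A (LinearMap.range d)) (ModuleCat.of A k)) := by
  let T := scOfLinearMaps (LinearMap.range d).subtype (LinearMap.range d).mkQ
    (LinearMap.exact_subtype_mkQ _)
  have hT : T.ShortExact := scOfLinearMaps_shortExact _ _ (Submodule.subtype_injective _)
    (LinearMap.exact_subtype_mkQ _) (Submodule.mkQ_surjective _)
  have h2 : IsZero (torObj 2 T.X₂ (ModuleCat.of A k)) :=
    isZero_tor_succ_of_flat_left (ModuleCat.of A P₀) (ModuleCat.of A k) 1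
  have h2' : IsZero (torObj 1 T.X₂ (ModuleCat.of A k)) :=
    isZero_tor_succ_of_flat_left (ModuleCat.of A P₀) (ModuleCat.of A k) 0
  exact nonempty_tor_shift_left T hT (ModuleCat.of A k) 1 h2 h2'

lemma rTensor_d_eq : d.rTensor k =
    ((LinearMap.range d).subtype.rTensor k) ∘ₗ (d.rangeRestrict.rTensor k) := by
  rw [← LinearMap.rTensor_comp]
  rfl

lemma range_le_ker :
    LinearMap.range ((LinearMap.ker d).subtype.rTensor k) ≤ LinearMap.ker (d.rTensor k) := by
  rintro _ ⟨x, rfl⟩
  rw [LinearMap.mem_ker, ← LinearMap.comp_apply, ← LinearMap.rTensor_comp]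
  have : d ∘ₗ (LinearMap.ker d).subtype = 0 := by
    ext z
    exact z.2
  rw [this, LinearMap.rTensor_zero, LinearMap.zero_apply]

theorem nonempty_quot_ker_equiv {R : Type*} [Ring R] {M N Q : Type*} [AddCommGroup M] [Module R M]
    [AddCommGroup N] [Module R N] [AddCommGroup Q] [Module R Q] (h : M →ₗ[R] Q) (f : M →ₗ[R] N)
    (g : N →ₗ[R] Q) (hh : h = g ∘ₗ f) (hf : Function.Surjective f) (K : Submodule R M)
    (hK : K = LinearMap.ker f) :
    Nonempty ((↥(LinearMap.ker h) ⧸ Submodule.comap (LinearMap.ker h).subtype K) ≃ₗ[R]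
      LinearMap.ker g) := by
  subst hh hK
  let r : LinearMap.ker (g ∘ₗ f) →ₗ[R] LinearMap.ker g :=
    (f ∘ₗ (LinearMap.ker (g ∘ₗ f)).subtype).codRestrict _ (fun x => x.2)
  have hr : Function.Surjective r := by
    rintro ⟨y, hy⟩
    obtain ⟨x, rfl⟩ := hf y
    exact ⟨⟨x, hy⟩, rfl⟩
  have hk : LinearMap.ker r =
      Submodule.comap (LinearMap.ker (g ∘ₗ f)).subtype (LinearMap.ker f) := by
    ext x
    rw [LinearMap.mem_ker, Submodule.mem_comap, LinearMap.mem_ker]
    constructor
    · intro h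
      exact congrArg Subtype.val h
    · intro h
      exact Subtype.ext h
  exact ⟨(Submodule.quotEquivOfEq _ _ hk.symm).trans (LinearMap.quotKerEquivOfSurjective r hr)⟩

theorem nonempty_quotEquiv : Nonempty ((↥(LinearMap.ker (d.rTensor k)) ⧸
    Submodule.comap (LinearMap.ker (d.rTensor k)).subtype
      (LinearMap.range ((LinearMap.ker d).subtype.rTensor k))) ≃ₗ[A]
    LinearMap.ker ((LinearMap.range d).subtype.rTensor k)) := by
  have hex : Function.Exact ((LinearMap.ker d).subtype.rTensor k) (d.rangeRestrict.rTensor k) :=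
    rTensor_exact k (exact_ker_rangeRestrict d) (LinearMap.surjective_rangeRestrict d)
  exact nonempty_quot_ker_equiv (d.rTensor k) (d.rangeRestrict.rTensor k)
    ((LinearMap.range d).subtype.rTensor k) (rTensor_d_eq d k)
    (LinearMap.rTensor_surjective k (LinearMap.surjective_rangeRestrict d)) _
    (LinearMap.exact_iff.mp hex).symm

theorem main [Module.Flat A P₁] [Module.Flat A P₀] :
    Nonempty (LinearMap.ker ((LinearMap.ker d).subtype.rTensor k) ≃ₗ[A]
        torObj 2 (ModuleCat.of A (P₀ ⧸ LinearMap.range d)) (ModuleCat.of A k)) ∧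
      LinearMap.range ((LinearMap.ker d).subtype.rTensor k) ≤ LinearMap.ker (d.rTensor k) ∧
      Nonempty ((↥(LinearMap.ker (d.rTensor k)) ⧸
          Submodule.comap (LinearMap.ker (d.rTensor k)).subtype
            (LinearMap.range ((LinearMap.ker d).subtype.rTensor k))) ≃ₗ[A]
        torObj 1 (ModuleCat.of A (P₀ ⧸ LinearMap.range d)) (ModuleCat.of A k)) := by
  refine ⟨?_, range_le_ker d k, ?_⟩
  · obtain ⟨e1⟩ := tor_one_range d k
    obtain ⟨e2⟩ := tor_two_coker d k
    exact ⟨e1.symm.trans e2.toLinearEquiv.symm⟩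
  · obtain ⟨e1⟩ := tor_one_coker d k
    obtain ⟨e2⟩ := nonempty_quotEquiv d k
    exact ⟨e2.trans e1.symm⟩

end Groth.Agent.H8.TwoTerm
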