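import Mathlib

/-! Helper8: a finitely generated module over a Noetherian commutative ring has bounded
"direct-sum width": a uniform bound on the number of nonzero summands in a direct sum inside it. -/

set_option autoImplicit false
universe u v w

namespace Groth.Agent.H8.UDim

variable {R : Type u} [CommRing R] {M : Type v} [AddCommGroup M] [Module R M]

/-- Relative bound: every linear map from a finite product of nonzero modules to `M` which is
injective modulo `N` has at most `n` factors. -/
def BndQ (N : Submodule R M) (n : ℕ) : Prop :=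
  ∀ (ι : Type) [Fintype ι] (P : ι → Type v) [∀ i, AddCommGroup (P i)] [∀ i, Module R (P i)]
    [∀ i, Nontrivial (P i)] (φ : (∀ i, P i) →ₗ[R] M), (∀ y, φ y ∈ N → y = 0) → Fintype.card ι ≤ n

/-- `N' / N` is a uniform module. -/
def UnifBetween (N N' : Submodule R M) : Prop :=
  ∀ A B : Submodule R M, N < A → A ≤ N' → N < B → B ≤ N' → N < A ⊓ B

theorem bndQ_top : BndQ (⊤ : Submodule R M) 0 := by
  intro ι _ P _ _ _ φ hφ
  rw [Nat.le_zero, Fintype.card_eq_zero_iff]
  constructor
  intro i
  classical
  obtain ⟨x, hx⟩ := exists_ne (0 : P i)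
  have := hφ (Pi.single i x) trivial
  apply hx
  have h2 := congrFun this i
  simpa using h2

theorem bndQ_step {N N' : Submodule R M} (hNN' : N ≤ N') (hU : UnifBetween N N') {n : ℕ}
    (h : BndQ N' n) : BndQ N (n + 1) := by
  classical
  intro ι _ P _ _ _ φ hφ
  rcases isEmpty_or_nonempty ι with hι | hι
  · rw [Fintype.card_eq_zero]; omega
  let K : Submodule R (∀ i, P i) := N'.comap φ
  -- uniformity of K
  have hKunif : ∀ A B : Submodule R (∀ i, P i), A ≤ K → B ≤ K → A ≠ ⊥ → B ≠ ⊥ → A ⊓ B ≠ ⊥ := by
    intro A B hA hB hA0 hB0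
    have key : ∀ C : Submodule R (∀ i, P i), C ≤ K → C ≠ ⊥ → N < N ⊔ C.map φ ∧ N ⊔ C.map φ ≤ N' := by
      intro C hC hC0
      refine ⟨?_, sup_le hNN' (Submodule.map_le_iff_le_comap.mpr hC)⟩
      obtain ⟨c, hcC, hc0⟩ := (Submodule.ne_bot_iff C).mp hC0
      refine lt_of_le_of_ne le_sup_left ?_
      intro heq
      apply hc0
      apply hφ
      rw [heq]
      exact Submodule.mem_sup_right (Submodule.mem_map_of_mem hcC)
    obtain ⟨hA1, hA2⟩ := key A hA hA0
    obtain ⟨hB1, hB2⟩ := key B hB hB0
    have hlt := hU _ _ hA1 hA2 hB1 hB2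
    obtain ⟨m, hm, hmN⟩ := SetLike.exists_of_lt hlt
    obtain ⟨hmA, hmB⟩ := Submodule.mem_inf.mp hm
    obtain ⟨y1, hy1, z1, hz1, e1⟩ := Submodule.mem_sup.mp hmA
    obtain ⟨y2, hy2, z2, hz2, e2⟩ := Submodule.mem_sup.mp hmB
    obtain ⟨a, ha, rfl⟩ := Submodule.mem_map.mp hz1
    obtain ⟨b, hb, rfl⟩ := Submodule.mem_map.mp hz2
    have hab : a - b = 0 := by
      apply hφ
      have : φ (a - b) = y2 - y1 := by
        rw [map_sub]
        have : y1 + φ a = y2 + φ b := by rw [e1, e2]
        rw [sub_eq_sub_iff_add_eq_add, add_comm]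
        exact this
      rw [this]
      exact N.sub_mem hy2 hy1
    have hab' : a = b := sub_eq_zero.mp hab
    intro hbot
    have haAB : a ∈ A ⊓ B := ⟨ha, hab' ▸ hb⟩
    rw [hbot, Submodule.mem_bot] at haAB
    apply hmN
    rw [← e1, haAB, map_zero, add_zero]
    exact hy1
  let Ki : ι → Submodule R (∀ i, P i) := fun i => K ⊓ LinearMap.ker (LinearMap.proj i)
  have hex : ∃ i0, Ki i0 = ⊥ := by
    by_contra hcon
    push Not at hcon
    have hfin : ∀ s : Finset ι, s.Nonempty → s.inf Ki ≠ ⊥ := by
      intro s hs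
      induction hs using Finset.Nonempty.cons_induction with
      | singleton i => simpa using hcon i
      | cons i s his hs ih =>
        rw [Finset.inf_cons]
        apply hKunif
        · exact inf_le_left
        · obtain ⟨j, hj⟩ := hs
          exact (Finset.inf_le hj).trans inf_le_left
        · exact hcon i
        · exact ih
    apply hfin Finset.univ Finset.univ_nonempty
    rw [eq_bot_iff]
    intro y hy
    rw [Submodule.mem_bot]
    funext i
    have hle : Finset.univ.inf Ki ≤ Ki i := Finset.inf_le (Finset.mem_univ i)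
    have : y ∈ Ki i := hle hy
    exact LinearMap.mem_ker.mp this.2
  obtain ⟨i0, hi0⟩ := hex
  -- extension by zero
  let ext : (∀ j : {j // j ≠ i0}, P j) →ₗ[R] (∀ i, P i) :=
    LinearMap.pi fun i => if h : i = i0 then 0 else LinearMap.proj (⟨i, h⟩ : {j // j ≠ i0})
  have hext_i0 : ∀ y, ext y i0 = 0 := by
    intro y
    simp [ext]
  have hext_j : ∀ y (j : {j // j ≠ i0}), ext y j = y j := by
    intro y j
    simp [ext, j.2]
  have hcard := h {j // j ≠ i0} (fun j => P j) (φ.comp ext) (by
    intro y hy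
    have h1 : ext y ∈ Ki i0 := ⟨hy, LinearMap.mem_ker.mpr (hext_i0 y)⟩
    rw [hi0, Submodule.mem_bot] at h1
    funext j
    rw [← hext_j y j, h1]
    rfl)
  have : Fintype.card {j // j ≠ i0} = Fintype.card ι - 1 := by
    rw [Fintype.card_subtype_compl, Fintype.card_subtype_eq]
  omega

theorem exists_bndQ [IsNoetherianRing R] [Module.Finite R M] (N : Submodule R M) :
    ∃ n, BndQ N n := by
  have hnoeth : IsNoetherian R M := inferInstance
  induction N using IsNoetherian.induction with
  | hgt N ih =>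
    by_cases hN : N = ⊤
    · exact ⟨0, hN ▸ bndQ_top⟩
    have := Submodule.Quotient.nontrivial_iff.mpr hN
    obtain ⟨p, hp⟩ := associatedPrimes.nonempty R (M ⧸ N)
    rw [AssociatedPrimes.mem_iff, isAssociatedPrime_iff] at hp
    obtain ⟨hp, x, rfl⟩ := hp
    obtain ⟨x, rfl⟩ := Submodule.mkQ_surjective _ x
    have hmem : ∀ r : R, r ∈ (⊥ : Submodule R (M ⧸ N)).colon {N.mkQ x} ↔ r • x ∈ N := by
      intro r
      rw [Submodule.mem_colon_singleton, Submodule.mem_bot, ← map_smul, Submodule.mkQ_apply,
        Submodule.Quotient.mk_eq_zero]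
    have hxN : x ∉ N := by
      intro hx
      apply hp.ne_top
      rw [Ideal.eq_top_iff_one, hmem, one_smul]
      exact hx
    have hlt : N < N ⊔ Submodule.span R {x} := by
      refine lt_of_le_of_ne le_sup_left ?_
      intro heq
      apply hxN
      rw [heq]
      exact Submodule.mem_sup_right (Submodule.mem_span_singleton_self x)
    obtain ⟨n, hn⟩ := ih _ hlt
    refine ⟨n + 1, bndQ_step hlt.le ?_ hn⟩
    intro A B hA1 hA2 hB1 hB2
    have key : ∀ C : Submodule R M, N < C → C ≤ N ⊔ Submodule.span R {x} →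
        ∃ a : R, a • x ∈ C ∧ a • x ∉ N := by
      intro C hC1 hC2
      obtain ⟨m, hm, hmN⟩ := SetLike.exists_of_lt hC1
      obtain ⟨y, hy, z, hz, e⟩ := Submodule.mem_sup.mp (hC2 hm)
      obtain ⟨a, rfl⟩ := Submodule.mem_span_singleton.mp hz
      refine ⟨a, ?_, ?_⟩
      · have : a • x = m - y := by rw [← e]; abel
        rw [this]
        exact C.sub_mem hm (hC1.le hy)
      · intro hax
        apply hmN
        rw [← e]
        exact N.add_mem hy hax
    obtain ⟨a, haA, haN⟩ := key A hA1 hA2
    obtain ⟨b, hbB, hbN⟩ := key B hB1 hB2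
    refine lt_of_le_of_ne (le_inf hA1.le hB1.le) ?_
    intro heq
    have hab : (a * b) • x ∈ A ⊓ B := by
      constructor
      · rw [mul_comm, mul_smul]; exact A.smul_mem b haA
      · rw [mul_smul]; exact B.smul_mem a hbB
    rw [← heq, ← hmem] at hab
    rcases hp.mem_or_mem hab with h1 | h1
    · exact haN ((hmem a).mp h1)
    · exact hbN ((hmem b).mp h1)

/-- The final form: a uniform bound on the number of nonzero summands. -/
theorem main (R : Type u) [CommRing R] [IsNoetherianRing R]
    (M : Type v) [AddCommGroup M] [Module R M] [Module.Finite R M] :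
    ∃ n : ℕ, ∀ (ι : Type w) [DecidableEq ι] (N : ι → Submodule R M), iSupIndep N →
      ∃ s : Finset ι, s.card ≤ n ∧ ∀ i, N i ≠ ⊥ → i ∈ s := by
  obtain ⟨n, hn⟩ := exists_bndQ (⊥ : Submodule R M)
  refine ⟨n, ?_⟩
  intro ι _ N hind
  have hbound : ∀ s : Finset ι, (∀ i ∈ s, N i ≠ ⊥) → s.card ≤ n := by
    intro s hs
    let N' : Fin s.card → Submodule R M := fun j => N (s.equivFin.symm j : ι)
    have hind' : iSupIndep N' :=
      hind.comp (f := fun j : Fin s.card => ((s.equivFin.symm j : s) : ι))
        (Subtype.val_injective.comp s.equivFin.symm.injective)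
    have hinj := hind'.dfinsupp_lsum_injective
    have hnt : ∀ j, Nontrivial (N' j) := fun j =>
      (Submodule.nontrivial_iff_ne_bot).mpr (hs _ (s.equivFin.symm j).2)
    let φ : (∀ j, N' j) →ₗ[R] M :=
      (DFinsupp.lsum ℕ fun j => (N' j).subtype).comp
        (DFinsupp.linearEquivFunOnFintype (R := R) (M := fun j => N' j)).symm.toLinearMap
    have := hn (Fin s.card) (fun j => N' j) φ (by
      intro y hy
      rw [Submodule.mem_bot] at hy
      have h0 : (DFinsupp.lsum ℕ fun j => (N' j).subtype)
          ((DFinsupp.linearEquivFunOnFintype (R := R) (M := fun j => N' j)).symm y) =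
          (DFinsupp.lsum ℕ fun j => (N' j).subtype) 0 := by
        rw [map_zero]; exact hy
      have h1 := hinj h0
      exact (LinearEquiv.map_eq_zero_iff _).mp h1)
    simpa using this
  by_contra hcon
  push Not at hcon
  have hbuild : ∀ k : ℕ, k ≤ n + 1 → ∃ s : Finset ι, s.card = k ∧ ∀ i ∈ s, N i ≠ ⊥ := by
    intro k
    induction k with
    | zero => intro _; exact ⟨∅, rfl, by simp⟩
    | succ k ih =>
      intro hk
      obtain ⟨s, hs1, hs2⟩ := ih (by omega)
      obtain ⟨i, hi1, hi2⟩ := hcon s (by omega)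
      refine ⟨insert i s, ?_, ?_⟩
      · rw [Finset.card_insert_of_notMem hi2, hs1]
      · intro j hj
        rcases Finset.mem_insert.mp hj with rfl | hj
        · exact hi1
        · exact hs2 j hj
  obtain ⟨s, hs1, hs2⟩ := hbuild (n + 1) le_rfl
  have := hbound s hs2
  omega

end Groth.Agent.H8.UDim
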