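import Mathlib
import Groth.Prelude.Def_FlatCA
import Groth.Agent.Lib.Helper1.UnivInjLib
import Groth.Agent.Lib.Helper1.AssFibre

/-!
# `B → B^` is universally injective over `A` for `B` smooth over Noetherian `A` with geometrically
integral fibres and a section (completion along the section)   (helper8)
-/

set_option autoImplicit false
universe u
open TensorProduct Function

namespace Groth.Agent.H8.UnivInjCpl

open Groth.Agent.H1

open AlgebraicGeometry CategoryTheory in
/-- geometrically integral fibres: every field-valued fibre ring is a domain -/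
theorem isDomain_tensor {R S : Type u} [CommRing R] [CommRing S] [Algebra R S]
    (h : FlatCA.GeomIntegralFibres R S) (K : Type u) [Field K] [Algebra R K] :
    IsDomain (S ⊗[R] K) := by
  have h1 := (CommRingCat.isPushout_tensorProduct R S K)
  have h2 := isPullback_SpecMap_of_isPushout _ _ _ _ h1
  have h3 : IsIntegral (Spec (CommRingCat.of (S ⊗[R] K))) :=
    h.geometrically_isIntegral _ _ _ h2
  exact (affine_isIntegral_iff _).mp h3

theorem eq_bot_of_isAssociatedPrime_self {F : Type u} [CommRing F] [IsDomain F] (I : Ideal F)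
    (h : IsAssociatedPrime I F) : I = ⊥ := by
  obtain ⟨hI, x, hx⟩ := h
  have hx0 : x ≠ 0 := by
    rintro rfl
    apply hI.ne_top
    rw [hx, Ideal.radical_eq_top, eq_top_iff]
    intro r _
    rw [Submodule.mem_colon_singleton, smul_zero]
    exact Submodule.zero_mem _
  have hc : (Submodule.colon (⊥ : Submodule F F) {x}) = ⊥ := by
    rw [eq_bot_iff]
    intro r hr
    rw [Submodule.mem_colon_singleton, Submodule.mem_bot, smul_eq_mul] at hr
    rcases mul_eq_zero.mp hr with h | h
    · exact h
    · exact absurd h hx0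
  rw [hx, hc]
  exact (Ideal.isPrime_bot (α := F)).isRadical.radical

section ass

variable {A B : Type u} [CommRing A] [IsNoetherianRing A] [CommRing B] [Algebra A B]
  [IsNoetherianRing B] [Module.Flat A B]

/-- an associated prime `P` of `B ⊗ Q` is contained in the generic point of its fibre; hence a
retraction `u` maps it into `P ∩ A`. -/
theorem map_mem_comap_of_mem_ass (hfib : FlatCA.GeomIntegralFibres A B) (u : B →ₐ[A] A)
    (Q : Type u) [AddCommGroup Q] [Module A Q] [Module.Finite A Q]
    (P : Ideal B) (hP : P ∈ associatedPrimes B (B ⊗[A] Q)) (x : B) (hx : x ∈ P) :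
    u x ∈ P.comap (algebraMap A B) := by
  haveI hPprime : P.IsPrime := (show IsAssociatedPrime P _ from hP).isPrime
  set p := P.comap (algebraMap A B) with hp
  haveI : p.IsPrime := Ideal.comap_isPrime _ _
  haveI : P.LiesOver p := ⟨rfl⟩
  have h1 := AssFlat.mem_associatedPrimes_quot_comap_of_finite (S := B) B Q P hP
  have h2 := AssFibre.fiberIdeal_mem_associatedPrimes p B B P h1
  haveI : IsDomain (p.Fiber B) := by
    haveI := isDomain_tensor hfib p.ResidueField
    exact (Algebra.TensorProduct.comm A p.ResidueField B).toMulEquiv.isDomain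
  letI : Algebra B (p.Fiber B) := Algebra.TensorProduct.rightAlgebra
  have hbot : FlatCA.fiberIdeal p P = ⊥ := by
    let e2 : TensorProduct B (p.Fiber B) B ≃ₗ[p.Fiber B] (p.Fiber B) :=
      TensorProduct.AlgebraTensorModule.rid B (p.Fiber B) (p.Fiber B)
    have h3 : IsAssociatedPrime (FlatCA.fiberIdeal p P) (TensorProduct B (p.Fiber B) B) := h2
    exact eq_bot_of_isAssociatedPrime_self _ ((LinearEquiv.isAssociatedPrime_iff e2).mp h3)
  have h4 : (1 : p.ResidueField) ⊗ₜ[A] x = 0 := by
    have h5 : (Algebra.TensorProduct.includeRight (R := A) (A := p.ResidueField) (B := B)) x ∈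
        FlatCA.fiberIdeal p P := Ideal.mem_map_of_mem _ hx
    rw [hbot, Ideal.mem_bot] at h5
    exact h5
  have h5 := congrArg (fun z => TensorProduct.rid A p.ResidueField
    (LinearMap.lTensor p.ResidueField u.toLinearMap z)) h4
  simp only [LinearMap.lTensor_tmul, AlgHom.toLinearMap_apply, TensorProduct.rid_tmul,
    map_zero] at h5
  rw [Algebra.smul_def, mul_one] at h5
  exact Ideal.algebraMap_residueField_eq_zero.mp h5

end ass

/-- Krull intersection with a condition on associated primes -/
theorem eq_zero_of_mem_iInf {B : Type u} [CommRing B] [IsNoetherianRing B] {M : Type u}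
    [AddCommGroup M] [Module B M] [Module.Finite B M] (I : Ideal B)
    (h : ∀ P ∈ associatedPrimes B M, I ⊔ P ≠ ⊤) (w : M)
    (hw : w ∈ (⨅ n : ℕ, I ^ n • ⊤ : Submodule B M)) : w = 0 := by
  by_contra hw0
  obtain ⟨r, hr⟩ := (Ideal.mem_iInf_smul_pow_eq_bot_iff I w).mp hw
  obtain ⟨P, hP, hle⟩ := exists_le_isAssociatedPrime_of_isNoetherianRing B w hw0
  apply h P hP
  rw [Ideal.eq_top_iff_one]
  have h2 : (1 - (r : B)) ∈ P := by
    apply hle
    rw [Submodule.mem_colon_singleton, Submodule.mem_bot, sub_smul, one_smul, hr, sub_self]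
  have : (1 : B) = (r : B) + (1 - (r : B)) := by ring
  rw [this]
  exact Submodule.add_mem_sup r.2 h2

section T

variable {A B Bh : Type u} [CommRing A] [CommRing B] [Algebra A B] [CommRing Bh] [Algebra B Bh]
  [Algebra A Bh] [IsScalarTower A B Bh] (I : Ideal B) (Q : Type u) [AddCommGroup Q] [Module A Q]

theorem rTensor_subtype_mem (n : ℕ) (t : ((I ^ n).restrictScalars A : Submodule A B) ⊗[A] Q) :
    LinearMap.rTensor Q ((I ^ n).restrictScalars A).subtype t ∈
      (I ^ n • ⊤ : Submodule B (B ⊗[A] Q)) := by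
  induction t using TensorProduct.induction_on with
  | zero => rw [map_zero]; exact Submodule.zero_mem _
  | tmul i q =>
    rw [LinearMap.rTensor_tmul]
    have e : ((I ^ n).restrictScalars A).subtype i ⊗ₜ[A] q = (i : B) • ((1 : B) ⊗ₜ[A] q) := by
      rw [TensorProduct.smul_tmul', smul_eq_mul, mul_one]
      rfl
    rw [e]
    exact Submodule.smul_mem_smul ((Submodule.restrictScalars_mem A (I ^ n) _).mp i.2)
      Submodule.mem_top
  | add y z hy hz => rw [map_add]; exact Submodule.add_mem _ hy hz

/-- an element killed by the map to the completion lies in `⋂ I^n (B ⊗ Q)` -/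
theorem mem_iInf_of_rTensor_eq_zero
    (hq : ∀ n : ℕ, Function.Bijective (Ideal.quotientMap ((I ^ n).map (algebraMap B Bh))
      (algebraMap B Bh) Ideal.le_comap_map))
    (w : B ⊗[A] Q)
    (hw : LinearMap.rTensor Q (IsScalarTower.toAlgHom A B Bh).toLinearMap w = 0) :
    w ∈ (⨅ n : ℕ, I ^ n • ⊤ : Submodule B (B ⊗[A] Q)) := by
  rw [Submodule.mem_iInf]
  intro n
  let K : Submodule A B := (I ^ n).restrictScalars A
  let J : Ideal Bh := (I ^ n).map (algebraMap B Bh)
  let f : B →ₗ[A] Bh := (IsScalarTower.toAlgHom A B Bh).toLinearMap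
  let π' : Bh →ₗ[A] (Bh ⧸ J) := (Ideal.Quotient.mkₐ A J).toLinearMap
  let ψ : B →ₗ[A] (Bh ⧸ J) := π' ∘ₗ f
  have hψ : ∀ b : B, ψ b = Ideal.quotientMap J (algebraMap B Bh) Ideal.le_comap_map
      (Ideal.Quotient.mk (I ^ n) b) := fun b => by
    rw [Ideal.quotientMap_mk]
    rfl
  have h1 : LinearMap.rTensor Q ψ w = 0 := by
    rw [show ψ = π' ∘ₗ f from rfl, LinearMap.rTensor_comp, LinearMap.comp_apply, hw, map_zero]
  have hex : Function.Exact K.subtype ψ := by
    intro b
    constructor
    · intro hb
      rw [hψ] at hb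
      have hb' : Ideal.Quotient.mk (I ^ n) b = 0 := (hq n).1 (by rw [hb, map_zero])
      exact ⟨⟨b, (Submodule.restrictScalars_mem A (I ^ n) _).mpr
        (Ideal.Quotient.eq_zero_iff_mem.mp hb')⟩, rfl⟩
    · rintro ⟨k, rfl⟩
      rw [hψ]
      have hk : Ideal.Quotient.mk (I ^ n) (K.subtype k) = 0 :=
        Ideal.Quotient.eq_zero_iff_mem.mpr ((Submodule.restrictScalars_mem A (I ^ n) _).mp k.2)
      rw [hk, map_zero]
  have hsurj : Function.Surjective ψ := by
    intro y
    obtain ⟨x, rfl⟩ := (hq n).2 y
    obtain ⟨b, rfl⟩ := Ideal.Quotient.mk_surjective x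
    exact ⟨b, hψ b⟩
  obtain ⟨t, rfl⟩ := (rTensor_exact Q hex hsurj w).mp h1
  exact rTensor_subtype_mem I Q n t

end T

theorem main (A : Type u) [CommRing A] [IsNoetherianRing A] (B : Type u) [CommRing B]
    [Algebra A B] [Algebra.Smooth A B]
    (hfib : FlatCA.GeomIntegralFibres A B) (u : B →ₐ[A] A)
    (Bh : Type u) [CommRing Bh] [Algebra B Bh] [Algebra A Bh] [IsScalarTower A B Bh]
    (hq : ∀ n : ℕ, Function.Bijective (Ideal.quotientMap ((RingHom.ker u ^ n).map (algebraMap B Bh))
      (algebraMap B Bh) Ideal.le_comap_map)) :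
    FlatCA.UnivInj A (IsScalarTower.toAlgHom A B Bh).toLinearMap := by
  haveI : Algebra.FiniteType A B := inferInstance
  haveI : IsNoetherianRing B := Algebra.FiniteType.isNoetherianRing A B
  refine UnivInjLib.univInj_of_forall_fg _ fun Q _ _ hQ => ?_
  rw [← LinearMap.ker_eq_bot, LinearMap.ker_eq_bot']
  intro z hz
  have h1 : LinearMap.rTensor Q (IsScalarTower.toAlgHom A B Bh).toLinearMap
      (TensorProduct.comm A Q B z) = 0 := by
    have := TensorProduct.map_comm (IsScalarTower.toAlgHom A B Bh).toLinearMap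
      (LinearMap.id : Q →ₗ[A] Q) z
    change TensorProduct.map (IsScalarTower.toAlgHom A B Bh).toLinearMap LinearMap.id _ = 0
    rw [this]
    change TensorProduct.comm A Q Bh
      ((IsScalarTower.toAlgHom A B Bh).toLinearMap.lTensor Q z) = 0
    rw [hz, map_zero]
  haveI := UnivInjLib.finite_tensor (R := A) (S := B) B Q
  have h2 := mem_iInf_of_rTensor_eq_zero (RingHom.ker u) Q hq _ h1
  have h3 : TensorProduct.comm A Q B z = 0 := by
    refine eq_zero_of_mem_iInf (RingHom.ker u) ?_ _ h2
    intro P hP htop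
    have hPprime : P.IsPrime := (show IsAssociatedPrime P _ from hP).isPrime
    have h1P : (1 : B) ∈ RingHom.ker u ⊔ P := by rw [htop]; trivial
    obtain ⟨i, hi, x, hx, hix⟩ := Submodule.mem_sup.mp h1P
    have hux := map_mem_comap_of_mem_ass hfib u Q P hP x hx
    have hu1 : u x = 1 := by
      have h5 := congrArg u hix
      rw [map_add, map_one, (RingHom.mem_ker).mp hi, zero_add] at h5
      exact h5
    rw [hu1, Ideal.mem_comap, map_one] at hux
    exact hPprime.ne_top ((Ideal.eq_top_iff_one _).mpr hux)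
  exact (TensorProduct.comm A Q B).injective (by rw [h3, map_zero])

end Groth.Agent.H8.UnivInjCpl
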