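import Mathlib
import Groth.Agent.Lib.Helper8.MonoVal
import Groth.Agent.Lib.Helper8.QCClosure

/-!
# Quasi-compact monomorphisms satisfying the valuative criterion are immersions

Uses Zariski's main theorem (`Scheme.Hom.toNormalization` is an open immersion for quasi-finite
separated morphisms).
-/

set_option autoImplicit false
universe u
open CategoryTheory CategoryTheory.Limits AlgebraicGeometry

namespace Groth.Agent.H8.ZMTImm

variable {X Y : Scheme.{u}} (f : Y ⟶ X)

/-- Key step: points of the relative normalization lying over the image of `f` are in the image of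
`f.toNormalization`. -/
theorem mem_range_toNormalization [Mono f] [LocallyOfFiniteType f] [QuasiCompact f]
    (H : ∀ S : ValuativeCommSq f,
        (∃ l₀ : Spec (CommRingCat.of (IsLocalRing.ResidueField S.R)) ⟶ Y,
            l₀ ≫ f = Spec.map (CommRingCat.ofHom (IsLocalRing.residue S.R)) ≫ S.i₂) →
          S.commSq.HasLift)
    (y' : f.normalization) (y : Y) (hy : f.fromNormalization y' = f y) :
    y' ∈ Set.range f.toNormalization := by
  have hcl : y' ∈ closure (Set.range f.toNormalization) := by
    rw [f.toNormalization.denseRange.closure_range]; trivial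
  obtain ⟨η, hη⟩ := Groth.Agent.H8.QCClosure.exists_specializes_of_mem_closure_range
    f.toNormalization y' hcl
  obtain ⟨A, hV, hVcl, hw⟩ := Groth.Agent.H8.MonoVal.exists_valuationRing_of_specializes
    f.toNormalization η y' hη
  have hsq : Spec.map (CommRingCat.ofHom (algebraMap A (Y.residueField η))) ≫
      (hV ≫ f.fromNormalization) = Y.fromSpecResidueField η ≫ f := by
    rw [← Category.assoc, ← hw, Category.assoc, f.toNormalization_fromNormalization]
  let S : ValuativeCommSq f :=
    { R := A
      K := Y.residueField η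
      i₁ := Y.fromSpecResidueField η
      i₂ := hV ≫ f.fromNormalization
      commSq := ⟨hsq.symm⟩ }
  have hpt : f y = (Spec.map (CommRingCat.ofHom (IsLocalRing.residue A)) ≫
      hV ≫ f.fromNormalization) (IsLocalRing.closedPoint (IsLocalRing.ResidueField A)) := by
    rw [Scheme.Hom.comp_apply, Scheme.Hom.comp_apply,
      Groth.Agent.H8.MonoVal.specMap_residue_apply, hVcl, hy]
  obtain ⟨l₀, hl₀⟩ := Groth.Agent.H8.MonoVal.mono_lift_field f (IsLocalRing.ResidueField A) _ y hpt
  obtain ⟨l, h1, h2⟩ := (H S ⟨l₀, hl₀⟩).exists_lift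
  -- uniqueness for the separated morphism `fromNormalization`
  let S' : ValuativeCommSq f.fromNormalization :=
    { R := A
      K := Y.residueField η
      i₁ := Y.fromSpecResidueField η ≫ f.toNormalization
      i₂ := hV ≫ f.fromNormalization
      commSq := ⟨by
        rw [Category.assoc, f.toNormalization_fromNormalization]; exact hsq.symm⟩ }
  have hsub := IsSeparated.valuativeCriterion f.fromNormalization S'
  let L₁ : S'.commSq.LiftStruct := ⟨hV, hw.symm, rfl⟩
  let L₂ : S'.commSq.LiftStruct := ⟨l ≫ f.toNormalization, by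
    change _ ≫ l ≫ _ = _
    rw [← Category.assoc]
    exact congrArg (· ≫ f.toNormalization) h1, by
    change (l ≫ _) ≫ _ = _
    rw [Category.assoc, f.toNormalization_fromNormalization]; exact h2⟩
  have hL : L₁ = L₂ := Subsingleton.elim _ _
  have hl : hV = l ≫ f.toNormalization := congrArg CommSq.LiftStruct.l hL
  refine ⟨l (IsLocalRing.closedPoint A), ?_⟩
  rw [← Scheme.Hom.comp_apply, ← hl, hVcl]

end Groth.Agent.H8.ZMTImm

namespace Groth.Agent.H8.ZMTImm

variable {X Y : Scheme.{u}} (f : Y ⟶ X)

/-- A quasi-compact monomorphism locally of finite type which satisfies the existence part of the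
valuative criterion whenever the closed point lifts is an immersion. -/
theorem isImmersion_of_mono_of_valuative [Mono f] [LocallyOfFiniteType f] [QuasiCompact f]
    (H : ∀ S : ValuativeCommSq f,
        (∃ l₀ : Spec (CommRingCat.of (IsLocalRing.ResidueField S.R)) ⟶ Y,
            l₀ ≫ f = Spec.map (CommRingCat.ofHom (IsLocalRing.residue S.R)) ≫ S.i₂) →
          S.commSq.HasLift) :
    IsImmersion f := by
  let j := f.toNormalization
  let π := f.fromNormalization
  have hjπ : j ≫ π = f := f.toNormalization_fromNormalization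
  -- the closed complement of the range of `j`
  have hBclosed : IsClosed (Set.range j)ᶜ := j.isOpenEmbedding.isOpen_range.isClosed_compl
  have hπB : IsClosed (π '' (Set.range j)ᶜ) := π.isClosedMap _ hBclosed
  let U : X.Opens := ⟨(π '' (Set.range j)ᶜ)ᶜ, hπB.isOpen_compl⟩
  have hfU : Set.range f ⊆ (U : Set X) := by
    rintro _ ⟨y, rfl⟩ ⟨b, hb, hby⟩
    exact hb (mem_range_toNormalization f H b y hby)
  have hpre : π ⁻¹ᵁ U = j.opensRange := by
    ext y'
    change π y' ∈ (U : Set X) ↔ y' ∈ Set.range j
    constructor
    · intro h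
      by_contra hn
      exact h ⟨y', hn, rfl⟩
    · rintro ⟨y, rfl⟩
      apply hfU
      exact ⟨y, congr(($hjπ) y).symm⟩
  let f' : Y ⟶ U := IsOpenImmersion.lift U.ι f (by simpa using hfU)
  have hf' : f' ≫ U.ι = f := IsOpenImmersion.lift_fac _ _ _
  let e : Y ≅ (π ⁻¹ᵁ U : Scheme.{u}) :=
    IsOpenImmersion.isoOfRangeEq j (π ⁻¹ᵁ U).ι (by
      rw [Scheme.Opens.range_ι, hpre]; rfl)
  have he : e.hom ≫ (π ⁻¹ᵁ U).ι = j := IsOpenImmersion.isoOfRangeEq_hom_fac _ _ _
  have hfac : e.hom ≫ (π ∣_ U) = f' := by
    rw [← cancel_mono U.ι, Category.assoc, morphismRestrict_ι, ← Category.assoc, he, hjπ, hf']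
  have hmono : Mono f' := by
    have : Mono (f' ≫ U.ι) := by rw [hf']; infer_instance
    exact mono_of_mono f' U.ι
  have hloft : LocallyOfFiniteType f' := by
    have : LocallyOfFiniteType (f' ≫ U.ι) := by rw [hf']; infer_instance
    exact locallyOfFiniteType_of_comp f' U.ι
  have huc : UniversallyClosed f' := by
    rw [← hfac]; infer_instance
  have hproper : IsProper f' := ⟨⟩
  have hci : IsClosedImmersion f' := (IsClosedImmersion.iff_isProper_and_mono f').2 ⟨hproper, hmono⟩
  rw [← hf']
  infer_instance

end Groth.Agent.H8.ZMTImm
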