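import Mathlib

set_option autoImplicit false

universe u

namespace Groth.Agent.H8.ZMT

open IsLocalRing

/-- A local ring `S` in which every element is a fraction of elements of a subalgebra `T` with
unit denominator is the localization of `T` at the contraction of the maximal ideal. -/
lemma isLocalization_atPrime_of_subalgebra {R S : Type*} [CommRing R] [CommRing S] [IsLocalRing S]
    [Algebra R S] (T : Subalgebra R S) (hT : ∀ s : S, ∃ t ∈ T, IsUnit t ∧ s * t ∈ T) :
    IsLocalization.AtPrime S ((maximalIdeal S).comap (algebraMap T S)) := by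
  rw [IsLocalization.AtPrime, isLocalization_iff]
  refine ⟨?_, ?_, ?_⟩
  · rintro ⟨y, hy⟩
    have : algebraMap T S y ∉ maximalIdeal S := hy
    simpa using this
  · intro z
    obtain ⟨t, htT, htu, hzt⟩ := hT z
    refine ⟨(⟨z * t, hzt⟩, ⟨⟨t, htT⟩, ?_⟩), rfl⟩
    show algebraMap T S ⟨t, htT⟩ ∉ maximalIdeal S
    simpa using htu
  · intro x y hxy
    exact ⟨1, by rw [Subtype.ext hxy]⟩



section fibre

variable (R S : Type*) [CommRing R] [CommRing S] [IsLocalRing R] [IsLocalRing S] [Algebra R S]
  [IsLocalHom (algebraMap R S)] [Algebra.EssFiniteType R S]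

local notation "F" => S ⧸ Ideal.map (algebraMap R S) (maximalIdeal R)

lemma map_maximalIdeal_le : (maximalIdeal R).map (algebraMap R S) ≤ maximalIdeal S :=
  ((IsLocalRing.local_hom_TFAE (algebraMap R S)).out 0 2).mp ‹IsLocalHom (algebraMap R S)›

instance : Nontrivial F :=
  Ideal.Quotient.nontrivial_iff.mpr
    (ne_top_of_le_ne_top (maximalIdeal.isMaximal S).ne_top (map_maximalIdeal_le R S))

instance : IsLocalRing F :=
  IsLocalRing.of_surjective' _ Ideal.Quotient.mk_surjective

lemma finite_fibre
    (hres : Module.Finite (ResidueField R) (ResidueField S))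
    (hdim : ringKrullDim F = 0) :
    Module.Finite (R ⧸ maximalIdeal R) F := by
  have hess : Algebra.EssFiniteType R F := Algebra.EssFiniteType.comp R S F
  have hess' : Algebra.EssFiniteType (R ⧸ maximalIdeal R) F :=
    Algebra.EssFiniteType.of_comp R _ _
  letI : Field (R ⧸ maximalIdeal R) := Ideal.Quotient.field _
  have hnoeth : IsNoetherianRing F := Algebra.EssFiniteType.isNoetherianRing (R ⧸ maximalIdeal R) F
  have hdim0 : Ring.KrullDimLE 0 F := by
    rw [Ring.krullDimLE_iff, hdim]; rfl
  -- the map to the residue field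
  letI : Algebra (R ⧸ maximalIdeal R) (ResidueField S) :=
    inferInstanceAs (Algebra (ResidueField R) (ResidueField S))
  let g : F →+* ResidueField S := Ideal.Quotient.factor (map_maximalIdeal_le R S)
  let f : F →ₐ[R ⧸ maximalIdeal R] ResidueField S :=
    { g with
      commutes' := by
        intro r
        obtain ⟨r, rfl⟩ := Ideal.Quotient.mk_surjective r
        rfl }
  have hf : Function.Surjective f := Ideal.Quotient.factor_surjective (map_maximalIdeal_le R S)
  have hfin : Module.Finite (R ⧸ maximalIdeal R) (ResidueField S) := hres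
  refine Module.finite_of_surjective_of_ker_le_nilradical f hf ?_ (IsNoetherian.noetherian _)
  rw [Ring.KrullDimLE.nilradical_eq_maximalIdeal]
  exact IsLocalRing.le_maximalIdeal (RingHom.ker_ne_top _)

lemma quasiFinite_fibre
    (hres : Module.Finite (ResidueField R) (ResidueField S))
    (hdim : ringKrullDim F = 0) :
    Algebra.QuasiFinite R F := by
  have := finite_fibre R S hres hdim
  exact Algebra.QuasiFinite.trans R (R ⧸ maximalIdeal R) F

lemma weaklyQuasiFiniteAt_of_subalgebra
    (hres : Module.Finite (ResidueField R) (ResidueField S))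
    (hdim : ringKrullDim F = 0)
    (T : Subalgebra R S) (hT : ∀ s : S, ∃ t ∈ T, IsUnit t ∧ s * t ∈ T)
    (q : Ideal T) [q.IsPrime] (hq : q = (maximalIdeal S).comap (algebraMap T S)) :
    Algebra.WeaklyQuasiFiniteAt R q := by
  rw [Algebra.weaklyQuasiFiniteAt_iff]
  haveI : IsLocalization.AtPrime S q := hq ▸ isLocalization_atPrime_of_subalgebra T hT
  have hqR : q.under R = maximalIdeal R := by
    rw [hq, Ideal.under, Ideal.comap_comap, ← IsScalarTower.algebraMap_eq]
    exact ((IsLocalRing.local_hom_TFAE (algebraMap R S)).out 0 4).mp ‹IsLocalHom (algebraMap R S)›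
  have hqf := quasiFinite_fibre R S hres hdim
  let e : S ≃ₐ[T] Localization.AtPrime q :=
    IsLocalization.algEquiv q.primeCompl S (Localization.AtPrime q)
  let φ : S →ₐ[R] (Localization.AtPrime q ⧸
      (q.under R).map (algebraMap R (Localization.AtPrime q))) :=
    (Ideal.Quotient.mkₐ R _).comp (e.restrictScalars R).toAlgHom
  have hφ : Function.Surjective φ :=
    Ideal.Quotient.mk_surjective.comp (e.restrictScalars R).surjective
  have hker : ∀ a ∈ Ideal.map (algebraMap R S) (maximalIdeal R), φ a = 0 := by
    intro a ha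
    have : Ideal.map (algebraMap R S) (maximalIdeal R) ≤ RingHom.ker φ.toRingHom := by
      rw [Ideal.map_le_iff_le_comap]
      intro x hx
      rw [Ideal.mem_comap, RingHom.mem_ker]
      show φ (algebraMap R S x) = 0
      rw [φ.commutes, IsScalarTower.algebraMap_apply R (Localization.AtPrime q),
        Ideal.Quotient.algebraMap_eq, Ideal.Quotient.eq_zero_iff_mem]
      exact Ideal.mem_map_of_mem _ (hqR ▸ hx)
    exact this ha
  exact Algebra.QuasiFinite.of_surjective_algHom (Ideal.Quotient.liftₐ _ φ hker)
    (Ideal.Quotient.lift_surjective_of_surjective _ _ hφ)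

end fibre

end Groth.Agent.H8.ZMT
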