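import Mathlib

set_option autoImplicit false
universe u v
open CategoryTheory AlgebraicGeometry Opposite Limits

namespace Groth.Agent.H8.ZarSys

variable {Λ : Type v} [PartialOrder Λ] (X : Λᵒᵖ ⥤ Scheme.{u})

/-- transition maps -/
noncomputable def p {l m : Λ} (h : m ≤ l) : X.obj (op l) ⟶ X.obj (op m) := X.map (homOfLE h).op

lemma p_refl (l : Λ) : p X (le_refl l) = 𝟙 _ := by
  simp [p]

lemma p_comp {l m k : Λ} (h₁ : m ≤ l) (h₂ : k ≤ m) : p X h₁ ≫ p X h₂ = p X (h₂.trans h₁) := by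
  rw [p, p, p, ← X.map_comp, ← op_comp, homOfLE_comp]

lemma map_eq {a b : Λᵒᵖ} (f : a ⟶ b) : X.map f = p X (leOfHom f.unop) := by
  rw [p]
  exact congrArg X.map (Quiver.Hom.unop_inj (Subsingleton.elim _ _))

abbrev Below (l : Λ) := {m : Λ // m < l}

instance finite_below [Fact (∀ l : Λ, (Set.Iic l).Finite)] (l : Λ) : Finite (Below l) := by
  have h : {m : Λ | m < l}.Finite :=
    (Fact.out (p := ∀ l : Λ, (Set.Iic l).Finite) l).subset (fun m hm => le_of_lt hm)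
  exact h.to_subtype

instance finite_Iic [Fact (∀ l : Λ, (Set.Iic l).Finite)] (l : Λ) : Finite (Set.Iic l) :=
  (Fact.out (p := ∀ l : Λ, (Set.Iic l).Finite) l).to_subtype

lemma wf_lt [Fact (∀ l : Λ, (Set.Iic l).Finite)] : WellFounded ((· < ·) : Λ → Λ → Prop) := by
  have hf : ∀ l : Λ, (Set.Iic l).Finite := Fact.out
  refine Subrelation.wf (r := InvImage (· < ·) (fun l : Λ => (hf l).toFinset.card)) ?_
    (InvImage.wf _ Nat.lt_wfRel.wf)
  intro a b hab
  show (hf a).toFinset.card < (hf b).toFinset.card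
  apply Finset.card_lt_card
  rw [Set.Finite.toFinset_ssubset_toFinset]
  exact Set.Iic_ssubset_Iic.mpr hab

section Top

lemma isCompact_iInter_of_finite {α ι : Type*} [TopologicalSpace α] [QuasiSeparatedSpace α]
    [CompactSpace α] [Finite ι] (s : ι → Set α) (ho : ∀ i, IsOpen (s i))
    (hc : ∀ i, IsCompact (s i)) : IsCompact (⋂ i, s i) := by
  classical
  cases nonempty_fintype ι
  have : ∀ t : Finset ι, IsOpen (⋂ i ∈ t, s i) ∧ IsCompact (⋂ i ∈ t, s i) := by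
    intro t
    induction t using Finset.induction_on with
    | empty => simp [isCompact_univ]
    | insert a t ha ih =>
      rw [Finset.set_biInter_insert]
      exact ⟨(ho a).inter ih.1, QuasiSeparatedSpace.inter_isCompact _ _ (ho a) (hc a) ih.1 ih.2⟩
  simpa using (this Finset.univ).2

lemma exists_cover {Z : Scheme.{u}} (U : Z.Opens) (hU : IsCompact (U : Set Z)) :
    ∃ s : Set Z.Opens, s.Finite ∧ (∀ V ∈ s, IsAffineOpen V ∧ V ≤ U) ∧
      ∀ x ∈ U, ∃ V ∈ s, x ∈ V := by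
  obtain ⟨s, hs, hU'⟩ := (isCompact_and_isOpen_iff_finite_and_eq_biUnion_affineOpens
    (U := (U : Set Z))).mp ⟨hU, U.isOpen⟩
  refine ⟨(fun V : Z.affineOpens => (V : Z.Opens)) '' s, hs.image _, ?_, ?_⟩
  · rintro _ ⟨V, hV, rfl⟩
    refine ⟨V.2, ?_⟩
    intro x hx
    show x ∈ (U : Set Z)
    rw [hU']
    exact Set.mem_biUnion hV hx
  · intro x hx
    have hx' : x ∈ (U : Set Z) := hx
    rw [hU'] at hx'
    obtain ⟨V, hV, hxV⟩ := Set.mem_iUnion₂.mp hx'
    exact ⟨V, ⟨V, hV, rfl⟩, hxV⟩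

open Classical in
noncomputable def Cset {Z : Scheme.{u}} (U : Z.Opens) : Set Z.Opens :=
  if h : IsCompact (U : Set Z) then (exists_cover U h).choose else ∅

lemma Cset_finite {Z : Scheme.{u}} (U : Z.Opens) : (Cset U).Finite := by
  unfold Cset
  split_ifs with h
  · exact (exists_cover U h).choose_spec.1
  · exact Set.finite_empty

lemma mem_Cset {Z : Scheme.{u}} {U V : Z.Opens} (hV : V ∈ Cset U) :
    IsCompact (U : Set Z) ∧ IsAffineOpen V ∧ V ≤ U := by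
  unfold Cset at hV
  split_ifs at hV with h
  · exact ⟨h, (exists_cover U h).choose_spec.2.1 V hV⟩
  · exact absurd hV (Set.notMem_empty _)

lemma Cset_cover {Z : Scheme.{u}} {U : Z.Opens} (h : IsCompact (U : Set Z)) {x : Z}
    (hx : x ∈ U) : ∃ V ∈ Cset U, x ∈ V := by
  unfold Cset
  rw [dif_pos h]
  exact (exists_cover U h).choose_spec.2.2 x hx

end Top

variable [Fact (∀ l : Λ, (Set.Iic l).Finite)]

noncomputable def Ob (l : Λ) (g : ∀ i : Below l, (X.obj (op i.1)).Opens) : (X.obj (op l)).Opens :=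
  ⟨⋂ i : Below l, ((p X i.2.le) ⁻¹ᵁ (g i) : Set (X.obj (op l))),
    isOpen_iInter_of_finite (fun i => ((p X i.2.le) ⁻¹ᵁ (g i)).isOpen)⟩

lemma mem_Ob (l : Λ) (g : ∀ i : Below l, (X.obj (op i.1)).Opens) (x : X.obj (op l)) :
    x ∈ Ob X l g ↔ ∀ i : Below l, (p X i.2.le) x ∈ g i := by
  show x ∈ (⋂ i : Below l, ((p X i.2.le) ⁻¹ᵁ (g i) : Set (X.obj (op l)))) ↔ _
  rw [Set.mem_iInter]
  rfl

lemma Ob_isCompact [∀ l : Λ, CompactSpace ↥(X.obj (op l))]
    [∀ l : Λ, QuasiSeparatedSpace ↥(X.obj (op l))] (l : Λ)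
    (g : ∀ i : Below l, (X.obj (op i.1)).Opens) (hg : ∀ i, IsCompact (g i : Set (X.obj (op i.1)))) :
    IsCompact (Ob X l g : Set (X.obj (op l))) := by
  show IsCompact (⋂ i : Below l, ((p X i.2.le) ⁻¹ᵁ (g i) : Set (X.obj (op l))))
  apply isCompact_iInter_of_finite
  · intro i; exact ((p X i.2.le) ⁻¹ᵁ (g i)).isOpen
  · intro i
    exact QuasiCompact.isCompact_preimage (f := p X i.2.le) _ (g i).isOpen (hg i)

def J (l : Λ) : Set (∀ m : Λ, (X.obj (op m)).Opens) :=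
  {W | (∀ m, m ≤ l → W m ∈ Cset (Ob X m (fun i => W i.1))) ∧ ∀ m, ¬ m ≤ l → W m = ⊥}

lemma J_affine {l : Λ} {W : ∀ m : Λ, (X.obj (op m)).Opens} (hW : W ∈ J X l) {m : Λ} (hm : m ≤ l) :
    IsAffineOpen (W m) := (mem_Cset (hW.1 m hm)).2.1

lemma J_le {l : Λ} {W : ∀ m : Λ, (X.obj (op m)).Opens} (hW : W ∈ J X l) {m m' : Λ} (hm : m ≤ l)
    (h : m' ≤ m) : W m ≤ (p X h) ⁻¹ᵁ (W m') := by
  rcases h.lt_or_eq with hlt | rfl
  · have h1 : W m ≤ Ob X m (fun i => W i.1) := (mem_Cset (hW.1 m hm)).2.2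
    refine h1.trans ?_
    intro x hx
    exact (mem_Ob X m _ x).mp hx ⟨m', hlt⟩
  · intro x hx
    simpa [p_refl] using hx

variable {X}

open Classical in
noncomputable def r (l' : Λ) (W : ∀ m : Λ, (X.obj (op m)).Opens) :
    ∀ m : Λ, (X.obj (op m)).Opens :=
  fun m => if m ≤ l' then W m else ⊥

lemma r_apply_of_le {l' m : Λ} (h : m ≤ l') (W : ∀ m : Λ, (X.obj (op m)).Opens) :
    r l' W m = W m := if_pos h

lemma r_apply_of_not_le {l' m : Λ} (h : ¬ m ≤ l') (W : ∀ m : Λ, (X.obj (op m)).Opens) :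
    r l' W m = ⊥ := if_neg h

lemma r_mem {l l' : Λ} (h : l' ≤ l) {W : ∀ m : Λ, (X.obj (op m)).Opens} (hW : W ∈ J X l) :
    r l' W ∈ J X l' := by
  refine ⟨fun m hm => ?_, fun m hm => r_apply_of_not_le hm W⟩
  rw [r_apply_of_le hm]
  have : (fun i : Below m => r l' W i.1) = fun i : Below m => W i.1 := by
    funext i; exact r_apply_of_le (i.2.le.trans hm) W
  rw [this]
  exact hW.1 m (hm.trans h)

lemma r_r {l' l'' : Λ} (h : l'' ≤ l') (W : ∀ m : Λ, (X.obj (op m)).Opens) :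
    r l'' (r l' W) = r l'' W := by
  funext m
  by_cases hm : m ≤ l''
  · rw [r_apply_of_le hm, r_apply_of_le hm, r_apply_of_le (hm.trans h)]
  · rw [r_apply_of_not_le hm, r_apply_of_not_le hm]

lemma r_self {l : Λ} {W : ∀ m : Λ, (X.obj (op m)).Opens} (hW : W ∈ J X l) : r l W = W := by
  funext m
  by_cases hm : m ≤ l
  · exact r_apply_of_le hm W
  · rw [r_apply_of_not_le hm, hW.2 m hm]

variable (X)

def Val (m : Λ) : Set (X.obj (op m)).Opens :=
  {V | ∃ W : ∀ k : Λ, (X.obj (op k)).Opens,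
    (∀ k, k ≤ m → W k ∈ Cset (Ob X k (fun i => W i.1))) ∧ W m = V}

lemma Val_finite (m : Λ) : (Val X m).Finite := by
  refine (wf_lt (Λ := Λ)).induction (C := fun m => (Val X m).Finite) m ?_
  intro m ih
  have hT : (Set.pi Set.univ (fun i : Below m => Val X i.1)).Finite :=
    Set.Finite.pi (fun i => ih i.1 i.2)
  have hsub : Val X m ⊆ ⋃ g ∈ Set.pi Set.univ (fun i : Below m => Val X i.1),
      Cset (Ob X m g) := by
    rintro V ⟨W, hW, rfl⟩
    refine Set.mem_biUnion (x := fun i : Below m => W i.1) ?_ (hW m le_rfl)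
    intro i _
    exact ⟨W, fun k hk => hW k (hk.trans i.2.le), rfl⟩
  exact (hT.biUnion (fun g _ => Cset_finite _)).subset hsub

lemma J_finite (l : Λ) : (J X l).Finite := by
  let f : (∀ m : Λ, (X.obj (op m)).Opens) → (∀ i : Set.Iic l, (X.obj (op i.1)).Opens) :=
    fun W i => W i.1
  have hinj : Set.InjOn f (J X l) := by
    intro W hW W' hW' h
    funext m
    by_cases hm : m ≤ l
    · exact congrFun h ⟨m, hm⟩
    · rw [hW.2 m hm, hW'.2 m hm]
  have himg : (f '' J X l).Finite := by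
    refine (Set.Finite.pi (t := fun i : Set.Iic l => Val X i.1)
      (fun i => Val_finite X i.1)).subset ?_
    rintro _ ⟨W, hW, rfl⟩ i _
    exact ⟨W, fun k hk => hW.1 k (hk.trans i.2), rfl⟩
  exact Set.Finite.of_finite_image himg hinj

instance finite_J (l : Λ) : Finite (J X l) := (J_finite X l).to_subtype

section Cover

variable [∀ l : Λ, CompactSpace ↥(X.obj (op l))] [∀ l : Λ, QuasiSeparatedSpace ↥(X.obj (op l))]

open Classical in
noncomputable def covF (l : Λ) (x : X.obj (op l)) (m : Λ)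
    (IH : ∀ k, k < m → (X.obj (op k)).Opens) : (X.obj (op m)).Opens :=
  if hm : m ≤ l then
    (if hx : ∃ V ∈ Cset (Ob X m (fun i => IH i.1 i.2)), (p X hm) x ∈ V then hx.choose else ⊥)
  else ⊥

noncomputable def covW (l : Λ) (x : X.obj (op l)) : ∀ m : Λ, (X.obj (op m)).Opens :=
  (wf_lt (Λ := Λ)).fix (covF X l x)

lemma covW_eq (l : Λ) (x : X.obj (op l)) (m : Λ) :
    covW X l x m = covF X l x m (fun k _ => covW X l x k) :=
  WellFounded.fix_eq _ _ _

lemma covW_spec (l : Λ) (x : X.obj (op l)) : ∀ m (hm : m ≤ l),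
    covW X l x m ∈ Cset (Ob X m (fun i => covW X l x i.1)) ∧ (p X hm) x ∈ covW X l x m := by
  intro m
  refine (wf_lt (Λ := Λ)).induction (C := fun m => ∀ hm : m ≤ l,
    covW X l x m ∈ Cset (Ob X m (fun i => covW X l x i.1)) ∧ (p X hm) x ∈ covW X l x m) m ?_
  intro m ih hm
  have hcpt : IsCompact (Ob X m (fun i : Below m => covW X l x i.1) : Set (X.obj (op m))) := by
    apply Ob_isCompact
    intro i
    exact (mem_Cset (ih i.1 i.2 (i.2.le.trans hm)).1).2.1.isCompact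
  have hxmem : (p X hm) x ∈ Ob X m (fun i : Below m => covW X l x i.1) := by
    rw [mem_Ob]
    intro i
    have := (ih i.1 i.2 (i.2.le.trans hm)).2
    rw [← p_comp X hm i.2.le, Scheme.Hom.comp_apply] at this
    exact this
  have hex : ∃ V ∈ Cset (Ob X m (fun i : Below m => covW X l x i.1)), (p X hm) x ∈ V :=
    Cset_cover hcpt hxmem
  have heq : covW X l x m = hex.choose := by
    rw [covW_eq, covF, dif_pos hm, dif_pos hex]
  rw [heq]
  exact hex.choose_spec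

lemma covW_mem (l : Λ) (x : X.obj (op l)) : covW X l x ∈ J X l := by
  refine ⟨fun m hm => (covW_spec X l x m hm).1, fun m hm => ?_⟩
  rw [covW_eq, covF, dif_neg hm]

lemma cover (l : Λ) (x : X.obj (op l)) : ∃ W ∈ J X l, x ∈ W l := by
  refine ⟨covW X l x, covW_mem X l x, ?_⟩
  have := (covW_spec X l x l le_rfl).2
  simpa [p_refl] using this

end Cover

section SchemePart

abbrev Jt (l : Λ) := ↥(J X l)

noncomputable abbrev piece (l : Λ) (W : Jt X l) : Scheme.{u} := (W.1 l).toScheme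

instance small_Jt (l : Λ) : Small.{u} (Jt X l) := Countable.toSmall _

noncomputable abbrev Yobj (l : Λ) : Scheme.{u} := ∐ (piece X l)

noncomputable def rJ {l l' : Λ} (h : l' ≤ l) (W : Jt X l) : Jt X l' := ⟨r l' W.1, r_mem h W.2⟩

lemma rJ_le {l l' : Λ} (h : l' ≤ l) (W : Jt X l) :
    W.1 l ≤ (p X h) ⁻¹ᵁ ((rJ X h W).1 l') := by
  show W.1 l ≤ (p X h) ⁻¹ᵁ (r l' W.1 l')
  rw [r_apply_of_le le_rfl]
  exact J_le X W.2 le_rfl h

noncomputable def Ymap {l l' : Λ} (h : l' ≤ l) : Yobj X l ⟶ Yobj X l' :=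
  Sigma.desc (fun W : Jt X l =>
    (p X h).resLE ((rJ X h W).1 l') (W.1 l) (rJ_le X h W) ≫ Sigma.ι (piece X l') (rJ X h W))

lemma ι_Ymap {l l' : Λ} (h : l' ≤ l) (W : Jt X l) :
    Sigma.ι (piece X l) W ≫ Ymap X h =
      (p X h).resLE ((rJ X h W).1 l') (W.1 l) (rJ_le X h W) ≫
        Sigma.ι (piece X l') (rJ X h W) := by
  unfold Ymap
  exact Sigma.ι_desc _ _

noncomputable def πl (l : Λ) : Yobj X l ⟶ X.obj (op l) :=
  Sigma.desc (fun W : Jt X l => (W.1 l).ι)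

lemma ι_πl (l : Λ) (W : Jt X l) : Sigma.ι (piece X l) W ≫ πl X l = (W.1 l).ι := by
  unfold πl
  exact Sigma.ι_desc _ _

lemma Ymap_πl {l l' : Λ} (h : l' ≤ l) : Ymap X h ≫ πl X l' = πl X l ≫ p X h := by
  refine Sigma.hom_ext _ _ (fun W => ?_)
  rw [← Category.assoc, ι_Ymap, Category.assoc, ι_πl, ← Category.assoc, ι_πl]
  exact Scheme.Hom.resLE_comp_ι _ _

lemma ι_ext {l : Λ} {T : Scheme.{u}} {W₁ W₂ : Jt X l} (e : W₁ = W₂)
    (f₁ : T ⟶ piece X l W₁) (f₂ : T ⟶ piece X l W₂)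
    (hf : f₁ ≫ (W₁.1 l).ι = f₂ ≫ (W₂.1 l).ι) :
    f₁ ≫ Sigma.ι (piece X l) W₁ = f₂ ≫ Sigma.ι (piece X l) W₂ := by
  subst e
  have : f₁ = f₂ := by
    rwa [cancel_mono] at hf
  rw [this]

lemma Ymap_refl (l : Λ) : Ymap X (le_refl l) = 𝟙 (Yobj X l) := by
  refine Sigma.hom_ext _ _ (fun W => ?_)
  rw [ι_Ymap, Category.comp_id]
  have e : rJ X (le_refl l) W = W := Subtype.ext (r_self W.2)
  have key := ι_ext X e ((p X (le_refl l)).resLE _ _ (rJ_le X (le_refl l) W))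
    (𝟙 (piece X l W)) (by
      rw [Scheme.Hom.resLE_comp_ι, p_refl, Category.comp_id, Category.id_comp])
  rw [key, Category.id_comp]

lemma Ymap_comp {l l' l'' : Λ} (h₁ : l' ≤ l) (h₂ : l'' ≤ l') :
    Ymap X (h₂.trans h₁) = Ymap X h₁ ≫ Ymap X h₂ := by
  refine Sigma.hom_ext _ _ (fun W => ?_)
  rw [ι_Ymap, ← Category.assoc, ι_Ymap, Category.assoc, ι_Ymap, ← Category.assoc]
  have e : rJ X (h₂.trans h₁) W = rJ X h₂ (rJ X h₁ W) := Subtype.ext (r_r h₂ W.1).symm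
  refine ι_ext X e _ _ ?_
  rw [Scheme.Hom.resLE_comp_ι, Category.assoc, Scheme.Hom.resLE_comp_ι, ← Category.assoc,
    Scheme.Hom.resLE_comp_ι, Category.assoc, p_comp]

noncomputable def Y : Λᵒᵖ ⥤ Scheme.{u} where
  obj a := Yobj X a.unop
  map {a b} f := Ymap X (leOfHom f.unop)
  map_id a := Ymap_refl X a.unop
  map_comp {a b c} f g := Ymap_comp X (leOfHom f.unop) (leOfHom g.unop)

noncomputable def π : Y X ⟶ X where
  app a := πl X a.unop
  naturality {a b} f := by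
    show Ymap X (leOfHom f.unop) ≫ πl X b.unop = πl X a.unop ≫ X.map f
    rw [map_eq X f]
    exact Ymap_πl X _

lemma isAffine_Yobj (l : Λ) : IsAffine (Yobj X l) := by
  haveI : ∀ W : Jt X l, IsAffine (piece X l W) := fun W => J_affine X W.2 le_rfl
  infer_instance

lemma surj_πl [∀ l : Λ, CompactSpace ↥(X.obj (op l))]
    [∀ l : Λ, QuasiSeparatedSpace ↥(X.obj (op l))] (l : Λ) : Surjective (πl X l) := by
  refine ⟨fun x => ?_⟩
  obtain ⟨W, hW, hx⟩ := cover X l x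
  refine ⟨(Sigma.ι (piece X l) ⟨W, hW⟩) ⟨x, hx⟩, ?_⟩
  rw [← Scheme.Hom.comp_apply, ι_πl]
  rfl

lemma pieces (l : Λ) : ∃ (ι : Type u) (U : ι → (Yobj X l).Opens),
    Pairwise (fun i j => Disjoint (U i) (U j)) ∧ iSup U = ⊤ ∧
      ∀ i, IsOpenImmersion ((U i).ι ≫ πl X l) := by
  obtain ⟨e, -⟩ : ∃ e : Shrink.{u} (Jt X l) ≃ Jt X l, e = (equivShrink _).symm := ⟨_, rfl⟩
  refine ⟨Shrink.{u} (Jt X l), fun i => (Sigma.ι (piece X l) (e i)).opensRange, ?_, ?_, ?_⟩
  · intro i j hij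
    exact disjoint_opensRange_sigmaι (piece X l) (e i) (e j) (fun h => hij (e.injective h))
  · have h1 : ⨆ W : Jt X l, (Sigma.ι (piece X l) W).opensRange = ⊤ :=
      (sigmaOpenCover (piece X l)).iSup_opensRange
    rw [← h1]
    exact e.surjective.iSup_comp (fun W : Jt X l => (Sigma.ι (piece X l) W).opensRange)
  · intro i
    show IsOpenImmersion ((Sigma.ι (piece X l) (e i)).opensRange.ι ≫ πl X l)
    rw [← Scheme.Hom.isoOpensRange_inv_comp, Category.assoc, ι_πl]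
    infer_instance

end SchemePart

theorem main {Λ : Type v} [PartialOrder Λ]
    (hΛ : ∀ l : Λ, (Set.Iic l).Finite) (X : Λᵒᵖ ⥤ Scheme.{u})
    (hqc : ∀ l : Λ, CompactSpace ↥(X.obj (Opposite.op l)))
    (hqs : ∀ l : Λ, QuasiSeparatedSpace ↥(X.obj (Opposite.op l))) :
    ∃ (Y : Λᵒᵖ ⥤ Scheme.{u}) (π : Y ⟶ X), ∀ l : Λ,
      IsAffine (Y.obj (Opposite.op l)) ∧ Surjective (π.app (Opposite.op l)) ∧
        ∃ (ι : Type u) (U : ι → (Y.obj (Opposite.op l)).Opens),
          Pairwise (fun i j => Disjoint (U i) (U j)) ∧ iSup U = ⊤ ∧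
            ∀ i, IsOpenImmersion ((U i).ι ≫ π.app (Opposite.op l)) := by
  haveI : Fact (∀ l : Λ, (Set.Iic l).Finite) := ⟨hΛ⟩
  haveI := hqc
  haveI := hqs
  exact ⟨Y X, π X, fun l => ⟨isAffine_Yobj X l, surj_πl X l, pieces X l⟩⟩


end Groth.Agent.H8.ZarSys
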